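import Groth.Agent.Lib.Helper60.LocalCohLES
import Groth.Prelude.Def_DRing3
import Mathlib.Algebra.Homology.DerivedCategory.Ext.EnoughInjectives

/-!
# Local cohomology: vanishing on injectives, `H^0 = Γ_J`, torsion (helper60)
-/

set_option autoImplicit false
universe u
open CategoryTheory CategoryTheory.Limits Opposite Abelian

namespace Groth.Agent.Lib.Helper60

variable {R : Type u} [CommRing R]

/-- `H^i_J(E) = 0` for `E` injective and `i > 0`. -/
lemma lc_subsingleton_of_injective (J : Ideal R) (E : ModuleCat.{u} R) [Injective E] (i : ℕ)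
    (hi : 0 < i) : Subsingleton ((localCohomology J i).obj E) := by
  obtain ⟨i, rfl⟩ := Nat.exists_eq_succ_of_ne_zero hi.ne'
  refine ⟨fun a b => ?_⟩
  obtain ⟨n, x, rfl⟩ := lcMk_surj J _ E a
  obtain ⟨m, y, rfl⟩ := lcMk_surj J _ E b
  rw [Ext.eq_zero_of_injective x, Ext.eq_zero_of_injective y, lcMk_zero, lcMk_zero]

/-- Every element of `Ext^i(R/J^n, M)` is killed by `J^n`. -/
lemma smul_ext_quotPow_eq_zero (J : Ideal R) {i : ℕ} {M : ModuleCat.{u} R} {n : ℕ}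
    (x : Abelian.Ext (quotPow J n) M i) (a : R) (ha : a ∈ J ^ n) : a • x = 0 := by
  have h1 : a • x = (Ext.mk₀ (a • 𝟙 (quotPow J n))).comp x (zero_add i) := by
    rw [Ext.mk₀_smul, Ext.smul_comp, Ext.mk₀_id_comp]
  have h2 : a • 𝟙 (quotPow J n) = 0 := by
    apply ModuleCat.hom_ext
    apply LinearMap.ext
    intro y
    obtain ⟨y, rfl⟩ := Submodule.Quotient.mk_surjective _ (y : R ⧸ J ^ n)
    show a • (Submodule.Quotient.mk y : R ⧸ J ^ n) = 0
    rw [← Submodule.Quotient.mk_smul, Submodule.Quotient.mk_eq_zero]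
    exact Ideal.mul_mem_right _ _ ha
  rw [h1, h2, Ext.mk₀_zero, Ext.zero_comp]

/-- `H^i_J(M)` is `J`-power torsion. -/
lemma lc_isPowerTorsion (J : Ideal R) (i : ℕ) (M : ModuleCat.{u} R)
    (y : (localCohomology J i).obj M) : ∃ n : ℕ, ∀ a ∈ J ^ n, a • y = 0 := by
  obtain ⟨n, x, rfl⟩ := lcMk_surj J i M y
  refine ⟨n, fun a ha => ?_⟩
  rw [← lcMk_smul, smul_ext_quotPow_eq_zero J x a ha, lcMk_zero]

section H0

variable (J : Ideal R) (M : ModuleCat.{u} R)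

/-- the class of `1` in `R/J^n`. -/
abbrev quotPowOne (n : ℕ) : (quotPow J n : Type u) := (Submodule.Quotient.mk (1 : R) : R ⧸ J ^ n)

/-- evaluation at `1`: `Ext^0(R/J^n, M) → M`. -/
noncomputable def ext0Eval (n : ℕ) : Abelian.Ext (quotPow J n) M 0 →ₗ[R] M where
  toFun x := (Ext.linearEquiv₀ (R := R) x).hom (quotPowOne J n)
  map_add' x y := by
    rw [map_add, ModuleCat.hom_add, LinearMap.add_apply]
  map_smul' r x := by
    rw [map_smul, ModuleCat.hom_smul, LinearMap.smul_apply]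
    rfl

lemma ext0Eval_mk₀ (n : ℕ) (ψ : quotPow J n ⟶ M) :
    ext0Eval J M n (Ext.mk₀ ψ) = ψ.hom (quotPowOne J n) := by
  show (Ext.linearEquiv₀ (R := R) (Ext.mk₀ ψ)).hom _ = _
  rw [← Ext.linearEquiv₀_symm_apply (R := R), LinearEquiv.apply_symm_apply]

lemma ext0_surj_mk₀ {n : ℕ} (x : Abelian.Ext (quotPow J n) M 0) :
    ∃ ψ : quotPow J n ⟶ M, Ext.mk₀ ψ = x :=
  ⟨Ext.linearEquiv₀ (R := R) x, Ext.mk₀_linearEquiv₀_apply x⟩

lemma ext0Eval_lcRes {n k : ℕ} (h : n ≤ k) (x : Abelian.Ext (quotPow J n) M 0) :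
    ext0Eval J M k (lcRes J h x) = ext0Eval J M n x := by
  obtain ⟨ψ, rfl⟩ := ext0_surj_mk₀ J M x
  unfold lcRes
  rw [Ext.mk₀_comp_mk₀, ext0Eval_mk₀, ext0Eval_mk₀]
  rfl

/-- The canonical map `H^0_J(M) → M`. -/
noncomputable def lcH0Map : (localCohomology J 0).obj M →ₗ[R] M :=
  lcDescₗ J 0 M (ext0Eval J M) (fun _ _ h x => ext0Eval_lcRes J M h x)

@[simp]
lemma lcH0Map_lcMk (n : ℕ) (x : Abelian.Ext (quotPow J n) M 0) :
    lcH0Map J M (lcMk J 0 M n x) = ext0Eval J M n x :=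
  lcDescₗ_lcMk J 0 M _ _ n x

lemma hom_quotPow_ext {n : ℕ} {ψ ψ' : quotPow J n ⟶ M}
    (h : ψ.hom (quotPowOne J n) = ψ'.hom (quotPowOne J n)) : ψ = ψ' := by
  apply ModuleCat.hom_ext
  apply LinearMap.ext
  intro y
  obtain ⟨y, rfl⟩ := Submodule.Quotient.mk_surjective _ (y : R ⧸ J ^ n)
  have : (Submodule.Quotient.mk y : R ⧸ J ^ n) = y • quotPowOne J n := by
    rw [← Submodule.Quotient.mk_smul, smul_eq_mul, mul_one]
  rw [this, map_smul, map_smul, h]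

lemma lcH0Map_injective : Function.Injective (lcH0Map J M) := by
  rw [← LinearMap.ker_eq_bot, eq_bot_iff]
  intro y hy
  rw [LinearMap.mem_ker] at hy
  obtain ⟨n, x, rfl⟩ := lcMk_surj J 0 M y
  obtain ⟨ψ, rfl⟩ := ext0_surj_mk₀ J M x
  rw [lcH0Map_lcMk, ext0Eval_mk₀] at hy
  have : ψ = 0 := hom_quotPow_ext J M (by rw [hy]; rfl)
  rw [Submodule.mem_bot, this, Ext.mk₀_zero, lcMk_zero]

lemma lcH0Map_mem_torsionSub (y : (localCohomology J 0).obj M) :
    lcH0Map J M y ∈ DRing.torsionSub J M := by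
  obtain ⟨n, x, rfl⟩ := lcMk_surj J 0 M y
  refine ⟨n, fun a ha => ?_⟩
  rw [← map_smul, ← lcMk_smul, smul_ext_quotPow_eq_zero J x a ha, lcMk_zero, map_zero]

lemma exists_lcH0Map_eq (m : M) (n : ℕ) (hm : ∀ a ∈ J ^ n, a • m = 0) :
    ∃ y : (localCohomology J 0).obj M, lcH0Map J M y = m := by
  let ψ : (R ⧸ J ^ n) →ₗ[R] M :=
    Submodule.liftQ (J ^ n) (LinearMap.toSpanSingleton R M m) (by
      intro a ha
      rw [LinearMap.mem_ker, LinearMap.toSpanSingleton_apply]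
      exact hm a ha)
  refine ⟨lcMk J 0 M n (Ext.mk₀ (ModuleCat.ofHom ψ)), ?_⟩
  rw [lcH0Map_lcMk, ext0Eval_mk₀]
  show ψ (Submodule.Quotient.mk 1) = m
  rw [Submodule.liftQ_apply, LinearMap.toSpanSingleton_apply, one_smul]

/-- `H^0_J(M) ≃ Γ_J(M)`. -/
noncomputable def lcH0Equiv : (localCohomology J 0).obj M ≃ₗ[R] DRing.torsionSub J M :=
  LinearEquiv.ofBijective ((lcH0Map J M).codRestrict _ (lcH0Map_mem_torsionSub J M))
    ⟨fun a b h => lcH0Map_injective J M (congrArg Subtype.val h), by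
      rintro ⟨m, n, hm⟩
      obtain ⟨y, hy⟩ := exists_lcH0Map_eq J M m n hm
      exact ⟨y, Subtype.ext hy⟩⟩

@[simp] lemma lcH0Equiv_coe (y : (localCohomology J 0).obj M) :
    ((lcH0Equiv J M y : DRing.torsionSub J M) : M) = lcH0Map J M y := rfl

variable {M} in
/-- naturality of `H^0_J(M) → M`. -/
lemma lcH0Map_naturality {N : ModuleCat.{u} R} (φ : M ⟶ N) (y : (localCohomology J 0).obj M) :
    lcH0Map J N (((localCohomology J 0).map φ).hom y) = φ.hom (lcH0Map J M y) := by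
  obtain ⟨n, x, rfl⟩ := lcMk_surj J 0 M y
  obtain ⟨ψ, rfl⟩ := ext0_surj_mk₀ J M x
  rw [lcMap_lcMk, lcH0Map_lcMk, lcH0Map_lcMk, Ext.mk₀_comp_mk₀, ext0Eval_mk₀, ext0Eval_mk₀]
  rfl

end H0

end Groth.Agent.Lib.Helper60
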