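import Groth.Agent.Lib.Helper60.LocalCohLES
import Groth.Prelude.Def_DualLC

/-!
# Local cohomology classes from arbitrary quotients `R/𝔞` with `J^n ≤ 𝔞`, comparison maps
(helper60)
-/

set_option autoImplicit false
universe u
open CategoryTheory CategoryTheory.Limits Opposite Abelian

namespace Groth.Agent.Lib.Helper60

variable {R : Type u} [CommRing R]

/-- `R/𝔞` as an object of `ModuleCat R`. -/
abbrev quotObj (𝔞 : Ideal R) : ModuleCat.{u} R := ModuleCat.of R (R ⧸ 𝔞)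

/-- the projection `R/𝔞 ⟶ R/𝔟` for `𝔞 ≤ 𝔟`. -/
def qmap {𝔞 𝔟 : Ideal R} (h : 𝔞 ≤ 𝔟) : quotObj 𝔞 ⟶ quotObj 𝔟 :=
  ModuleCat.ofHom (Submodule.mapQ _ _ LinearMap.id h)

lemma qmap_mk {𝔞 𝔟 : Ideal R} (h : 𝔞 ≤ 𝔟) (x : R) :
    (qmap h).hom (Submodule.Quotient.mk x : R ⧸ 𝔞) = (Submodule.Quotient.mk x : R ⧸ 𝔟) := rfl

/-- morphisms out of `R/𝔞` are determined by the image of `1`. -/
lemma quotObj_hom_ext {𝔞 : Ideal R} {M : ModuleCat.{u} R} {f g : quotObj 𝔞 ⟶ M}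
    (h : f.hom (Submodule.Quotient.mk (1 : R) : R ⧸ 𝔞) =
      g.hom (Submodule.Quotient.mk (1 : R) : R ⧸ 𝔞)) : f = g := by
  apply ModuleCat.hom_ext
  apply LinearMap.ext
  intro y
  obtain ⟨y, rfl⟩ := Submodule.Quotient.mk_surjective _ (y : R ⧸ 𝔞)
  have : (Submodule.Quotient.mk y : R ⧸ 𝔞) = y • (Submodule.Quotient.mk (1 : R) : R ⧸ 𝔞) := by
    rw [← Submodule.Quotient.mk_smul, smul_eq_mul, mul_one]
  rw [this, map_smul, map_smul, h]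

@[simp] lemma qmap_comp {𝔞 𝔟 𝔠 : Ideal R} (h : 𝔞 ≤ 𝔟) (h' : 𝔟 ≤ 𝔠) :
    qmap h ≫ qmap h' = qmap (h.trans h') := quotObj_hom_ext rfl

@[simp] lemma qmap_refl (𝔞 : Ideal R) : qmap (le_refl 𝔞) = 𝟙 _ := quotObj_hom_ext rfl

lemma quotPowMap_eq_qmap (J : Ideal R) {n k : ℕ} (h : n ≤ k) :
    quotPowMap J h = qmap (Ideal.pow_le_pow_right h) := rfl

/-- restriction of an Ext class along `R/𝔞 → R/𝔟`. -/
noncomputable def qres {𝔞 𝔟 : Ideal R} (h : 𝔞 ≤ 𝔟) {M : ModuleCat.{u} R} {i : ℕ}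
    (x : Abelian.Ext (quotObj 𝔟) M i) : Abelian.Ext (quotObj 𝔞) M i :=
  (Ext.mk₀ (qmap h)).comp x (zero_add i)

lemma qres_qres {𝔞 𝔟 𝔠 : Ideal R} (h : 𝔞 ≤ 𝔟) (h' : 𝔟 ≤ 𝔠) {M : ModuleCat.{u} R} {i : ℕ}
    (x : Abelian.Ext (quotObj 𝔠) M i) : qres h (qres h' x) = qres (h.trans h') x := by
  unfold qres
  rw [← Ext.comp_assoc _ _ _ (zero_add 0) (zero_add i) (by omega), Ext.mk₀_comp_mk₀, qmap_comp]

lemma qres_refl {𝔞 : Ideal R} {M : ModuleCat.{u} R} {i : ℕ}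
    (x : Abelian.Ext (quotObj 𝔞) M i) : qres (le_refl 𝔞) x = x := by
  unfold qres
  rw [qmap_refl, Ext.mk₀_id_comp]

lemma qres_add {𝔞 𝔟 : Ideal R} (h : 𝔞 ≤ 𝔟) {M : ModuleCat.{u} R} {i : ℕ}
    (x y : Abelian.Ext (quotObj 𝔟) M i) : qres h (x + y) = qres h x + qres h y := by
  unfold qres
  rw [Ext.comp_add]

lemma qres_sub {𝔞 𝔟 : Ideal R} (h : 𝔞 ≤ 𝔟) {M : ModuleCat.{u} R} {i : ℕ}
    (x y : Abelian.Ext (quotObj 𝔟) M i) : qres h (x - y) = qres h x - qres h y := by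
  rw [sub_eq_add_neg, qres_add, sub_eq_add_neg]
  congr 1
  unfold qres
  rw [Ext.comp_neg]

lemma qres_zero {𝔞 𝔟 : Ideal R} (h : 𝔞 ≤ 𝔟) {M : ModuleCat.{u} R} {i : ℕ} :
    qres h (0 : Abelian.Ext (quotObj 𝔟) M i) = 0 := by
  unfold qres
  rw [Ext.comp_zero]

lemma qres_smul {𝔞 𝔟 : Ideal R} (h : 𝔞 ≤ 𝔟) {M : ModuleCat.{u} R} {i : ℕ} (r : R)
    (x : Abelian.Ext (quotObj 𝔟) M i) : qres h (r • x) = r • qres h x := by
  unfold qres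
  rw [Ext.comp_smul]

lemma qres_comp {𝔞 𝔟 : Ideal R} (h : 𝔞 ≤ 𝔟) {M N : ModuleCat.{u} R} {i d j : ℕ}
    (x : Abelian.Ext (quotObj 𝔟) M i) (e : Abelian.Ext M N d) (hj : i + d = j) :
    (qres h x).comp e hj = qres h (x.comp e hj) := by
  unfold qres
  rw [Ext.comp_assoc _ _ _ (zero_add i) hj (by omega)]

lemma lcRes_eq_qres (J : Ideal R) {i : ℕ} {M : ModuleCat.{u} R} {n k : ℕ} (h : n ≤ k)
    (x : Abelian.Ext (quotPow J n) M i) :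
    lcRes J h x = qres (Ideal.pow_le_pow_right h) x := rfl

section lcOf

variable (J : Ideal R) (i : ℕ) (M : ModuleCat.{u} R)

/-- The class in `H^i_J(M)` of `x ∈ Ext^i(R/𝔞, M)`, where `J^n ≤ 𝔞`. -/
noncomputable def lcOf {𝔞 : Ideal R} {n : ℕ} (hn : J ^ n ≤ 𝔞)
    (x : Abelian.Ext (quotObj 𝔞) M i) : (localCohomology J i).obj M :=
  lcMk J i M n (qres hn x)

lemma lcOf_indep {𝔞 : Ideal R} {n m : ℕ} (hn : J ^ n ≤ 𝔞) (hm : J ^ m ≤ 𝔞)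
    (x : Abelian.Ext (quotObj 𝔞) M i) : lcOf J i M hn x = lcOf J i M hm x := by
  unfold lcOf
  rw [← lcMk_res J i M (le_max_left n m), ← lcMk_res J i M (le_max_right n m), lcRes_eq_qres,
    lcRes_eq_qres, qres_qres, qres_qres]

lemma lcOf_qres {𝔞 𝔟 : Ideal R} (h : 𝔞 ≤ 𝔟) {n : ℕ} (hn : J ^ n ≤ 𝔞)
    (x : Abelian.Ext (quotObj 𝔟) M i) :
    lcOf J i M hn (qres h x) = lcOf J i M (hn.trans h) x := by
  unfold lcOf
  rw [qres_qres]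

lemma lcOf_pow (n : ℕ) (x : Abelian.Ext (quotPow J n) M i) :
    lcOf J i M (le_refl (J ^ n)) x = lcMk J i M n x := by
  unfold lcOf
  rw [qres_refl]

lemma lcOf_add {𝔞 : Ideal R} {n : ℕ} (hn : J ^ n ≤ 𝔞) (x y : Abelian.Ext (quotObj 𝔞) M i) :
    lcOf J i M hn (x + y) = lcOf J i M hn x + lcOf J i M hn y := by
  unfold lcOf
  rw [qres_add, lcMk_add]

lemma lcOf_sub {𝔞 : Ideal R} {n : ℕ} (hn : J ^ n ≤ 𝔞) (x y : Abelian.Ext (quotObj 𝔞) M i) :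
    lcOf J i M hn (x - y) = lcOf J i M hn x - lcOf J i M hn y := by
  unfold lcOf
  rw [qres_sub, lcMk_sub]

lemma lcOf_zero {𝔞 : Ideal R} {n : ℕ} (hn : J ^ n ≤ 𝔞) :
    lcOf J i M hn (0 : Abelian.Ext (quotObj 𝔞) M i) = 0 := by
  unfold lcOf
  rw [qres_zero, lcMk_zero]

lemma lcOf_smul {𝔞 : Ideal R} {n : ℕ} (hn : J ^ n ≤ 𝔞) (r : R)
    (x : Abelian.Ext (quotObj 𝔞) M i) :
    lcOf J i M hn (r • x) = r • lcOf J i M hn x := by
  unfold lcOf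
  rw [qres_smul, lcMk_smul]

lemma lcOf_eq_zero_iff {𝔞 : Ideal R} {n : ℕ} (hn : J ^ n ≤ 𝔞)
    (x : Abelian.Ext (quotObj 𝔞) M i) :
    lcOf J i M hn x = 0 ↔ ∃ (m : ℕ) (hm : J ^ m ≤ 𝔞), qres hm x = 0 := by
  constructor
  · intro h
    unfold lcOf at h
    rw [lcMk_eq_zero_iff] at h
    obtain ⟨k, hk, h0⟩ := h
    rw [lcRes_eq_qres, qres_qres] at h0
    exact ⟨k, _, h0⟩
  · rintro ⟨m, hm, h0⟩
    rw [lcOf_indep J i M hn hm]
    unfold lcOf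
    rw [h0, lcMk_zero]

lemma lcOf_surj (y : (localCohomology J i).obj M) :
    ∃ (n : ℕ) (x : Abelian.Ext (quotObj (J ^ n)) M i), lcOf J i M (le_refl (J ^ n)) x = y := by
  obtain ⟨n, x, rfl⟩ := lcMk_surj J i M y
  exact ⟨n, x, lcOf_pow J i M n x⟩

variable {M} in
lemma lcMap_lcOf {N : ModuleCat.{u} R} (φ : M ⟶ N) {𝔞 : Ideal R} {n : ℕ} (hn : J ^ n ≤ 𝔞)
    (x : Abelian.Ext (quotObj 𝔞) M i) :
    ((localCohomology J i).map φ).hom (lcOf J i M hn x) =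
      lcOf J i N hn (x.comp (Ext.mk₀ φ) (add_zero i)) := by
  unfold lcOf
  rw [lcMap_lcMk, qres_comp]

variable {M} in
lemma lcPostcomp_lcOf {N : ModuleCat.{u} R} {d : ℕ} (e : Abelian.Ext M N d) (j : ℕ)
    (h : i + d = j) {𝔞 : Ideal R} {n : ℕ} (hn : J ^ n ≤ 𝔞) (x : Abelian.Ext (quotObj 𝔞) M i) :
    lcPostcomp J e i j h (lcOf J i M hn x) = lcOf J j N hn (x.comp e h) := by
  unfold lcOf
  rw [lcPostcomp_lcMk, qres_comp]

end lcOf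

section HmapOfLE

variable {J J' : Ideal R} (h : J ≤ J') (i : ℕ) (M : ModuleCat.{u} R)

lemma HmapOfLE_lcIota (n : ℕ) (z : OldExt J' i M n) :
    ((Dual2.HmapOfLE h i).app M).hom (lcIota J' i M n z) =
      lcIota J i M n ((((Ext R (ModuleCat.{u} R) i).map
        (qmap (Ideal.pow_right_mono h n)).op).app M).hom z) := by
  have := ι_colimMap (Functor.whiskerRight (NatTrans.op (Dual2.quotMapOfLE h))
    (Ext R (ModuleCat.{u} R) i)) (op (op n))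
  have h1 := congrArg (fun φ => (φ.app M).hom z) this
  exact h1

lemma HmapOfLE_lcMk (n : ℕ) (x : Abelian.Ext (quotPow J' n) M i) :
    ((Dual2.HmapOfLE h i).app M).hom (lcMk J' i M n x) =
      lcMk J i M n (qres (Ideal.pow_right_mono h n) x) := by
  unfold lcMk
  rw [HmapOfLE_lcIota]
  congr 1
  apply (extBridge (quotPow J n) i M).injective
  rw [LinearEquiv.apply_symm_apply, extBridge_mapLeft, LinearEquiv.apply_symm_apply]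
  rfl

lemma HmapOfLE_lcOf {𝔞 : Ideal R} {n : ℕ} (hn : J' ^ n ≤ 𝔞) (x : Abelian.Ext (quotObj 𝔞) M i) :
    ((Dual2.HmapOfLE h i).app M).hom (lcOf J' i M hn x) =
      lcOf J i M ((Ideal.pow_right_mono h n).trans hn) x := by
  unfold lcOf
  rw [HmapOfLE_lcMk, qres_qres]

end HmapOfLE

end Groth.Agent.Lib.Helper60
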