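import Groth.Agent.Lib.Helper60.IdealTransform
import Mathlib.RingTheory.Filtration

/-!
# Ideal transforms over a Noetherian ring: torsion lemmas (helper60)
-/

set_option autoImplicit false
universe u
open CategoryTheory CategoryTheory.Limits Opposite

namespace Groth.Agent.Lib.Helper60

variable {R : Type u} [CommRing R]

open LocCoh

/-- A finitely generated submodule consisting of `I`-power-torsion elements is killed by a power
of `I`. -/
lemma exists_pow_smul_eq_zero_of_fg {M : Type*} [AddCommGroup M] [Module R M] (I : Ideal R)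
    (N : Submodule R M) (hN : N.FG)
    (htor : ∀ x ∈ N, ∃ n : ℕ, ∀ a ∈ I ^ n, a • x = 0) :
    ∃ p : ℕ, ∀ a ∈ I ^ p, ∀ x ∈ N, a • x = 0 := by
  classical
  obtain ⟨S, rfl⟩ := hN
  choose! n hn using htor
  refine ⟨S.sup n, fun a ha x hx => ?_⟩
  refine Submodule.span_induction (p := fun x _ => a • x = 0) ?_ ?_ ?_ ?_ hx
  · intro y hy
    exact hn y (Submodule.subset_span hy) a (Ideal.pow_le_pow_right (Finset.le_sup hy) ha)
  · exact smul_zero a
  · intro x y _ _ hx hy
    rw [smul_add, hx, hy, add_zero]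
  · intro r x _ hx
    rw [smul_comm, hx, smul_zero]

/-- A linear map on `I^(p+n)` vanishes as soon as `I^p` kills the image of `I^n`. -/
lemma dtRes_eq_zero_of_pow_smul {M : Type u} [AddCommGroup M] [Module R M] (I : Ideal R)
    {n p : ℕ} (f : ↥(I ^ n) →ₗ[R] M) (h : ∀ a ∈ I ^ p, ∀ y : ↥(I ^ n), a • f y = 0) :
    dtRes I (Nat.le_add_left n p) f = 0 := by
  ext ⟨z, hz⟩
  rw [dtRes_apply, LinearMap.zero_apply]
  have hle : I ^ p * I ^ n ≤ I ^ n := Ideal.mul_le_right
  have key : ∀ z (hz : z ∈ I ^ p * I ^ n), f ⟨z, hle hz⟩ = 0 := by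
    intro z hz
    refine Submodule.mul_induction_on' (C := fun z hz => f ⟨z, hle hz⟩ = 0) ?_ ?_ hz
    · intro a ha b hb
      have : (⟨a * b, hle (Ideal.mul_mem_mul ha hb)⟩ : ↥(I ^ n)) = a • ⟨b, hb⟩ := rfl
      rw [this, map_smul]
      exact h a ha _
    · intro x hx y hy hfx hfy
      have : (⟨x + y, hle (add_mem hx hy)⟩ : ↥(I ^ n)) = ⟨x, hle hx⟩ + ⟨y, hle hy⟩ := rfl
      rw [this, map_add, hfx, hfy, add_zero]
  exact key z (by rw [← pow_add]; exact hz)

/-- Over a Noetherian ring, a linear map `I^n → M` with `I`-power-torsion values restricts to zero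
on a smaller power of `I`. -/
lemma exists_dtRes_eq_zero_of_torsion [IsNoetherianRing R] {M : Type u} [AddCommGroup M] [Module R M]
    (I : Ideal R) {n : ℕ} (f : ↥(I ^ n) →ₗ[R] M)
    (h : ∀ y : ↥(I ^ n), ∃ k : ℕ, ∀ a ∈ I ^ k, a • f y = 0) :
    ∃ (k : ℕ) (hk : n ≤ k), dtRes I hk f = 0 := by
  have hfg : (LinearMap.range f).FG := by
    have : Module.Finite R ↥(I ^ n) := Module.IsNoetherian.finite R _
    exact Module.Finite.fg_top (R := R) (M := LinearMap.range f) |> fun h' => by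
      have := Submodule.FG.map (LinearMap.range f).subtype h'
      rwa [Submodule.map_top, Submodule.range_subtype] at this
  obtain ⟨p, hp⟩ := exists_pow_smul_eq_zero_of_fg I (LinearMap.range f) hfg (by
    rintro _ ⟨y, rfl⟩
    exact h y)
  exact ⟨p + n, Nat.le_add_left n p, dtRes_eq_zero_of_pow_smul I f fun a ha y =>
    hp a ha _ ⟨y, rfl⟩⟩

lemma dtMk_eq_zero_of_torsion [IsNoetherianRing R] (I : Ideal R) (M : ModuleCat.{u} R) {n : ℕ}
    (f : ↥(I ^ n) →ₗ[R] M)
    (h : ∀ y : ↥(I ^ n), ∃ k : ℕ, ∀ a ∈ I ^ k, a • f y = 0) : dtMk I M n f = 0 := by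
  rw [dtMk_eq_zero_iff]
  exact exists_dtRes_eq_zero_of_torsion I f h

/-- `D_I(M)` has no nonzero `I`-power-torsion (Noetherian `R`). -/
lemma dt_eq_zero_of_pow_smul [IsNoetherianRing R] (I : Ideal R) (M : ModuleCat.{u} R)
    (x : (idealTransform I).obj M) (p : ℕ) (hx : ∀ a ∈ I ^ p, a • x = 0) : x = 0 := by
  classical
  obtain ⟨n, f, rfl⟩ := dtMk_surj I M x
  -- for each a ∈ I^p there is k with (a • f)|I^k = 0
  have h1 : ∀ a ∈ I ^ p, ∃ (k : ℕ) (hk : n ≤ k), dtRes I hk (a • f) = 0 := by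
    intro a ha
    have := hx a ha
    rw [← dtMk_smul, dtMk_eq_zero_iff] at this
    exact this
  -- finitely many generators of I^p
  obtain ⟨S, hS⟩ := (isNoetherianRing_iff_ideal_fg R).mp inferInstance (I ^ p)
  have hSmem : ∀ a ∈ S, a ∈ I ^ p := fun a ha => hS ▸ Submodule.subset_span ha
  choose! k hk hk0 using h1
  let K := S.sup k + n
  have hK : ∀ a ∈ I ^ p, ∀ y : ↥(I ^ K), a • f ⟨y.1, Ideal.pow_le_pow_right (Nat.le_add_left n _) y.2⟩ = 0 := by
    intro a ha y
    rw [← hS] at ha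
    refine Submodule.span_induction (p := fun a _ => a • f ⟨y.1, Ideal.pow_le_pow_right (Nat.le_add_left n _) y.2⟩ = 0) ?_ ?_ ?_ ?_ ha
    · intro b hb
      have hb' := hk0 b (hSmem b hb)
      have hle : k b ≤ K := (Finset.le_sup hb).trans (Nat.le_add_right _ _)
      have := congrArg (fun φ => φ ⟨y.1, Ideal.pow_le_pow_right hle y.2⟩) hb'
      simpa using this
    · exact zero_smul _ _
    · intro a b _ _ ha hb
      rw [add_smul, ha, hb, add_zero]
    · intro r a _ ha
      rw [smul_eq_mul, mul_smul, ha, smul_zero]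
  rw [dtMk_eq_zero_iff]
  refine ⟨p + K, (Nat.le_add_left n _).trans (Nat.le_add_left K p), ?_⟩
  have h2 := dtRes_eq_zero_of_pow_smul I (dtRes I (Nat.le_add_left n (S.sup k)) f) (p := p)
    (fun a ha y => hK a ha y)
  ext z
  have := congrArg (fun φ => φ z) h2
  simpa using this

/-- `a • [f] = η(f a)` for `a ∈ I^n`, `f : I^n → M`. -/
lemma smul_dtMk_eq_toDT (I : Ideal R) (M : Type u) [AddCommGroup M] [Module R M] {n : ℕ}
    (f : ↥(I ^ n) →ₗ[R] M) (a : R) (ha : a ∈ I ^ n) :
    a • dtMk I (ModuleCat.of R M) n f = toDT I M (f ⟨a, ha⟩) := by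
  rw [toDT_eq_dtMk, ← dtMk_smul, dtMk_eq_iff]
  refine ⟨n, le_rfl, Nat.zero_le n, ?_⟩
  ext ⟨y, hy⟩
  simp only [dtRes_apply, LinearMap.smul_apply, LinearMap.coe_comp, Function.comp_apply,
    Submodule.coe_subtype, LinearMap.flip_apply, LinearMap.lsmul_apply]
  have h1 : (a • (⟨y, hy⟩ : ↥(I ^ n))) = y • (⟨a, ha⟩ : ↥(I ^ n)) := by
    apply Subtype.ext
    simp [mul_comm]
  rw [← map_smul, h1, map_smul]

/-- naturality of `η : M → D_I(M)`. -/
lemma dtMap_toDT (I : Ideal R) {M N : Type u} [AddCommGroup M] [Module R M] [AddCommGroup N]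
    [Module R N] (φ : M →ₗ[R] N) (m : M) :
    ((idealTransform I).map (ModuleCat.ofHom φ)).hom (toDT I M m) = toDT I N (φ m) := by
  rw [toDT_eq_dtMk, toDT_eq_dtMk, dtMap_dtMk]
  congr 1
  ext ⟨y, hy⟩
  simp

/-- The cokernel of `η : M → D_I(M)` is `I`-power torsion. -/
lemma exists_pow_smul_mem_range_toDT (I : Ideal R) (M : Type u) [AddCommGroup M] [Module R M]
    (x : DT I M) : ∃ n : ℕ, ∀ a ∈ I ^ n, a • x ∈ LinearMap.range (toDT I M) := by
  obtain ⟨n, f, rfl⟩ := dtMk_surj I (ModuleCat.of R M) x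
  exact ⟨n, fun a ha => ⟨f ⟨a, ha⟩, (smul_dtMk_eq_toDT I M f a ha).symm⟩⟩

/-- Factor a linear map through an injective one containing its range. -/
lemma exists_comp_eq_of_injective_of_range_le {N P Q : Type*} [AddCommGroup N] [Module R N]
    [AddCommGroup P] [Module R P] [AddCommGroup Q] [Module R Q]
    (ρ : N →ₗ[R] Q) (hρ : Function.Injective ρ) (g : P →ₗ[R] Q)
    (h : ∀ y, g y ∈ LinearMap.range ρ) : ∃ f : P →ₗ[R] N, ρ ∘ₗ f = g := by
  refine ⟨(LinearEquiv.ofInjective ρ hρ).symm.toLinearMap ∘ₗ g.codRestrict (LinearMap.range ρ) h, ?_⟩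
  ext y
  simp

/-- **Lifting lemma** (Artin–Rees): over a Noetherian ring, if `π : M → Q` has `I`-power-torsion
kernel and `g : I^n → Q` takes values in the range of `π`, then some restriction of `g` to a
smaller power of `I` lifts along `π`. -/
lemma exists_lift_of_torsion_ker [IsNoetherianRing R] (I : Ideal R) {M Q : Type u}
    [AddCommGroup M] [Module R M] [AddCommGroup Q] [Module R Q] (π : M →ₗ[R] Q)
    (hker : ∀ x ∈ LinearMap.ker π, ∃ k : ℕ, ∀ a ∈ I ^ k, a • x = 0)
    {n : ℕ} (g : ↥(I ^ n) →ₗ[R] Q) (hg : ∀ y, g y ∈ LinearMap.range π) :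
    ∃ (k : ℕ) (hk : n ≤ k) (f : ↥(I ^ k) →ₗ[R] M), π ∘ₗ f = dtRes I hk g := by
  classical
  -- the range of g is finitely generated
  have hfg : (LinearMap.range g).FG := by
    have : Module.Finite R ↥(I ^ n) := Module.IsNoetherian.finite R _
    have h' := Module.Finite.fg_top (R := R) (M := LinearMap.range g)
    have := Submodule.FG.map (LinearMap.range g).subtype h'
    rwa [Submodule.map_top, Submodule.range_subtype] at this
  obtain ⟨T, hT⟩ := hfg
  have hTmem : ∀ t ∈ T, t ∈ LinearMap.range π := by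
    intro t ht
    have : t ∈ LinearMap.range g := hT ▸ Submodule.subset_span ht
    obtain ⟨y, rfl⟩ := this
    exact hg y
  choose! m hm using hTmem
  -- the finitely generated submodule M₀
  let M₀ : Submodule R M := Submodule.span R (T.image m : Set M)
  have hM₀fg : M₀.FG := ⟨T.image m, rfl⟩
  have : Module.Finite R M₀ := Module.Finite.iff_fg.mpr hM₀fg
  let π₀ : M₀ →ₗ[R] Q := π ∘ₗ M₀.subtype
  have hrange : LinearMap.range g ≤ LinearMap.range π₀ := by
    rw [← hT, Submodule.span_le]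
    intro t ht
    refine ⟨⟨m t, Submodule.subset_span (Finset.mem_coe.mpr (Finset.mem_image_of_mem m ht))⟩, ?_⟩
    exact hm t ht
  -- the kernel of π₀ is killed by a power of I
  let K₀ : Submodule R M₀ := LinearMap.ker π₀
  have hK₀fg : K₀.FG := IsNoetherian.noetherian K₀
  obtain ⟨p, hp⟩ := exists_pow_smul_eq_zero_of_fg I K₀ hK₀fg (by
    intro x hx
    have hx' : (x : M) ∈ LinearMap.ker π := hx
    obtain ⟨k, hk⟩ := hker _ hx'
    refine ⟨k, fun a ha => ?_⟩
    apply Subtype.ext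
    exact hk a ha)
  -- Artin–Rees
  obtain ⟨c, hc⟩ := Ideal.exists_pow_inf_eq_pow_smul I K₀
  let q := c + p
  let N₀ : Submodule R M₀ := I ^ q • ⊤
  have hdisj : N₀ ⊓ K₀ = ⊥ := by
    rw [eq_bot_iff]
    have h1 := hc q (Nat.le_add_right c p)
    have hqc : q - c = p := Nat.add_sub_cancel_left c p
    rw [hqc] at h1
    show I ^ q • ⊤ ⊓ K₀ ≤ ⊥
    rw [h1, Submodule.smul_le]
    intro a ha x hx
    rw [Submodule.mem_bot]
    exact hp a ha x hx.2
  let ρ : N₀ →ₗ[R] Q := π₀ ∘ₗ N₀.subtype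
  have hρ : Function.Injective ρ := by
    rw [← LinearMap.ker_eq_bot, eq_bot_iff]
    intro x hx
    have : (x : M₀) ∈ N₀ ⊓ K₀ := ⟨x.2, hx⟩
    rw [hdisj, Submodule.mem_bot] at this
    rw [Submodule.mem_bot]
    exact Subtype.ext this
  -- values of the restriction of g lie in the range of ρ
  have hle : I ^ q * I ^ n ≤ I ^ n := Ideal.mul_le_right
  have hval : ∀ z (hz : z ∈ I ^ q * I ^ n), g ⟨z, hle hz⟩ ∈ LinearMap.range ρ := by
    intro z hz
    refine Submodule.mul_induction_on' (C := fun z hz => g ⟨z, hle hz⟩ ∈ LinearMap.range ρ) ?_ ?_ hz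
    · intro a ha b hb
      have : (⟨a * b, hle (Ideal.mul_mem_mul ha hb)⟩ : ↥(I ^ n)) = a • ⟨b, hb⟩ := rfl
      rw [this, map_smul]
      obtain ⟨w, hw⟩ := hrange ⟨⟨b, hb⟩, rfl⟩
      refine ⟨⟨a • w, Submodule.smul_mem_smul ha Submodule.mem_top⟩, ?_⟩
      show π₀ (a • w) = a • g ⟨b, hb⟩
      rw [map_smul, hw]
    · intro x hx y hy hfx hfy
      have : (⟨x + y, hle (add_mem hx hy)⟩ : ↥(I ^ n)) = ⟨x, hle hx⟩ + ⟨y, hle hy⟩ := rfl
      rw [this, map_add]
      exact add_mem hfx hfy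
  have hk : n ≤ q + n := Nat.le_add_left n q
  obtain ⟨f', hf'⟩ := exists_comp_eq_of_injective_of_range_le ρ hρ (dtRes I hk g) (by
    rintro ⟨z, hz⟩
    rw [dtRes_apply]
    exact hval z (by rw [← pow_add]; exact hz))
  refine ⟨q + n, hk, M₀.subtype ∘ₗ N₀.subtype ∘ₗ f', ?_⟩
  rw [← hf']
  rfl

/-- If `I^p` carries the image of `g : I^n → M` into a submodule `N`, then `g` maps `I^(p+n)`
into `N`. -/
lemma dtRes_mem_of_pow_smul_mem {M : Type u} [AddCommGroup M] [Module R M] (I : Ideal R)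
    (N : Submodule R M) {n p : ℕ} (g : ↥(I ^ n) →ₗ[R] M)
    (h : ∀ a ∈ I ^ p, ∀ y : ↥(I ^ n), a • g y ∈ N) (z : ↥(I ^ (p + n))) :
    dtRes I (Nat.le_add_left n p) g z ∈ N := by
  obtain ⟨z, hz⟩ := z
  rw [dtRes_apply]
  have hle : I ^ p * I ^ n ≤ I ^ n := Ideal.mul_le_right
  have key : ∀ z (hz : z ∈ I ^ p * I ^ n), g ⟨z, hle hz⟩ ∈ N := by
    intro z hz
    refine Submodule.mul_induction_on' (C := fun z hz => g ⟨z, hle hz⟩ ∈ N) ?_ ?_ hz
    · intro a ha b hb
      have : (⟨a * b, hle (Ideal.mul_mem_mul ha hb)⟩ : ↥(I ^ n)) = a • ⟨b, hb⟩ := rfl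
      rw [this, map_smul]
      exact h a ha _
    · intro x hx y hy hfx hfy
      have : (⟨x + y, hle (add_mem hx hy)⟩ : ↥(I ^ n)) = ⟨x, hle hx⟩ + ⟨y, hle hy⟩ := rfl
      rw [this, map_add]
      exact add_mem hfx hfy
  exact key z (by rw [← pow_add]; exact hz)

/-- **Main lemma**: over a Noetherian ring, a linear map whose kernel is `I`-power torsion and whose
cokernel is `I`-power torsion induces a bijection on ideal transforms. -/
theorem dtMap_bijective_of_torsion [IsNoetherianRing R] (I : Ideal R) {M M' : Type u}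
    [AddCommGroup M] [Module R M] [AddCommGroup M'] [Module R M'] (e : M →ₗ[R] M')
    (hker : LinearMap.ker e ≤ DRing.torsionSub I M)
    (hcoker : LocCoh.IsPowerTorsion I (M' ⧸ LinearMap.range e)) :
    Function.Bijective ((idealTransform I).map (ModuleCat.ofHom e)).hom := by
  constructor
  · rw [injective_iff_map_eq_zero]
    intro x hx
    obtain ⟨n, f, rfl⟩ := dtMk_surj I (ModuleCat.of R M) x
    rw [dtMap_dtMk, dtMk_eq_zero_iff] at hx
    obtain ⟨k, hk, h0⟩ := hx
    rw [← dtMk_res I _ hk f]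
    apply dtMk_eq_zero_of_torsion
    intro y
    have : e (f ⟨y.1, Ideal.pow_le_pow_right hk y.2⟩) = 0 := by
      have := congrArg (fun φ => φ y) h0
      simpa using this
    exact hker this
  · intro x'
    obtain ⟨n, g, rfl⟩ := dtMk_surj I (ModuleCat.of R M') x'
    -- the range of g is finitely generated, so its image in the cokernel is killed by I^p
    have hfg : (LinearMap.range g).FG := by
      have : Module.Finite R ↥(I ^ n) := Module.IsNoetherian.finite R _
      have h' := Module.Finite.fg_top (R := R) (M := LinearMap.range g)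
      have := Submodule.FG.map (LinearMap.range g).subtype h'
      rwa [Submodule.map_top, Submodule.range_subtype] at this
    obtain ⟨p, hp⟩ := exists_pow_smul_eq_zero_of_fg I
      ((LinearMap.range g).map (LinearMap.range e).mkQ) (hfg.map _) (fun x _ => hcoker x)
    have hmem : ∀ a ∈ I ^ p, ∀ y : ↥(I ^ n), a • g y ∈ LinearMap.range e := by
      intro a ha y
      have := hp a ha ((LinearMap.range e).mkQ (g y)) ⟨g y, ⟨y, rfl⟩, rfl⟩
      rw [← map_smul, Submodule.mkQ_apply, Submodule.Quotient.mk_eq_zero] at this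
      exact this
    have hval := dtRes_mem_of_pow_smul_mem I (LinearMap.range e) g hmem
    obtain ⟨k, hk, f, hf⟩ := exists_lift_of_torsion_ker I e (fun x hx => hker hx)
      (dtRes I (Nat.le_add_left n p) g) hval
    refine ⟨dtMk I (ModuleCat.of R M) k f, ?_⟩
    rw [dtMap_dtMk]
    show dtMk I (ModuleCat.of R M') k (e ∘ₗ f) = _
    rw [hf, dtMk_res, dtMk_res]

end Groth.Agent.Lib.Helper60
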