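import Groth.Agent.Lib.Helper60.LocalCohBasic
import Groth.Agent.Lib.Helper60.IdealTransform2
import Mathlib.Algebra.Module.Injective
import Mathlib.Algebra.Category.ModuleCat.Injective

/-!
# Local cohomology over Noetherian rings: torsion modules (helper60)
-/

set_option autoImplicit false
universe u
open CategoryTheory CategoryTheory.Limits Opposite Abelian

namespace Groth.Agent.Lib.Helper60

variable {R : Type u} [CommRing R]

/-- If `E` is injective, a linear map `g : X → E` extends along any `f : X → Y` with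
`ker f ≤ ker g`. -/
lemma exists_extension_of_ker_le {E X Y : Type u} [AddCommGroup E] [Module R E]
    [Module.Injective R E] [AddCommGroup X] [Module R X] [AddCommGroup Y] [Module R Y]
    (f : X →ₗ[R] Y) (g : X →ₗ[R] E) (h : LinearMap.ker f ≤ LinearMap.ker g) :
    ∃ e : Y →ₗ[R] E, e ∘ₗ f = g := by
  let f' : (X ⧸ LinearMap.ker f) →ₗ[R] Y := (LinearMap.ker f).liftQ f le_rfl
  have hf' : Function.Injective f' := by
    rw [← LinearMap.ker_eq_bot]
    exact Submodule.ker_liftQ_eq_bot _ _ _ le_rfl
  let g' : (X ⧸ LinearMap.ker f) →ₗ[R] E := (LinearMap.ker f).liftQ g h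
  obtain ⟨e, he⟩ := Module.Injective.extension_property R E _ _ f' hf' g'
  refine ⟨e, ?_⟩
  ext x
  have := congrArg (fun φ => φ (Submodule.Quotient.mk x)) he
  simpa [f', g'] using this

/-- **Γ_J of an injective module is injective** (Noetherian ring). -/
theorem injective_torsionSub [IsNoetherianRing R] (J : Ideal R) (E : Type u) [AddCommGroup E]
    [Module R E] [Module.Injective R E] : Module.Injective R (DRing.torsionSub J E) := by
  apply Module.Baer.injective
  intro 𝔞 g
  -- the composite 𝔞 → Γ_J(E) ⊆ E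
  let g' : 𝔞 →ₗ[R] E := (DRing.torsionSub J E).subtype ∘ₗ g
  -- the range of g' is finitely generated and torsion, hence killed by J^n
  have hfg : (LinearMap.range g').FG := by
    have : Module.Finite R 𝔞 := Module.IsNoetherian.finite R _
    have h' := Module.Finite.fg_top (R := R) (M := LinearMap.range g')
    have := Submodule.FG.map (LinearMap.range g').subtype h'
    rwa [Submodule.map_top, Submodule.range_subtype] at this
  obtain ⟨n, hn⟩ := exists_pow_smul_eq_zero_of_fg J (LinearMap.range g') hfg (by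
    rintro _ ⟨y, rfl⟩
    exact (g y).2)
  -- Artin–Rees
  obtain ⟨c, hc⟩ := Ideal.exists_pow_inf_eq_pow_smul J (𝔞 : Submodule R R)
  let k := c + n
  have hvanish : ∀ x (hx : x ∈ 𝔞), x ∈ J ^ k → g' ⟨x, hx⟩ = 0 := by
    intro x hx hxk
    have h1 := hc k (Nat.le_add_right c n)
    have hkc : k - c = n := Nat.add_sub_cancel_left c n
    rw [hkc] at h1
    have hmem : x ∈ (J ^ k • ⊤ ⊓ (𝔞 : Submodule R R) : Submodule R R) := by
      refine ⟨?_, hx⟩
      rw [Ideal.smul_eq_mul, Ideal.mul_top]
      exact hxk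
    rw [h1] at hmem
    have hle : (J ^ n • (J ^ c • ⊤ ⊓ (𝔞 : Submodule R R)) : Submodule R R) ≤ 𝔞 := by
      rw [Submodule.smul_le]
      intro a _ b hb
      exact 𝔞.mul_mem_left a hb.2
    suffices H : ∀ z (hz : z ∈ (J ^ n • (J ^ c • ⊤ ⊓ (𝔞 : Submodule R R)) : Submodule R R)),
        g' ⟨z, hle hz⟩ = 0 from H x hmem
    intro z hz
    refine Submodule.smul_induction_on' (p := fun z hz => g' ⟨z, hle hz⟩ = 0) hz ?_ ?_
    · intro a ha b hb
      have : (⟨a • b, hle (Submodule.smul_mem_smul ha hb)⟩ : 𝔞) = a • ⟨b, hb.2⟩ := rfl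
      rw [this, map_smul]
      exact hn a ha _ ⟨_, rfl⟩
    · intro x hx y hy hgx hgy
      have : (⟨x + y, hle (add_mem hx hy)⟩ : 𝔞) = ⟨x, hle hx⟩ + ⟨y, hle hy⟩ := rfl
      rw [this, map_add, hgx, hgy, add_zero]
  -- extend along 𝔞 → R/J^k
  let f : 𝔞 →ₗ[R] (R ⧸ J ^ k) := (J ^ k).mkQ ∘ₗ (𝔞 : Submodule R R).subtype
  obtain ⟨e, he⟩ := exists_extension_of_ker_le f g' (by
    rintro ⟨x, hx⟩ hxf
    rw [LinearMap.mem_ker] at hxf ⊢
    apply hvanish x hx
    rw [← Submodule.Quotient.mk_eq_zero]
    exact hxf)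
  have hmemQ : ∀ x : R, (e ∘ₗ (J ^ k).mkQ) x ∈ DRing.torsionSub J E := by
    intro x
    refine ⟨k, fun a ha => ?_⟩
    rw [← map_smul, LinearMap.comp_apply, Submodule.mkQ_apply]
    have : (Submodule.Quotient.mk (a • x) : R ⧸ J ^ k) = 0 := by
      rw [Submodule.Quotient.mk_eq_zero]
      exact Ideal.mul_mem_right _ _ ha
    rw [this, map_zero]
  refine ⟨(e ∘ₗ (J ^ k).mkQ).codRestrict _ hmemQ, fun x hx => ?_⟩
  apply Subtype.ext
  have := congrArg (fun φ => φ ⟨x, hx⟩) he
  exact this

section ses

variable {M : Type u} [AddCommGroup M] [Module R M]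

/-- The short complex `0 → N' → M → M/N' → 0`. -/
noncomputable def sesOfSubmodule (N' : Submodule R M) : ShortComplex (ModuleCat.{u} R) :=
  ShortComplex.mk (ModuleCat.ofHom N'.subtype) (ModuleCat.ofHom N'.mkQ) (by
    ext x
    simp)

lemma sesOfSubmodule_shortExact (N' : Submodule R M) : (sesOfSubmodule N').ShortExact := by
  apply ModuleCat.shortComplex_shortExact
  · exact LinearMap.exact_subtype_mkQ N'
  · exact N'.injective_subtype
  · exact N'.mkQ_surjective

variable {N : Type u} [AddCommGroup N] [Module R N]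

/-- The short complex `0 → N → M → M/ι(N) → 0` of an injective linear map. -/
noncomputable def sesOfInjective (ι : N →ₗ[R] M) : ShortComplex (ModuleCat.{u} R) :=
  ShortComplex.mk (ModuleCat.ofHom ι) (ModuleCat.ofHom (LinearMap.range ι).mkQ) (by
    ext x
    simp)

lemma sesOfInjective_shortExact (ι : N →ₗ[R] M) (hι : Function.Injective ι) :
    (sesOfInjective ι).ShortExact := by
  apply ModuleCat.shortComplex_shortExact
  · exact LinearMap.exact_map_mkQ_range ι
  · exact hι
  · exact (LinearMap.range ι).mkQ_surjective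

end ses

/-- a torsion module embeds into a torsion injective module (Noetherian ring). -/
lemma exists_injective_torsion_embedding [IsNoetherianRing R] (J : Ideal R) (N : Type u)
    [AddCommGroup N] [Module R N] (hN : ∀ x : N, ∃ n : ℕ, ∀ a ∈ J ^ n, a • x = 0) :
    ∃ (E₀ : Type u) (_ : AddCommGroup E₀) (_ : Module R E₀) (_ : Module.Injective R E₀)
      (ι : N →ₗ[R] E₀), Function.Injective ι ∧ ∀ x : E₀, ∃ n : ℕ, ∀ a ∈ J ^ n, a • x = 0 := by
  let E := Injective.under (ModuleCat.of R N)
  let ι : ModuleCat.of R N ⟶ E := Injective.ι _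
  have hι : Function.Injective ι.hom := (ModuleCat.mono_iff_injective ι).mp inferInstance
  have hE : Injective (ModuleCat.of R E) := (inferInstance : Injective E)
  have : Module.Injective R E := Module.injective_module_of_injective_object R E
  have := injective_torsionSub J E
  refine ⟨DRing.torsionSub J E, inferInstance, inferInstance, inferInstance,
    ι.hom.codRestrict _ (fun x => ?_), ?_, ?_⟩
  · obtain ⟨n, hn⟩ := hN x
    exact ⟨n, fun a ha => by rw [← map_smul, hn a ha, map_zero]⟩
  · intro x y hxy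
    exact hι (congrArg Subtype.val hxy)
  · rintro ⟨x, n, hn⟩
    exact ⟨n, fun a ha => Subtype.ext (hn a ha)⟩

/-- **Torsion modules have no higher local cohomology** (Noetherian ring). -/
theorem lc_subsingleton_of_torsion_succ [IsNoetherianRing R] (J : Ideal R) (i : ℕ) :
    ∀ (N : ModuleCat.{u} R) (_ : ∀ x : N, ∃ n : ℕ, ∀ a ∈ J ^ n, a • x = 0),
      Subsingleton ((localCohomology J (i + 1)).obj N) := by
  induction i with
  | zero =>
    intro N hN
    obtain ⟨E₀, _, _, _, ι, hι, hE₀⟩ := exists_injective_torsion_embedding J N hN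
    have hS := sesOfInjective_shortExact ι hι
    have : Injective (sesOfInjective ι).X₂ := Module.injective_object_of_injective_module R E₀
    have := lc_subsingleton_of_injective J (sesOfInjective ι).X₂ 1 one_pos
    refine ⟨fun a b => ?_⟩
    suffices H : ∀ y : (localCohomology J (0 + 1)).obj (ModuleCat.of R N), y = 0 by
      rw [H a, H b]
    intro y
    obtain ⟨y₃, rfl⟩ := lc_exact₁ J hS 0 y (Subsingleton.elim _ _)
    -- y₃ comes from H^0(E₀)
    obtain ⟨e, he⟩ := (LinearMap.range ι).mkQ_surjective (lcH0Map J _ y₃)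
    obtain ⟨n, hn⟩ := hE₀ e
    obtain ⟨y₂, hy₂⟩ := exists_lcH0Map_eq J (sesOfInjective ι).X₂ e n hn
    have : ((localCohomology J 0).map (sesOfInjective ι).g).hom y₂ = y₃ := by
      apply lcH0Map_injective
      rw [lcH0Map_naturality, hy₂]
      exact he
    rw [← this, lcDelta_comp_map]
    rfl
  | succ i ih =>
    intro N hN
    obtain ⟨E₀, _, _, _, ι, hι, hE₀⟩ := exists_injective_torsion_embedding J N hN
    have hS := sesOfInjective_shortExact ι hι
    have : Injective (sesOfInjective ι).X₂ := Module.injective_object_of_injective_module R E₀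
    have := lc_subsingleton_of_injective J (sesOfInjective ι).X₂ (i + 1 + 1) (Nat.succ_pos _)
    have : Subsingleton ((localCohomology J (i + 1)).obj (sesOfInjective ι).X₃) := by
      apply ih
      intro x
      obtain ⟨e, rfl⟩ := (LinearMap.range ι).mkQ_surjective x
      obtain ⟨n, hn⟩ := hE₀ e
      exact ⟨n, fun a ha => ((LinearMap.range ι).mkQ.map_smul a e).symm.trans
        ((congrArg (LinearMap.range ι).mkQ (hn a ha)).trans (map_zero _))⟩
    refine ⟨fun a b => ?_⟩
    suffices H : ∀ y : (localCohomology J (i + 1 + 1)).obj (ModuleCat.of R N), y = 0 by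
      rw [H a, H b]
    intro y
    obtain ⟨y₃, rfl⟩ := lc_exact₁ J hS (i + 1) y (Subsingleton.elim _ _)
    rw [Subsingleton.elim y₃ 0, map_zero]
    rfl

/-- **Torsion modules have no higher local cohomology** (Noetherian ring). -/
theorem lc_subsingleton_of_torsion [IsNoetherianRing R] (J : Ideal R) (i : ℕ) (hi : 0 < i)
    (N : ModuleCat.{u} R) (hN : ∀ x : N, ∃ n : ℕ, ∀ a ∈ J ^ n, a • x = 0) :
    Subsingleton ((localCohomology J i).obj N) := by
  obtain ⟨i, rfl⟩ := Nat.exists_eq_succ_of_ne_zero hi.ne'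
  exact lc_subsingleton_of_torsion_succ J i N hN

/-- `H^i_J(N) → H^i_J(N/Γ_J(N))` is bijective for `i > 0` (Noetherian ring). -/
theorem lcMap_mkQ_torsionSub_bijective [IsNoetherianRing R] (J : Ideal R) (N : Type u)
    [AddCommGroup N] [Module R N] (i : ℕ) (hi : 0 < i) :
    Function.Bijective
      ((localCohomology J i).map (ModuleCat.ofHom (DRing.torsionSub J N).mkQ)).hom := by
  have hS := sesOfSubmodule_shortExact (DRing.torsionSub J N)
  have htor : ∀ x : (sesOfSubmodule (DRing.torsionSub J N)).X₁,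
      ∃ n : ℕ, ∀ a ∈ J ^ n, a • x = 0 := by
    rintro ⟨x, n, hn⟩
    exact ⟨n, fun a ha => Subtype.ext (hn a ha)⟩
  have h1 := lc_subsingleton_of_torsion J i hi _ htor
  have h2 := lc_subsingleton_of_torsion J (i + 1) (Nat.succ_pos i) _ htor
  constructor
  · rw [injective_iff_map_eq_zero]
    intro y hy
    obtain ⟨y₁, rfl⟩ := lc_exact₂ J hS i y hy
    rw [Subsingleton.elim y₁ 0, map_zero]
    rfl
  · intro y₃
    exact lc_exact₃ J hS i y₃ (Subsingleton.elim _ _)

end Groth.Agent.Lib.Helper60
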