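import Groth.Agent.Lib.Helper60.BB

set_option autoImplicit false
universe u
open CategoryTheory CategoryTheory.Limits Opposite Abelian IsLocalRing
open Groth.Agent.Lib.Helper29

namespace Groth.Agent.Lib.Helper60

section bass2

variable {A : Type u} [CommRing A] [IsLocalRing A] [IsNoetherianRing A]

/-- for a non-maximal prime `p`, `Ext^r(A/p, M) = 0` as soon as `injdim M ≤ r`. -/
theorem ext_quotient_prime_subsingleton_of_hasInjectiveDimensionLT (M : Type u) [AddCommGroup M]
    [Module A M] [Module.Finite A M] (r : ℕ)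
    (hM : HasInjectiveDimensionLT (ModuleCat.of A M) (r + 1)) (p : Ideal A) [hp : p.IsPrime]
    (hpm : p ≠ maximalIdeal A) :
    Subsingleton (Abelian.Ext (ModuleCat.of A (A ⧸ p)) (ModuleCat.of A M) r) := by
  have hle : p ≤ maximalIdeal A := IsLocalRing.le_maximalIdeal hp.ne_top
  have hnle : ¬ maximalIdeal A ≤ p := fun h => hpm (le_antisymm hle h)
  obtain ⟨x, hx, hxp⟩ := SetLike.not_le_iff_exists.mp hnle
  exact ext_quotient_prime_subsingleton_of_succ p x hx hxp M r
    (fun L _ _ _ _ => HasInjectiveDimensionLT.subsingleton _ (r + 1) (r + 1) le_rfl _)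

/-- if `injdim M ≤ r` and `Ext^r(k, M) = 0` then `Ext^r(L, M) = 0` for all finite `L`. -/
theorem ext_subsingleton_of_residueField_of_hasInjectiveDimensionLT (M : Type u) [AddCommGroup M]
    [Module A M] [Module.Finite A M] (r : ℕ)
    (hM : HasInjectiveDimensionLT (ModuleCat.of A M) (r + 1))
    (hk : Subsingleton (Abelian.Ext (ModuleCat.of A (ResidueField A)) (ModuleCat.of A M) r))
    (L : Type u) [AddCommGroup L] [Module A L] [Module.Finite A L] :
    Subsingleton (Abelian.Ext (ModuleCat.of A L) (ModuleCat.of A M) r) := by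
  refine ext_subsingleton_of_forall_prime ⊥ (ModuleCat.of A M) r ?_ L ?_
  · intro q _
    by_cases hq : q.asIdeal = maximalIdeal A
    · exact ext_quotient_subsingleton_of_eq_maximalIdeal _ r hk _ hq
    · have := q.2
      exact ext_quotient_prime_subsingleton_of_hasInjectiveDimensionLT M r hM q.asIdeal hq
  · intro a ha l
    rw [Ideal.mem_bot] at ha
    rw [ha, zero_smul]

omit [IsLocalRing A] [IsNoetherianRing A] in
lemma not_subsingleton_ext_self (M : Type u) [AddCommGroup M] [Module A M] [Nontrivial M] :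
    ¬ Subsingleton (Abelian.Ext (ModuleCat.of A M) (ModuleCat.of A M) 0) := by
  intro h
  have h1 : Subsingleton (ModuleCat.of A M ⟶ ModuleCat.of A M) :=
    Ext.addEquiv₀.subsingleton_congr.mp h
  obtain ⟨m, hm⟩ := exists_ne (0 : M)
  apply hm
  have h2 : (𝟙 (ModuleCat.of A M)) = 0 := Subsingleton.elim _ _
  have h3 := congrArg (fun f => f.hom m) h2
  exact h3

/-- the exact injective dimension `r` of a nonzero finite module of finite injective dimension,
with `Ext^r(k, M) ≠ 0`. -/
theorem exists_injdim_exact (M : Type u) [AddCommGroup M] [Module A M] [Module.Finite A M]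
    [Nontrivial M] (h : ∃ n : ℕ, HasInjectiveDimensionLT (ModuleCat.of A M) n) :
    ∃ r : ℕ, HasInjectiveDimensionLT (ModuleCat.of A M) (r + 1) ∧
      ¬ Subsingleton (Abelian.Ext (ModuleCat.of A (ResidueField A)) (ModuleCat.of A M) r) := by
  classical
  have hfind := Nat.find_spec h
  have hmin := fun m (hm : m < Nat.find h) => Nat.find_min h hm
  rcases hn : Nat.find h with _ | r
  · rw [hn] at hfind
    exact absurd (HasInjectiveDimensionLT.subsingleton _ 0 0 le_rfl _)
      (not_subsingleton_ext_self (A := A) M)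
  · rw [hn] at hfind
    refine ⟨r, hfind, fun hk => ?_⟩
    have hall := ext_subsingleton_of_residueField_of_hasInjectiveDimensionLT M r hfind hk
    rcases r with _ | r'
    · exact not_subsingleton_ext_self (A := A) M (hall M)
    · refine hmin (r' + 1) (by omega) ?_
      exact (Groth.Agent.S5788.result A M r').mpr (fun I => hall (A ⧸ I))


omit [IsNoetherianRing A] in
/-- a regular element in `m` when `depth ≥ 1`. -/
theorem exists_isSMulRegular_of_one_le_depth (M : Type u) [AddCommGroup M] [Module A M]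
    [Module.Finite A M] [Nontrivial M] (h : (1 : ℕ∞) ≤ LocCoh.depth A M) :
    ∃ x ∈ maximalIdeal A, IsSMulRegular M x := by
  obtain ⟨rs, hlen, hmem, hreg⟩ := (le_depth_iff A M 1).mp (by exact_mod_cast h)
  match rs, hlen with
  | [x], _ =>
    refine ⟨x, hmem x (by simp), ?_⟩
    exact ((RingTheory.Sequence.isRegular_cons_iff M x []).mp hreg).1

/-- pushing `Ext`-vanishing down to a module of depth zero. -/
theorem exists_depth_zero_of_ext_vanish (T : ModuleCat.{u} A) (s : ℕ) :
    ∀ (M : Type u) [AddCommGroup M] [Module A M] [Module.Finite A M] [Nontrivial M],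
      LocCoh.depth A M = s → ∀ j : ℕ,
      (∀ i : ℕ, j < i → Subsingleton (Abelian.Ext (ModuleCat.of A M) T i)) →
      ∃ (N : Type u) (_ : AddCommGroup N) (_ : Module A N) (_ : Module.Finite A N)
        (_ : Nontrivial N), LocCoh.depth A N = 0 ∧
        ∀ i : ℕ, j + s < i → Subsingleton (Abelian.Ext (ModuleCat.of A N) T i) := by
  induction s with
  | zero =>
    intro M _ _ _ _ hd j hj
    exact ⟨M, inferInstance, inferInstance, inferInstance, inferInstance, by simpa using hd,
      fun i hi => hj i (by omega)⟩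
  | succ s ih =>
    intro M _ _ _ _ hd j hj
    obtain ⟨x, hx, hreg⟩ := exists_isSMulRegular_of_one_le_depth M (by rw [hd]; simp)
    have hnt : Nontrivial (QuotSMulTop x M) := nontrivial_quotSMulTop_of_mem_maximalIdeal M hx
    have hd' : LocCoh.depth A (QuotSMulTop x M) = s := by
      have h1 := depth_quotSMulTop_add_one A M hx hreg
      rw [hd] at h1
      have h2 : LocCoh.depth A (QuotSMulTop x M) + 1 = (s : ℕ∞) + 1 := by
        rw [h1]; push_cast; rfl
      exact (ENat.add_left_injective_of_ne_top ENat.one_ne_top) h2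
    have hS : (ModuleCat.smulShortComplex (ModuleCat.of A M) x).ShortExact :=
      IsSMulRegular.smulShortComplex_shortExact (M := ModuleCat.of A M) hreg
    have hj' : ∀ i : ℕ, j + 1 < i →
        Subsingleton (Abelian.Ext (ModuleCat.of A (QuotSMulTop x M)) T i) := by
      intro i hi
      obtain ⟨i', rfl⟩ : ∃ i', i = i' + 1 := ⟨i - 1, by omega⟩
      have h1 : Subsingleton (Abelian.Ext (ModuleCat.smulShortComplex (ModuleCat.of A M) x).X₁ T i') :=
        hj i' (by omega)
      have h2 : Subsingleton (Abelian.Ext (ModuleCat.smulShortComplex (ModuleCat.of A M) x).X₂ T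
          (i' + 1)) := hj (i' + 1) (by omega)
      have hsurj := extConn_surjective hS T i' h2
      refine ⟨fun a b => ?_⟩
      have key : ∀ c : Abelian.Ext (ModuleCat.smulShortComplex (ModuleCat.of A M) x).X₃ T (i' + 1),
          c = 0 := by
        intro c
        obtain ⟨c', rfl⟩ := hsurj c
        rw [Subsingleton.elim c' 0, map_zero]
      exact (key a).trans (key b).symm
    obtain ⟨N, i1, i2, i3, i4, hN0, hN⟩ := ih (QuotSMulTop x M) hd' (j + 1) hj'
    exact ⟨N, i1, i2, i3, i4, hN0, fun i hi => hN i (by omega)⟩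


/-- a module of depth zero contains the residue field. -/
theorem exists_injective_residueField_of_depth_eq_zero (N : Type u) [AddCommGroup N] [Module A N]
    [Module.Finite A N] [Nontrivial N] (h : LocCoh.depth A N = 0) :
    ∃ f : (A ⧸ maximalIdeal A) →ₗ[A] N, Function.Injective f := by
  have h1 : ¬ ((1 : ℕ) : ℕ∞) ≤ LocCoh.idealDepth (maximalIdeal A) N := by
    intro h2
    have h3 : LocCoh.idealDepth (maximalIdeal A) N = 0 := h
    rw [h3] at h2
    simp at h2
  rw [le_idealDepth_iff_ext (maximalIdeal A) N (maximalIdeal_smul_top_ne_top A N) 1] at h1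
  push Not at h1
  obtain ⟨i, hi, hns⟩ := h1
  obtain rfl : i = 0 := by omega
  have hns' : Nontrivial (ModuleCat.of A (A ⧸ maximalIdeal A) ⟶ ModuleCat.of A N) :=
    (Ext.addEquiv₀ (X := ModuleCat.of A (A ⧸ maximalIdeal A))
      (Y := ModuleCat.of A N)).symm.toEquiv.nontrivial
  obtain ⟨g, hg⟩ := exists_ne (0 : ModuleCat.of A (A ⧸ maximalIdeal A) ⟶ ModuleCat.of A N)
  let f : (A ⧸ maximalIdeal A) →ₗ[A] N := g.hom
  have hf : f ≠ 0 := by
    intro h0
    apply hg
    apply ModuleCat.hom_ext
    exact h0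
  have hf1 : f 1 ≠ 0 := by
    intro h0
    apply hf
    apply LinearMap.ext
    intro y
    obtain ⟨a, rfl⟩ := Ideal.Quotient.mk_surjective y
    have : (Ideal.Quotient.mk (maximalIdeal A)) a = a • (1 : A ⧸ maximalIdeal A) := by
      rw [Algebra.smul_def, mul_one]; rfl
    rw [this, map_smul, h0, smul_zero, LinearMap.zero_apply]
  refine ⟨f, ?_⟩
  rw [injective_iff_map_eq_zero]
  intro y hy
  obtain ⟨a, rfl⟩ := Ideal.Quotient.mk_surjective y
  by_contra hne
  have ha : a ∉ maximalIdeal A := fun ha => hne (Ideal.Quotient.eq_zero_iff_mem.mpr ha)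
  have hu : IsUnit a := by
    by_contra hnu
    exact ha ((IsLocalRing.mem_maximalIdeal a).mpr hnu)
  obtain ⟨u, rfl⟩ := hu
  have h2 : (Ideal.Quotient.mk (maximalIdeal A)) (u : A) = (u : A) • (1 : A ⧸ maximalIdeal A) := by
    rw [Algebra.smul_def, mul_one]; rfl
  rw [h2, map_smul] at hy
  apply hf1
  have h3 := congrArg (fun z => ((u⁻¹ : Aˣ) : A) • z) hy
  simp only [smul_zero] at h3
  rwa [smul_smul, Units.inv_mul, one_smul] at h3

/-- `injdim A ≤ depth A` (Bass). -/
theorem injdim_le_depth (r : ℕ) (hP : HasInjectiveDimensionLT (ModuleCat.of A A) (r + 1))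
    (hk : ¬ Subsingleton (Abelian.Ext (ModuleCat.of A (ResidueField A)) (ModuleCat.of A A) r))
    (t : ℕ) (ht : LocCoh.depth A A = t) : r ≤ t := by
  by_contra hlt
  push Not at hlt
  have hproj : Projective (ModuleCat.of A A) :=
    (IsProjective.iff_projective (R := A) A).mp inferInstance
  obtain ⟨N, _, _, _, _, hN0, hN⟩ := exists_depth_zero_of_ext_vanish (ModuleCat.of A A) t A ht 0
    (fun i hi => by
      obtain ⟨i', rfl⟩ : ∃ i', i = i' + 1 := ⟨i - 1, by omega⟩
      exact ⟨fun a b => (Ext.eq_zero_of_projective a).trans (Ext.eq_zero_of_projective b).symm⟩)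
  obtain ⟨f, hf⟩ := exists_injective_residueField_of_depth_eq_zero N hN0
  have hS := sesOfInjective_shortExact f hf
  apply hk
  refine ⟨fun a b => ?_⟩
  have key : ∀ c : Abelian.Ext (ModuleCat.of A (A ⧸ maximalIdeal A)) (ModuleCat.of A A) r,
      c = 0 := by
    intro c
    have h3 : Subsingleton (Abelian.Ext (sesOfInjective f).X₃ (ModuleCat.of A A) (r + 1)) :=
      HasInjectiveDimensionLT.subsingleton _ (r + 1) (r + 1) le_rfl _
    obtain ⟨c₂, hc₂⟩ := Ext.contravariant_sequence_exact₁ hS (ModuleCat.of A A) c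
      (add_comm 1 r) (Subsingleton.elim _ _)
    have h2 : Subsingleton (Abelian.Ext (sesOfInjective f).X₂ (ModuleCat.of A A) r) :=
      hN r (by omega)
    rw [← hc₂, Subsingleton.elim c₂ 0, Ext.comp_zero]
    rfl
  exact (key a).trans (key b).symm


/-- over a ring with `injdim A ≤ depth A`, every prime containing a maximal regular sequence is
maximal; hence `dim A ≤ depth A`. -/
theorem supportDim_le_of_hasInjectiveDimensionLT (r t : ℕ)
    (hP : HasInjectiveDimensionLT (ModuleCat.of A A) (r + 1)) (hrt : r ≤ t)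
    (ht : LocCoh.depth A A = t) : Module.supportDim A A ≤ ((t : ℕ∞) : WithBot ℕ∞) := by
  obtain ⟨rs, hlen, hmem, hreg⟩ := (le_depth_iff A A t).mp (by rw [ht])
  have h4 := Module.supportDim_add_length_eq_supportDim_of_isRegular rs hreg
  have hPt : HasInjectiveDimensionLT (ModuleCat.of A A) (t + 1) :=
    hasInjectiveDimensionLT_of_ge (ModuleCat.of A A) (r + 1) (t + 1) (by omega)
  have key : ∀ q ∈ Module.support A (A ⧸ Ideal.ofList rs • (⊤ : Submodule A A)),
      q.asIdeal = maximalIdeal A := by
    intro q hq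
    by_contra hne
    rw [Module.mem_support_iff_of_finite] at hq
    have hsub : ∀ x ∈ rs, x ∈ q.asIdeal := by
      intro x hx
      apply hq
      rw [Module.mem_annihilator]
      intro y
      obtain ⟨b, rfl⟩ := Submodule.Quotient.mk_surjective _ y
      rw [← Submodule.Quotient.mk_smul, Submodule.Quotient.mk_eq_zero]
      exact Submodule.smul_mem_smul (Ideal.subset_span hx) Submodule.mem_top
    have hq2 := q.2
    have hqle : q.asIdeal ≤ maximalIdeal A := IsLocalRing.le_maximalIdeal hq2.ne_top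
    have hqA : q.asIdeal • (⊤ : Submodule A A) ≠ ⊤ := by
      intro h
      have h1 : maximalIdeal A • (⊤ : Submodule A A) = ⊤ :=
        top_le_iff.mp (h.symm.le.trans (Submodule.smul_mono_left hqle))
      exact maximalIdeal_smul_top_ne_top A A h1
    have h1 : ((t : ℕ) : ℕ∞) ≤ LocCoh.idealDepth q.asIdeal A := by
      rw [← hlen]
      exact length_le_idealDepth q.asIdeal A rs hreg.toIsWeaklyRegular hsub
    have h2 : ((t + 1 : ℕ) : ℕ∞) ≤ LocCoh.idealDepth q.asIdeal A := by
      rw [le_idealDepth_iff_ext q.asIdeal A hqA (t + 1)]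
      intro i hi
      rcases Nat.lt_succ_iff_lt_or_eq.mp hi with hi' | rfl
      · exact (le_idealDepth_iff_ext q.asIdeal A hqA t).mp h1 i hi'
      · exact ext_quotient_prime_subsingleton_of_hasInjectiveDimensionLT A i hPt q.asIdeal hne
    have h3 : LocCoh.idealDepth q.asIdeal A ≤ LocCoh.depth A A := idealDepth_mono hqle A
    rw [ht] at h3
    have h5 := h2.trans h3
    have h6 : t + 1 ≤ t := by exact_mod_cast h5
    omega
  have h5 : Module.supportDim A (A ⧸ Ideal.ofList rs • (⊤ : Submodule A A)) ≤ 0 := by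
    unfold Module.supportDim
    have : Subsingleton (Module.support A (A ⧸ Ideal.ofList rs • (⊤ : Submodule A A))) := by
      refine ⟨fun ⟨q₁, hq₁⟩ ⟨q₂, hq₂⟩ => ?_⟩
      apply Subtype.ext
      apply PrimeSpectrum.ext
      show q₁.asIdeal = q₂.asIdeal
      rw [key q₁ hq₁, key q₂ hq₂]
    exact Order.krullDim_nonpos_of_subsingleton
  rw [← h4, hlen]
  calc Module.supportDim A (A ⧸ Ideal.ofList rs • (⊤ : Submodule A A)) + ((t : ℕ) : WithBot ℕ∞)
      ≤ 0 + ((t : ℕ) : WithBot ℕ∞) := add_le_add h5 le_rfl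
    _ = ((t : ℕ∞) : WithBot ℕ∞) := by rw [zero_add]; rfl

/-- **Gorenstein local rings are Cohen–Macaulay** (and `injdim A = depth A = dim A`). -/
theorem gorenstein_data (h : ∃ n : ℕ, HasInjectiveDimensionLT (ModuleCat.of A A) n) :
    ∃ t : ℕ, LocCoh.depth A A = t ∧ Module.supportDim A A = ((t : ℕ∞) : WithBot ℕ∞) ∧
      HasInjectiveDimensionLT (ModuleCat.of A A) (t + 1) := by
  obtain ⟨r, hP, hk⟩ := exists_injdim_exact A h
  obtain ⟨t, ht⟩ : ∃ t : ℕ, LocCoh.depth A A = t :=
    ⟨(LocCoh.depth A A).toNat, (ENat.natCast_toNat (depth_ne_top A A)).symm⟩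
  have hrt := injdim_le_depth r hP hk t ht
  refine ⟨t, ht, le_antisymm (supportDim_le_of_hasInjectiveDimensionLT r t hP hrt ht) ?_,
    hasInjectiveDimensionLT_of_ge (ModuleCat.of A A) (r + 1) (t + 1) (by omega)⟩
  have := depth_le_supportDim A A
  rwa [ht] at this

end bass2

end Groth.Agent.Lib.Helper60
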