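import Groth.Agent.Lib.Helper60.ExtFG
import Groth.Agent.Lib.Helper29.DepthRees

set_option autoImplicit false
universe u
open CategoryTheory CategoryTheory.Limits Opposite Abelian

namespace Groth.Agent.Lib.Helper60

variable {R : Type u} [CommRing R]

section general

/-- the connecting map `Ext^i(X₁, M) → Ext^{i+1}(X₃, M)` of a short exact sequence, linear. -/
noncomputable def extConn {S : ShortComplex (ModuleCat.{u} R)} (hS : S.ShortExact)
    (M : ModuleCat.{u} R) (i : ℕ) : Abelian.Ext S.X₁ M i →ₗ[R] Abelian.Ext S.X₃ M (i + 1) where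
  toFun x := hS.extClass.comp x (add_comm 1 i)
  map_add' x y := by rw [Ext.comp_add]
  map_smul' r x := by
    rw [Ext.comp_smul]
    rfl

lemma extConn_apply {S : ShortComplex (ModuleCat.{u} R)} (hS : S.ShortExact)
    (M : ModuleCat.{u} R) (i : ℕ) (x : Abelian.Ext S.X₁ M i) :
    extConn hS M i x = hS.extClass.comp x (add_comm 1 i) := rfl

lemma extConn_surjective {S : ShortComplex (ModuleCat.{u} R)} (hS : S.ShortExact)
    (M : ModuleCat.{u} R) (i : ℕ) (h : Subsingleton (Abelian.Ext S.X₂ M (i + 1))) :
    Function.Surjective (extConn hS M i) := by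
  intro y
  exact Ext.contravariant_sequence_exact₃ hS M y (Subsingleton.elim _ _) (add_comm 1 i)

/-- `Ext^i(N, M)` is a finite module for finite `N`, `M` over a Noetherian ring. -/
theorem ext_finite [IsNoetherianRing R] (i : ℕ) :
    ∀ (N : Type u) [AddCommGroup N] [Module R N] [Module.Finite R N]
      (M : Type u) [AddCommGroup M] [Module R M] [Module.Finite R M],
      Module.Finite R (Abelian.Ext (ModuleCat.of R N) (ModuleCat.of R M) i) := by
  induction i with
  | zero =>
    intro N _ _ _ M _ _ _
    have e : Abelian.Ext (ModuleCat.of R N) (ModuleCat.of R M) 0 ≃ₗ[R] (N →ₗ[R] M) :=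
      (Ext.linearEquiv₀ (R := R)).trans (ModuleCat.homLinearEquiv (S := R))
    exact Module.Finite.equiv e.symm
  | succ i ih =>
    intro N _ _ _ M _ _ _
    obtain ⟨n, f, hf⟩ := Module.Finite.exists_fin' R N
    have hS := sesOfSurjective_shortExact f hf
    have hproj : Projective (sesOfSurjective f).X₂ :=
      (IsProjective.iff_projective (R := R) (Fin n → R)).mp inferInstance
    have h0 : Subsingleton (Abelian.Ext (sesOfSurjective f).X₂ (ModuleCat.of R M) (i + 1)) :=
      ⟨fun a b => (Ext.eq_zero_of_projective a).trans (Ext.eq_zero_of_projective b).symm⟩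
    have hfin : Module.Finite R (Abelian.Ext (sesOfSurjective f).X₁ (ModuleCat.of R M) i) :=
      ih (LinearMap.ker f) M
    exact Module.Finite.of_surjective (extConn hS (ModuleCat.of R M) i)
      (extConn_surjective hS _ i h0)

end general

section propagate

open Groth.Agent.Lib.Helper29

lemma ext_subsingleton_of_subsingleton_left (L : Type u) [AddCommGroup L] [Module R L]
    [Subsingleton L] (M : ModuleCat.{u} R) (j : ℕ) :
    Subsingleton (Abelian.Ext (ModuleCat.of R L) M j) := by
  refine ⟨fun a b => ?_⟩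
  have key : ∀ c : Abelian.Ext (ModuleCat.of R L) M j, c = 0 := by
    intro c
    have h1 : (𝟙 (ModuleCat.of R L)) = 0 := by
      apply ModuleCat.hom_ext
      apply LinearMap.ext
      intro l
      exact Subsingleton.elim _ _
    rw [← Ext.mk₀_id_comp c, h1, Ext.mk₀_zero, Ext.zero_comp]
  rw [key a, key b]

/-- middle term of a short exact sequence (first variable). -/
lemma ext_subsingleton_middle_left {S : ShortComplex (ModuleCat.{u} R)} (hS : S.ShortExact)
    (M : ModuleCat.{u} R) (j : ℕ) (h1 : Subsingleton (Abelian.Ext S.X₁ M j))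
    (h3 : Subsingleton (Abelian.Ext S.X₃ M j)) : Subsingleton (Abelian.Ext S.X₂ M j) := by
  refine ⟨fun a b => ?_⟩
  have key : ∀ c : Abelian.Ext S.X₂ M j, c = 0 := by
    intro c
    obtain ⟨c₃, rfl⟩ := Ext.contravariant_sequence_exact₂ hS M c (Subsingleton.elim _ _)
    rw [Subsingleton.elim c₃ 0, Ext.comp_zero]
  rw [key a, key b]

/-- **dévissage**: if `Ext^j(A/q, M) = 0` for all primes `q ⊇ Q` then `Ext^j(L, M) = 0` for all
finite modules `L` killed by `Q`. -/
theorem ext_subsingleton_of_forall_prime [IsNoetherianRing R] (Q : Ideal R) (M : ModuleCat.{u} R)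
    (j : ℕ)
    (h : ∀ q : PrimeSpectrum R, Q ≤ q.asIdeal →
      Subsingleton (Abelian.Ext (ModuleCat.of R (R ⧸ q.asIdeal)) M j))
    (L : Type u) [AddCommGroup L] [Module R L] [hL : Module.Finite R L]
    (hQL : ∀ a ∈ Q, ∀ l : L, a • l = 0) :
    Subsingleton (Abelian.Ext (ModuleCat.of R L) M j) := by
  revert hQL
  refine IsNoetherianRing.induction_on_isQuotientEquivQuotientPrime R hL
    (motive := fun N _ _ _ => (∀ a ∈ Q, ∀ l : N, a • l = 0) →
      Subsingleton (Abelian.Ext (ModuleCat.of R N) M j)) ?_ ?_ ?_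
  · intro N _ _ _ _ _
    exact ext_subsingleton_of_subsingleton_left N M j
  · intro N _ _ _ q e hQ
    have hQq : Q ≤ q.asIdeal := by
      intro a ha
      have h1 := hQ a ha (e.symm 1)
      rw [← map_smul, LinearEquiv.map_eq_zero_iff] at h1
      have h2 : (Ideal.Quotient.mk q.asIdeal) a = 0 := by
        rw [← h1, Algebra.smul_def, mul_one]
        rfl
      exact Ideal.Quotient.eq_zero_iff_mem.mp h2
    exact ext_subsingleton_of_iso_left M j e.symm.toModuleIso (h q hQq)
  · intro N₁ _ _ _ N₂ _ _ _ N₃ _ _ _ f g hf hg hfg ih₁ ih₃ hQ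
    have hS : (ShortComplex.mk (ModuleCat.ofHom f) (ModuleCat.ofHom g) (by
        ext x
        exact hfg.apply_apply_eq_zero x)).ShortExact :=
      ModuleCat.shortComplex_shortExact _ hfg hf hg
    refine ext_subsingleton_middle_left hS M j (ih₁ ?_) (ih₃ ?_)
    · intro a ha l
      apply hf
      rw [map_smul, hQ a ha, map_zero]
    · intro a ha l
      obtain ⟨l₂, rfl⟩ := hg l
      rw [← map_smul, hQ a ha, map_zero]

end propagate

end Groth.Agent.Lib.Helper60
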