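import Groth.Agent.Lib.Helper60.BD
import Groth.Agent.S5790

set_option autoImplicit false
universe u
open CategoryTheory CategoryTheory.Limits Opposite Abelian IsLocalRing
open Groth.Agent.Lib.Helper29

namespace Groth.Agent.Lib.Helper60

section bass4

variable {A : Type u} [CommRing A] [IsLocalRing A] [IsNoetherianRing A]

/-- `Ext^t(k, M) ≠ 0` for `t = depth M`. -/
theorem not_subsingleton_ext_residueField_depth (M : Type u) [AddCommGroup M] [Module A M]
    [Module.Finite A M] [Nontrivial M] (t : ℕ) (ht : LocCoh.depth A M = t) :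
    ¬ Subsingleton (Abelian.Ext (ModuleCat.of A (A ⧸ maximalIdeal A)) (ModuleCat.of A M) t) := by
  intro hk
  have hmA := maximalIdeal_smul_top_ne_top A M
  have h3 : LocCoh.idealDepth (maximalIdeal A) M = t := ht
  have h1 : ((t : ℕ) : ℕ∞) ≤ LocCoh.idealDepth (maximalIdeal A) M := by rw [h3]
  have h2 : ((t + 1 : ℕ) : ℕ∞) ≤ LocCoh.idealDepth (maximalIdeal A) M := by
    rw [le_idealDepth_iff_ext (maximalIdeal A) M hmA (t + 1)]
    intro i hi
    rcases Nat.lt_succ_iff_lt_or_eq.mp hi with hi' | rfl
    · exact (le_idealDepth_iff_ext (maximalIdeal A) M hmA t).mp h1 i hi'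
    · exact hk
  rw [h3] at h2
  have h6 : t + 1 ≤ t := by exact_mod_cast h2
  omega

/-- a Noetherian local ring with `injdim A ≤ n` has `dim A ≤ n`, and `injdim A ≤ dim A`. -/
theorem ringKrullDim_le_of_hasInjectiveDimensionLT (n : ℕ)
    (hP : HasInjectiveDimensionLT (ModuleCat.of A A) (n + 1)) :
    ∃ t : ℕ, t ≤ n ∧ ringKrullDim A = t ∧ HasInjectiveDimensionLT (ModuleCat.of A A) (t + 1) := by
  obtain ⟨t, ht, hdim, hPt⟩ := gorenstein_data (A := A) ⟨n + 1, hP⟩
  rw [Module.supportDim_self_eq_ringKrullDim] at hdim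
  refine ⟨t, ?_, hdim, hPt⟩
  by_contra hlt
  push Not at hlt
  exact not_subsingleton_ext_residueField_depth A t ht
    (HasInjectiveDimensionLT.subsingleton _ (n + 1) t (by omega) _)

end bass4

section global

variable (A : Type u) [CommRing A] [IsNoetherianRing A]

/-- the localized module of `A` at `p` is `A_p`. -/
noncomputable def localizedModuleSelfIso (p : Ideal A) [p.IsPrime] :
    ModuleCat.of (Localization.AtPrime p) (LocalizedModule p.primeCompl A) ≅
      ModuleCat.of (Localization.AtPrime p) (Localization.AtPrime p) :=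
  (IsLocalizedModule.linearEquiv p.primeCompl
    (LocalizedModule.mkLinearMap p.primeCompl A)
    (Algebra.linearMap A (Localization.AtPrime p))).extendScalarsOfIsLocalization p.primeCompl
      (Localization.AtPrime p) |>.toModuleIso


omit [IsNoetherianRing A] in
theorem hasInjectiveDimensionLT_localization_self_iff (p : Ideal A) [p.IsPrime] (n : ℕ) :
    HasInjectiveDimensionLT
      (ModuleCat.of (Localization.AtPrime p) (LocalizedModule p.primeCompl A)) n ↔
    HasInjectiveDimensionLT
      (ModuleCat.of (Localization.AtPrime p) (Localization.AtPrime p)) n :=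
  ⟨fun _ => hasInjectiveDimensionLT_of_iso (localizedModuleSelfIso A p) n,
    fun _ => hasInjectiveDimensionLT_of_iso (localizedModuleSelfIso A p).symm n⟩

/-- a Noetherian ring has finite self-injective dimension iff all its localizations are Gorenstein
and its Krull dimension is finite. -/
theorem exists_hasInjectiveDimensionLT_self_iff :
    (∃ n : ℕ, HasInjectiveDimensionLT (ModuleCat.of A A) n) ↔
      (LocCoh.IsGorensteinRing A ∧ ringKrullDim A < ⊤) := by
  constructor
  · rintro ⟨n, hP⟩
    have hP1 : HasInjectiveDimensionLT (ModuleCat.of A A) (n + 1) :=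
      hasInjectiveDimensionLT_of_ge (ModuleCat.of A A) n (n + 1) (by omega)
    have hloc := (Groth.Agent.S5790.result A A n).mp hP1
    have hloc' : ∀ (p : Ideal A) [p.IsPrime], HasInjectiveDimensionLT
        (ModuleCat.of (Localization.AtPrime p) (Localization.AtPrime p)) (n + 1) := by
      intro p hp
      exact (hasInjectiveDimensionLT_localization_self_iff A p (n + 1)).mp (hloc ⟨p, hp⟩)
    refine ⟨{ isGorensteinLocalRing_localization := fun p hp =>
      { exists_hasInjectiveDimensionLT := ⟨n + 1, hloc' p⟩ } }, ?_⟩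
    have hle : ringKrullDim A ≤ ((n : ℕ∞) : WithBot ℕ∞) := by
      rw [ringKrullDim_le_iff_height_le]
      intro p hp
      obtain ⟨t, htn, ht, -⟩ := ringKrullDim_le_of_hasInjectiveDimensionLT
        (A := Localization.AtPrime p) n (hloc' p)
      rw [IsLocalization.AtPrime.ringKrullDim_eq_height p (Localization.AtPrime p)] at ht
      rw [ht]
      exact_mod_cast htn
    exact lt_of_le_of_lt hle (WithBot.coe_lt_coe.mpr (ENat.natCast_lt_top n))
  · rintro ⟨hG, hdim⟩
    obtain ⟨d, hd⟩ : ∃ d : ℕ, ringKrullDim A ≤ ((d : ℕ∞) : WithBot ℕ∞) := by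
      rcases hb : ringKrullDim A with _ | e
      · exact ⟨0, bot_le⟩
      · have h3 : e ≠ ⊤ := by
          rintro rfl
          rw [hb] at hdim
          exact (lt_irrefl _ hdim)
        refine ⟨e.toNat, ?_⟩
        have h4 : ((e.toNat : ℕ) : ℕ∞) = e := ENat.natCast_toNat h3
        rw [h4]
        exact le_rfl
    refine ⟨d + 1, (Groth.Agent.S5790.result A A d).mpr ?_⟩
    intro p
    have hp := p.2
    rw [hasInjectiveDimensionLT_localization_self_iff A p.asIdeal (d + 1)]
    have hGp := hG.isGorensteinLocalRing_localization p.asIdeal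
    obtain ⟨n, hn⟩ := hGp.exists_hasInjectiveDimensionLT
    have hn1 : HasInjectiveDimensionLT
        (ModuleCat.of (Localization.AtPrime p.asIdeal) (Localization.AtPrime p.asIdeal)) (n + 1) :=
      hasInjectiveDimensionLT_of_ge _ n (n + 1) (by omega)
    obtain ⟨t, -, ht, hPt⟩ := ringKrullDim_le_of_hasInjectiveDimensionLT
      (A := Localization.AtPrime p.asIdeal) n hn1
    rw [IsLocalization.AtPrime.ringKrullDim_eq_height p.asIdeal (Localization.AtPrime p.asIdeal)]
      at ht
    have h1 : (p.asIdeal.height : WithBot ℕ∞) ≤ ringKrullDim A :=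
      Ideal.height_le_ringKrullDim_of_ne_top hp.ne_top
    rw [ht] at h1
    have h2 : t ≤ d := by exact_mod_cast h1.trans hd
    exact hasInjectiveDimensionLT_of_ge _ (t + 1) (d + 1) (by omega)

end global

end Groth.Agent.Lib.Helper60
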