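import Groth.Agent.Lib.Helper60.BA
import Groth.Agent.Lib.Helper60.LocalCohTorsion
import Groth.Agent.S5788

set_option autoImplicit false
universe u
open CategoryTheory CategoryTheory.Limits Opposite Abelian IsLocalRing

namespace Groth.Agent.Lib.Helper60

section nak

variable {A : Type u} [CommRing A] [IsLocalRing A] [IsNoetherianRing A]

/-- **Nakayama step**: for a prime `p` and `x ∈ m ∖ p`, if `Ext^{i+1}(L, M) = 0` for all finite `L`
killed by `p + (x)` then `Ext^i(A/p, M) = 0`. -/
theorem ext_quotient_prime_subsingleton_of_succ (p : Ideal A) [hp : p.IsPrime] (x : A)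
    (hx : x ∈ maximalIdeal A) (hxp : x ∉ p) (M : Type u) [AddCommGroup M] [Module A M]
    [Module.Finite A M] (i : ℕ)
    (h : ∀ (L : Type u) [AddCommGroup L] [Module A L] [Module.Finite A L],
      (∀ a ∈ p ⊔ Ideal.span {x}, ∀ l : L, a • l = 0) →
      Subsingleton (Abelian.Ext (ModuleCat.of A L) (ModuleCat.of A M) (i + 1))) :
    Subsingleton (Abelian.Ext (ModuleCat.of A (A ⧸ p)) (ModuleCat.of A M) i) := by
  let f : (A ⧸ p) →ₗ[A] (A ⧸ p) := LinearMap.lsmul A (A ⧸ p) x
  have hf : Function.Injective f := by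
    rw [injective_iff_map_eq_zero]
    intro y hy
    obtain ⟨a, rfl⟩ := Ideal.Quotient.mk_surjective y
    have h1 : (Ideal.Quotient.mk p) (x * a) = 0 := by
      rw [map_mul]
      have : f (Ideal.Quotient.mk p a) = x • (Ideal.Quotient.mk p a) := rfl
      rw [this, Algebra.smul_def] at hy
      exact hy
    rw [Ideal.Quotient.eq_zero_iff_mem] at h1 ⊢
    exact (hp.mem_or_mem h1).resolve_left hxp
  have hS := sesOfInjective_shortExact f hf
  have hkill : ∀ a ∈ p ⊔ Ideal.span {x}, ∀ l : (A ⧸ p) ⧸ LinearMap.range f, a • l = 0 := by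
    intro a ha l
    obtain ⟨y, rfl⟩ := Submodule.mkQ_surjective _ l
    obtain ⟨a₁, ha₁, a₂, ha₂, rfl⟩ := Submodule.mem_sup.mp ha
    obtain ⟨r, rfl⟩ := Ideal.mem_span_singleton'.mp ha₂
    rw [← map_smul, Submodule.mkQ_apply, Submodule.Quotient.mk_eq_zero]
    obtain ⟨b, rfl⟩ := Ideal.Quotient.mk_surjective y
    refine ⟨r • Ideal.Quotient.mk p b, ?_⟩
    show x • (r • Ideal.Quotient.mk p b) = (a₁ + r * x) • Ideal.Quotient.mk p b
    rw [add_smul, mul_smul, smul_comm x r]
    have : a₁ • (Ideal.Quotient.mk p) b = 0 := by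
      rw [Algebra.smul_def]
      have : (algebraMap A (A ⧸ p)) a₁ = 0 := Ideal.Quotient.eq_zero_iff_mem.mpr ha₁
      rw [this, zero_mul]
    rw [this, zero_add]
  have h3 : Subsingleton (Abelian.Ext (sesOfInjective f).X₃ (ModuleCat.of A M) (i + 1)) :=
    h ((A ⧸ p) ⧸ LinearMap.range f) hkill
  have hfin : Module.Finite A (Abelian.Ext (ModuleCat.of A (A ⧸ p)) (ModuleCat.of A M) i) :=
    ext_finite i (A ⧸ p) M
  have htop : (⊤ : Submodule A (Abelian.Ext (ModuleCat.of A (A ⧸ p)) (ModuleCat.of A M) i)) ≤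
      maximalIdeal A • ⊤ := by
    intro e _
    obtain ⟨e₂, he₂⟩ := Ext.contravariant_sequence_exact₁ hS (ModuleCat.of A M) e
      (add_comm 1 i) (Subsingleton.elim _ _)
    have h4 : (sesOfInjective f).f = x • 𝟙 (ModuleCat.of A (A ⧸ p)) := by
      apply ModuleCat.hom_ext
      apply LinearMap.ext
      intro y
      rfl
    let e₂' : Abelian.Ext (ModuleCat.of A (A ⧸ p)) (ModuleCat.of A M) i := e₂
    have he₂' : (Ext.mk₀ (x • 𝟙 (ModuleCat.of A (A ⧸ p)))).comp e₂' (zero_add i) = e := by
      rw [← h4]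
      exact he₂
    have h5 : x • e₂' = e := by
      rw [← he₂', Ext.mk₀_smul, Ext.smul_comp, Ext.mk₀_id_comp]
    rw [← h5]
    exact Submodule.smul_mem_smul hx Submodule.mem_top
  have hbot := Submodule.eq_bot_of_le_smul_of_le_jacobson_bot (maximalIdeal A) ⊤
    Module.Finite.fg_top htop (IsLocalRing.maximalIdeal_le_jacobson ⊥)
  refine ⟨fun a b => ?_⟩
  have key : ∀ c : Abelian.Ext (ModuleCat.of A (A ⧸ p)) (ModuleCat.of A M) i, c = 0 := by
    intro c
    have : c ∈ (⊤ : Submodule A _) := Submodule.mem_top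
    rw [hbot] at this
    exact this
  rw [key a, key b]


omit [IsNoetherianRing A] in
/-- transport along `I = maximalIdeal A`. -/
lemma ext_quotient_subsingleton_of_eq_maximalIdeal (M : ModuleCat.{u} A) (i : ℕ)
    (h : Subsingleton (Abelian.Ext (ModuleCat.of A (ResidueField A)) M i)) (I : Ideal A)
    (hI : I = maximalIdeal A) : Subsingleton (Abelian.Ext (ModuleCat.of A (A ⧸ I)) M i) := by
  subst hI
  exact h

/-- **coheight induction**: if `Ext^i(k, M) = 0` for `i ≥ N` then `Ext^i(A/p, M) = 0` for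
`i ≥ N + coheight p`. -/
theorem ext_quotient_prime_subsingleton_of_residueField (M : Type u) [AddCommGroup M] [Module A M]
    [Module.Finite A M] (N : ℕ)
    (hN : ∀ i : ℕ, N ≤ i →
      Subsingleton (Abelian.Ext (ModuleCat.of A (ResidueField A)) (ModuleCat.of A M) i)) :
    ∀ (c : ℕ) (p : PrimeSpectrum A), Order.coheight p ≤ (c : ℕ∞) → ∀ i : ℕ, N + c ≤ i →
      Subsingleton (Abelian.Ext (ModuleCat.of A (A ⧸ p.asIdeal)) (ModuleCat.of A M) i) := by
  intro c
  induction c with
  | zero =>
    intro p hp i hi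
    have h0 : Order.coheight p = 0 := le_antisymm (by simpa using hp) bot_le
    have hmax : IsMax p := Order.coheight_eq_zero.mp h0
    have hpm : p.asIdeal = maximalIdeal A :=
      IsLocalRing.eq_maximalIdeal ((PrimeSpectrum.isMax_iff).mp hmax)
    exact ext_quotient_subsingleton_of_eq_maximalIdeal _ i (hN i (by omega)) _ hpm
  | succ c ih =>
    intro p hp i hi
    by_cases hpm : p.asIdeal = maximalIdeal A
    · exact ext_quotient_subsingleton_of_eq_maximalIdeal _ i (hN i (by omega)) _ hpm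
    · have hle : p.asIdeal ≤ maximalIdeal A := IsLocalRing.le_maximalIdeal p.2.ne_top
      have hnle : ¬ maximalIdeal A ≤ p.asIdeal := fun h => hpm (le_antisymm hle h)
      obtain ⟨x, hx, hxp⟩ := SetLike.not_le_iff_exists.mp hnle
      have := p.2
      refine ext_quotient_prime_subsingleton_of_succ p.asIdeal x hx hxp M i ?_
      intro L _ _ _ hL
      refine ext_subsingleton_of_forall_prime (p.asIdeal ⊔ Ideal.span {x}) (ModuleCat.of A M)
        (i + 1) ?_ L hL
      intro q hq
      have hpq : p < q := by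
        refine lt_of_le_of_ne ?_ ?_
        · exact le_sup_left.trans hq
        · rintro rfl
          exact hxp (hq (Ideal.mem_sup_right (Ideal.subset_span rfl)))
      have hcq : Order.coheight q < ((c + 1 : ℕ) : ℕ∞) := Order.coheight_le_coe_iff.mp hp q hpq
      have hcq' : Order.coheight q ≤ (c : ℕ∞) := by
        rw [Nat.cast_add, Nat.cast_one] at hcq
        exact Order.le_of_lt_add_one hcq
      exact ih q hcq' (i + 1) (by omega)

/-- **Bass**: if `Ext^i(k, M) = 0` for `i ≫ 0` then `M` has finite injective dimension. -/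
theorem exists_hasInjectiveDimensionLT_of_residueField (M : Type u) [AddCommGroup M] [Module A M]
    [Module.Finite A M] (N : ℕ)
    (hN : ∀ i : ℕ, N ≤ i →
      Subsingleton (Abelian.Ext (ModuleCat.of A (ResidueField A)) (ModuleCat.of A M) i)) :
    ∃ n : ℕ, HasInjectiveDimensionLT (ModuleCat.of A M) n := by
  obtain ⟨d, hd⟩ : ∃ d : ℕ, ringKrullDim A = d := by
    have h1 : ringKrullDim A ≠ ⊤ := ringKrullDim_ne_top
    have h2 : ringKrullDim A ≠ ⊥ := ringKrullDim_ne_bot
    obtain ⟨e, he⟩ := WithBot.ne_bot_iff_exists.mp h2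
    have h3 : e ≠ ⊤ := by
      rintro rfl
      exact h1 he.symm
    refine ⟨e.toNat, ?_⟩
    rw [← he]
    have h4 : ((e.toNat : ℕ) : ℕ∞) = e := ENat.natCast_toNat h3
    exact (congrArg (fun z : ℕ∞ => (z : WithBot ℕ∞)) h4).symm
  refine ⟨N + d + 1, (Groth.Agent.S5788.result A M (N + d)).mpr ?_⟩
  intro I
  refine ext_subsingleton_of_forall_prime ⊥ (ModuleCat.of A M) (N + d + 1) ?_ (A ⧸ I) ?_
  · intro q _
    refine ext_quotient_prime_subsingleton_of_residueField M N hN d q ?_ (N + d + 1) (by omega)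
    have h1 : ((Order.coheight q : ℕ∞) : WithBot ℕ∞) ≤ ringKrullDim A :=
      Order.coheight_le_krullDim q
    rw [hd] at h1
    exact_mod_cast h1
  · intro a ha l
    rw [Ideal.mem_bot] at ha
    rw [ha, zero_smul]

end nak

end Groth.Agent.Lib.Helper60
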