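import Groth.Agent.Lib.Helper60.LocalCoh
import Mathlib.Algebra.Homology.DerivedCategory.Ext.ExactSequences

/-!
# Local cohomology: maps out of `H^i_J(M)`, connecting homomorphisms and the long exact sequence
(helper60)
-/

set_option autoImplicit false
universe u
open CategoryTheory CategoryTheory.Limits Opposite Abelian

namespace Groth.Agent.Lib.Helper60

variable {R : Type u} [CommRing R]

section desc

variable (J : Ideal R) (i : ℕ) (M : ModuleCat.{u} R) {T : Type*} [AddCommGroup T]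
  (φ : ∀ n, Abelian.Ext (quotPow J n) M i →+ T)
  (hφ : ∀ (n k : ℕ) (h : n ≤ k) (x : Abelian.Ext (quotPow J n) M i), φ k (lcRes J h x) = φ n x)

/-- underlying function of `lcDesc`. -/
noncomputable def lcDescFun (y : (localCohomology J i).obj M) : T :=
  φ (lcMk_surj J i M y).choose (lcMk_surj J i M y).choose_spec.choose

include hφ in
lemma lcDescFun_lcMk (n : ℕ) (x : Abelian.Ext (quotPow J n) M i) :
    lcDescFun J i M φ (lcMk J i M n x) = φ n x := by
  unfold lcDescFun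
  have hspec := (lcMk_surj J i M (lcMk J i M n x)).choose_spec.choose_spec
  rw [lcMk_eq_iff] at hspec
  obtain ⟨k, hn, hm, h⟩ := hspec
  rw [← hφ _ k hn, ← hφ n k hm, h]

/-- A compatible family of additive maps out of `Ext^i(R/J^n, M)` induces an additive map out of
`H^i_J(M)`. -/
noncomputable def lcDesc : (localCohomology J i).obj M →+ T where
  toFun := lcDescFun J i M φ
  map_zero' := by
    rw [← lcMk_zero J i M 0, lcDescFun_lcMk J i M φ hφ, map_zero]
  map_add' y y' := by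
    obtain ⟨n, x, rfl⟩ := lcMk_surj J i M y
    obtain ⟨m, x', rfl⟩ := lcMk_surj J i M y'
    have hn : n ≤ max n m := le_max_left _ _
    have hm : m ≤ max n m := le_max_right _ _
    rw [← lcMk_res J i M hn x, ← lcMk_res J i M hm x', ← lcMk_add, lcDescFun_lcMk J i M φ hφ,
      lcDescFun_lcMk J i M φ hφ, lcDescFun_lcMk J i M φ hφ, map_add]

@[simp]
lemma lcDesc_lcMk (n : ℕ) (x : Abelian.Ext (quotPow J n) M i) :
    lcDesc J i M φ hφ (lcMk J i M n x) = φ n x :=
  lcDescFun_lcMk J i M φ hφ n x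

end desc

section descLinear

variable (J : Ideal R) (i : ℕ) (M : ModuleCat.{u} R) {T : Type*} [AddCommGroup T] [Module R T]
  (φ : ∀ n, Abelian.Ext (quotPow J n) M i →ₗ[R] T)
  (hφ : ∀ (n k : ℕ) (h : n ≤ k) (x : Abelian.Ext (quotPow J n) M i), φ k (lcRes J h x) = φ n x)

include hφ in
lemma lcDescₗ_aux (n k : ℕ) (h : n ≤ k) (x : Abelian.Ext (quotPow J n) M i) :
    (φ k).toAddMonoidHom (lcRes J h x) = (φ n).toAddMonoidHom x := hφ n k h x

/-- linear version of `lcDesc`. -/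
noncomputable def lcDescₗ : (localCohomology J i).obj M →ₗ[R] T where
  toFun := lcDesc J i M (fun n => (φ n).toAddMonoidHom) (lcDescₗ_aux J i M φ hφ)
  map_add' := map_add _
  map_smul' r y := by
    obtain ⟨n, x, rfl⟩ := lcMk_surj J i M y
    rw [← lcMk_smul, lcDesc_lcMk, lcDesc_lcMk]
    simp

@[simp]
lemma lcDescₗ_lcMk (n : ℕ) (x : Abelian.Ext (quotPow J n) M i) :
    lcDescₗ J i M φ hφ (lcMk J i M n x) = φ n x :=
  lcDesc_lcMk J i M _ (lcDescₗ_aux J i M φ hφ) n x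

end descLinear

section postcomp

variable (J : Ideal R)

/-- `lcMk` as a linear map. -/
noncomputable def lcMkₗ (i : ℕ) (M : ModuleCat.{u} R) (n : ℕ) :
    Abelian.Ext (quotPow J n) M i →ₗ[R] (localCohomology J i).obj M where
  toFun := lcMk J i M n
  map_add' := lcMk_add J i M n
  map_smul' := lcMk_smul J i M n

@[simp] lemma lcMkₗ_apply (i : ℕ) (M : ModuleCat.{u} R) (n : ℕ) (x : Abelian.Ext (quotPow J n) M i) :
    lcMkₗ J i M n x = lcMk J i M n x := rfl

lemma lcRes_comp {i d j : ℕ} {M N : ModuleCat.{u} R} {n k : ℕ} (h : n ≤ k)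
    (x : Abelian.Ext (quotPow J n) M i) (e : Abelian.Ext M N d) (hj : i + d = j) :
    (lcRes J h x).comp e hj = lcRes J h (x.comp e hj) := by
  unfold lcRes
  rw [Ext.comp_assoc _ _ _ (zero_add i) hj (by omega)]

/-- Post-composition with a class `e ∈ Ext^d(M, N)` induces `H^i_J(M) → H^{i+d}_J(N)`. -/
noncomputable def lcPostcomp {M N : ModuleCat.{u} R} {d : ℕ} (e : Abelian.Ext M N d) (i j : ℕ)
    (h : i + d = j) : (localCohomology J i).obj M →ₗ[R] (localCohomology J j).obj N :=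
  lcDescₗ J i M (fun n => lcMkₗ J j N n ∘ₗ e.postcompOfLinear R (quotPow J n) h)
    (by
      intro n k hnk x
      simp only [LinearMap.coe_comp, Function.comp_apply, lcMkₗ_apply, LinearMap.flip_apply,
        Ext.bilinearCompOfLinear_apply_apply]
      rw [lcRes_comp, lcMk_res])

@[simp]
lemma lcPostcomp_lcMk {M N : ModuleCat.{u} R} {d : ℕ} (e : Abelian.Ext M N d) (i j : ℕ)
    (h : i + d = j) (n : ℕ) (x : Abelian.Ext (quotPow J n) M i) :
    lcPostcomp J e i j h (lcMk J i M n x) = lcMk J j N n (x.comp e h) := by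
  unfold lcPostcomp
  rw [lcDescₗ_lcMk]
  rfl

lemma lcMap_eq_lcPostcomp (i : ℕ) {M N : ModuleCat.{u} R} (φ : M ⟶ N) :
    ((localCohomology J i).map φ).hom = lcPostcomp J (Ext.mk₀ φ) i i (add_zero i) := by
  ext y
  obtain ⟨n, x, rfl⟩ := lcMk_surj J i M y
  rw [lcMap_lcMk, lcPostcomp_lcMk]

end postcomp

section LES

variable (J : Ideal R) {S : ShortComplex (ModuleCat.{u} R)} (hS : S.ShortExact)

/-- The connecting homomorphism `H^i_J(S.X₃) → H^{i+1}_J(S.X₁)` of a short exact sequence. -/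
noncomputable def lcDelta (i : ℕ) :
    (localCohomology J i).obj S.X₃ →ₗ[R] (localCohomology J (i + 1)).obj S.X₁ :=
  lcPostcomp J hS.extClass i (i + 1) rfl

@[simp]
lemma lcDelta_lcMk (i n : ℕ) (x : Abelian.Ext (quotPow J n) S.X₃ i) :
    lcDelta J hS i (lcMk J i S.X₃ n x) = lcMk J (i + 1) S.X₁ n (x.comp hS.extClass rfl) :=
  lcPostcomp_lcMk J hS.extClass i (i + 1) rfl n x

include hS in
/-- exactness at `H^i_J(S.X₂)`. -/
lemma lc_exact₂ (i : ℕ) (y : (localCohomology J i).obj S.X₂)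
    (hy : ((localCohomology J i).map S.g).hom y = 0) :
    ∃ y₁ : (localCohomology J i).obj S.X₁, ((localCohomology J i).map S.f).hom y₁ = y := by
  obtain ⟨n, x, rfl⟩ := lcMk_surj J i S.X₂ y
  rw [lcMap_lcMk, lcMk_eq_zero_iff] at hy
  obtain ⟨k, hk, h0⟩ := hy
  rw [← lcRes_comp] at h0
  obtain ⟨x₁, hx₁⟩ := Ext.covariant_sequence_exact₂ (quotPow J k) hS (lcRes J hk x) h0
  refine ⟨lcMk J i S.X₁ k x₁, ?_⟩
  rw [lcMap_lcMk, hx₁, lcMk_res]

/-- exactness at `H^i_J(S.X₃)`. -/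
lemma lc_exact₃ (i : ℕ) (y : (localCohomology J i).obj S.X₃)
    (hy : lcDelta J hS i y = 0) :
    ∃ y₂ : (localCohomology J i).obj S.X₂, ((localCohomology J i).map S.g).hom y₂ = y := by
  obtain ⟨n, x, rfl⟩ := lcMk_surj J i S.X₃ y
  rw [lcDelta_lcMk, lcMk_eq_zero_iff] at hy
  obtain ⟨k, hk, h0⟩ := hy
  rw [← lcRes_comp] at h0
  obtain ⟨x₂, hx₂⟩ := Ext.covariant_sequence_exact₃ (quotPow J k) hS (lcRes J hk x) rfl h0
  refine ⟨lcMk J i S.X₂ k x₂, ?_⟩
  rw [lcMap_lcMk, hx₂, lcMk_res]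

/-- exactness at `H^{i+1}_J(S.X₁)`. -/
lemma lc_exact₁ (i : ℕ) (y : (localCohomology J (i + 1)).obj S.X₁)
    (hy : ((localCohomology J (i + 1)).map S.f).hom y = 0) :
    ∃ y₃ : (localCohomology J i).obj S.X₃, lcDelta J hS i y₃ = y := by
  obtain ⟨n, x, rfl⟩ := lcMk_surj J (i + 1) S.X₁ y
  rw [lcMap_lcMk, lcMk_eq_zero_iff] at hy
  obtain ⟨k, hk, h0⟩ := hy
  rw [← lcRes_comp] at h0
  obtain ⟨x₃, hx₃⟩ := Ext.covariant_sequence_exact₁ (quotPow J k) hS (lcRes J hk x) h0 rfl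
  refine ⟨lcMk J i S.X₃ k x₃, ?_⟩
  rw [lcDelta_lcMk, hx₃, lcMk_res]

lemma lcDelta_comp_map (i : ℕ) (y : (localCohomology J i).obj S.X₂) :
    lcDelta J hS i (((localCohomology J i).map S.g).hom y) = 0 := by
  obtain ⟨n, x, rfl⟩ := lcMk_surj J i S.X₂ y
  rw [lcMap_lcMk, lcDelta_lcMk, Ext.comp_assoc _ _ _ (add_zero i) (zero_add 1) (by omega),
    hS.comp_extClass, Ext.comp_zero, lcMk_zero]

lemma lcMap_comp_delta (i : ℕ) (y : (localCohomology J i).obj S.X₃) :
    ((localCohomology J (i + 1)).map S.f).hom (lcDelta J hS i y) = 0 := by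
  obtain ⟨n, x, rfl⟩ := lcMk_surj J i S.X₃ y
  rw [lcDelta_lcMk, lcMap_lcMk, Ext.comp_assoc _ _ _ rfl (add_zero 1) (by omega),
    hS.extClass_comp, Ext.comp_zero, lcMk_zero]

omit hS in
lemma lcMap_comp_map (i : ℕ) (y : (localCohomology J i).obj S.X₁) :
    ((localCohomology J i).map S.g).hom (((localCohomology J i).map S.f).hom y) = 0 := by
  have h1 : (localCohomology J i).map S.f ≫ (localCohomology J i).map S.g = 0 := by
    rw [← Functor.map_comp, S.zero]
    ext y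
    obtain ⟨n, x, rfl⟩ := lcMk_surj J i S.X₁ y
    rw [lcMap_lcMk, Ext.mk₀_zero, Ext.comp_zero, lcMk_zero]
    rfl
  exact congrArg (fun φ => φ.hom y) h1

end LES

end Groth.Agent.Lib.Helper60
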