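import Groth.Agent.Lib.Helper60.IdealTransform3
import Mathlib.RingTheory.TensorProduct.Basic
import Mathlib.LinearAlgebra.TensorProduct.Tower

/-!
# Ideal transforms: independence of the base ring (helper60)

`D_{IR'}(M') ≅ D_I(M')` for a homomorphism of Noetherian rings `R → R'` and an `R'`-module `M'`.
-/

set_option autoImplicit false
universe u
open CategoryTheory CategoryTheory.Limits Opposite

namespace Groth.Agent.Lib.Helper60

open LocCoh TensorProduct

section

variable {R : Type u} [CommRing R] {R' : Type u} [CommRing R'] [Algebra R R'] (I : Ideal R)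

/-- `I^n → (IR')^n`, `a ↦ algebraMap a`. -/
def powMapIncl (n : ℕ) : ↥(I ^ n) →ₗ[R] ↥((I.map (algebraMap R R')) ^ n) where
  toFun a := ⟨algebraMap R R' a.1, by
    rw [← Ideal.map_pow]; exact Ideal.mem_map_of_mem _ a.2⟩
  map_add' a b := by
    apply Subtype.ext
    simp
  map_smul' r a := by
    apply Subtype.ext
    simp [Algebra.smul_def]

@[simp] lemma powMapIncl_coe (n : ℕ) (a : ↥(I ^ n)) :
    ((powMapIncl (R' := R') I n a : ↥((I.map (algebraMap R R')) ^ n)) : R') = algebraMap R R' a.1 :=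
  rfl

/-- An `R'`-linear map out of `(IR')^n` vanishing on the image of `I^n` is zero. -/
lemma eq_zero_of_comp_powMapIncl {M' : Type*} [AddCommGroup M'] [Module R' M'] (n : ℕ)
    (f : ↥((I.map (algebraMap R R')) ^ n) →ₗ[R'] M')
    (h : ∀ a : ↥(I ^ n), f (powMapIncl I n a) = 0) : f = 0 := by
  have key : ∀ z (hz : z ∈ (I.map (algebraMap R R')) ^ n), f ⟨z, hz⟩ = 0 := by
    intro z hz
    have hz' : z ∈ Ideal.span ((algebraMap R R') '' ((I ^ n : Ideal R) : Set R)) := by
      have : (I ^ n).map (algebraMap R R') = Ideal.span ((algebraMap R R') '' ((I ^ n : Ideal R) : Set R)) := rfl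
      rw [← this, Ideal.map_pow]; exact hz
    have hle : Ideal.span ((algebraMap R R') '' ((I ^ n : Ideal R) : Set R)) ≤ (I.map (algebraMap R R')) ^ n := by
      rw [← Ideal.map_pow]; exact le_rfl
    suffices H : ∀ z (hz : z ∈ Ideal.span ((algebraMap R R') '' ((I ^ n : Ideal R) : Set R))),
        f ⟨z, hle hz⟩ = 0 from H z hz'
    intro z hz
    refine Submodule.span_induction (p := fun z hz => f ⟨z, hle hz⟩ = 0) ?_ ?_ ?_ ?_ hz
    · rintro _ ⟨a, ha, rfl⟩
      exact h ⟨a, ha⟩
    · exact map_zero f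
    · intro x y hx hy hfx hfy
      have : (⟨x + y, hle (add_mem hx hy)⟩ : ↥((I.map (algebraMap R R')) ^ n)) =
          ⟨x, hle hx⟩ + ⟨y, hle hy⟩ := rfl
      rw [this, map_add, hfx, hfy, add_zero]
    · intro r x hx hfx
      have : (⟨r • x, hle (Submodule.smul_mem _ r hx)⟩ : ↥((I.map (algebraMap R R')) ^ n)) =
          r • ⟨x, hle hx⟩ := rfl
      rw [this, map_smul, hfx, smul_zero]
  ext ⟨z, hz⟩
  exact key z hz

/-- The `R'`-linear map `R' ⊗ I^n → (IR')^n`. -/
noncomputable def tensorPowMap (n : ℕ) :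
    R' ⊗[R] ↥(I ^ n) →ₗ[R'] ↥((I.map (algebraMap R R')) ^ n) :=
  LinearMap.liftBaseChange R' (powMapIncl (R' := R') I n)

lemma tensorPowMap_tmul (n : ℕ) (r : R') (a : ↥(I ^ n)) :
    tensorPowMap (R' := R') I n (r ⊗ₜ a) = r • powMapIncl (R' := R') I n a := by
  simp [tensorPowMap]

lemma tensorPowMap_surjective (n : ℕ) : Function.Surjective (tensorPowMap (R' := R') I n) := by
  rw [← LinearMap.range_eq_top]
  have h0 : (LinearMap.range (tensorPowMap (R' := R') I n)).mkQ = 0 := by
    apply eq_zero_of_comp_powMapIncl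
    intro a
    rw [Submodule.mkQ_apply, Submodule.Quotient.mk_eq_zero]
    exact ⟨1 ⊗ₜ a, by rw [tensorPowMap_tmul, one_smul]⟩
  have := Submodule.ker_mkQ (LinearMap.range (tensorPowMap (R' := R') I n))
  rw [h0, LinearMap.ker_zero] at this
  exact this.symm

/-- Key identity: `c • x = π(x) • (1 ⊗ c)` for `c ∈ I^n`. -/
lemma algebraMap_smul_eq (n : ℕ) (c : ↥(I ^ n)) (x : R' ⊗[R] ↥(I ^ n)) :
    algebraMap R R' c.1 • x = ((tensorPowMap (R' := R') I n x : ↥((I.map (algebraMap R R')) ^ n)) : R') • ((1 : R') ⊗ₜ[R] c) := by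
  induction x using TensorProduct.induction_on with
  | zero => simp
  | tmul r a =>
    rw [tensorPowMap_tmul]
    simp only [Submodule.coe_smul, powMapIncl_coe, smul_eq_mul, TensorProduct.smul_tmul', mul_one]
    have h1 : (algebraMap R R' c.1 * r) ⊗ₜ[R] a = r ⊗ₜ[R] (c.1 • a) := by
      rw [← Algebra.smul_def, TensorProduct.smul_tmul]
    have h2 : (r * algebraMap R R' a.1) ⊗ₜ[R] c = r ⊗ₜ[R] (a.1 • c) := by
      rw [mul_comm, ← Algebra.smul_def, TensorProduct.smul_tmul]
    rw [h1, h2]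
    congr 1
    apply Subtype.ext
    simp [mul_comm]
  | add x y hx hy =>
    rw [smul_add, hx, hy, map_add, Submodule.coe_add, add_smul]

lemma smul_eq_zero_of_mem_ker (n : ℕ) (x : R' ⊗[R] ↥(I ^ n))
    (hx : x ∈ LinearMap.ker (tensorPowMap (R' := R') I n))
    (b : R') (hb : b ∈ (I.map (algebraMap R R')) ^ n) : b • x = 0 := by
  have hb' : b ∈ Ideal.span ((algebraMap R R') '' ((I ^ n : Ideal R) : Set R)) := by
    have : (I ^ n).map (algebraMap R R') = Ideal.span ((algebraMap R R') '' ((I ^ n : Ideal R) : Set R)) := rfl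
    rw [← this, Ideal.map_pow]; exact hb
  refine Submodule.span_induction (p := fun b _ => b • x = 0) ?_ ?_ ?_ ?_ hb'
  · rintro _ ⟨c, hc, rfl⟩
    have := algebraMap_smul_eq (R' := R') I n ⟨c, hc⟩ x
    rw [LinearMap.mem_ker] at hx
    rw [hx] at this
    simpa using this
  · exact zero_smul _ _
  · intro a b _ _ ha hb
    rw [add_smul, ha, hb, add_zero]
  · intro r a _ ha
    rw [smul_eq_mul, mul_smul, ha, smul_zero]


/-- Lemma A: an `R`-linear `g : I^n → M'` induces an `R'`-linear `(IR')^n → M'/N` with `N`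
killed by `(IR')^n`. -/
lemma exists_quot_extension {M' : Type u} [AddCommGroup M'] [Module R' M'] [Module R M']
    [IsScalarTower R R' M'] (n : ℕ) (g : ↥(I ^ n) →ₗ[R] M') :
    ∃ (N : Submodule R' M') (gbar : ↥((I.map (algebraMap R R')) ^ n) →ₗ[R'] M' ⧸ N),
      (∀ x ∈ N, ∀ b ∈ (I.map (algebraMap R R')) ^ n, b • x = 0) ∧
      ∀ a : ↥(I ^ n), gbar (powMapIncl (R' := R') I n a) = N.mkQ (g a) := by
  let g' : R' ⊗[R] ↥(I ^ n) →ₗ[R'] M' := LinearMap.liftBaseChange R' g
  let π := tensorPowMap (R' := R') I n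
  let K := LinearMap.ker π
  let N : Submodule R' M' := K.map g'
  have hK : K ≤ LinearMap.ker (N.mkQ ∘ₗ g') := by
    intro x hx
    rw [LinearMap.mem_ker, LinearMap.comp_apply, Submodule.mkQ_apply, Submodule.Quotient.mk_eq_zero]
    exact ⟨x, hx, rfl⟩
  let e := π.quotKerEquivOfSurjective (tensorPowMap_surjective (R' := R') I n)
  refine ⟨N, (K.liftQ (N.mkQ ∘ₗ g') hK) ∘ₗ e.symm.toLinearMap, ?_, ?_⟩
  · rintro _ ⟨x, hx, rfl⟩ b hb
    rw [← map_smul, smul_eq_zero_of_mem_ker (R' := R') I n x hx b hb, map_zero]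
  · intro a
    have h1 : e.symm (powMapIncl (R' := R') I n a) = K.mkQ ((1 : R') ⊗ₜ[R] a) := by
      rw [LinearEquiv.symm_apply_eq]
      show _ = π ((1 : R') ⊗ₜ[R] a)
      show _ = tensorPowMap (R' := R') I n ((1 : R') ⊗ₜ[R] a)
      rw [tensorPowMap_tmul, one_smul]
    rw [LinearMap.comp_apply, LinearEquiv.coe_coe, h1, Submodule.mkQ_apply, Submodule.liftQ_apply,
      LinearMap.comp_apply]
    congr 1
    simp [g']


section eps

variable {M' : Type u} [AddCommGroup M'] [Module R' M'] [Module R M'] [IsScalarTower R R' M']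

/-- `ε` on representatives. -/
noncomputable def epsRep (n : ℕ) (f : ↥((I.map (algebraMap R R')) ^ n) →ₗ[R'] M') : DT I M' :=
  dtMk I (ModuleCat.of R M') n ((f.restrictScalars R) ∘ₗ powMapIncl (R' := R') I n)

lemma epsRep_res {n k : ℕ} (h : n ≤ k) (f : ↥((I.map (algebraMap R R')) ^ n) →ₗ[R'] M') :
    epsRep I k (dtRes (I.map (algebraMap R R')) h f) = epsRep I n f := by
  unfold epsRep
  rw [← dtMk_res I (ModuleCat.of R M') h]
  rfl

lemma epsRep_congr {n m : ℕ} (f : ↥((I.map (algebraMap R R')) ^ n) →ₗ[R'] M')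
    (g : ↥((I.map (algebraMap R R')) ^ m) →ₗ[R'] M')
    (h : dtMk (I.map (algebraMap R R')) (ModuleCat.of R' M') n f =
      dtMk (I.map (algebraMap R R')) (ModuleCat.of R' M') m g) : epsRep I n f = epsRep I m g := by
  rw [dtMk_eq_iff] at h
  obtain ⟨k, hn, hm, hk⟩ := h
  rw [← epsRep_res I hn f, ← epsRep_res I hm g, hk]

lemma epsRep_add (n : ℕ) (f g : ↥((I.map (algebraMap R R')) ^ n) →ₗ[R'] M') :
    epsRep I n (f + g) = epsRep I n f + epsRep I n g := by
  unfold epsRep
  rw [← dtMk_add]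
  rfl

lemma epsRep_smul (n : ℕ) (r : R) (f : ↥((I.map (algebraMap R R')) ^ n) →ₗ[R'] M') :
    epsRep I n (algebraMap R R' r • f) = r • epsRep I n f := by
  unfold epsRep
  rw [← dtMk_smul]
  congr 1
  ext a
  simp

/-- the map `ε : D_{IR'}(M') → D_I(M')`. -/
noncomputable def epsFun (x : DT (I.map (algebraMap R R')) M') : DT I M' :=
  epsRep I (dtMk_surj (I.map (algebraMap R R')) (ModuleCat.of R' M') x).choose
    (dtMk_surj (I.map (algebraMap R R')) (ModuleCat.of R' M') x).choose_spec.choose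

lemma epsFun_dtMk (n : ℕ) (f : ↥((I.map (algebraMap R R')) ^ n) →ₗ[R'] M') :
    epsFun I (dtMk (I.map (algebraMap R R')) (ModuleCat.of R' M') n f) = epsRep I n f := by
  unfold epsFun
  apply epsRep_congr
  exact (dtMk_surj (I.map (algebraMap R R')) (ModuleCat.of R' M') _).choose_spec.choose_spec


lemma epsFun_add (x y : DT (I.map (algebraMap R R')) M') :
    epsFun I (x + y) = epsFun I x + epsFun I y := by
  obtain ⟨n, f, rfl⟩ := dtMk_surj _ (ModuleCat.of R' M') x
  obtain ⟨m, g, rfl⟩ := dtMk_surj _ (ModuleCat.of R' M') y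
  have hn : n ≤ max n m := le_max_left _ _
  have hm : m ≤ max n m := le_max_right _ _
  rw [← dtMk_res _ _ hn f, ← dtMk_res _ _ hm g, ← dtMk_add, epsFun_dtMk, epsFun_dtMk, epsFun_dtMk,
    epsRep_add]

lemma epsFun_smul (r : R) (x : DT (I.map (algebraMap R R')) M') :
    epsFun I (algebraMap R R' r • x) = r • epsFun I x := by
  obtain ⟨n, f, rfl⟩ := dtMk_surj _ (ModuleCat.of R' M') x
  rw [← dtMk_smul, epsFun_dtMk, epsFun_dtMk, epsRep_smul]

lemma epsFun_toDT (m : M') :
    epsFun I (toDT (I.map (algebraMap R R')) M' m) = toDT I M' m := by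
  rw [toDT_eq_dtMk, epsFun_dtMk, toDT_eq_dtMk]
  unfold epsRep
  congr 1
  ext a
  simp

lemma epsFun_injective : Function.Injective (epsFun (R' := R') (M' := M') I) := by
  have hadd : ∀ x y, epsFun (R' := R') (M' := M') I (x + y) = epsFun I x + epsFun I y := epsFun_add I
  let φ : DT (I.map (algebraMap R R')) M' →+ DT I M' := AddMonoidHom.mk' (epsFun I) hadd
  show Function.Injective φ
  rw [injective_iff_map_eq_zero]
  intro x hx
  change epsFun I x = 0 at hx
  obtain ⟨n, f, rfl⟩ := dtMk_surj _ (ModuleCat.of R' M') x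
  rw [epsFun_dtMk] at hx
  unfold epsRep at hx
  rw [dtMk_eq_zero_iff] at hx
  obtain ⟨k, hk, h0⟩ := hx
  rw [dtMk_eq_zero_iff]
  refine ⟨k, hk, ?_⟩
  apply eq_zero_of_comp_powMapIncl
  intro a
  have := congrArg (fun φ => φ a) h0
  exact this


lemma epsFun_surjective [IsNoetherianRing R] [IsNoetherianRing R'] :
    Function.Surjective (epsFun (R' := R') (M' := M') I) := by
  intro y
  obtain ⟨n, g, rfl⟩ := dtMk_surj I (ModuleCat.of R M') y
  obtain ⟨N, gbar, hN, hg⟩ := exists_quot_extension (R' := R') I n g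
  obtain ⟨k, hk, f, hf⟩ := exists_lift_of_torsion_ker (I.map (algebraMap R R')) N.mkQ
    (by
      intro x hx
      rw [Submodule.ker_mkQ] at hx
      exact ⟨n, fun a ha => hN x hx a ha⟩)
    gbar (fun y => by
      rw [Submodule.range_mkQ]; exact Submodule.mem_top)
  -- the difference takes values in `N`
  let h : ↥(I ^ k) →ₗ[R] M' :=
    (f.restrictScalars R) ∘ₗ powMapIncl (R' := R') I k - dtRes I hk g
  have hmem : ∀ a : ↥(I ^ k), h a ∈ N := by
    intro a
    rw [← Submodule.Quotient.mk_eq_zero, ← Submodule.mkQ_apply]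
    show N.mkQ (f (powMapIncl (R' := R') I k a) - g ⟨a.1, Ideal.pow_le_pow_right hk a.2⟩) = 0
    rw [map_sub, ← hg, sub_eq_zero]
    have := congrArg (fun φ => φ (powMapIncl (R' := R') I k a)) hf
    exact this
  obtain ⟨k', hk', h0⟩ := exists_dtRes_eq_zero_of_torsion I h (by
    intro a
    refine ⟨n, fun c hc => ?_⟩
    rw [← algebraMap_smul R' c (h a)]
    apply hN _ (hmem a)
    rw [← Ideal.map_pow]
    exact Ideal.mem_map_of_mem _ hc)
  refine ⟨dtMk _ (ModuleCat.of R' M') k f, ?_⟩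
  rw [epsFun_dtMk]
  unfold epsRep
  rw [dtMk_eq_iff]
  refine ⟨k', hk', hk.trans hk', ?_⟩
  ext a
  have := congrArg (fun φ => φ a) h0
  simp only [h, dtRes_apply, LinearMap.sub_apply, LinearMap.zero_apply, sub_eq_zero] at this
  simpa using this

end eps


/-- **Independence of the base ring** for ideal transforms. -/
theorem exists_DT_baseChange_addEquiv [IsNoetherianRing R] [IsNoetherianRing R']
    (M' : Type u) [AddCommGroup M'] [Module R' M'] [Module R M'] [IsScalarTower R R' M'] :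
    ∃ ε : DT (I.map (algebraMap R R')) M' ≃+ DT I M',
      (∀ (r : R) (x : DT (I.map (algebraMap R R')) M'), ε (algebraMap R R' r • x) = r • ε x) ∧
      ∀ m : M', ε (toDT (I.map (algebraMap R R')) M' m) = toDT I M' m := by
  let φ : DT (I.map (algebraMap R R')) M' →+ DT I M' :=
    AddMonoidHom.mk' (epsFun I) (epsFun_add I)
  refine ⟨AddEquiv.ofBijective φ ⟨epsFun_injective I, epsFun_surjective I⟩, ?_, ?_⟩
  · intro r x
    exact epsFun_smul I r x
  · intro m
    exact epsFun_toDT I m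

end

end Groth.Agent.Lib.Helper60
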