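import Groth.Agent.Lib.Helper60.IdealTransform2

/-!
# Ideal transforms: comparison maps `D_J ⟶ D_I` for `I ≤ J`, and `η` on `D_I(M)` (helper60)
-/

set_option autoImplicit false
universe u
open CategoryTheory CategoryTheory.Limits Opposite

namespace Groth.Agent.Lib.Helper60

variable {R : Type u} [CommRing R]

open LocCoh

lemma DTmapOfLE_dtMk {I J : Ideal R} (h : I ≤ J) (M : ModuleCat.{u} R) (n : ℕ)
    (f : ↥(J ^ n) →ₗ[R] M) :
    ((DTmapOfLE h).app M).hom (dtMk J M n f) =
      dtMk I M n (f ∘ₗ Submodule.inclusion (Ideal.pow_right_mono h n)) := by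
  have := ι_colimMap (Functor.whiskerRight (NatTrans.op (Functor.whiskerRight (powLE h) idealModFunctor))
    (linearCoyoneda R (ModuleCat.{u} R))) (op (op n))
  have h1 := congrArg (fun φ => (φ.app M).hom (dtElem J M n f)) this
  simp only [NatTrans.comp_app, ModuleCat.hom_comp, LinearMap.coe_comp, Function.comp_apply] at h1
  exact h1

/-- `η : N → D_J(N)` is bijective for `N = D_J(M)` (Noetherian `R`). -/
theorem toDT_DT_bijective [IsNoetherianRing R] (J : Ideal R) (M : Type u) [AddCommGroup M]
    [Module R M] : Function.Bijective (toDT J (DT J M)) := by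
  constructor
  · rw [← LinearMap.ker_eq_bot, eq_bot_iff]
    intro x hx
    rw [LinearMap.mem_ker, toDT_eq_dtMk, dtMk_eq_zero_iff] at hx
    obtain ⟨k, hk, h⟩ := hx
    rw [Submodule.mem_bot]
    apply dt_eq_zero_of_pow_smul J (ModuleCat.of R M) x k
    intro a ha
    have := congrArg (fun φ => φ ⟨a, ha⟩) h
    simpa using this
  · intro z
    -- D(η_M) is bijective
    have hbij : Function.Bijective ((idealTransform J).map (ModuleCat.ofHom (toDT J M))).hom := by
      apply dtMap_bijective_of_torsion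
      · intro m hm
        rw [LinearMap.mem_ker, toDT_eq_dtMk, dtMk_eq_zero_iff] at hm
        obtain ⟨k, hk, h⟩ := hm
        refine ⟨k, fun a ha => ?_⟩
        have := congrArg (fun φ => φ ⟨a, ha⟩) h
        simpa using this
      · intro x
        obtain ⟨y, rfl⟩ := Submodule.Quotient.mk_surjective _ x
        obtain ⟨n, hn⟩ := exists_pow_smul_mem_range_toDT J M y
        refine ⟨n, fun a ha => ?_⟩
        rw [← Submodule.Quotient.mk_smul, Submodule.Quotient.mk_eq_zero]
        exact hn a ha
    obtain ⟨w, rfl⟩ := hbij.2 z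
    obtain ⟨k, f, rfl⟩ := dtMk_surj J (ModuleCat.of R M) w
    refine ⟨dtMk J (ModuleCat.of R M) k f, ?_⟩
    rw [dtMap_dtMk, toDT_eq_dtMk, dtMk_eq_iff]
    refine ⟨k, Nat.zero_le k, le_rfl, ?_⟩
    ext ⟨b, hb⟩
    simp only [dtRes_apply, LinearMap.coe_comp, Function.comp_apply, Submodule.coe_subtype,
      LinearMap.flip_apply, LinearMap.lsmul_apply, ModuleCat.hom_ofHom]
    exact smul_dtMk_eq_toDT J M f b hb

end Groth.Agent.Lib.Helper60
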