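import Groth.Agent.Lib.Helper60.LocalCohTorsion
import Groth.Agent.Lib.Helper60.IdealTransform3
import Mathlib.Algebra.Homology.DerivedCategory.Ext.EnoughProjectives

/-!
# The exact sequence `0 → Γ_J(M) → M → D_J(M) → H^1_J(M) → 0` (helper60)
-/

set_option autoImplicit false
universe u
open CategoryTheory CategoryTheory.Limits Opposite Abelian

namespace Groth.Agent.Lib.Helper60

variable {R : Type u} [CommRing R]

open LocCoh

section dtDesc

variable (I : Ideal R) (M : ModuleCat.{u} R) {T : Type*} [AddCommGroup T] [Module R T]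
  (φ : ∀ n, (↥(I ^ n) →ₗ[R] M) →ₗ[R] T)
  (hφ : ∀ (n k : ℕ) (h : n ≤ k) (f : ↥(I ^ n) →ₗ[R] M), φ k (dtRes I h f) = φ n f)

/-- underlying function of `dtDesc`. -/
noncomputable def dtDescFun (y : (idealTransform I).obj M) : T :=
  φ (dtMk_surj I M y).choose (dtMk_surj I M y).choose_spec.choose

include hφ in
lemma dtDescFun_dtMk (n : ℕ) (f : ↥(I ^ n) →ₗ[R] M) :
    dtDescFun I M φ (dtMk I M n f) = φ n f := by
  unfold dtDescFun
  have hspec := (dtMk_surj I M (dtMk I M n f)).choose_spec.choose_spec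
  rw [dtMk_eq_iff] at hspec
  obtain ⟨k, hn, hm, h⟩ := hspec
  rw [← hφ _ k hn, ← hφ n k hm, h]

lemma dtRes_add {n k : ℕ} (h : n ≤ k) (f g : ↥(I ^ n) →ₗ[R] M) :
    dtRes I h (f + g) = dtRes I h f + dtRes I h g := rfl

lemma dtRes_smul {n k : ℕ} (h : n ≤ k) (r : R) (f : ↥(I ^ n) →ₗ[R] M) :
    dtRes I h (r • f) = r • dtRes I h f := rfl

/-- A compatible family of linear maps out of `Hom(I^n, M)` induces a linear map out of
`D_I(M)`. -/
noncomputable def dtDesc : (idealTransform I).obj M →ₗ[R] T where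
  toFun := dtDescFun I M φ
  map_add' y y' := by
    obtain ⟨n, f, rfl⟩ := dtMk_surj I M y
    obtain ⟨m, f', rfl⟩ := dtMk_surj I M y'
    have hn : n ≤ max n m := le_max_left _ _
    have hm : m ≤ max n m := le_max_right _ _
    rw [← dtMk_res I M hn f, ← dtMk_res I M hm f', ← dtMk_add, dtDescFun_dtMk I M φ hφ,
      dtDescFun_dtMk I M φ hφ, dtDescFun_dtMk I M φ hφ, map_add]
  map_smul' r y := by
    obtain ⟨n, f, rfl⟩ := dtMk_surj I M y
    rw [← dtMk_smul, dtDescFun_dtMk I M φ hφ, dtDescFun_dtMk I M φ hφ, map_smul]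
    rfl

@[simp]
lemma dtDesc_dtMk (n : ℕ) (f : ↥(I ^ n) →ₗ[R] M) :
    dtDesc I M φ hφ (dtMk I M n f) = φ n f :=
  dtDescFun_dtMk I M φ hφ n f

end dtDesc

section xi

variable (J : Ideal R)

/-- the short exact sequence `0 → J^n → R → R/J^n → 0`. -/
noncomputable abbrev powSES (n : ℕ) : ShortComplex (ModuleCat.{u} R) :=
  ShortComplex.mk (ModuleCat.ofHom (J ^ n : Submodule R R).subtype)
    (ModuleCat.ofHom (J ^ n : Submodule R R).mkQ) (sesOfSubmodule (J ^ n : Submodule R R)).zero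

lemma powSES_shortExact (n : ℕ) : (powSES J n).ShortExact := sesOfSubmodule_shortExact _

/-- the morphism of short exact sequences induced by `J^k ≤ J^n`. -/
noncomputable def powSESMap {n k : ℕ} (h : n ≤ k) : powSES J k ⟶ powSES J n where
  τ₁ := ModuleCat.ofHom (Submodule.inclusion (Ideal.pow_le_pow_right h))
  τ₂ := 𝟙 _
  τ₃ := quotPowMap J h
  comm₁₂ := by
    apply ModuleCat.hom_ext
    apply LinearMap.ext
    intro x
    rfl
  comm₂₃ := by
    apply ModuleCat.hom_ext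
    apply LinearMap.ext
    intro x
    rfl

/-- the extension class of `0 → J^n → R → R/J^n → 0`. -/
noncomputable abbrev powExtClass (n : ℕ) :
    Abelian.Ext (quotPow J n) (ModuleCat.of R ↥(J ^ n)) 1 :=
  (powSES_shortExact J n).extClass

lemma powExtClass_naturality {n k : ℕ} (h : n ≤ k) :
    (powExtClass J k).comp (Ext.mk₀ (ModuleCat.ofHom
        (Submodule.inclusion (Ideal.pow_le_pow_right h : J ^ k ≤ J ^ n)))) (add_zero 1) =
      (Ext.mk₀ (quotPowMap J h)).comp (powExtClass J n) (zero_add 1) :=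
  ShortComplex.ShortExact.extClass_naturality (powSES_shortExact J k) (powSES_shortExact J n)
    (powSESMap J h)

variable (M : ModuleCat.{u} R)

/-- `Hom(J^n, M) → Ext^1(R/J^n, M)`, the connecting homomorphism. -/
noncomputable def xiExt (n : ℕ) : (↥(J ^ n) →ₗ[R] M) →ₗ[R] Abelian.Ext (quotPow J n) M 1 where
  toFun f := (powExtClass J n).comp (Ext.mk₀ (ModuleCat.ofHom f)) (add_zero 1)
  map_add' f g := by
    rw [ModuleCat.ofHom_add, Ext.mk₀_add, Ext.comp_add]
  map_smul' r f := by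
    have : ModuleCat.ofHom (r • f) = r • (ModuleCat.ofHom f : ModuleCat.of R ↥(J ^ n) ⟶ M) := rfl
    rw [this, Ext.mk₀_smul, Ext.comp_smul]
    rfl

lemma lcRes_xiExt {n k : ℕ} (h : n ≤ k) (f : ↥(J ^ n) →ₗ[R] M) :
    lcRes J h (xiExt J M n f) = xiExt J M k (dtRes J h f) := by
  unfold lcRes xiExt
  simp only [LinearMap.coe_mk, AddHom.coe_mk]
  rw [← Ext.comp_assoc _ _ _ (zero_add 1) (add_zero 1) (by omega), ← powExtClass_naturality,
    Ext.comp_assoc _ _ _ (add_zero 1) (add_zero 0) (by omega), Ext.mk₀_comp_mk₀]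
  rfl

/-- The canonical map `ξ : D_J(M) → H^1_J(M)`. -/
noncomputable def dtToH1 : (idealTransform J).obj M →ₗ[R] (localCohomology J 1).obj M :=
  dtDesc J M (fun n => lcMkₗ J 1 M n ∘ₗ xiExt J M n) (by
    intro n k h f
    simp only [LinearMap.coe_comp, Function.comp_apply, lcMkₗ_apply]
    rw [← lcRes_xiExt, lcMk_res])

@[simp]
lemma dtToH1_dtMk (n : ℕ) (f : ↥(J ^ n) →ₗ[R] M) :
    dtToH1 J M (dtMk J M n f) = lcMk J 1 M n (xiExt J M n f) := by
  unfold dtToH1
  rw [dtDesc_dtMk]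
  rfl


instance : Projective (ModuleCat.of R R) :=
  (IsProjective.iff_projective (R := R) (P := R)).mp inferInstance

lemma dtToH1_surjective : Function.Surjective (dtToH1 J M) := by
  intro y
  obtain ⟨n, x, rfl⟩ := lcMk_surj J 1 M y
  have h0 : (Ext.mk₀ (powSES J n).g).comp x (zero_add 1) = 0 := Ext.eq_zero_of_projective _
  obtain ⟨x₁, hx₁⟩ := Ext.contravariant_sequence_exact₃ (powSES_shortExact J n) M x h0
    (n₀ := 0) rfl
  obtain ⟨ψ, rfl⟩ : ∃ ψ : ModuleCat.of R ↥(J ^ n) ⟶ M, Ext.mk₀ ψ = x₁ :=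
    ⟨Ext.linearEquiv₀ (R := R) x₁, Ext.mk₀_linearEquiv₀_apply x₁⟩
  refine ⟨dtMk J M n ψ.hom, ?_⟩
  rw [dtToH1_dtMk, ← hx₁]
  rfl

lemma dtToH1_toDT (m : M) : dtToH1 J M (toDT J M m) = 0 := by
  rw [toDT_eq_dtMk, dtToH1_dtMk]
  let ψ : ModuleCat.of R R ⟶ M := ModuleCat.ofHom ((LinearMap.lsmul R M).flip m)
  have : xiExt J M 0 ((LinearMap.lsmul R M).flip m ∘ₗ (J ^ 0).subtype) =
      (powExtClass J 0).comp ((Ext.mk₀ (powSES J 0).f).comp (Ext.mk₀ ψ) (zero_add 0))
        (add_zero 1) := by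
    rw [Ext.mk₀_comp_mk₀]
    rfl
  rw [this, ShortComplex.ShortExact.extClass_comp_assoc, lcMk_zero]

lemma mem_range_toDT_of_dtToH1_eq_zero (y : (idealTransform J).obj M)
    (hy : dtToH1 J M y = 0) : y ∈ LinearMap.range (toDT J M) := by
  obtain ⟨n, f, rfl⟩ := dtMk_surj J M y
  rw [dtToH1_dtMk, lcMk_eq_zero_iff] at hy
  obtain ⟨k, hk, h0⟩ := hy
  rw [lcRes_xiExt] at h0
  obtain ⟨x₂, hx₂⟩ := Ext.contravariant_sequence_exact₁ (powSES_shortExact J k) M
    (Ext.mk₀ (ModuleCat.ofHom (dtRes J hk f))) (n₁ := 1) rfl h0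
  obtain ⟨ψ, rfl⟩ : ∃ ψ : ModuleCat.of R R ⟶ M, Ext.mk₀ ψ = x₂ :=
    ⟨Ext.linearEquiv₀ (R := R) x₂, Ext.mk₀_linearEquiv₀_apply x₂⟩
  rw [Ext.mk₀_comp_mk₀] at hx₂
  have hx₃ : (powSES J k).f ≫ ψ = ModuleCat.ofHom (dtRes J hk f) :=
    (Ext.mk₀_bijective _ _).1 hx₂
  refine ⟨ψ.hom (1 : R), ?_⟩
  rw [toDT_eq_dtMk, dtMk_eq_iff]
  refine ⟨k, Nat.zero_le k, hk, ?_⟩
  ext a
  have h4 := congrArg (fun φ => φ.hom a) hx₃
  simp only [dtRes_apply, LinearMap.coe_comp, Function.comp_apply, Submodule.coe_subtype,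
    LinearMap.flip_apply, LinearMap.lsmul_apply]
  have h5 : ψ.hom (a.1 : R) = f ⟨a.1, Ideal.pow_le_pow_right hk a.2⟩ := h4
  rw [← h5, ← map_smul, smul_eq_mul, mul_one]

/-- exactness of `M → D_J(M) → H^1_J(M)`. -/
lemma ker_dtToH1 : LinearMap.ker (dtToH1 J M) = LinearMap.range (toDT J M) := by
  apply le_antisymm
  · intro y hy
    exact mem_range_toDT_of_dtToH1_eq_zero J M y hy
  · rintro _ ⟨m, rfl⟩
    exact dtToH1_toDT J M m

/-- **`coker(η : M → D_J(M)) ≅ H^1_J(M)`.** -/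
noncomputable def cokerToDTEquivH1 :
    ((idealTransform J).obj M ⧸ LinearMap.range (toDT J M)) ≃ₗ[R] (localCohomology J 1).obj M :=
  (Submodule.quotEquivOfEq _ _ (ker_dtToH1 J M).symm).trans
    ((dtToH1 J M).quotKerEquivOfSurjective (dtToH1_surjective J M))

end xi

section torsionKerCoker

variable [IsNoetherianRing R] (J : Ideal R)

/-- `H^i_J(M) → H^i_J(M/K)` is bijective for `i > 0` if `K` is `J`-power torsion. -/
theorem lcMap_mkQ_bijective_of_torsion {M : Type u} [AddCommGroup M] [Module R M]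
    (K : Submodule R M) (hK : ∀ x ∈ K, ∃ n : ℕ, ∀ a ∈ J ^ n, a • x = 0) (i : ℕ) (hi : 0 < i) :
    Function.Bijective ((localCohomology J i).map (ModuleCat.ofHom K.mkQ)).hom := by
  have hS := sesOfSubmodule_shortExact K
  have htor : ∀ x : (sesOfSubmodule K).X₁, ∃ n : ℕ, ∀ a ∈ J ^ n, a • x = 0 := by
    rintro ⟨x, hx⟩
    obtain ⟨n, hn⟩ := hK x hx
    exact ⟨n, fun a ha => Subtype.ext (hn a ha)⟩
  have h1 := lc_subsingleton_of_torsion J i hi _ htor
  have h2 := lc_subsingleton_of_torsion J (i + 1) (Nat.succ_pos i) _ htor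
  constructor
  · rw [injective_iff_map_eq_zero]
    intro y hy
    obtain ⟨y₁, rfl⟩ := lc_exact₂ J hS i y hy
    rw [Subsingleton.elim y₁ 0, map_zero]
    rfl
  · intro y₃
    exact lc_exact₃ J hS i y₃ (Subsingleton.elim _ _)

/-- `H^i_J(N) → H^i_J(M)` is bijective for `i > 1` if `ι : N → M` is injective with `J`-power
torsion cokernel. -/
theorem lcMap_bijective_of_injective_of_torsion_coker {N M : Type u} [AddCommGroup N] [Module R N]
    [AddCommGroup M] [Module R M] (ι : N →ₗ[R] M) (hι : Function.Injective ι)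
    (hC : ∀ x : M ⧸ LinearMap.range ι, ∃ n : ℕ, ∀ a ∈ J ^ n, a • x = 0) (i : ℕ) (hi : 1 < i) :
    Function.Bijective ((localCohomology J i).map (ModuleCat.ofHom ι)).hom := by
  have hS := sesOfInjective_shortExact ι hι
  obtain ⟨i, rfl⟩ : ∃ j, i = j + 1 := ⟨i - 1, by omega⟩
  have h1 := lc_subsingleton_of_torsion J i (by omega) (sesOfInjective ι).X₃ hC
  have h2 := lc_subsingleton_of_torsion J (i + 1) (by omega) (sesOfInjective ι).X₃ hC
  constructor
  · rw [injective_iff_map_eq_zero]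
    intro y hy
    obtain ⟨y₃, rfl⟩ := lc_exact₁ J hS i y hy
    rw [Subsingleton.elim y₃ 0, map_zero]
    rfl
  · intro z
    exact lc_exact₂ J hS (i + 1) z (Subsingleton.elim _ _)

/-- `H^i_J(φ)` is bijective for `i > 1` if `φ` has `J`-power torsion kernel and cokernel. -/
theorem lcMap_bijective_of_torsion_ker_coker {M N : Type u} [AddCommGroup M] [Module R M]
    [AddCommGroup N] [Module R N] (φ : M →ₗ[R] N)
    (hK : ∀ x ∈ LinearMap.ker φ, ∃ n : ℕ, ∀ a ∈ J ^ n, a • x = 0)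
    (hC : ∀ x : N ⧸ LinearMap.range φ, ∃ n : ℕ, ∀ a ∈ J ^ n, a • x = 0) (i : ℕ) (hi : 1 < i) :
    Function.Bijective ((localCohomology J i).map (ModuleCat.ofHom φ)).hom := by
  let ψ : (M ⧸ LinearMap.ker φ) →ₗ[R] N := (LinearMap.ker φ).liftQ φ le_rfl
  have hψ : Function.Injective ψ := by
    rw [← LinearMap.ker_eq_bot]
    exact Submodule.ker_liftQ_eq_bot _ _ _ le_rfl
  have hrange : LinearMap.range ψ = LinearMap.range φ := Submodule.range_liftQ _ _ _
  have hfac : ModuleCat.ofHom φ = ModuleCat.ofHom (LinearMap.ker φ).mkQ ≫ ModuleCat.ofHom ψ := by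
    rw [← ModuleCat.ofHom_comp]
    congr 1
  have h1 := lcMap_mkQ_bijective_of_torsion J (LinearMap.ker φ) hK i (by omega)
  have h2 := lcMap_bijective_of_injective_of_torsion_coker J ψ hψ (by
    rw [hrange]
    exact hC) i hi
  rw [hfac, Functor.map_comp, ModuleCat.hom_comp]
  exact h2.comp h1

end torsionKerCoker

end Groth.Agent.Lib.Helper60
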