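import Groth.Agent.S11611
import Groth.Agent.Lib.Helper60.IdealTransformBC
import Groth.Agent.Lib.Helper60.LocalCohDT
import Groth.Agent.Lib.Helper60.LocalCohTorsion

/-!
# Independence of the base ring for local cohomology (helper60)
-/

set_option autoImplicit false
universe u
open CategoryTheory CategoryTheory.Limits Opposite Abelian

namespace Groth.Agent.Lib.Helper60

open LocCoh

lemma exists_addEquiv_of_surjective {A A' B B' : Type*} [AddCommGroup A] [AddCommGroup A']
    [AddCommGroup B] [AddCommGroup B'] (f : A →+ B) (g : A' →+ B')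
    (hf : Function.Surjective f) (hg : Function.Surjective g) (ε : A ≃+ A')
    (hker : ∀ a, f a = 0 ↔ g (ε a) = 0) : ∃ φ : B ≃+ B', ∀ a, φ (f a) = g (ε a) := by
  let φ : B →+ B' := f.liftOfSurjective hf ⟨g.comp ε.toAddMonoidHom, fun a ha => by
    rw [AddMonoidHom.mem_ker] at ha ⊢
    exact (hker a).mp ha⟩
  let ψ : B' →+ B := g.liftOfSurjective hg ⟨f.comp ε.symm.toAddMonoidHom, fun a ha => by
    rw [AddMonoidHom.mem_ker] at ha ⊢
    apply (hker (ε.symm a)).mpr
    rw [AddEquiv.apply_symm_apply]
    exact ha⟩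
  have hφ : ∀ a, φ (f a) = g (ε a) := fun a =>
    AddMonoidHom.liftOfRightInverse_comp_apply f _ _ _ a
  have hψ : ∀ a, ψ (g a) = f (ε.symm a) := fun a =>
    AddMonoidHom.liftOfRightInverse_comp_apply g _ _ _ a
  refine ⟨{ toFun := φ, invFun := ψ, left_inv := ?_, right_inv := ?_, map_add' := map_add φ }, hφ⟩
  · intro b
    obtain ⟨a, rfl⟩ := hf b
    rw [hφ, hψ, AddEquiv.symm_apply_apply]
  · intro b
    obtain ⟨a, rfl⟩ := hg b
    rw [hψ, hφ, AddEquiv.apply_symm_apply]

section

variable {R : Type u} [CommRing R]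

lemma lcDelta_bijective (J : Ideal R) {S : ShortComplex (ModuleCat.{u} R)} (hS : S.ShortExact)
    (i : ℕ) [Subsingleton ((localCohomology J i).obj S.X₂)]
    [Subsingleton ((localCohomology J (i + 1)).obj S.X₂)] :
    Function.Bijective (lcDelta J hS i) := by
  constructor
  · rw [injective_iff_map_eq_zero]
    intro y hy
    obtain ⟨y₂, rfl⟩ := lc_exact₃ J hS i y hy
    rw [Subsingleton.elim y₂ 0, map_zero]
  · intro y
    exact lc_exact₁ J hS i y (Subsingleton.elim _ _)

end

section BC

variable {R : Type u} [CommRing R] {R' : Type u} [CommRing R'] [Algebra R R'] (I : Ideal R)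

lemma mem_torsionSub_map_iff (M' : Type u) [AddCommGroup M'] [Module R' M'] [Module R M']
    [IsScalarTower R R' M'] (m : M') :
    m ∈ DRing.torsionSub (I.map (algebraMap R R')) M' ↔ m ∈ DRing.torsionSub I M' := by
  constructor
  · rintro ⟨n, hn⟩
    refine ⟨n, fun a ha => ?_⟩
    rw [← algebraMap_smul R' a m]
    apply hn
    rw [← Ideal.map_pow]
    exact Ideal.mem_map_of_mem _ ha
  · rintro ⟨n, hn⟩
    refine ⟨n, ?_⟩
    have hle : (I.map (algebraMap R R')) ^ n ≤
        (LinearMap.ker (LinearMap.toSpanSingleton R' M' m) : Ideal R') := by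
      rw [← Ideal.map_pow, Ideal.map_le_iff_le_comap]
      intro a ha
      rw [Ideal.mem_comap, LinearMap.mem_ker, LinearMap.toSpanSingleton_apply, algebraMap_smul]
      exact hn a ha
    intro a ha
    exact hle ha

variable [IsNoetherianRing R] [IsNoetherianRing R']

omit [IsNoetherianRing R] [IsNoetherianRing R'] in
lemma exists_lc_baseChange_zero (M' : Type u) [AddCommGroup M'] [Module R' M'] [Module R M']
    [IsScalarTower R R' M'] :
    ∃ φ : LocCoh.H (I.map (algebraMap R R')) 0 M' ≃+ LocCoh.H I 0 M',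
      ∀ (r : R) (x : LocCoh.H (I.map (algebraMap R R')) 0 M'),
        φ (algebraMap R R' r • x) = r • φ x := by
  let e' := lcH0Equiv (I.map (algebraMap R R')) (ModuleCat.of R' M')
  let e := lcH0Equiv I (ModuleCat.of R M')
  let τ : ↥(DRing.torsionSub (I.map (algebraMap R R')) M') ≃+ ↥(DRing.torsionSub I M') :=
    { toFun := fun x => ⟨x.1, (mem_torsionSub_map_iff I M' x.1).mp x.2⟩
      invFun := fun y => ⟨y.1, (mem_torsionSub_map_iff I M' y.1).mpr y.2⟩
      left_inv := fun x => rfl
      right_inv := fun y => rfl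
      map_add' := fun x y => rfl }
  refine ⟨e'.toAddEquiv.trans (τ.trans e.symm.toAddEquiv), ?_⟩
  intro r x
  show e.symm (τ (e' (algebraMap R R' r • x))) = r • e.symm (τ (e' x))
  have h1 : e' (algebraMap R R' r • x) = algebraMap R R' r • e' x := map_smul e' _ _
  have h2 : τ (algebraMap R R' r • e' x) = r • τ (e' x) :=
    Subtype.ext (algebraMap_smul R' r (e' x).1)
  rw [h1, h2]
  exact map_smul e.symm r _

lemma exists_lc_baseChange_one (M' : Type u) [AddCommGroup M'] [Module R' M'] [Module R M']
    [IsScalarTower R R' M'] :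
    ∃ φ : LocCoh.H (I.map (algebraMap R R')) 1 M' ≃+ LocCoh.H I 1 M',
      ∀ (r : R) (x : LocCoh.H (I.map (algebraMap R R')) 1 M'),
        φ (algebraMap R R' r • x) = r • φ x := by
  obtain ⟨ε, hε1, hε2⟩ := exists_DT_baseChange_addEquiv I (R' := R') M'
  obtain ⟨φ, hφ⟩ := exists_addEquiv_of_surjective
    (dtToH1 (I.map (algebraMap R R')) (ModuleCat.of R' M')).toAddMonoidHom
    (dtToH1 I (ModuleCat.of R M')).toAddMonoidHom
    (dtToH1_surjective _ _) (dtToH1_surjective _ _) ε (by
      intro a
      show dtToH1 (I.map (algebraMap R R')) (ModuleCat.of R' M') a = 0 ↔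
        dtToH1 I (ModuleCat.of R M') (ε a) = 0
      rw [← LinearMap.mem_ker, ← LinearMap.mem_ker, ker_dtToH1, ker_dtToH1]
      constructor
      · rintro ⟨m, rfl⟩
        exact ⟨m, (hε2 m).symm⟩
      · rintro ⟨m, hm⟩
        refine ⟨m, ε.injective ?_⟩
        rw [hε2 m]
        exact hm)
  refine ⟨φ, ?_⟩
  intro r x
  obtain ⟨d, rfl⟩ := dtToH1_surjective (I.map (algebraMap R R')) (ModuleCat.of R' M') x
  have h1 : φ (dtToH1 (I.map (algebraMap R R')) (ModuleCat.of R' M') d) =
      dtToH1 I (ModuleCat.of R M') (ε d) := hφ d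
  have h2 : φ (dtToH1 (I.map (algebraMap R R')) (ModuleCat.of R' M') (algebraMap R R' r • d)) =
      dtToH1 I (ModuleCat.of R M') (ε (algebraMap R R' r • d)) := hφ _
  rw [← map_smul, h2, h1, hε1, map_smul]


omit [IsNoetherianRing R] [IsNoetherianRing R'] in
/-- abstract dimension shifting step. -/
lemma exists_lc_baseChange_step_aux {S' : ShortComplex (ModuleCat.{u} R')}
    {S : ShortComplex (ModuleCat.{u} R)} (hS' : S'.ShortExact) (hS : S.ShortExact)
    (J' : Ideal R') (J : Ideal R) (i : ℕ)
    [Subsingleton ((localCohomology J' i).obj S'.X₂)]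
    [Subsingleton ((localCohomology J' (i + 1)).obj S'.X₂)]
    [Subsingleton ((localCohomology J i).obj S.X₂)]
    [Subsingleton ((localCohomology J (i + 1)).obj S.X₂)]
    (φQ : (localCohomology J' i).obj S'.X₃ ≃+ (localCohomology J i).obj S.X₃)
    (hφQ : ∀ (r : R) (x : (localCohomology J' i).obj S'.X₃),
      φQ (algebraMap R R' r • x) = r • φQ x) :
    ∃ φ : (localCohomology J' (i + 1)).obj S'.X₁ ≃+ (localCohomology J (i + 1)).obj S.X₁,
      ∀ (r : R) (x : (localCohomology J' (i + 1)).obj S'.X₁),
        φ (algebraMap R R' r • x) = r • φ x := by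
  have hδ' := lcDelta_bijective J' hS' i
  have hδ := lcDelta_bijective J hS i
  obtain ⟨φ, hφ⟩ := exists_addEquiv_of_surjective
    (lcDelta J' hS' i).toAddMonoidHom (lcDelta J hS i).toAddMonoidHom
    hδ'.2 hδ.2 φQ (by
      intro a
      show lcDelta J' hS' i a = 0 ↔ lcDelta J hS i (φQ a) = 0
      rw [← map_zero (lcDelta J' hS' i), hδ'.1.eq_iff,
        ← map_zero (lcDelta J hS i), hδ.1.eq_iff]
      exact (AddEquiv.map_eq_zero_iff φQ).symm)
  refine ⟨φ, ?_⟩
  intro r x
  obtain ⟨a, rfl⟩ := hδ'.2 x
  have e1 : φ (lcDelta J' hS' i a) = lcDelta J hS i (φQ a) := hφ a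
  have e2 : φ (lcDelta J' hS' i (algebraMap R R' r • a)) =
      lcDelta J hS i (φQ (algebraMap R R' r • a)) := hφ _
  rw [← map_smul, e2, e1, hφQ, map_smul]

/-- dimension shifting step. -/
lemma exists_lc_baseChange_succ (i : ℕ) (hi : 0 < i)
    (ih : ∀ (Q : Type u) [AddCommGroup Q] [Module R' Q] [Module R Q] [IsScalarTower R R' Q],
      ∃ φ : LocCoh.H (I.map (algebraMap R R')) i Q ≃+ LocCoh.H I i Q,
        ∀ (r : R) (x : LocCoh.H (I.map (algebraMap R R')) i Q),
          φ (algebraMap R R' r • x) = r • φ x)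
    (M' : Type u) [AddCommGroup M'] [Module R' M'] [Module R M'] [IsScalarTower R R' M'] :
    ∃ φ : LocCoh.H (I.map (algebraMap R R')) (i + 1) M' ≃+ LocCoh.H I (i + 1) M',
      ∀ (r : R) (x : LocCoh.H (I.map (algebraMap R R')) (i + 1) M'),
        φ (algebraMap R R' r • x) = r • φ x := by
  let E0 : ModuleCat.{u} R' := Injective.under (ModuleCat.of R' M')
  let ι : ModuleCat.of R' M' ⟶ E0 := Injective.ι _
  have hι : Function.Injective ι.hom := (ModuleCat.mono_iff_injective ι).mp inferInstance
  let _ : Module R E0 := Module.compHom E0 (algebraMap R R')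
  have : IsScalarTower R R' E0 := IsScalarTower.of_algebraMap_smul (fun r x => rfl)
  have : Injective (ModuleCat.of R' E0) := (inferInstance : Injective E0)
  have : Module.Injective R' E0 := Module.injective_module_of_injective_object R' E0
  -- the short exact sequences
  have hS' := sesOfInjective_shortExact ι.hom hι
  let P : Submodule R' E0 := LinearMap.range ι.hom
  let S : ShortComplex (ModuleCat.{u} R) :=
    ShortComplex.mk (ModuleCat.ofHom (ι.hom.restrictScalars R))
      (ModuleCat.ofHom (P.mkQ.restrictScalars R)) (by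
        ext x
        exact (Submodule.Quotient.mk_eq_zero P).mpr ⟨x, rfl⟩)
  have hS : S.ShortExact := by
    apply ModuleCat.shortComplex_shortExact
    · exact LinearMap.exact_map_mkQ_range ι.hom
    · exact hι
    · exact P.mkQ_surjective
  -- vanishing for the injective module
  have h1' : Subsingleton ((localCohomology (I.map (algebraMap R R')) i).obj
      (sesOfInjective ι.hom).X₂) :=
    lc_subsingleton_of_injective (I.map (algebraMap R R')) (ModuleCat.of R' E0) i hi
  have h2' : Subsingleton ((localCohomology (I.map (algebraMap R R')) (i + 1)).obj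
      (sesOfInjective ι.hom).X₂) :=
    lc_subsingleton_of_injective (I.map (algebraMap R R')) (ModuleCat.of R' E0) (i + 1)
      (Nat.succ_pos i)
  have h1 : Subsingleton ((localCohomology I i).obj S.X₂) :=
    Groth.Agent.S11611.result R R' I E0 i hi
  have h2 : Subsingleton ((localCohomology I (i + 1)).obj S.X₂) :=
    Groth.Agent.S11611.result R R' I E0 (i + 1) (Nat.succ_pos i)
  obtain ⟨φQ, hφQ⟩ := ih (E0 ⧸ P)
  exact exists_lc_baseChange_step_aux hS' hS (I.map (algebraMap R R')) I i φQ hφQ

/-- **Independence of the base ring** for local cohomology. -/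
theorem exists_lc_baseChange (i : ℕ) :
    ∀ (M' : Type u) [AddCommGroup M'] [Module R' M'] [Module R M'] [IsScalarTower R R' M'],
      ∃ φ : LocCoh.H (I.map (algebraMap R R')) i M' ≃+ LocCoh.H I i M',
        ∀ (r : R) (x : LocCoh.H (I.map (algebraMap R R')) i M'),
          φ (algebraMap R R' r • x) = r • φ x := by
  induction i with
  | zero => intro M' _ _ _ _; exact exists_lc_baseChange_zero I M'
  | succ i ih =>
    intro M' _ _ _ _
    rcases Nat.eq_zero_or_pos i with rfl | hi
    · exact exists_lc_baseChange_one I M'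
    · exact exists_lc_baseChange_succ I i hi ih M'

end BC

end Groth.Agent.Lib.Helper60
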