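import Groth.Agent.Lib.Helper60.LocalCohDepth
import Mathlib.RingTheory.KrullDimension.Regular
import Mathlib.RingTheory.Regular.LinearMap

/-!
# Grothendieck's vanishing theorem for finitely generated modules (helper60)

* `torsionSub_quotient_eq_bot` : `Γ_J(M/Γ_J(M)) = 0` (Noetherian ring).
* `exists_isSMulRegular_of_torsionSub_eq_bot` : a finite `J`-torsion-free module has a regular
  element in `J`.
* `lc_subsingleton_of_supportDim_lt_of_finite` : `H^i_J(M) = 0` for `i > dim Supp M`, `M` finite.
-/

set_option autoImplicit false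
universe u
open CategoryTheory CategoryTheory.Limits Opposite Abelian

namespace Groth.Agent.Lib.Helper60

variable {R : Type u} [CommRing R]

/-- arithmetic in `WithBot ℕ∞`. -/
lemma lt_of_add_one_lt_natCast {a : WithBot ℕ∞} {i : ℕ}
    (h : a + 1 < ((i + 1 : ℕ) : WithBot ℕ∞)) : a < (i : WithBot ℕ∞) := by
  induction a using WithBot.recBotCoe with
  | bot => exact WithBot.bot_lt_coe _
  | coe x =>
    induction x using ENat.recTopCoe with
    | top =>
      exfalso
      have : ((⊤ : ℕ∞) : WithBot ℕ∞) + 1 = ((⊤ : ℕ∞) : WithBot ℕ∞) := by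
        rw [← WithBot.coe_one, ← WithBot.coe_add, top_add]
      rw [this] at h
      have h' : ((⊤ : ℕ∞) : WithBot ℕ∞) < (((i + 1 : ℕ) : ℕ∞) : WithBot ℕ∞) := h
      rw [WithBot.coe_lt_coe] at h'
      exact absurd h' (by simp)
    | coe n =>
      have h' : (((n + 1 : ℕ) : ℕ∞) : WithBot ℕ∞) < (((i + 1 : ℕ) : ℕ∞) : WithBot ℕ∞) := by
        simpa using h
      rw [WithBot.coe_lt_coe, Nat.cast_lt] at h'
      have : ((n : ℕ∞) : WithBot ℕ∞) < ((i : ℕ∞) : WithBot ℕ∞) := by
        rw [WithBot.coe_lt_coe, Nat.cast_lt]; omega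
      exact this

/-- `M/Γ_J(M)` has no `J`-power torsion (Noetherian ring). -/
lemma torsionSub_quotient_eq_bot [IsNoetherianRing R] (J : Ideal R) (M : Type u)
    [AddCommGroup M] [Module R M] :
    DRing.torsionSub J (M ⧸ DRing.torsionSub J M) = ⊥ := by
  rw [eq_bot_iff]
  intro y hy
  obtain ⟨m, rfl⟩ := Submodule.Quotient.mk_surjective _ y
  obtain ⟨n, hn⟩ := hy
  rw [Submodule.mem_bot, Submodule.Quotient.mk_eq_zero]
  -- `J^n • m ⊆ Γ_J(M)`
  have h1 : ∀ a ∈ J ^ n, a • m ∈ DRing.torsionSub J M := by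
    intro a ha
    have := hn a ha
    rwa [← Submodule.Quotient.mk_smul, Submodule.Quotient.mk_eq_zero] at this
  -- the image of `J^n` under `a ↦ a • m` is finitely generated and inside `Γ_J(M)`
  have hfg : (J ^ n).FG := IsNoetherian.noetherian _
  obtain ⟨s, hs⟩ := hfg
  have h2 : ∀ a ∈ s, ∃ k : ℕ, ∀ b ∈ J ^ k, b • (a • m) = 0 := by
    intro a ha
    exact h1 a (hs ▸ Submodule.subset_span ha)
  choose! k hk using h2
  refine ⟨s.sup k + n, ?_⟩
  intro c hc
  rw [pow_add] at hc
  refine Submodule.mul_induction_on hc ?_ ?_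
  · intro b hb a ha
    rw [mul_smul]
    -- `a ∈ J^n = span s`
    rw [← hs] at ha
    refine Submodule.span_induction (p := fun a _ => b • a • m = 0) ?_ ?_ ?_ ?_ ha
    · intro a has
      exact hk a has b (Ideal.pow_le_pow_right (Finset.le_sup has) hb)
    · simp
    · intro x y _ _ hx hy
      rw [add_smul, smul_add, hx, hy, add_zero]
    · intro r x _ hx
      rw [smul_eq_mul, mul_smul, smul_comm, hx, smul_zero]
  · intro x y hx hy
    rw [add_smul, hx, hy, add_zero]

/-- A finite module with no `J`-power torsion has a regular element in `J` (Noetherian ring). -/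
lemma exists_isSMulRegular_of_torsionSub_eq_bot [IsNoetherianRing R] (J : Ideal R) (M : Type u)
    [AddCommGroup M] [Module R M] [Module.Finite R M] (h : DRing.torsionSub J M = ⊥) :
    ∃ r ∈ J, IsSMulRegular M r := by
  have hsub : Subsingleton ((R ⧸ J) →ₗ[R] M) := by
    refine ⟨fun f g => ?_⟩
    suffices H : ∀ f : (R ⧸ J) →ₗ[R] M, f = 0 by rw [H f, H g]
    intro f
    apply LinearMap.ext
    intro x
    obtain ⟨x, rfl⟩ := Ideal.Quotient.mk_surjective x
    have hmem : f (Ideal.Quotient.mk J x) ∈ DRing.torsionSub J M := by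
      refine ⟨1, fun a ha => ?_⟩
      rw [pow_one] at ha
      rw [← map_smul]
      have : a • (Ideal.Quotient.mk J x) = 0 := by
        rw [Algebra.smul_def, Ideal.Quotient.algebraMap_eq, ← map_mul,
          Ideal.Quotient.eq_zero_iff_mem]
        exact J.mul_mem_right _ ha
      rw [this, map_zero]
    rw [h, Submodule.mem_bot] at hmem
    rw [hmem]; rfl
  obtain ⟨r, hr, hreg⟩ := IsSMulRegular.subsingleton_linearMap_iff.mp hsub
  rw [Ideal.annihilator_quotient] at hr
  exact ⟨r, hr, hreg⟩

/-- **Grothendieck's vanishing theorem**, finitely generated case: over a Noetherian ring,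
`H^i_J(M) = 0` for a finite module `M` whose support has dimension `< i`. -/
theorem lc_subsingleton_of_supportDim_lt_of_finite [IsNoetherianRing R] (J : Ideal R) (i : ℕ) :
    ∀ (M : Type u) [AddCommGroup M] [Module R M] [Module.Finite R M],
      Module.supportDim R M < (i : WithBot ℕ∞) →
      Subsingleton ((localCohomology J i).obj (ModuleCat.of R M)) := by
  induction i with
  | zero =>
    intro M _ _ _ hdim
    have hbot : Module.supportDim R M = ⊥ := by
      by_contra hne
      obtain ⟨d, hd⟩ := WithBot.ne_bot_iff_exists.mp hne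
      rw [← hd] at hdim
      exact absurd (WithBot.coe_lt_coe.mp hdim) (by simp)
    have hM : Subsingleton M := (Module.supportDim_eq_bot_iff_subsingleton R M).mp hbot
    exact (lcH0Map_injective J (ModuleCat.of R M)).subsingleton
  | succ i ih =>
    intro M _ _ _ hdim
    -- reduce to `M' = M/Γ_J(M)`
    set T := DRing.torsionSub J M with hT
    have hbij := lcMap_mkQ_torsionSub_bijective J M (i + 1) (Nat.succ_pos i)
    suffices H : Subsingleton ((localCohomology J (i + 1)).obj (ModuleCat.of R (M ⧸ T))) from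
      hbij.1.subsingleton
    have hdim' : Module.supportDim R (M ⧸ T) < ((i + 1 : ℕ) : WithBot ℕ∞) :=
      lt_of_le_of_lt (Module.supportDim_le_of_surjective T.mkQ T.mkQ_surjective) hdim
    obtain ⟨r, hrJ, hr⟩ := exists_isSMulRegular_of_torsionSub_eq_bot J (M ⧸ T)
      (torsionSub_quotient_eq_bot J M)
    have hS := hr.smulShortComplex_shortExact (M := ModuleCat.of R (M ⧸ T))
    have hq : Module.supportDim R (QuotSMulTop r (M ⧸ T)) < (i : WithBot ℕ∞) := by
      have h1 := Module.supportDim_quotSMulTop_succ_le_of_notMem_minimalPrimes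
        (M := M ⧸ T) (x := r) (fun _ => hr.notMem_of_mem_minimalPrimes)
      exact lt_of_add_one_lt_natCast (lt_of_le_of_lt h1 hdim')
    have hvan : Subsingleton ((localCohomology J i).obj
        (ModuleCat.smulShortComplex (ModuleCat.of R (M ⧸ T)) r).X₃) :=
      ih (QuotSMulTop r (M ⧸ T)) hq
    refine ⟨fun a b => ?_⟩
    suffices H : ∀ y : (localCohomology J (i + 1)).obj (ModuleCat.of R (M ⧸ T)), y = 0 by
      rw [H a, H b]
    apply lc_eq_zero_of_smul_injective J (i + 1) (ModuleCat.of R (M ⧸ T)) r hrJ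
    intro y hy
    rw [← lcMap_smul_id] at hy
    obtain ⟨y₃, rfl⟩ := lc_exact₁ J hS i y hy
    rw [Subsingleton.elim y₃ 0, map_zero]
    rfl

end Groth.Agent.Lib.Helper60
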