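import Groth.Agent.Lib.Helper60.GrothVanishing

/-!
# Classes in `Ext^i(N, M)` with `N` finite come from finitely generated submodules of `M` (helper60)

* `ext_exists_fg` : over a Noetherian ring, for finite `N`, every `x ∈ Ext^i(N, M)` is the image of
  a class in `Ext^i(N, M₀)` for some finitely generated submodule `M₀ ≤ M`.
* `lc_exists_fg` : same for `H^i_J(M)`.
* `lc_subsingleton_of_supportDim_lt` : **Grothendieck's vanishing theorem** for arbitrary modules.
-/

set_option autoImplicit false
universe u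
open CategoryTheory CategoryTheory.Limits Opposite Abelian

namespace Groth.Agent.Lib.Helper60

variable {R : Type u} [CommRing R]

section ses

variable {F N : Type u} [AddCommGroup F] [Module R F] [AddCommGroup N] [Module R N]

/-- The short complex `0 → ker f → F → N → 0` of a linear map. -/
noncomputable def sesOfSurjective (f : F →ₗ[R] N) : ShortComplex (ModuleCat.{u} R) :=
  ShortComplex.mk (ModuleCat.ofHom (LinearMap.ker f).subtype) (ModuleCat.ofHom f) (by
    ext x
    exact x.2)

lemma sesOfSurjective_shortExact (f : F →ₗ[R] N) (hf : Function.Surjective f) :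
    (sesOfSurjective f).ShortExact := by
  apply ModuleCat.shortComplex_shortExact
  · exact LinearMap.exact_subtype_ker_map f
  · exact (LinearMap.ker f).injective_subtype
  · exact hf

end ses

/-- dimension-shifting step for `ext_exists_fg`, over an abstract short exact sequence. -/
lemma ext_exists_fg_aux {S : ShortComplex (ModuleCat.{u} R)} (hS : S.ShortExact)
    [Projective S.X₂] (i : ℕ) (M : ModuleCat.{u} R) (x : Abelian.Ext S.X₃ M (i + 1))
    (ih : ∀ y : Abelian.Ext S.X₁ M i,
      ∃ (M₀ : Submodule R M) (_ : M₀.FG) (y₀ : Abelian.Ext S.X₁ (ModuleCat.of R M₀) i),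
        y₀.comp (Ext.mk₀ (ModuleCat.ofHom M₀.subtype)) (add_zero i) = y) :
    ∃ (M₀ : Submodule R M) (_ : M₀.FG) (x₀ : Abelian.Ext S.X₃ (ModuleCat.of R M₀) (i + 1)),
      x₀.comp (Ext.mk₀ (ModuleCat.ofHom M₀.subtype)) (add_zero (i + 1)) = x := by
  have h0 : (Ext.mk₀ S.g).comp x (zero_add (i + 1)) = 0 := Ext.eq_zero_of_projective _
  obtain ⟨y, hy⟩ := Ext.contravariant_sequence_exact₃ hS M x h0 (n₀ := i) (by omega)
  obtain ⟨M₀, hfg, y₀, hy₀⟩ := ih y
  refine ⟨M₀, hfg, hS.extClass.comp y₀ (by omega), ?_⟩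
  rw [Ext.comp_assoc_of_third_deg_zero, hy₀, hy]

/-- Over a Noetherian ring, for a finite module `N`, every class in `Ext^i(N, M)` comes from a
finitely generated submodule of `M`. -/
theorem ext_exists_fg [IsNoetherianRing R] (i : ℕ) :
    ∀ (N : Type u) [AddCommGroup N] [Module R N] [Module.Finite R N] (M : ModuleCat.{u} R)
      (x : Abelian.Ext (ModuleCat.of R N) M i),
      ∃ (M₀ : Submodule R M) (_ : M₀.FG) (x₀ : Abelian.Ext (ModuleCat.of R N) (ModuleCat.of R M₀) i),
        x₀.comp (Ext.mk₀ (ModuleCat.ofHom M₀.subtype)) (add_zero i) = x := by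
  induction i with
  | zero =>
    intro N _ _ _ M x
    obtain ⟨ψ, rfl⟩ := (Ext.mk₀_bijective (ModuleCat.of R N) M).2 x
    refine ⟨LinearMap.range ψ.hom, ?_, Ext.mk₀ (ModuleCat.ofHom ψ.hom.rangeRestrict), ?_⟩
    · rw [LinearMap.range_eq_map]
      exact Submodule.FG.map _ Module.Finite.fg_top
    · rw [Ext.mk₀_comp_mk₀]
      rfl
  | succ i ih =>
    intro N _ _ _ M x
    obtain ⟨n, f, hf⟩ := Module.Finite.exists_fin' R N
    have hS := sesOfSurjective_shortExact f hf
    have hproj : Projective (sesOfSurjective f).X₂ :=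
      (IsProjective.iff_projective (R := R) (Fin n → R)).mp inferInstance
    exact ext_exists_fg_aux hS i M x (fun y => ih (LinearMap.ker f) M y)

/-- Over a Noetherian ring, every class in `H^i_J(M)` comes from a finitely generated submodule
of `M`. -/
theorem lc_exists_fg [IsNoetherianRing R] (J : Ideal R) (i : ℕ) (M : ModuleCat.{u} R)
    (y : (localCohomology J i).obj M) :
    ∃ (M₀ : Submodule R M) (_ : M₀.FG) (y₀ : (localCohomology J i).obj (ModuleCat.of R M₀)),
      ((localCohomology J i).map (ModuleCat.ofHom M₀.subtype)).hom y₀ = y := by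
  obtain ⟨n, x, rfl⟩ := lcMk_surj J i M y
  obtain ⟨M₀, hfg, x₀, hx₀⟩ := ext_exists_fg i (R ⧸ J ^ n) M x
  refine ⟨M₀, hfg, lcMk J i (ModuleCat.of R M₀) n x₀, ?_⟩
  rw [lcMap_lcMk, hx₀]

/-- **Grothendieck's vanishing theorem**: over a Noetherian ring, `H^i_J(M) = 0` for every module
`M` (not necessarily finite) whose support has dimension `< i`. -/
theorem lc_subsingleton_of_supportDim_lt [IsNoetherianRing R] (J : Ideal R) (i : ℕ)
    (M : Type u) [AddCommGroup M] [Module R M]
    (hdim : Module.supportDim R M < (i : WithBot ℕ∞)) :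
    Subsingleton ((localCohomology J i).obj (ModuleCat.of R M)) := by
  refine ⟨fun a b => ?_⟩
  suffices H : ∀ y : (localCohomology J i).obj (ModuleCat.of R M), y = 0 by rw [H a, H b]
  intro y
  obtain ⟨M₀, hfg, y₀, rfl⟩ := lc_exists_fg J i (ModuleCat.of R M) y
  have : Module.Finite R M₀ := Module.Finite.iff_fg.mpr hfg
  have hdim₀ : Module.supportDim R M₀ < (i : WithBot ℕ∞) :=
    lt_of_le_of_lt (Module.supportDim_le_of_injective M₀.subtype M₀.injective_subtype) hdim
  have := lc_subsingleton_of_supportDim_lt_of_finite J i M₀ hdim₀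
  rw [Subsingleton.elim y₀ 0, map_zero]

end Groth.Agent.Lib.Helper60
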