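import Groth.Agent.Lib.Helper60.NV1
import Groth.Agent.Lib.Helper60.LocalCohOf
import Groth.Agent.Lib.Helper29.DepthCM
import Groth.Agent.Lib.Helper29.DepthCM2

set_option autoImplicit false
universe u
open CategoryTheory CategoryTheory.Limits Opposite Abelian RingTheory.Sequence IsLocalRing
open Groth.Agent.Lib.Helper29

namespace Groth.Agent.Lib.Helper60

section faithful

variable {S : Type u} [CommRing S] [IsLocalRing S] [IsNoetherianRing S]

/-- regular sequences of length `≤ depth` can be found inside any power of the maximal ideal. -/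
theorem exists_isRegular_mem_pow (M : Type u) [AddCommGroup M] [Module S M] [Module.Finite S M]
    [Nontrivial M] (d : ℕ) (hd : (d : ℕ∞) ≤ LocCoh.depth S M) (t : ℕ) (ht : t ≠ 0) :
    ∃ zs : List S, zs.length = d ∧ (∀ r ∈ zs, r ∈ maximalIdeal S ^ t) ∧ IsRegular M zs := by
  have hmM := maximalIdeal_smul_top_ne_top S M
  have hIM : (maximalIdeal S ^ t) • (⊤ : Submodule S M) ≠ ⊤ := by
    intro h
    exact hmM (top_le_iff.mp (h.symm.le.trans (Submodule.smul_mono_left (Ideal.pow_le_self ht))))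
  have hsupp : Module.support S (S ⧸ maximalIdeal S) =
      PrimeSpectrum.zeroLocus (maximalIdeal S : Set S) := by
    rw [Module.support_eq_zeroLocus, Ideal.annihilator_quotient]
  have hsupp' : Module.support S (S ⧸ maximalIdeal S) =
      PrimeSpectrum.zeroLocus ((maximalIdeal S ^ t : Ideal S) : Set S) := by
    rw [hsupp, PrimeSpectrum.zeroLocus_pow _ ht]
  have h1 := (le_idealDepth_iff_ext_of_support (maximalIdeal S) M hmM (S ⧸ maximalIdeal S)
    hsupp d).mp hd
  have h2 := (le_idealDepth_iff_ext_of_support (maximalIdeal S ^ t) M hIM (S ⧸ maximalIdeal S)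
    hsupp' d).mpr h1
  rcases (le_idealDepth_iff (maximalIdeal S ^ t) M d).mp h2 with h3 | ⟨rs, hlen, hmem, hreg⟩
  · exact absurd h3 hIM
  · exact ⟨rs, hlen, hmem, isRegular_of_isWeaklyRegular_of_mem hIM hreg hmem⟩

/-- restriction `Ext^d(S/𝔞, M) → Ext^d(S/m^k, M)` is injective for `d ≤ depth M`. -/
theorem qres_eq_zero_of_le_depth (M : Type u) [AddCommGroup M] [Module S M] [Module.Finite S M]
    [Nontrivial M] (d : ℕ) (hd : (d : ℕ∞) ≤ LocCoh.depth S M) (𝔞 : Ideal S) (k : ℕ)
    (hk : maximalIdeal S ^ k ≤ 𝔞) (x : Abelian.Ext (quotObj 𝔞) (ModuleCat.of S M) d)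
    (hx : qres hk x = 0) : x = 0 := by
  rcases Nat.eq_zero_or_pos k with rfl | hkpos
  · have h𝔞 : 𝔞 = ⊤ := top_le_iff.mp (by simpa using hk)
    have : Subsingleton (S ⧸ 𝔞) := by
      rw [h𝔞]
      exact Ideal.Quotient.subsingleton_iff.mpr rfl
    exact (ext_subsingleton_of_subsingleton_left (S ⧸ 𝔞) (ModuleCat.of S M) d).elim _ _
  rcases d with _ | j
  · obtain ⟨f, rfl⟩ := (Ext.mk₀_bijective _ _).2 x
    unfold qres at hx
    rw [Ext.mk₀_comp_mk₀] at hx
    have h1 : qmap hk ≫ f = 0 := by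
      apply (Ext.mk₀_bijective _ _).1
      rw [hx, Ext.mk₀_zero]
    have h2 : f = 0 := by
      apply quotObj_hom_ext
      have h3 := congrArg (fun g => g.hom (Submodule.Quotient.mk (1 : S) : S ⧸ maximalIdeal S ^ k)) h1
      exact h3
    rw [h2, Ext.mk₀_zero]
  · obtain ⟨rs, hlen, hmem, hreg⟩ := exists_isRegular_mem_pow M (j + 1) hd k (by omega)
    have hsurj : Function.Surjective (qmap hk).hom := by
      intro y
      obtain ⟨y, rfl⟩ := Submodule.Quotient.mk_surjective _ (y : S ⧸ 𝔞)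
      exact ⟨Submodule.Quotient.mk y, rfl⟩
    have hS := sesOfSurjective_shortExact (qmap hk).hom hsurj
    have hK : ∀ r ∈ rs, ∀ l : LinearMap.ker (qmap hk).hom, r • l = 0 := by
      intro r hr l
      apply Subtype.ext
      obtain ⟨⟨y⟩, hy⟩ := l
      show r • (Submodule.Quotient.mk y : S ⧸ maximalIdeal S ^ k) = 0
      rw [← Submodule.Quotient.mk_smul, Submodule.Quotient.mk_eq_zero, smul_eq_mul]
      exact Ideal.mul_mem_right _ _ (hmem r hr)
    have hvan : Subsingleton (Abelian.Ext (sesOfSurjective (qmap hk).hom).X₁ (ModuleCat.of S M) j) :=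
      ext_subsingleton_of_isRegular_of_kills (LinearMap.ker (qmap hk).hom) M rs hreg hK j
        (by omega)
    obtain ⟨x₁, hx₁⟩ := Ext.contravariant_sequence_exact₃ hS (ModuleCat.of S M) x hx
      (add_comm 1 j)
    rw [← hx₁, Subsingleton.elim x₁ 0, Ext.comp_zero]
    rfl


/-- **faithfulness of top local cohomology of a Cohen–Macaulay module**: if `s` kills
`H^d_m(M₀)` (`d = depth M₀ = dim M₀`) then `s` kills `M₀`. -/
theorem smul_eq_zero_of_smul_lc_top_eq_zero (M₀ : Type u) [AddCommGroup M₀] [Module S M₀]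
    [Module.Finite S M₀] [Nontrivial M₀] (d : ℕ) (hdepth : LocCoh.depth S M₀ = d)
    (hdim : Module.supportDim S M₀ = d) (s : S)
    (hs : ∀ h : (localCohomology (maximalIdeal S) d).obj (ModuleCat.of S M₀), s • h = 0)
    (z : M₀) : s • z = 0 := by
  by_contra hne
  have hK := Ideal.iInf_pow_smul_eq_bot_of_isLocalRing (R := S) (M := M₀) (maximalIdeal S)
    (Ideal.IsPrime.ne_top inferInstance)
  have hex : ∃ t, s • z ∉ (maximalIdeal S ^ t) • (⊤ : Submodule S M₀) := by
    by_contra hall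
    push Not at hall
    apply hne
    have h1 : s • z ∈ (⨅ i : ℕ, maximalIdeal S ^ i • ⊤ : Submodule S M₀) :=
      (Submodule.mem_iInf _).mpr hall
    rw [hK] at h1
    exact h1
  obtain ⟨t, ht⟩ := hex
  have ht0 : t ≠ 0 := by
    rintro rfl
    apply ht
    simp
  obtain ⟨zs, hlen, hmem, hreg⟩ := exists_isRegular_mem_pow M₀ d (by rw [hdepth]) t ht0
  subst hlen
  have hNnt : Nontrivial (M₀ ⧸ Ideal.ofList zs • (⊤ : Submodule S M₀)) :=
    Submodule.Quotient.nontrivial_iff.mpr hreg.top_ne_smul.symm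
  have hdimN : Module.supportDim S (M₀ ⧸ Ideal.ofList zs • (⊤ : Submodule S M₀)) = 0 := by
    have h4 := Module.supportDim_add_length_eq_supportDim_of_isRegular zs hreg
    rw [hdim] at h4
    refine withBot_enat_add_nat_cancel zs.length (supportDim_ne_top S _) ?_
    rw [zero_add]
    exact h4
  have hsupp := support_of_supportDim_eq_zero (R := S)
    (N := M₀ ⧸ Ideal.ofList zs • (⊤ : Submodule S M₀)) hdimN
  rw [Module.support_eq_zeroLocus] at hsupp
  have hle : maximalIdeal S ≤
      (Module.annihilator S (M₀ ⧸ Ideal.ofList zs • (⊤ : Submodule S M₀))).radical := by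
    rw [← PrimeSpectrum.zeroLocus_subset_zeroLocus_iff, hsupp]
  obtain ⟨T, hT⟩ := Ideal.exists_pow_le_of_le_radical_of_fg hle (IsNoetherian.noetherian _)
  set 𝔞 : Ideal S := Module.annihilator S (M₀ ⧸ Ideal.ofList zs • (⊤ : Submodule S M₀)) with h𝔞
  -- the map `S/𝔞 → N`, `1 ↦ z̄`
  let zbar : M₀ ⧸ Ideal.ofList zs • (⊤ : Submodule S M₀) := Submodule.Quotient.mk z
  have hker : (𝔞 : Submodule S S) ≤ LinearMap.ker (LinearMap.toSpanSingleton S _ zbar) := by
    intro a ha
    rw [LinearMap.mem_ker, LinearMap.toSpanSingleton_apply]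
    exact Module.mem_annihilator.mp ha zbar
  let φ : (S ⧸ 𝔞) →ₗ[S] (M₀ ⧸ Ideal.ofList zs • (⊤ : Submodule S M₀)) :=
    Submodule.liftQ 𝔞 (LinearMap.toSpanSingleton S _ zbar) hker
  have hzs𝔞 : ∀ r ∈ zs, r ∈ 𝔞 := by
    intro r hr
    rw [h𝔞, Module.mem_annihilator]
    intro n
    obtain ⟨m₀, rfl⟩ := Submodule.Quotient.mk_surjective _ n
    rw [← Submodule.Quotient.mk_smul, Submodule.Quotient.mk_eq_zero]
    exact Submodule.smul_mem_smul (Ideal.subset_span hr) Submodule.mem_top
  have hL : ∀ r ∈ zs, ∀ l : S ⧸ 𝔞, r • l = 0 := by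
    intro r hr l
    obtain ⟨y, rfl⟩ := Submodule.Quotient.mk_surjective _ l
    rw [← Submodule.Quotient.mk_smul, Submodule.Quotient.mk_eq_zero, smul_eq_mul]
    exact Ideal.mul_mem_right _ _ (hzs𝔞 r hr)
  have hsE : ∀ e : Abelian.Ext (ModuleCat.of S (S ⧸ 𝔞)) (ModuleCat.of S M₀) zs.length,
      s • e = 0 := by
    intro e
    have h1 : lcOf (maximalIdeal S) zs.length (ModuleCat.of S M₀) hT (s • e) = 0 := by
      rw [lcOf_smul]
      exact hs _
    obtain ⟨k, hk, h0⟩ := (lcOf_eq_zero_iff (maximalIdeal S) zs.length (ModuleCat.of S M₀) hT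
      (s • e)).mp h1
    exact qres_eq_zero_of_le_depth M₀ zs.length (by rw [hdepth]) 𝔞 k hk (s • e) h0
  have h5 := smul_hom_eq_zero_of_smul_ext_eq_zero (S ⧸ 𝔞) s zs M₀ hreg hL hsE φ
  have h6 := congrArg (fun f => f (Submodule.Quotient.mk (1 : S))) h5
  have h7 : s • zbar = 0 := by
    have h8 : φ (Submodule.Quotient.mk (1 : S)) = zbar := by
      show (LinearMap.toSpanSingleton S _ zbar) 1 = zbar
      rw [LinearMap.toSpanSingleton_apply, one_smul]
    have h9 : s • φ (Submodule.Quotient.mk (1 : S)) = 0 := h6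
    rw [h8] at h9
    exact h9
  have h10 : s • z ∈ Ideal.ofList zs • (⊤ : Submodule S M₀) := by
    rw [← Submodule.Quotient.mk_eq_zero, Submodule.Quotient.mk_smul]
    exact h7
  apply ht
  have hle2 : Ideal.ofList zs ≤ maximalIdeal S ^ t := by
    rw [Ideal.ofList, Ideal.span_le]
    exact fun r hr => hmem r hr
  exact Submodule.smul_mono_left hle2 h10

end faithful

end Groth.Agent.Lib.Helper60
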