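import Groth.Agent.Lib.Helper60.ExtBridge

set_option autoImplicit false
universe u
open CategoryTheory CategoryTheory.Limits Opposite Abelian

namespace Groth.Agent.Lib.Helper60

variable {R : Type u} [CommRing R]
variable {X : ModuleCat.{u} R} (P : ProjectiveResolution X) (n : ℕ) (Y : ModuleCat.{u} R)

open CochainComplex HomComplex in
lemma extMk_zero_eq_zero_iff (f : P.complex.X 0 ⟶ Y) (hf : P.complex.d 1 0 ≫ f = 0) :
    P.extMk f 1 rfl hf = 0 ↔ f = 0 := by
  constructor
  · intro h
    have h' := h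
    simp only [← P.extEquivCohomologyClass.apply_eq_iff_eq,
      ProjectiveResolution.extEquivCohomologyClass_extMk,
      ProjectiveResolution.extEquivCohomologyClass_zero,
      CohomologyClass.mk_eq_zero_iff] at h'
    rw [Cocycle.toSingleMk_mem_coboundaries_iff _ _ _ _ _ 1 (by lia)] at h'
    obtain ⟨g, hg⟩ := h'
    have hz : IsZero (P.cochainComplex.X 1) := CochainComplex.isZero_of_isStrictlyLE _ 0 _ (by lia)
    have hg0 : g = 0 := hz.eq_of_src _ _
    rw [hg0, comp_zero] at hg
    have := congrArg (fun t => (P.cochainComplexXIso (-(0:ℕ)) 0 rfl).inv ≫ t) hg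
    simpa using this.symm
  · rintro rfl
    exact P.extMk_zero 1 rfl

lemma oldMk_congr {f f' : P.complex.X n ⟶ Y} (h : f = f') (hf : P.complex.d (n + 1) n ≫ f = 0)
    (hf' : P.complex.d (n + 1) n ≫ f' = 0) : oldMk P n Y f hf = oldMk P n Y f' hf' := by
  subst h
  rfl

lemma oldMk_neg (f : P.complex.X n ⟶ Y) (hf : P.complex.d (n + 1) n ≫ f = 0) :
    oldMk P n Y (-f) (by rw [Preadditive.comp_neg, hf, neg_zero]) = -oldMk P n Y f hf := by
  exact (oldMk_congr P n Y (neg_one_smul R f).symm _ _).trans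
    ((oldMk_smul P n Y (-1 : R) f hf).trans (neg_one_smul R _))

lemma oldMk_sub (f g : P.complex.X n ⟶ Y) (hf : P.complex.d (n + 1) n ≫ f = 0)
    (hg : P.complex.d (n + 1) n ≫ g = 0) :
    oldMk P n Y (f - g) (by rw [Preadditive.comp_sub, hf, hg, sub_zero]) =
      oldMk P n Y f hf - oldMk P n Y g hg := by
  have h1 := oldMk_add P n Y f (-g) hf (by rw [Preadditive.comp_neg, hg, neg_zero])
  exact (oldMk_congr P n Y (sub_eq_add_neg f g) _ _).trans
    (h1.trans ((congrArg (oldMk P n Y f hf + ·) (oldMk_neg P n Y g hg)).trans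
      (sub_eq_add_neg _ _).symm))

/-- a cocycle is zero in old `Ext` iff it is zero in new `Ext`. -/
lemma oldMk_eq_zero_iff_extMk_eq_zero (f : P.complex.X n ⟶ Y)
    (hf : P.complex.d (n + 1) n ≫ f = 0) :
    oldMk P n Y f hf = 0 ↔ P.extMk f (n + 1) rfl hf = 0 := by
  cases n with
  | zero =>
    rw [oldMk_zero_eq_zero_iff, extMk_zero_eq_zero_iff]
  | succ p =>
    rw [oldMk_eq_zero_iff P (p + 1) Y p rfl, P.extMk_eq_zero_iff f (p + 1 + 1) rfl hf p rfl]

lemma oldMk_eq_iff_extMk_eq (f g : P.complex.X n ⟶ Y) (hf : P.complex.d (n + 1) n ≫ f = 0)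
    (hg : P.complex.d (n + 1) n ≫ g = 0) :
    oldMk P n Y f hf = oldMk P n Y g hg ↔ P.extMk f (n + 1) rfl hf = P.extMk g (n + 1) rfl hg := by
  rw [← sub_eq_zero, ← oldMk_sub, oldMk_eq_zero_iff_extMk_eq_zero, ← P.sub_extMk, sub_eq_zero]

/-- independence of the resolution: old side. -/
lemma oldMk_eq_of_lift {P' : ProjectiveResolution X} (φ : P'.complex ⟶ P.complex)
    (comm : φ.f 0 ≫ P.π.f 0 = P'.π.f 0) (f : P.complex.X n ⟶ Y)
    (hf : P.complex.d (n + 1) n ≫ f = 0) :
    oldMk P n Y f hf = oldMk P' n Y (φ.f n ≫ f)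
      (by rw [← Category.assoc, ← φ.comm, Category.assoc, hf, comp_zero]) := by
  have h := mapLeft_oldMk P n P' (𝟙 X) φ (comm.trans (Category.comp_id (P'.π.f 0)).symm) Y f hf
  rw [← h]
  have : ((Ext R (ModuleCat.{u} R) n).map (𝟙 X).op) = 𝟙 _ := by
    rw [op_id, CategoryTheory.Functor.map_id]
  rw [this]
  rfl

/-- independence of the resolution: new side. -/
lemma extMk_eq_of_lift {P' : ProjectiveResolution X} (φ : P'.complex ⟶ P.complex)
    (comm : φ.f 0 ≫ P.π.f 0 = P'.π.f 0) (f : P.complex.X n ⟶ Y)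
    (hf : P.complex.d (n + 1) n ≫ f = 0) :
    P.extMk f (n + 1) rfl hf = P'.extMk (φ.f n ≫ f) (n + 1) rfl
      (by rw [← Category.assoc, ← φ.comm, Category.assoc, hf, comp_zero]) := by
  let Φ : ProjectiveResolution.Hom P' P (𝟙 X) :=
    { hom := φ
      hom_f_zero_comp_π_f_zero := by
        rw [comm, CategoryTheory.Functor.map_id]
        exact (Category.comp_id (P'.π.f 0)).symm }
  have := ProjectiveResolution.mk₀_comp_extMk (R := P) f (n + 1) rfl hf Φ
  rw [Ext.mk₀_id_comp] at this
  exact this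

lemma extMk_congr {f f' : P.complex.X n ⟶ Y} (h : f = f') (hf : P.complex.d (n + 1) n ≫ f = 0)
    (hf' : P.complex.d (n + 1) n ≫ f' = 0) :
    P.extMk f (n + 1) rfl hf = P.extMk f' (n + 1) rfl hf' := by
  subst h
  rfl

lemma extMk_smul (r : R) (f : P.complex.X n ⟶ Y) (hf : P.complex.d (n + 1) n ≫ f = 0) :
    P.extMk (r • f) (n + 1) rfl (by rw [Linear.comp_smul, hf, smul_zero]) =
      r • P.extMk f (n + 1) rfl hf := by
  have h1 := P.extMk_comp_mk₀ f (n + 1) rfl hf (r • 𝟙 Y)
  rw [Ext.mk₀_smul, Ext.comp_smul, Ext.comp_mk₀_id] at h1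
  rw [h1]
  apply extMk_congr
  rw [Linear.comp_smul, Category.comp_id]

variable (X) in
/-- The comparison map from Mathlib's old `Ext` (left derived functor) to the new `Abelian.Ext`. -/
noncomputable def extBridgeFun (x : ((Ext R (ModuleCat.{u} R) n).obj (op X)).obj Y) :
    Abelian.Ext X Y n :=
  (projectiveResolution X).extMk (oldMk_surjective (projectiveResolution X) n Y x).choose (n + 1) rfl
    (oldMk_surjective (projectiveResolution X) n Y x).choose_spec.choose

lemma extMk_eq_of_oldMk_eq {P₀ : ProjectiveResolution X} (f₀ : P₀.complex.X n ⟶ Y)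
    (hf₀ : P₀.complex.d (n + 1) n ≫ f₀ = 0) (f : P.complex.X n ⟶ Y)
    (hf : P.complex.d (n + 1) n ≫ f = 0) (h : oldMk P₀ n Y f₀ hf₀ = oldMk P n Y f hf) :
    P₀.extMk f₀ (n + 1) rfl hf₀ = P.extMk f (n + 1) rfl hf := by
  let φ := ProjectiveResolution.lift (𝟙 X) P₀ P
  have hφ : φ.f 0 ≫ P.π.f 0 = P₀.π.f 0 :=
    (ProjectiveResolution.lift_commutes_zero (𝟙 X) P₀ P).trans (Category.comp_id _)
  rw [oldMk_eq_of_lift P n Y φ hφ f hf, oldMk_eq_iff_extMk_eq] at h
  rw [extMk_eq_of_lift P n Y φ hφ f hf]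
  exact h

lemma extBridgeFun_oldMk (f : P.complex.X n ⟶ Y) (hf : P.complex.d (n + 1) n ≫ f = 0) :
    extBridgeFun X n Y (oldMk P n Y f hf) = P.extMk f (n + 1) rfl hf :=
  extMk_eq_of_oldMk_eq P n Y _ _ f hf
    (oldMk_surjective (projectiveResolution X) n Y (oldMk P n Y f hf)).choose_spec.choose_spec

variable (X) in
/-- **The bridge**: Mathlib's old `Ext` (left derived functor of `Hom`) is linearly equivalent to
the new `Abelian.Ext`. -/
noncomputable def extBridge :
    (((Ext R (ModuleCat.{u} R) n).obj (op X)).obj Y) ≃ₗ[R] Abelian.Ext X Y n :=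
  LinearEquiv.ofBijective
    { toFun := extBridgeFun X n Y
      map_add' := by
        intro x y
        obtain ⟨f, hf, rfl⟩ := oldMk_surjective (projectiveResolution X) n Y x
        obtain ⟨g, hg, rfl⟩ := oldMk_surjective (projectiveResolution X) n Y y
        rw [← oldMk_add, extBridgeFun_oldMk, extBridgeFun_oldMk, extBridgeFun_oldMk,
          ProjectiveResolution.add_extMk]
      map_smul' := by
        intro r x
        obtain ⟨f, hf, rfl⟩ := oldMk_surjective (projectiveResolution X) n Y x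
        rw [← oldMk_smul, extBridgeFun_oldMk, extBridgeFun_oldMk, extMk_smul]
        rfl }
    (by
      constructor
      · intro x y hxy
        obtain ⟨f, hf, rfl⟩ := oldMk_surjective (projectiveResolution X) n Y x
        obtain ⟨g, hg, rfl⟩ := oldMk_surjective (projectiveResolution X) n Y y
        change extBridgeFun X n Y _ = extBridgeFun X n Y _ at hxy
        rw [extBridgeFun_oldMk, extBridgeFun_oldMk] at hxy
        rwa [oldMk_eq_iff_extMk_eq]
      · intro α
        obtain ⟨f, hf, rfl⟩ := (projectiveResolution X).extMk_surjective α (n + 1) rfl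
        exact ⟨oldMk (projectiveResolution X) n Y f hf, extBridgeFun_oldMk _ n Y f hf⟩)

@[simp]
lemma extBridge_oldMk (f : P.complex.X n ⟶ Y) (hf : P.complex.d (n + 1) n ≫ f = 0) :
    extBridge X n Y (oldMk P n Y f hf) = P.extMk f (n + 1) rfl hf :=
  extBridgeFun_oldMk P n Y f hf

/-- naturality of the bridge in the second variable. -/
lemma extBridge_map {Y Y' : ModuleCat.{u} R} (g : Y ⟶ Y')
    (x : ((Ext R (ModuleCat.{u} R) n).obj (op X)).obj Y) :
    extBridge X n Y' ((((Ext R (ModuleCat.{u} R) n).obj (op X)).map g).hom x) =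
      (extBridge X n Y x).comp (Ext.mk₀ g) (add_zero n) := by
  obtain ⟨f, hf, rfl⟩ := oldMk_surjective (projectiveResolution X) n Y x
  rw [map_oldMk, extBridge_oldMk, extBridge_oldMk, ProjectiveResolution.extMk_comp_mk₀]

/-- naturality of the bridge in the first variable. -/
lemma extBridge_mapLeft {X' : ModuleCat.{u} R} (f : X' ⟶ X) (Y : ModuleCat.{u} R)
    (x : ((Ext R (ModuleCat.{u} R) n).obj (op X)).obj Y) :
    extBridge X' n Y ((((Ext R (ModuleCat.{u} R) n).map f.op).app Y).hom x) =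
      (Ext.mk₀ f).comp (extBridge X n Y x) (zero_add n) := by
  obtain ⟨h, hh, rfl⟩ := oldMk_surjective (projectiveResolution X) n Y x
  let φ := ProjectiveResolution.lift f (projectiveResolution X') (projectiveResolution X)
  have hφ := ProjectiveResolution.lift_commutes_zero f (projectiveResolution X')
    (projectiveResolution X)
  rw [mapLeft_oldMk (projectiveResolution X) n (projectiveResolution X') f φ hφ Y h hh,
    extBridge_oldMk, extBridge_oldMk]
  let Φ : ProjectiveResolution.Hom (projectiveResolution X') (projectiveResolution X) f :=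
    { hom := φ
      hom_f_zero_comp_π_f_zero := by
        rw [hφ]
        rfl }
  exact (ProjectiveResolution.mk₀_comp_extMk (R := projectiveResolution X) h (n + 1) rfl hh Φ).symm

end Groth.Agent.Lib.Helper60
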