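import Groth.Agent.Lib.Helper60.IdealTransformBC
import Mathlib.Algebra.Module.FinitePresentation
import Mathlib.Algebra.Module.Injective

/-!
# Flat base change: maps from extended ideals into `R' ⊗ E` (helper60)
-/

set_option autoImplicit false
universe u
open CategoryTheory CategoryTheory.Limits Opposite

namespace Groth.Agent.Lib.Helper60

open LocCoh TensorProduct

section

variable {R : Type u} [CommRing R] {R' : Type u} [CommRing R'] [Algebra R R'] (I : Ideal R)

/-- For a flat homomorphism `R → R'` of rings with `R` Noetherian and an injective `R`-module `E`,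
every `R'`-linear map `(IR')^n → R' ⊗ E` is multiplication by an element. -/
lemma exists_smul_eq_of_injective [IsNoetherianRing R] [Module.Flat R R'] (E : Type u)
    [AddCommGroup E] [Module R E] [Module.Injective R E] (n : ℕ)
    (f : ↥((I.map (algebraMap R R')) ^ n) →ₗ[R'] R' ⊗[R] E) :
    ∃ x : R' ⊗[R] E, ∀ z, f z = z.1 • x := by
  have hfp : Module.FinitePresentation R ↥(I ^ n) := Module.finitePresentation_of_finite R _
  have ibc := Module.FinitePresentation.isBaseChange_map R ↥(I ^ n) E R'
  have key : ∀ ξ : R' ⊗[R] (↥(I ^ n) →ₗ[R] E), ∃ x : R' ⊗[R] E,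
      ∀ y : R' ⊗[R] ↥(I ^ n), ibc.equiv ξ y = (tensorPowMap (R' := R') I n y).1 • x := by
    intro ξ
    induction ξ using TensorProduct.induction_on with
    | zero => exact ⟨0, fun y => by simp⟩
    | add ξ₁ ξ₂ h₁ h₂ =>
      obtain ⟨x₁, hx₁⟩ := h₁
      obtain ⟨x₂, hx₂⟩ := h₂
      refine ⟨x₁ + x₂, fun y => ?_⟩
      rw [map_add, LinearMap.add_apply, hx₁, hx₂, smul_add]
    | tmul s h =>
      obtain ⟨h', hh'⟩ := Module.Baer.of_injective (inferInstance : Module.Injective R E) (I ^ n) h
      refine ⟨s ⊗ₜ h' 1, fun y => ?_⟩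
      induction y using TensorProduct.induction_on with
      | zero => simp
      | add y₁ y₂ e₁ e₂ =>
        rw [map_add, e₁, e₂, map_add, Submodule.coe_add, add_smul]
      | tmul t a =>
        rw [IsBaseChange.equiv_tmul, LinearMap.smul_apply, tensorPowMap_tmul]
        have e1 : h a = a.1 • h' 1 := by
          rw [← map_smul, smul_eq_mul, mul_one]
          exact (hh' a.1 a.2).symm
        show s • ((h.baseChange R') (t ⊗ₜ a)) = _
        rw [LinearMap.baseChange_tmul, e1, TensorProduct.smul_tmul', Submodule.coe_smul,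
          powMapIncl_coe, TensorProduct.smul_tmul', TensorProduct.tmul_smul,
          TensorProduct.smul_tmul', smul_eq_mul, smul_eq_mul, Algebra.smul_def]
        congr 1
        ring
  obtain ⟨ξ, hξ⟩ := ibc.equiv.surjective (f ∘ₗ tensorPowMap (R' := R') I n)
  obtain ⟨x, hx⟩ := key ξ
  refine ⟨x, fun z => ?_⟩
  obtain ⟨y, rfl⟩ := tensorPowMap_surjective (R' := R') I n z
  rw [← hx y, hξ]
  rfl

end

end Groth.Agent.Lib.Helper60
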