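import Groth.Agent.Lib.Helper60.LocalCohDT
import Groth.Agent.Lib.Helper60.LocalCohOf

/-!
# Local cohomology with respect to a principal ideal vanishes in degrees `≥ 2` (helper60)
-/

set_option autoImplicit false
universe u
open CategoryTheory CategoryTheory.Limits Opposite Abelian

namespace Groth.Agent.Lib.Helper60

variable {R : Type u} [CommRing R]

open LocCoh

/-- local cohomology only depends on the ideal up to radical (vanishing version). -/
lemma lc_subsingleton_of_pow_le (K K' : Ideal R) (a b : ℕ) (h1 : K ^ a ≤ K') (h2 : K' ^ b ≤ K)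
    (i : ℕ) (M : ModuleCat.{u} R) [Subsingleton ((localCohomology K' i).obj M)] :
    Subsingleton ((localCohomology K i).obj M) := by
  refine ⟨fun y z => ?_⟩
  suffices H : ∀ y : (localCohomology K i).obj M, y = 0 by rw [H y, H z]
  intro y
  obtain ⟨m, x, rfl⟩ := lcOf_surj K i M y
  have hb : K' ^ (b * m) ≤ K ^ m := by
    rw [pow_mul]
    exact Ideal.pow_right_mono h2 m
  have h0 : lcOf K' i M hb x = 0 := Subsingleton.elim _ _
  rw [lcOf_eq_zero_iff] at h0
  obtain ⟨m', hm', e⟩ := h0
  rw [lcOf_eq_zero_iff]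
  have ha : K ^ (a * m') ≤ K' ^ m' := by
    rw [pow_mul]
    exact Ideal.pow_right_mono h1 m'
  refine ⟨a * m', ha.trans hm', ?_⟩
  have := qres_qres ha hm' x
  rw [e, qres_zero] at this
  exact this.symm

/-- naturality of `D_J(M) → H^1_J(M)`. -/
lemma lcMap_dtToH1 (J : Ideal R) {M N : ModuleCat.{u} R} (φ : M ⟶ N)
    (d : (idealTransform J).obj M) :
    ((localCohomology J 1).map φ).hom (dtToH1 J M d) =
      dtToH1 J N (((idealTransform J).map φ).hom d) := by
  obtain ⟨n, f, rfl⟩ := dtMk_surj J M d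
  rw [dtToH1_dtMk, dtMap_dtMk, dtToH1_dtMk, lcMap_lcMk]
  congr 1
  unfold xiExt
  simp only [LinearMap.coe_mk, AddHom.coe_mk]
  rw [Ext.comp_assoc _ _ _ (add_zero 1) (add_zero 0) (by omega), Ext.mk₀_comp_mk₀]
  rfl

lemma exists_stable_ann [IsNoetherianRing R] (a : R) :
    ∃ n0 : ℕ, ∀ m, n0 ≤ m → ∀ r : R, r * a ^ m = 0 → r * a ^ n0 = 0 := by
  let f : ℕ →o Ideal R := ⟨fun n => Submodule.torsionBy R R (a ^ n), fun n m h r hr => by
    rw [Submodule.mem_torsionBy_iff] at hr ⊢
    obtain ⟨k, rfl⟩ := Nat.exists_eq_add_of_le h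
    rw [pow_add, mul_comm (a ^ n), mul_smul, hr, smul_zero]⟩
  obtain ⟨n0, hn0⟩ := monotone_stabilizes_iff_noetherian.mpr (inferInstance : IsNoetherian R R) f
  refine ⟨n0, fun m hm r hr => ?_⟩
  have h1 : r ∈ f m := by
    show r ∈ Submodule.torsionBy R R (a ^ m)
    rw [Submodule.mem_torsionBy_iff, smul_eq_mul, mul_comm]
    exact hr
  rw [← hn0 m hm] at h1
  have h2 := (Submodule.mem_torsionBy_iff _ _).mp h1
  rw [smul_eq_mul, mul_comm] at h2
  exact h2

/-- for a principal ideal the ideal transform preserves surjections. -/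
lemma dtMap_surjective_of_principal [IsNoetherianRing R] (a : R) {E Q : ModuleCat.{u} R}
    (π : E ⟶ Q) (hπ : Function.Surjective π.hom) :
    Function.Surjective ((idealTransform (Ideal.span {a})).map π).hom := by
  intro d
  obtain ⟨n, f, rfl⟩ := dtMk_surj _ Q d
  obtain ⟨n0, hn0⟩ := exists_stable_ann a
  have memJ : ∀ k, a ^ k ∈ (Ideal.span {a} : Ideal R) ^ k := fun k =>
    Ideal.pow_mem_pow (Ideal.mem_span_singleton_self a) k
  obtain ⟨e, he⟩ := hπ (f ⟨a ^ n, memJ n⟩)
  let m := n0 + n
  let p : R →ₗ[R] ↥((Ideal.span {a} : Ideal R) ^ m) :=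
    LinearMap.toSpanSingleton R _ ⟨a ^ m, memJ m⟩
  have hp : Function.Surjective p := by
    rintro ⟨x, hx⟩
    rw [Ideal.span_singleton_pow, Ideal.mem_span_singleton'] at hx
    obtain ⟨r, rfl⟩ := hx
    exact ⟨r, Subtype.ext rfl⟩
  let h : R →ₗ[R] E := LinearMap.toSpanSingleton R E (a ^ n0 • e)
  have hle : LinearMap.ker p ≤ LinearMap.ker h := by
    intro r hr
    rw [LinearMap.mem_ker] at hr ⊢
    have h1 : r * a ^ m = 0 := congrArg Subtype.val hr
    have h2 := hn0 m (Nat.le_add_right n0 n) r h1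
    show r • a ^ n0 • e = 0
    rw [← mul_smul, h2, zero_smul]
  let g : ↥((Ideal.span {a} : Ideal R) ^ m) →ₗ[R] E :=
    (LinearMap.ker p).liftQ h hle ∘ₗ (p.quotKerEquivOfSurjective hp).symm.toLinearMap
  have hg : ∀ r, g (p r) = r • a ^ n0 • e := by
    intro r
    have : (p.quotKerEquivOfSurjective hp).symm (p r) = Submodule.Quotient.mk r := by
      rw [LinearEquiv.symm_apply_eq]
      rfl
    show (LinearMap.ker p).liftQ h hle ((p.quotKerEquivOfSurjective hp).symm (p r)) = _
    rw [this]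
    rfl
  refine ⟨dtMk _ E m g, ?_⟩
  rw [dtMap_dtMk, ← dtMk_res _ Q (Nat.le_add_left n n0) f]
  congr 1
  apply LinearMap.ext
  intro x
  obtain ⟨r, rfl⟩ := hp x
  rw [LinearMap.comp_apply, hg, map_smul, map_smul, he, dtRes_apply, ← map_smul, ← map_smul]
  congr 1
  apply Subtype.ext
  show r * (a ^ n0 * a ^ n) = r * a ^ m
  rw [← pow_add]

lemma lcMap_one_surjective_of_principal [IsNoetherianRing R] (a : R) {E Q : ModuleCat.{u} R}
    (π : E ⟶ Q) (hπ : Function.Surjective π.hom) :
    Function.Surjective ((localCohomology (Ideal.span {a}) 1).map π).hom := by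
  intro y
  obtain ⟨d, rfl⟩ := dtToH1_surjective _ Q y
  obtain ⟨d', rfl⟩ := dtMap_surjective_of_principal a π hπ d
  exact ⟨dtToH1 _ E d', lcMap_dtToH1 _ π d'⟩

/-- `H^i_{Ra}(M) = 0` for `i ≥ 2` over a Noetherian ring. -/
theorem lc_subsingleton_of_principal [IsNoetherianRing R] (a : R) (i : ℕ) (hi : 2 ≤ i) :
    ∀ (M : Type u) [AddCommGroup M] [Module R M],
      Subsingleton ((localCohomology (Ideal.span {a}) i).obj (ModuleCat.of R M)) := by
  obtain ⟨j, rfl⟩ := Nat.exists_eq_add_of_le hi
  induction j with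
  | zero =>
    intro M _ _
    let E := Injective.under (ModuleCat.of R M)
    let ι : ModuleCat.of R M ⟶ E := Injective.ι _
    have hι : Function.Injective ι.hom := (ModuleCat.mono_iff_injective ι).mp inferInstance
    have hS := sesOfInjective_shortExact ι.hom hι
    have : Injective (sesOfInjective ι.hom).X₂ := (inferInstance : Injective E)
    have := lc_subsingleton_of_injective (Ideal.span {a}) (sesOfInjective ι.hom).X₂ 2 (by omega)
    refine ⟨fun y z => ?_⟩
    suffices H : ∀ y : (localCohomology (Ideal.span {a}) (1 + 1)).obj (ModuleCat.of R M), y = 0 by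
      rw [H y, H z]
    intro y
    obtain ⟨y₃, rfl⟩ := lc_exact₁ (Ideal.span {a}) hS 1 y (Subsingleton.elim _ _)
    obtain ⟨y₂, rfl⟩ := lcMap_one_surjective_of_principal a (sesOfInjective ι.hom).g
      (LinearMap.range ι.hom).mkQ_surjective y₃
    exact lcDelta_comp_map _ hS 1 y₂
  | succ j ih =>
    intro M _ _
    let E := Injective.under (ModuleCat.of R M)
    let ι : ModuleCat.of R M ⟶ E := Injective.ι _
    have hι : Function.Injective ι.hom := (ModuleCat.mono_iff_injective ι).mp inferInstance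
    have hS := sesOfInjective_shortExact ι.hom hι
    have : Injective (sesOfInjective ι.hom).X₂ := (inferInstance : Injective E)
    have := lc_subsingleton_of_injective (Ideal.span {a}) (sesOfInjective ι.hom).X₂
      (2 + j + 1) (by omega)
    have h3 : Subsingleton ((localCohomology (Ideal.span {a}) (2 + j)).obj
        (sesOfInjective ι.hom).X₃) := ih (by omega) _
    refine ⟨fun y z => ?_⟩
    suffices H : ∀ y : (localCohomology (Ideal.span {a}) (2 + j + 1)).obj (ModuleCat.of R M),
        y = 0 by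
      rw [H y, H z]
    intro y
    obtain ⟨y₃, rfl⟩ := lc_exact₁ (Ideal.span {a}) hS (2 + j) y (Subsingleton.elim _ _)
    rw [Subsingleton.elim y₃ 0, map_zero]
    rfl

end Groth.Agent.Lib.Helper60
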