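import Groth.Agent.Lib.Helper60.MayerVietoris

set_option autoImplicit false
universe u
open CategoryTheory CategoryTheory.Limits Opposite Abelian

namespace Groth.Agent.Lib.Helper60

variable {R : Type u} [CommRing R]

namespace MV

section LC

variable (I J : Ideal R) (M : ModuleCat.{u} R) (i : ℕ)

lemma powInf_mono {k k' : ℕ} (h : k ≤ k') : I ^ k' ⊓ J ^ k' ≤ I ^ k ⊓ J ^ k :=
  inf_le_inf (Ideal.pow_le_pow_right h) (Ideal.pow_le_pow_right h)

lemma powSup_mono {k k' : ℕ} (h : k ≤ k') : I ^ k' ⊔ J ^ k' ≤ I ^ k ⊔ J ^ k :=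
  sup_le_sup (Ideal.pow_le_pow_right h) (Ideal.pow_le_pow_right h)

/-- the class in `H^i_{I∩J}(M)` of an element of `Ext^i(R/(I^k ∩ J^k), M)`. -/
noncomputable def theta (k : ℕ) (x : Abelian.Ext (quotObj (I ^ k ⊓ J ^ k)) M i) :
    (localCohomology (I ⊓ J) i).obj M :=
  lcOf (I ⊓ J) i M (inf_pow_le I J k) x

/-- the class in `H^i_{I+J}(M)` of an element of `Ext^i(R/(I^k + J^k), M)`. -/
noncomputable def sigma (k : ℕ) (w : Abelian.Ext (quotObj (I ^ k ⊔ J ^ k)) M i) :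
    (localCohomology (I ⊔ J) i).obj M :=
  lcOf (I ⊔ J) i M (sup_pow_two_mul_le I J k) w

lemma theta_qres {k k' : ℕ} (h : k ≤ k') (x : Abelian.Ext (quotObj (I ^ k ⊓ J ^ k)) M i) :
    theta I J M i k' (qres (powInf_mono I J h) x) = theta I J M i k x := by
  unfold theta
  rw [lcOf_qres]
  exact lcOf_indep _ _ _ _ _ _

lemma sigma_qres {k k' : ℕ} (h : k ≤ k') (w : Abelian.Ext (quotObj (I ^ k ⊔ J ^ k)) M i) :
    sigma I J M i k' (qres (powSup_mono I J h) w) = sigma I J M i k w := by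
  unfold sigma
  rw [lcOf_qres]
  exact lcOf_indep _ _ _ _ _ _

lemma theta_sub (k : ℕ) (x y : Abelian.Ext (quotObj (I ^ k ⊓ J ^ k)) M i) :
    theta I J M i k (x - y) = theta I J M i k x - theta I J M i k y :=
  lcOf_sub _ _ _ _ _ _

lemma sigma_zero (k : ℕ) : sigma I J M i k 0 = 0 := lcOf_zero _ _ _ _

lemma sigma_add (k : ℕ) (x y : Abelian.Ext (quotObj (I ^ k ⊔ J ^ k)) M i) :
    sigma I J M i k (x + y) = sigma I J M i k x + sigma I J M i k y :=
  lcOf_add _ _ _ _ _ _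

lemma sigma_smul (k : ℕ) (r : R) (x : Abelian.Ext (quotObj (I ^ k ⊔ J ^ k)) M i) :
    sigma I J M i k (r • x) = r • sigma I J M i k x :=
  lcOf_smul _ _ _ _ _ _

lemma sigma_surj (w : (localCohomology (I ⊔ J) i).obj M) :
    ∃ (k : ℕ) (w1 : Abelian.Ext (quotObj (I ^ k ⊔ J ^ k)) M i), sigma I J M i k w1 = w := by
  obtain ⟨n, x, rfl⟩ := lcOf_surj (I ⊔ J) i M w
  refine ⟨n, qres (pow_sup_pow_le I J n) x, ?_⟩
  unfold sigma
  rw [lcOf_qres]
  exact lcOf_indep _ _ _ _ _ _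

lemma sigma_eq_zero (k : ℕ) (w : Abelian.Ext (quotObj (I ^ k ⊔ J ^ k)) M i)
    (h : sigma I J M i k w = 0) :
    ∃ (k' : ℕ) (hk : k ≤ k'), qres (powSup_mono I J hk) w = 0 := by
  unfold sigma at h
  rw [lcOf_eq_zero_iff] at h
  obtain ⟨m, hm, h0⟩ := h
  refine ⟨max m k, le_max_right _ _, ?_⟩
  have h1 : I ^ (max m k) ⊔ J ^ (max m k) ≤ (I ⊔ J) ^ m :=
    (pow_sup_pow_le I J _).trans (Ideal.pow_le_pow_right (le_max_left _ _))
  have := qres_qres h1 hm w
  rw [h0, qres_zero] at this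
  exact this.symm

variable [IsNoetherianRing R]

lemma theta_surj (y : (localCohomology (I ⊓ J) i).obj M) :
    ∃ (k : ℕ) (x : Abelian.Ext (quotObj (I ^ k ⊓ J ^ k)) M i), theta I J M i k x = y := by
  obtain ⟨n, x, rfl⟩ := lcOf_surj (I ⊓ J) i M y
  obtain ⟨k, -, hk⟩ := exists_pow_inf_pow_le I J n
  refine ⟨k, qres hk x, ?_⟩
  unfold theta
  rw [lcOf_qres]
  exact lcOf_indep _ _ _ _ _ _

lemma theta_eq_zero (k : ℕ) (x : Abelian.Ext (quotObj (I ^ k ⊓ J ^ k)) M i)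
    (h : theta I J M i k x = 0) :
    ∃ (k' : ℕ) (hk : k ≤ k'), qres (powInf_mono I J hk) x = 0 := by
  unfold theta at h
  rw [lcOf_eq_zero_iff] at h
  obtain ⟨m, hm, h0⟩ := h
  obtain ⟨k', hk', hle⟩ := exists_pow_inf_pow_le I J (max m k)
  refine ⟨k', (le_max_right _ _).trans hk', ?_⟩
  have h1 : I ^ k' ⊓ J ^ k' ≤ (I ⊓ J) ^ m :=
    hle.trans (Ideal.pow_le_pow_right (le_max_left _ _))
  have := qres_qres h1 hm x
  rw [h0, qres_zero] at this
  exact this.symm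

/-- the Mayer–Vietoris connecting map at a finite level. -/
noncomputable def Delta (k : ℕ) (x : Abelian.Ext (quotObj (I ^ k ⊓ J ^ k)) M i) :
    (localCohomology (I ⊔ J) (i + 1)).obj M :=
  sigma I J M (i + 1) k (mvD x)

omit [IsNoetherianRing R] in
lemma Delta_qres {k k' : ℕ} (h : k ≤ k') (x : Abelian.Ext (quotObj (I ^ k ⊓ J ^ k)) M i) :
    Delta I J M i k' (qres (powInf_mono I J h) x) = Delta I J M i k x := by
  unfold Delta
  rw [← sigma_qres I J M (i + 1) h]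
  congr 1
  exact (qres_mvD (Ideal.pow_le_pow_right h) (Ideal.pow_le_pow_right h) x).symm

omit [IsNoetherianRing R] in
lemma Delta_indep {𝔠 : Ideal R} {k₁ k₂ : ℕ} (h₁ : I ^ k₁ ⊓ J ^ k₁ ≤ 𝔠) (h₂ : I ^ k₂ ⊓ J ^ k₂ ≤ 𝔠)
    (x : Abelian.Ext (quotObj 𝔠) M i) :
    Delta I J M i k₁ (qres h₁ x) = Delta I J M i k₂ (qres h₂ x) := by
  rw [← Delta_qres I J M i (le_max_left k₁ k₂), ← Delta_qres I J M i (le_max_right k₁ k₂),
    qres_qres, qres_qres]

/-- a level `k ≥ m` with `I^k ∩ J^k ≤ (I ∩ J)^m` (Artin–Rees). -/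
noncomputable def kOf (m : ℕ) : ℕ := (exists_pow_inf_pow_le I J m).choose

lemma kOf_le (m : ℕ) : I ^ kOf I J m ⊓ J ^ kOf I J m ≤ (I ⊓ J) ^ m :=
  (exists_pow_inf_pow_le I J m).choose_spec.2

/-- auxiliary maps for the connecting homomorphism. -/
noncomputable def deltaAux (m : ℕ) :
    Abelian.Ext (quotPow (I ⊓ J) m) M i →ₗ[R] (localCohomology (I ⊔ J) (i + 1)).obj M where
  toFun x := Delta I J M i (kOf I J m) (qres (kOf_le I J m) x)
  map_add' x y := by
    unfold Delta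
    rw [qres_add, mvD_add, sigma_add]
  map_smul' r x := by
    unfold Delta
    rw [qres_smul, mvD_smul, sigma_smul]
    rfl

/-- the Mayer–Vietoris connecting homomorphism `H^i_{I∩J}(M) → H^{i+1}_{I+J}(M)`. -/
noncomputable def delta :
    (localCohomology (I ⊓ J) i).obj M →ₗ[R] (localCohomology (I ⊔ J) (i + 1)).obj M :=
  lcDescₗ (I ⊓ J) i M (deltaAux I J M i) (by
    intro n k h x
    rw [lcRes_eq_qres]
    show Delta I J M i (kOf I J k) (qres (kOf_le I J k) (qres _ x)) =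
      Delta I J M i (kOf I J n) (qres (kOf_le I J n) x)
    rw [qres_qres]
    exact Delta_indep I J M i _ _ x)

lemma delta_theta (k : ℕ) (x : Abelian.Ext (quotObj (I ^ k ⊓ J ^ k)) M i) :
    delta I J M i (theta I J M i k x) = Delta I J M i k x := by
  unfold theta lcOf delta
  rw [lcDescₗ_lcMk]
  show Delta I J M i (kOf I J k) (qres (kOf_le I J k) (qres _ x)) = _
  rw [qres_qres]
  conv_rhs => rw [← qres_refl x]
  exact Delta_indep I J M i _ _ x


section comparison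

omit [IsNoetherianRing R]

lemma HmapOfLE_sigma_left (k : ℕ) (w : Abelian.Ext (quotObj (I ^ k ⊔ J ^ k)) M i) :
    ((Dual2.HmapOfLE (le_sup_left : I ≤ I ⊔ J) i).app M).hom (sigma I J M i k w) =
      lcMk I i M k (qres le_sup_left w) := by
  unfold sigma
  rw [HmapOfLE_lcOf, ← lcOf_pow, lcOf_qres]
  exact lcOf_indep _ _ _ _ _ _

lemma HmapOfLE_sigma_right (k : ℕ) (w : Abelian.Ext (quotObj (I ^ k ⊔ J ^ k)) M i) :
    ((Dual2.HmapOfLE (le_sup_right : J ≤ I ⊔ J) i).app M).hom (sigma I J M i k w) =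
      lcMk J i M k (qres le_sup_right w) := by
  unfold sigma
  rw [HmapOfLE_lcOf, ← lcOf_pow, lcOf_qres]
  exact lcOf_indep _ _ _ _ _ _

lemma HmapOfLE_sub (k : ℕ) (y : Abelian.Ext (quotObj (I ^ k)) M i)
    (z : Abelian.Ext (quotObj (J ^ k)) M i) :
    ((Dual2.HmapOfLE (inf_le_left : I ⊓ J ≤ I) i).app M).hom (lcMk I i M k y) -
      ((Dual2.HmapOfLE (inf_le_right : I ⊓ J ≤ J) i).app M).hom (lcMk J i M k z) =
      theta I J M i k (qres inf_le_left y - qres inf_le_right z) := by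
  rw [theta_sub]
  unfold theta
  rw [lcOf_qres, lcOf_qres, HmapOfLE_lcMk, HmapOfLE_lcMk]
  rfl

lemma exists_common (y : (localCohomology I i).obj M) (z : (localCohomology J i).obj M) :
    ∃ (k : ℕ) (y0 : Abelian.Ext (quotObj (I ^ k)) M i) (z0 : Abelian.Ext (quotObj (J ^ k)) M i),
      lcMk I i M k y0 = y ∧ lcMk J i M k z0 = z := by
  obtain ⟨n, y0, rfl⟩ := lcMk_surj I i M y
  obtain ⟨m, z0, rfl⟩ := lcMk_surj J i M z
  exact ⟨max n m, lcRes I (le_max_left n m) y0, lcRes J (le_max_right n m) z0,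
    lcMk_res I i M _ y0, lcMk_res J i M _ z0⟩

/-- if the two restrictions of `w ∈ H^j_{I+J}(M)` vanish then `w` is represented at a finite level
by a class whose two restrictions vanish. -/
lemma exists_sigma_of_pair_eq_zero (w : (localCohomology (I ⊔ J) i).obj M)
    (h1 : ((Dual2.HmapOfLE (le_sup_left : I ≤ I ⊔ J) i).app M).hom w = 0)
    (h2 : ((Dual2.HmapOfLE (le_sup_right : J ≤ I ⊔ J) i).app M).hom w = 0) :
    ∃ (k : ℕ) (w1 : Abelian.Ext (quotObj (I ^ k ⊔ J ^ k)) M i), sigma I J M i k w1 = w ∧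
      qres le_sup_left w1 = 0 ∧ qres le_sup_right w1 = 0 := by
  obtain ⟨n, w0, rfl⟩ := sigma_surj I J M i w
  rw [HmapOfLE_sigma_left, lcMk_eq_zero_iff] at h1
  rw [HmapOfLE_sigma_right, lcMk_eq_zero_iff] at h2
  obtain ⟨n1, hn1, e1⟩ := h1
  obtain ⟨n2, hn2, e2⟩ := h2
  rw [lcRes_eq_qres, qres_qres] at e1 e2
  have hn : n ≤ max n1 n2 := hn1.trans (le_max_left _ _)
  refine ⟨max n1 n2, qres (powSup_mono I J hn) w0, sigma_qres I J M i hn w0, ?_, ?_⟩
  · rw [qres_qres]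
    have := qres_qres (Ideal.pow_le_pow_right (le_max_left n1 n2) : I ^ (max n1 n2) ≤ I ^ n1)
      ((Ideal.pow_le_pow_right hn1).trans le_sup_left : I ^ n1 ≤ I ^ n ⊔ J ^ n) w0
    rw [e1, qres_zero] at this
    exact this.symm
  · rw [qres_qres]
    have := qres_qres (Ideal.pow_le_pow_right (le_max_right n1 n2) : J ^ (max n1 n2) ≤ J ^ n2)
      ((Ideal.pow_le_pow_right hn2).trans le_sup_right : J ^ n2 ≤ I ^ n ⊔ J ^ n) w0
    rw [e2, qres_zero] at this
    exact this.symm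

end comparison

section exactness

omit [IsNoetherianRing R] in
/-- injectivity of `H^0_{I+J}(M) → H^0_I(M) × H^0_J(M)`. -/
lemma pair_injective_zero (w : (localCohomology (I ⊔ J) 0).obj M)
    (h1 : ((Dual2.HmapOfLE (le_sup_left : I ≤ I ⊔ J) 0).app M).hom w = 0)
    (h2 : ((Dual2.HmapOfLE (le_sup_right : J ≤ I ⊔ J) 0).app M).hom w = 0) : w = 0 := by
  obtain ⟨k, w1, rfl, e1, e2⟩ := exists_sigma_of_pair_eq_zero I J M 0 w h1 h2
  rw [eq_zero_of_qres_eq_zero w1 e1 e2, sigma_zero]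

/-- exactness at `H^{i+1}_{I+J}(M)`. -/
lemma exact_at_sup (w : (localCohomology (I ⊔ J) (i + 1)).obj M) :
    (((Dual2.HmapOfLE (le_sup_left : I ≤ I ⊔ J) (i + 1)).app M).hom w = 0 ∧
      ((Dual2.HmapOfLE (le_sup_right : J ≤ I ⊔ J) (i + 1)).app M).hom w = 0) ↔
      ∃ x, delta I J M i x = w := by
  constructor
  · rintro ⟨h1, h2⟩
    obtain ⟨k, w1, rfl, e1, e2⟩ := exists_sigma_of_pair_eq_zero I J M (i + 1) w h1 h2
    obtain ⟨x, rfl⟩ := exists_mvD_eq w1 e1 e2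
    exact ⟨theta I J M i k x, delta_theta I J M i k x⟩
  · rintro ⟨x, rfl⟩
    obtain ⟨k, x, rfl⟩ := theta_surj I J M i x
    rw [delta_theta]
    unfold Delta
    rw [HmapOfLE_sigma_left, HmapOfLE_sigma_right]
    have e1 : qres le_sup_left (mvD x) = 0 := by
      have := congrArg (fun e => (Ext.mk₀ (inl (I ^ k) (J ^ k))).comp e (zero_add (i + 1)))
        (β_comp_mvD x)
      simp only [Ext.comp_zero] at this
      rw [β_comp, inl_pairExt] at this
      exact this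
    have e2 : qres le_sup_right (mvD x) = 0 := by
      have := congrArg (fun e => (Ext.mk₀ (inr (I ^ k) (J ^ k))).comp e (zero_add (i + 1)))
        (β_comp_mvD x)
      simp only [Ext.comp_zero] at this
      rw [β_comp, inr_pairExt] at this
      exact this
    rw [e1, e2, lcMk_zero, lcMk_zero]
    exact ⟨rfl, rfl⟩

/-- exactness at `H^i_I(M) × H^i_J(M)`. -/
lemma exact_at_prod (y : (localCohomology I i).obj M) (z : (localCohomology J i).obj M) :
    ((Dual2.HmapOfLE (inf_le_left : I ⊓ J ≤ I) i).app M).hom y -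
      ((Dual2.HmapOfLE (inf_le_right : I ⊓ J ≤ J) i).app M).hom z = 0 ↔
      ∃ w, ((Dual2.HmapOfLE (le_sup_left : I ≤ I ⊔ J) i).app M).hom w = y ∧
        ((Dual2.HmapOfLE (le_sup_right : J ≤ I ⊔ J) i).app M).hom w = z := by
  constructor
  · intro h
    obtain ⟨k, y0, z0, rfl, rfl⟩ := exists_common I J M i y z
    rw [HmapOfLE_sub] at h
    obtain ⟨k', hk, h0⟩ := theta_eq_zero I J M i k _ h
    rw [qres_sub, qres_qres, qres_qres] at h0
    have h0' : qres inf_le_left (qres (Ideal.pow_le_pow_right hk : I ^ k' ≤ I ^ k) y0) -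
        qres inf_le_right (qres (Ideal.pow_le_pow_right hk : J ^ k' ≤ J ^ k) z0) = 0 := by
      rw [qres_qres, qres_qres]
      exact h0
    obtain ⟨w, hw1, hw2⟩ := exists_of_qres_sub_eq_zero _ _ h0'
    refine ⟨sigma I J M i k' w, ?_, ?_⟩
    · rw [HmapOfLE_sigma_left, hw1, ← lcRes_eq_qres I hk y0, lcMk_res]
    · rw [HmapOfLE_sigma_right, hw2, ← lcRes_eq_qres J hk z0, lcMk_res]
  · rintro ⟨w, rfl, rfl⟩
    obtain ⟨k, w1, rfl⟩ := sigma_surj I J M i w
    rw [HmapOfLE_sigma_left, HmapOfLE_sigma_right, HmapOfLE_sub, qres_qres, qres_qres, sub_self]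
    exact lcOf_zero _ _ _ _

/-- exactness at `H^i_{I∩J}(M)`. -/
lemma exact_at_inf (x : (localCohomology (I ⊓ J) i).obj M) :
    delta I J M i x = 0 ↔
      ∃ (y : (localCohomology I i).obj M) (z : (localCohomology J i).obj M),
        ((Dual2.HmapOfLE (inf_le_left : I ⊓ J ≤ I) i).app M).hom y -
          ((Dual2.HmapOfLE (inf_le_right : I ⊓ J ≤ J) i).app M).hom z = x := by
  constructor
  · intro h
    obtain ⟨k, x, rfl⟩ := theta_surj I J M i x
    rw [delta_theta] at h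
    unfold Delta at h
    obtain ⟨k', hk, h0⟩ := sigma_eq_zero I J M (i + 1) k _ h
    have h1 : mvD (qres (powInf_mono I J hk) x) = 0 := by
      rw [← h0]
      exact (qres_mvD (Ideal.pow_le_pow_right hk) (Ideal.pow_le_pow_right hk) x).symm
    obtain ⟨y0, z0, hyz⟩ := exists_of_mvD_eq_zero _ h1
    refine ⟨lcMk I i M k' y0, lcMk J i M k' z0, ?_⟩
    rw [HmapOfLE_sub, hyz, theta_qres I J M i hk]
  · rintro ⟨y, z, rfl⟩
    obtain ⟨k, y0, z0, rfl, rfl⟩ := exists_common I J M i y z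
    rw [HmapOfLE_sub, delta_theta, ← α_pairExt]
    unfold Delta
    rw [mvD_α_comp, sigma_zero]

end exactness

end LC

end MV

end Groth.Agent.Lib.Helper60
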