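import Groth.Agent.Lib.Helper60.LocalCohBC
import Groth.Agent.S11613
import Groth.Agent.Lib.Helper60.FlatBC1
import Mathlib.RingTheory.Flat.Basic

/-!
# Flat base change for local cohomology (helper60)
-/

set_option autoImplicit false
universe u
open CategoryTheory CategoryTheory.Limits Opposite

namespace Groth.Agent.Lib.Helper60

open LocCoh TensorProduct

section torsion

variable {R : Type u} [CommRing R] {R' : Type u} [CommRing R'] [Algebra R R'] (I : Ideal R)
  (N : Type u) [AddCommGroup N] [Module R N]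

/-- the image of `R' ⊗ Γ_I(N)` in `R' ⊗ N` lies in `Γ_{IR'}(R' ⊗ N)`. -/
lemma baseChange_subtype_mem_torsionSub (ξ : R' ⊗[R] ↥(DRing.torsionSub I N)) :
    (DRing.torsionSub I N).subtype.baseChange R' ξ ∈
      DRing.torsionSub (I.map (algebraMap R R')) (R' ⊗[R] N) := by
  induction ξ using TensorProduct.induction_on with
  | zero => rw [map_zero]; exact Submodule.zero_mem _
  | add x y hx hy => rw [map_add]; exact Submodule.add_mem _ hx hy
  | tmul s γ =>
    rw [LinearMap.baseChange_tmul, mem_torsionSub_map_iff]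
    obtain ⟨n, hn⟩ := γ.2
    refine ⟨n, fun a ha => ?_⟩
    rw [Submodule.subtype_apply, ← TensorProduct.tmul_smul, hn a ha, TensorProduct.tmul_zero]

variable [IsNoetherianRing R] [Module.Flat R R']

/-- every element of `Γ_{IR'}(R' ⊗ N)` comes from `R' ⊗ Γ_I(N)`. -/
lemma exists_baseChange_subtype_eq (x : R' ⊗[R] N)
    (hx : x ∈ DRing.torsionSub (I.map (algebraMap R R')) (R' ⊗[R] N)) :
    ∃ ξ : R' ⊗[R] ↥(DRing.torsionSub I N), (DRing.torsionSub I N).subtype.baseChange R' ξ = x := by
  rw [mem_torsionSub_map_iff] at hx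
  obtain ⟨n, hn⟩ := hx
  have hfp : Module.FinitePresentation R (R ⧸ I ^ n) := Module.finitePresentation_of_finite R _
  have ibc := Module.FinitePresentation.isBaseChange_map R (R ⧸ I ^ n) N R'
  -- the map `R/I^n → R' ⊗ N`, `r ↦ r • x`
  let g0 : (R ⧸ I ^ n) →ₗ[R] R' ⊗[R] N :=
    (I ^ n).liftQ (LinearMap.toSpanSingleton R (R' ⊗[R] N) x) (by
      intro a ha
      rw [LinearMap.mem_ker, LinearMap.toSpanSingleton_apply]
      exact hn a ha)
  let g : R' ⊗[R] (R ⧸ I ^ n) →ₗ[R'] R' ⊗[R] N := LinearMap.liftBaseChange R' g0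
  have hg : g (1 ⊗ₜ (Submodule.Quotient.mk 1 : R ⧸ I ^ n)) = x := by
    show LinearMap.liftBaseChange R' g0 (1 ⊗ₜ (Submodule.Quotient.mk 1 : R ⧸ I ^ n)) = x
    rw [LinearMap.liftBaseChange_tmul, one_smul]
    show (1 : R) • x = x
    rw [one_smul]
  obtain ⟨ξ0, hξ0⟩ := ibc.equiv.surjective g
  -- evaluation at `1`
  let ev : ((R ⧸ I ^ n) →ₗ[R] N) →ₗ[R] ↥(DRing.torsionSub I N) :=
    { toFun := fun h => ⟨h (Submodule.Quotient.mk 1), n, fun a ha => by
        rw [← map_smul, ← Submodule.Quotient.mk_smul, smul_eq_mul, mul_one,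
          (Submodule.Quotient.mk_eq_zero _).mpr ha, map_zero]⟩
      map_add' := fun h₁ h₂ => rfl
      map_smul' := fun r h => rfl }
  refine ⟨ev.baseChange R' ξ0, ?_⟩
  rw [← hg, ← hξ0]
  generalize ξ0 = ξ
  induction ξ using TensorProduct.induction_on with
  | zero => simp
  | add x y hx hy =>
    rw [map_add, map_add, hx, hy, map_add, LinearMap.add_apply]
  | tmul s h =>
    rw [LinearMap.baseChange_tmul, LinearMap.baseChange_tmul, IsBaseChange.equiv_tmul,
      LinearMap.smul_apply]
    show s ⊗ₜ[R] h (Submodule.Quotient.mk 1) =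
      s • (h.baseChange R') (1 ⊗ₜ (Submodule.Quotient.mk 1 : R ⧸ I ^ n))
    rw [LinearMap.baseChange_tmul, TensorProduct.smul_tmul', smul_eq_mul, mul_one]

/-- `R' ⊗ Γ_I(N) ≃ Γ_{IR'}(R' ⊗ N)` for a flat `R'`. -/
noncomputable def torsionSubBaseChangeEquiv :
    R' ⊗[R] ↥(DRing.torsionSub I N) ≃ₗ[R']
      ↥(DRing.torsionSub (I.map (algebraMap R R')) (R' ⊗[R] N)) :=
  LinearEquiv.ofBijective
    (((DRing.torsionSub I N).subtype.baseChange R').codRestrict _
      (baseChange_subtype_mem_torsionSub I N))
    ⟨by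
      intro a b h
      have h1 := congrArg Subtype.val h
      simp only [LinearMap.codRestrict_apply] at h1
      have hinj : Function.Injective ((DRing.torsionSub I N).subtype.baseChange R') := by
        rw [LinearMap.baseChange_eq_ltensor]
        exact Module.Flat.lTensor_preserves_injective_linearMap _
          (DRing.torsionSub I N).injective_subtype
      exact hinj h1, by
      rintro ⟨x, hx⟩
      obtain ⟨ξ, hξ⟩ := exists_baseChange_subtype_eq I N x hx
      exact ⟨ξ, Subtype.ext hξ⟩⟩

@[simp] lemma torsionSubBaseChangeEquiv_coe (ξ : R' ⊗[R] ↥(DRing.torsionSub I N)) :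
    ((torsionSubBaseChangeEquiv (R' := R') I N ξ :
      ↥(DRing.torsionSub (I.map (algebraMap R R')) (R' ⊗[R] N))) : R' ⊗[R] N) =
      (DRing.torsionSub I N).subtype.baseChange R' ξ := rfl

end torsion


section general

lemma nonempty_linearEquiv_of_surjective {S : Type*} [CommRing S] {B B' C C' : Type*}
    [AddCommGroup B] [AddCommGroup B'] [AddCommGroup C] [AddCommGroup C'] [Module S B]
    [Module S B'] [Module S C] [Module S C'] (g : B →ₗ[S] C) (g' : B' →ₗ[S] C')
    (hg : Function.Surjective g) (hg' : Function.Surjective g') (ε : B ≃ₗ[S] B')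
    (hker : ∀ b, g b = 0 ↔ g' (ε b) = 0) : Nonempty (C ≃ₗ[S] C') := by
  have hmap : (LinearMap.ker g).map (ε : B →ₗ[S] B') = LinearMap.ker g' := by
    ext b'
    constructor
    · rintro ⟨b, hb, rfl⟩
      exact (hker b).mp hb
    · intro hb'
      refine ⟨ε.symm b', ?_, ε.apply_symm_apply b'⟩
      apply (hker _).mpr
      rw [LinearEquiv.apply_symm_apply]
      exact hb'
  exact ⟨(g.quotKerEquivOfSurjective hg).symm ≪≫ₗ
    Submodule.Quotient.equiv (LinearMap.ker g) (LinearMap.ker g') ε hmap ≪≫ₗ
    g'.quotKerEquivOfSurjective hg'⟩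

end general

section H0

variable {R : Type u} [CommRing R] {R' : Type u} [CommRing R'] [Algebra R R'] (I : Ideal R)
  [IsNoetherianRing R] [Module.Flat R R']

/-- `R' ⊗ H^0_I(N) ≃ H^0_{IR'}(R' ⊗ N)`. -/
noncomputable def lcH0BaseChangeEquiv (N : Type u) [AddCommGroup N] [Module R N] :
    R' ⊗[R] LocCoh.H I 0 N ≃ₗ[R'] LocCoh.H (I.map (algebraMap R R')) 0 (R' ⊗[R] N) :=
  (LinearEquiv.baseChange R R' _ _ (lcH0Equiv I (ModuleCat.of R N))) ≪≫ₗ
    torsionSubBaseChangeEquiv (R' := R') I N ≪≫ₗ
    (lcH0Equiv (I.map (algebraMap R R')) (ModuleCat.of R' (R' ⊗[R] N))).symm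

lemma lcH0Map_lcH0BaseChangeEquiv (N : Type u) [AddCommGroup N] [Module R N]
    (ξ : R' ⊗[R] LocCoh.H I 0 N) :
    lcH0Map (I.map (algebraMap R R')) (ModuleCat.of R' (R' ⊗[R] N))
        (lcH0BaseChangeEquiv (R' := R') I N ξ) =
      (lcH0Map I (ModuleCat.of R N)).baseChange R' ξ := by
  unfold lcH0BaseChangeEquiv
  rw [LinearEquiv.trans_apply, LinearEquiv.trans_apply, ← lcH0Equiv_coe,
    LinearEquiv.apply_symm_apply, torsionSubBaseChangeEquiv_coe]
  induction ξ using TensorProduct.induction_on with
  | zero => simp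
  | add x y hx hy => rw [map_add, map_add, map_add, hx, hy]
  | tmul s y =>
    rw [LinearEquiv.baseChange_tmul, LinearMap.baseChange_tmul, LinearMap.baseChange_tmul]
    rfl

/-- naturality of `lcH0BaseChangeEquiv`. -/
lemma lcH0BaseChangeEquiv_naturality {N N' : Type u} [AddCommGroup N] [Module R N]
    [AddCommGroup N'] [Module R N'] (u : N →ₗ[R] N') (ξ : R' ⊗[R] LocCoh.H I 0 N) :
    lcH0BaseChangeEquiv (R' := R') I N'
        (((localCohomology I 0).map (ModuleCat.ofHom u)).hom.baseChange R' ξ) =
      ((localCohomology (I.map (algebraMap R R')) 0).map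
        (ModuleCat.ofHom (u.baseChange R'))).hom (lcH0BaseChangeEquiv (R' := R') I N ξ) := by
  apply lcH0Map_injective
  rw [lcH0Map_lcH0BaseChangeEquiv, lcH0Map_naturality, lcH0Map_lcH0BaseChangeEquiv]
  induction ξ using TensorProduct.induction_on with
  | zero => simp
  | add x y hx hy => rw [map_add, map_add, map_add, map_add, hx, hy]
  | tmul s y =>
    rw [LinearMap.baseChange_tmul, LinearMap.baseChange_tmul, LinearMap.baseChange_tmul,
      lcH0Map_naturality]
    rfl

end H0


section ses

variable {R : Type u} [CommRing R] (R' : Type u) [CommRing R'] [Algebra R R']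

/-- base change of a short complex of modules. -/
noncomputable def sesBaseChange (S : ShortComplex (ModuleCat.{u} R)) :
    ShortComplex (ModuleCat.{u} R') :=
  ShortComplex.mk (ModuleCat.ofHom (S.f.hom.baseChange R')) (ModuleCat.ofHom (S.g.hom.baseChange R'))
    (by
      rw [← ModuleCat.ofHom_comp, ← LinearMap.baseChange_comp, ← ModuleCat.hom_comp, S.zero]
      ext x
      simp)

lemma sesBaseChange_shortExact [Module.Flat R R'] {S : ShortComplex (ModuleCat.{u} R)}
    (hS : S.ShortExact) : (sesBaseChange R' S).ShortExact := by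
  apply ModuleCat.shortComplex_shortExact
  · show Function.Exact (S.f.hom.baseChange R') (S.g.hom.baseChange R')
    rw [LinearMap.baseChange_eq_ltensor, LinearMap.baseChange_eq_ltensor]
    exact Module.Flat.lTensor_exact R'
      ((ShortComplex.ShortExact.moduleCat_exact_iff_function_exact S).mp hS.exact)
  · show Function.Injective (S.f.hom.baseChange R')
    rw [LinearMap.baseChange_eq_ltensor]
    exact Module.Flat.lTensor_preserves_injective_linearMap _ hS.moduleCat_injective_f
  · show Function.Surjective (S.g.hom.baseChange R')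
    rw [LinearMap.baseChange_eq_ltensor]
    exact LinearMap.lTensor_surjective R' hS.moduleCat_surjective_g

end ses


section main

variable {R : Type u} [CommRing R] [IsNoetherianRing R] {R' : Type u} [CommRing R']
  [Algebra R R'] [Module.Flat R R'] (I : Ideal R)

omit [IsNoetherianRing R] in
/-- abstract dimension shifting step, `i ≥ 1`. -/
lemma flatBC_succ_aux (i : ℕ) {S : ShortComplex (ModuleCat.{u} R)} (hS : S.ShortExact)
    [Subsingleton ((localCohomology I i).obj S.X₂)]
    [Subsingleton ((localCohomology I (i + 1)).obj S.X₂)]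
    [Subsingleton ((localCohomology (I.map (algebraMap R R')) i).obj (sesBaseChange R' S).X₂)]
    [Subsingleton ((localCohomology (I.map (algebraMap R R')) (i + 1)).obj
      (sesBaseChange R' S).X₂)]
    (e : R' ⊗[R] (localCohomology I i).obj S.X₃ ≃ₗ[R']
      (localCohomology (I.map (algebraMap R R')) i).obj (sesBaseChange R' S).X₃) :
    Nonempty (R' ⊗[R] (localCohomology I (i + 1)).obj S.X₁ ≃ₗ[R']
      (localCohomology (I.map (algebraMap R R')) (i + 1)).obj (sesBaseChange R' S).X₁) := by
  have hS' := sesBaseChange_shortExact R' hS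
  exact ⟨(LinearEquiv.baseChange R R' _ _ (LinearEquiv.ofBijective (lcDelta I hS i)
      (lcDelta_bijective I hS i))).symm ≪≫ₗ e ≪≫ₗ
    LinearEquiv.ofBijective (lcDelta (I.map (algebraMap R R')) hS' i)
      (lcDelta_bijective (I.map (algebraMap R R')) hS' i)⟩

/-- abstract step from `H^0` to `H^1`. -/
lemma flatBC_one_aux {S : ShortComplex (ModuleCat.{u} R)} (hS : S.ShortExact)
    [Subsingleton ((localCohomology I 1).obj S.X₂)]
    [Subsingleton ((localCohomology (I.map (algebraMap R R')) 1).obj (sesBaseChange R' S).X₂)] :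
    Nonempty (R' ⊗[R] (localCohomology I 1).obj S.X₁ ≃ₗ[R']
      (localCohomology (I.map (algebraMap R R')) 1).obj (sesBaseChange R' S).X₁) := by
  have hS' := sesBaseChange_shortExact R' hS
  have hδ : Function.Surjective (lcDelta I hS 0) := fun y =>
    lc_exact₁ I hS 0 y (Subsingleton.elim _ _)
  have hδ' : Function.Surjective (lcDelta (I.map (algebraMap R R')) hS' 0) := fun y =>
    lc_exact₁ _ hS' 0 y (Subsingleton.elim _ _)
  have hex0 : Function.Exact ((localCohomology I 0).map S.g).hom (lcDelta I hS 0) := by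
    intro y
    constructor
    · intro hy
      obtain ⟨y₂, hy₂⟩ := lc_exact₃ I hS 0 y hy
      exact ⟨y₂, hy₂⟩
    · rintro ⟨y₂, rfl⟩
      exact lcDelta_comp_map I hS 0 y₂
  have hex : Function.Exact (((localCohomology I 0).map S.g).hom.baseChange R')
      ((lcDelta I hS 0).baseChange R') := by
    rw [LinearMap.baseChange_eq_ltensor, LinearMap.baseChange_eq_ltensor]
    exact lTensor_exact R' hex0 hδ
  have hg : Function.Surjective ((lcDelta I hS 0).baseChange R') := by
    rw [LinearMap.baseChange_eq_ltensor]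
    exact LinearMap.lTensor_surjective R' hδ
  refine nonempty_linearEquiv_of_surjective ((lcDelta I hS 0).baseChange R')
    (lcDelta (I.map (algebraMap R R')) hS' 0) hg hδ' (lcH0BaseChangeEquiv (R' := R') I S.X₃) ?_
  intro b
  constructor
  · intro hb
    obtain ⟨a, rfl⟩ := (hex b).mp hb
    have := lcH0BaseChangeEquiv_naturality (R' := R') I S.g.hom a
    erw [this]
    exact lcDelta_comp_map _ hS' 0 _
  · intro hb
    obtain ⟨y₂, hy₂⟩ := lc_exact₃ _ hS' 0 _ hb
    obtain ⟨a, rfl⟩ := (lcH0BaseChangeEquiv (R' := R') I S.X₂).surjective y₂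
    have h1 := lcH0BaseChangeEquiv_naturality (R' := R') I S.g.hom a
    have h2 : lcH0BaseChangeEquiv (R' := R') I S.X₃
        (((localCohomology I 0).map S.g).hom.baseChange R' a) =
        lcH0BaseChangeEquiv (R' := R') I S.X₃ b := h1.trans hy₂
    rw [← (lcH0BaseChangeEquiv (R' := R') I S.X₃).injective h2]
    exact hex.apply_apply_eq_zero a


/-- **Flat base change** for local cohomology. -/
theorem nonempty_lc_flatBaseChange [IsNoetherianRing R'] (i : ℕ) :
    ∀ (M : Type u) [AddCommGroup M] [Module R M],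
      Nonempty (R' ⊗[R] LocCoh.H I i M ≃ₗ[R']
        LocCoh.H (I.map (algebraMap R R')) i (R' ⊗[R] M)) := by
  induction i with
  | zero =>
    intro M _ _
    exact ⟨lcH0BaseChangeEquiv (R' := R') I M⟩
  | succ i ih =>
    intro M _ _
    let E := Injective.under (ModuleCat.of R M)
    let ι : ModuleCat.of R M ⟶ E := Injective.ι _
    have hι : Function.Injective ι.hom := (ModuleCat.mono_iff_injective ι).mp inferInstance
    have hS := sesOfInjective_shortExact ι.hom hι
    have hE : Injective (ModuleCat.of R E) := (inferInstance : Injective E)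
    have : Injective (sesOfInjective ι.hom).X₂ := hE
    have : Module.Injective R E := Module.injective_module_of_injective_object R E
    have h1 : Subsingleton ((localCohomology I (i + 1)).obj (sesOfInjective ι.hom).X₂) :=
      lc_subsingleton_of_injective I _ (i + 1) (Nat.succ_pos i)
    have h1' : Subsingleton ((localCohomology (I.map (algebraMap R R')) (i + 1)).obj
        (sesBaseChange R' (sesOfInjective ι.hom)).X₂) :=
      Groth.Agent.S11613.result R R' I E (i + 1) (Nat.succ_pos i)
    rcases Nat.eq_zero_or_pos i with rfl | hi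
    · exact flatBC_one_aux I hS
    · have h0 : Subsingleton ((localCohomology I i).obj (sesOfInjective ι.hom).X₂) :=
        lc_subsingleton_of_injective I _ i hi
      have h0' : Subsingleton ((localCohomology (I.map (algebraMap R R')) i).obj
          (sesBaseChange R' (sesOfInjective ι.hom)).X₂) :=
        Groth.Agent.S11613.result R R' I E i hi
      obtain ⟨e⟩ := ih (E ⧸ LinearMap.range ι.hom)
      exact flatBC_succ_aux I i hS e

end main

end Groth.Agent.Lib.Helper60
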