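import Groth.Agent.Lib.Helper60.NV4
import Groth.Agent.Lib.Helper60.FlatBC2
import Groth.Agent.Lib.Helper29.AdicLocal

set_option autoImplicit false
universe u
open CategoryTheory CategoryTheory.Limits Opposite Abelian RingTheory.Sequence IsLocalRing
open Groth.Agent.Lib.Helper29
open scoped TensorProduct

namespace Groth.Agent.Lib.Helper60

section general

/-- **Grothendieck's non-vanishing theorem** for the ring: `H^d_m(R) ≠ 0`, `d = dim R`. -/
theorem lc_top_nontrivial (R : Type u) [CommRing R] [IsLocalRing R] [IsNoetherianRing R] (d : ℕ)
    (hd : ringKrullDim R = d) : Nontrivial (LocCoh.H (maximalIdeal R) d R) := by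
  have hI : maximalIdeal R ≠ ⊤ := Ideal.IsPrime.ne_top inferInstance
  have hloc : IsLocalRing (AdicCompletion (maximalIdeal R) R) :=
    isLocalRing_adicCompletion R _ hI
  have hN : IsNoetherianRing (AdicCompletion (maximalIdeal R) R) := Groth.Agent.S0543.result R _
  have hmax := maximalIdeal_adicCompletion_eq_map R _ hI
  have hdim := (ringKrullDim_adicCompletion_eq_and_isRegularLocalRing_iff R _ hI).1
  have hcomp : IsAdicComplete (maximalIdeal (AdicCompletion (maximalIdeal R) R))
      (AdicCompletion (maximalIdeal R) R) := by
    rw [hmax]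
    exact AdicCompletion.isAdicComplete_self _ (IsNoetherian.noetherian _)
  have h1 := lc_top_nontrivial_of_complete (AdicCompletion (maximalIdeal R) R) d (hdim.trans hd)
  obtain ⟨e⟩ := nonempty_lc_flatBaseChange (R := R) (R' := AdicCompletion (maximalIdeal R) R)
    (maximalIdeal R) d R
  by_contra hcon
  rw [not_nontrivial_iff_subsingleton] at hcon
  have h2 : Subsingleton (AdicCompletion (maximalIdeal R) R ⊗[R] LocCoh.H (maximalIdeal R) d R) := by
    refine ⟨fun a b => ?_⟩
    have key : ∀ c : AdicCompletion (maximalIdeal R) R ⊗[R] LocCoh.H (maximalIdeal R) d R,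
        c = 0 := by
      intro c
      induction c using TensorProduct.induction_on with
      | zero => rfl
      | tmul x y => rw [Subsingleton.elim y 0, TensorProduct.tmul_zero]
      | add x y hx hy => rw [hx, hy, add_zero]
    rw [key a, key b]
  have h3 : Subsingleton (LocCoh.H ((maximalIdeal R).map
      (algebraMap R (AdicCompletion (maximalIdeal R) R))) d
      (AdicCompletion (maximalIdeal R) R ⊗[R] R)) := e.symm.toEquiv.subsingleton
  let r := TensorProduct.AlgebraTensorModule.rid R (AdicCompletion (maximalIdeal R) R)
    (AdicCompletion (maximalIdeal R) R)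
  let iso := (localCohomology ((maximalIdeal R).map
      (algebraMap R (AdicCompletion (maximalIdeal R) R))) d).mapIso r.toModuleIso
  have h4 : Subsingleton (LocCoh.H ((maximalIdeal R).map
      (algebraMap R (AdicCompletion (maximalIdeal R) R))) d
      (AdicCompletion (maximalIdeal R) R)) := iso.toLinearEquiv.symm.toEquiv.subsingleton
  rw [← hmax] at h4
  exact not_subsingleton _ h4

end general

end Groth.Agent.Lib.Helper60
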