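import Groth.Agent.Lib.Helper60.LocalCohOf
import Groth.Agent.Lib.Helper60.LocalCohTorsion
import Groth.Agent.Lib.Helper29.DepthRees

/-!
# Depth and vanishing of local cohomology (helper60, on top of helper29's depth library)
-/

set_option autoImplicit false
universe u
open CategoryTheory CategoryTheory.Limits Opposite Abelian
open RingTheory.Sequence

namespace Groth.Agent.Lib.Helper60

variable {R : Type u} [CommRing R]

/-- the map induced on `H^i_J` by multiplication by `r` is multiplication by `r`. -/
lemma lcMap_smul_id (J : Ideal R) (i : ℕ) (M : ModuleCat.{u} R) (r : R)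
    (y : (localCohomology J i).obj M) :
    ((localCohomology J i).map (r • 𝟙 M)).hom y = r • y := by
  obtain ⟨n, x, rfl⟩ := lcMk_surj J i M y
  rw [lcMap_lcMk, Ext.mk₀_smul, Ext.comp_smul, Ext.comp_mk₀_id, lcMk_smul]

/-- an element of `H^i_J(M)` is zero if multiplication by some `r ∈ J` is injective. -/
lemma lc_eq_zero_of_smul_injective (J : Ideal R) (i : ℕ) (M : ModuleCat.{u} R) (r : R) (hr : r ∈ J)
    (hinj : ∀ y : (localCohomology J i).obj M, r • y = 0 → y = 0)
    (y : (localCohomology J i).obj M) : y = 0 := by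
  obtain ⟨n, hn⟩ := lc_isPowerTorsion J i M y
  have h := hn (r ^ n) (Ideal.pow_mem_pow hr n)
  clear hn
  induction n with
  | zero => simpa using h
  | succ n ih =>
    apply ih
    apply hinj
    rw [← mul_smul, ← pow_succ']
    exact h

/-- `H^0_J` preserves injections. -/
lemma lcMap_zero_injective (J : Ideal R) {M N : ModuleCat.{u} R} (f : M ⟶ N)
    (hf : Function.Injective f.hom) :
    Function.Injective ((localCohomology J 0).map f).hom := by
  intro a b hab
  apply lcH0Map_injective
  apply hf
  rw [← lcH0Map_naturality, ← lcH0Map_naturality, hab]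

/-- local cohomology vanishes below the length of a regular sequence in the ideal. -/
theorem lc_subsingleton_of_isWeaklyRegular (J : Ideal R) (rs : List R) :
    ∀ (M : Type u) [AddCommGroup M] [Module R M], IsWeaklyRegular M rs → (∀ r ∈ rs, r ∈ J) →
      ∀ i < rs.length, Subsingleton ((localCohomology J i).obj (ModuleCat.of R M)) := by
  induction rs with
  | nil => intro M _ _ _ _ i hi; simp at hi
  | cons r rs ih =>
    intro M _ _ hreg hmem i hi
    rw [isWeaklyRegular_cons_iff] at hreg
    obtain ⟨hr, hrs⟩ := hreg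
    have hS := hr.smulShortComplex_shortExact (M := ModuleCat.of R M)
    have hrJ : r ∈ J := hmem r (List.mem_cons_self ..)
    have ih' := ih (QuotSMulTop r M) hrs (fun s hs => hmem s (List.mem_cons_of_mem _ hs))
    refine ⟨fun a b => ?_⟩
    suffices H : ∀ y : (localCohomology J i).obj (ModuleCat.of R M), y = 0 by rw [H a, H b]
    apply lc_eq_zero_of_smul_injective J i (ModuleCat.of R M) r hrJ
    intro y hy
    rw [← lcMap_smul_id] at hy
    rcases Nat.eq_zero_or_pos i with rfl | hi0
    · exact lcMap_zero_injective J (r • 𝟙 (ModuleCat.of R M)) hr (hy.trans (map_zero _).symm)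
    · obtain ⟨j, rfl⟩ : ∃ j, i = j + 1 := ⟨i - 1, by omega⟩
      have : Subsingleton ((localCohomology J j).obj
          (ModuleCat.smulShortComplex (ModuleCat.of R M) r).X₃) :=
        ih' j (by simp at hi; omega)
      obtain ⟨y₃, rfl⟩ := lc_exact₁ J hS j y hy
      rw [Subsingleton.elim y₃ 0, map_zero]
      rfl

section converse

variable [IsNoetherianRing R]

omit [IsNoetherianRing R] in
/-- `Ext^0(R/I, M)` injects into `H^0_I(M)`. -/
lemma ext0_subsingleton_of_lc_subsingleton (I : Ideal R) (M : ModuleCat.{u} R)
    [Subsingleton ((localCohomology I 0).obj M)] :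
    Subsingleton (Abelian.Ext (ModuleCat.of R (R ⧸ I)) M 0) := by
  refine ⟨fun a b => ?_⟩
  suffices H : ∀ x : Abelian.Ext (quotObj I) M 0, x = 0 by rw [H a, H b]
  intro x
  have h0 : lcOf I 0 M (n := 1) (by rw [pow_one]) x = 0 := Subsingleton.elim _ _
  rw [lcOf_eq_zero_iff] at h0
  obtain ⟨m, hm, e⟩ := h0
  have : Epi (qmap hm) := by
    rw [ModuleCat.epi_iff_surjective]
    intro y
    obtain ⟨y, rfl⟩ := Submodule.Quotient.mk_surjective _ y
    exact ⟨Submodule.Quotient.mk y, rfl⟩
  apply Ext.precomp_mk₀_injective_of_epi M (qmap hm)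
  rw [map_zero]
  exact e

/-- if `H^i_I(M) = 0` for `i < n` then `depth_I M ≥ n` (finite `M`, `IM ≠ M`). -/
theorem le_idealDepth_of_lc_subsingleton (I : Ideal R) (n : ℕ) :
    ∀ (M : Type u) [AddCommGroup M] [Module R M] [Module.Finite R M],
      I • (⊤ : Submodule R M) ≠ ⊤ →
      (∀ i < n, Subsingleton ((localCohomology I i).obj (ModuleCat.of R M))) →
      (n : ℕ∞) ≤ LocCoh.idealDepth I M := by
  induction n with
  | zero => intro M _ _ _ _ _; simp
  | succ n ih =>
    intro M _ _ _ hIM h
    -- a regular element
    have h1 : ((1 : ℕ) : ℕ∞) ≤ LocCoh.idealDepth I M := by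
      rw [Groth.Agent.Lib.Helper29.le_idealDepth_iff_ext I M hIM 1]
      intro i hi
      have : i = 0 := by omega
      subst this
      have := h 0 (Nat.succ_pos n)
      exact ext0_subsingleton_of_lc_subsingleton I (ModuleCat.of R M)
    rw [Groth.Agent.Lib.Helper29.le_idealDepth_iff] at h1
    rcases h1 with h1 | ⟨rs, hlen, hmem, hreg⟩
    · exact absurd h1 hIM
    obtain ⟨r, rfl⟩ : ∃ r, rs = [r] := List.length_eq_one_iff.mp hlen
    rw [isWeaklyRegular_cons_iff] at hreg
    obtain ⟨hr, -⟩ := hreg
    have hrI : r ∈ I := hmem r (List.mem_singleton_self r)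
    have hS := hr.smulShortComplex_shortExact (M := ModuleCat.of R M)
    have hIM' : I • (⊤ : Submodule R (QuotSMulTop r M)) ≠ ⊤ :=
      fun e => hIM ((Groth.Agent.Lib.Helper29.smul_top_quotSMulTop_eq_top_iff hrI M).mp e)
    have h' : ∀ i < n, Subsingleton ((localCohomology I i).obj
        (ModuleCat.of R (QuotSMulTop r M))) := by
      intro i hi
      have h2 : Subsingleton ((localCohomology I i).obj
          (ModuleCat.smulShortComplex (ModuleCat.of R M) r).X₂) := h i (by omega)
      have h3 : Subsingleton ((localCohomology I (i + 1)).obj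
          (ModuleCat.smulShortComplex (ModuleCat.of R M) r).X₁) := h (i + 1) (by omega)
      refine ⟨fun a b => ?_⟩
      suffices H : ∀ y : (localCohomology I i).obj
          (ModuleCat.smulShortComplex (ModuleCat.of R M) r).X₃, y = 0 by
        exact (H a).trans (H b).symm
      intro y
      obtain ⟨y₂, rfl⟩ := lc_exact₃ I hS i y (Subsingleton.elim _ _)
      rw [Subsingleton.elim y₂ 0, map_zero]
    have h4 := ih (QuotSMulTop r M) hIM' h'
    rw [← Groth.Agent.Lib.Helper29.idealDepth_quotSMulTop_add_one I M hrI hr]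
    push_cast
    gcongr

/-- the `I`-depth of a finite module with `IM ≠ M` is the least degree of non-vanishing local
cohomology. -/
theorem idealDepth_eq_iff_lc (I : Ideal R) (M : Type u) [AddCommGroup M] [Module R M]
    [Module.Finite R M] (hIM : I • (⊤ : Submodule R M) ≠ ⊤) (n : ℕ) :
    LocCoh.idealDepth I M = n ↔
      ((∀ i : ℕ, i < n → Subsingleton ((localCohomology I i).obj (ModuleCat.of R M))) ∧
        Nontrivial ((localCohomology I n).obj (ModuleCat.of R M))) := by
  have key : ∀ k : ℕ, (k : ℕ∞) ≤ LocCoh.idealDepth I M ↔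
      ∀ i < k, Subsingleton ((localCohomology I i).obj (ModuleCat.of R M)) := by
    intro k
    constructor
    · intro h
      rw [Groth.Agent.Lib.Helper29.le_idealDepth_iff] at h
      rcases h with h | ⟨rs, hlen, hmem, hreg⟩
      · exact absurd h hIM
      · intro i hi
        exact lc_subsingleton_of_isWeaklyRegular I rs M hreg hmem i (by omega)
    · exact le_idealDepth_of_lc_subsingleton I k M hIM
  constructor
  · intro h
    refine ⟨(key n).mp h.ge, ?_⟩
    by_contra hnt
    rw [not_nontrivial_iff_subsingleton] at hnt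
    have h2 : ((n + 1 : ℕ) : ℕ∞) ≤ LocCoh.idealDepth I M := by
      rw [key]
      intro i hi
      rcases Nat.lt_succ_iff_lt_or_eq.mp hi with hi | rfl
      · exact (key n).mp h.ge i hi
      · exact hnt
    rw [h] at h2
    have : n + 1 ≤ n := by exact_mod_cast h2
    omega
  · rintro ⟨h1, h2⟩
    apply le_antisymm
    · by_contra hcon
      rw [not_le] at hcon
      have h3 : ((n + 1 : ℕ) : ℕ∞) ≤ LocCoh.idealDepth I M := by
        push_cast
        exact Order.add_one_le_of_lt hcon
      have := (key (n + 1)).mp h3 n (Nat.lt_succ_self n)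
      exact not_subsingleton _ this
    · exact (key n).mpr h1

end converse

end Groth.Agent.Lib.Helper60
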