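/-
Copyright (c) 2026. Released under Apache 2.0 license.
# Finiteness of local cohomology versus annihilation (Faltings), helper60

* `lc_mul_smul_eq_zero_X₃`, `lc_ideal_mul_smul_eq_zero_X₃` : annihilators along the long exact
  sequence.
* `lc_zero_finite` : `H^0_J(M)` is finite for `M` finite over a Noetherian ring.
* `lc_finite_of_pow_smul_eq_zero` : if `J^k` kills `H^i_J(M)` for all `i ≤ n` (`M` finite), then
  these are finite modules.
* `exists_pow_smul_eq_zero_of_finite` : a finite `J`-power-torsion module is killed by a power.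
-/
import Groth.Agent.Lib.Helper60.LocalCohDepth
import Groth.Agent.Lib.Helper60.GrothVanishing
import Groth.Agent.Lib.Helper60.LocalCohTorsion

universe u
open CategoryTheory

namespace Groth.Agent.Lib.Helper60

variable {R : Type u} [CommRing R]

/-- if `a` kills `H^i(X₂)` and `b` kills `H^{i+1}(X₁)` then `a * b` kills `H^i(X₃)`. -/
lemma lc_mul_smul_eq_zero_X₃ (J : Ideal R) {S : ShortComplex (ModuleCat.{u} R)}
    (hS : S.ShortExact) (i : ℕ) (a b : R)
    (ha : ∀ y : (localCohomology J i).obj S.X₂, a • y = 0)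
    (hb : ∀ y : (localCohomology J (i + 1)).obj S.X₁, b • y = 0)
    (y : (localCohomology J i).obj S.X₃) : (a * b) • y = 0 := by
  have h3 : lcDelta J hS i (b • y) = 0 := by
    rw [map_smul]
    exact hb _
  obtain ⟨z, hz⟩ := lc_exact₃ J hS i (b • y) h3
  rw [mul_smul, ← hz, ← map_smul, ha, map_zero]

lemma lc_ideal_mul_smul_eq_zero_X₃ (J : Ideal R) {S : ShortComplex (ModuleCat.{u} R)}
    (hS : S.ShortExact) (i : ℕ) (A B : Ideal R)
    (hA : ∀ a ∈ A, ∀ y : (localCohomology J i).obj S.X₂, a • y = 0)
    (hB : ∀ b ∈ B, ∀ y : (localCohomology J (i + 1)).obj S.X₁, b • y = 0) :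
    ∀ c ∈ A * B, ∀ y : (localCohomology J i).obj S.X₃, c • y = 0 := by
  intro c hc y
  refine Submodule.mul_induction_on hc ?_ ?_
  · intro a ha b hb
    exact lc_mul_smul_eq_zero_X₃ J hS i a b (hA a ha) (hB b hb) y
  · intro x x' hx hx'
    rw [add_smul, hx, hx', add_zero]

/-- `H^0_J(M)` is finite for a finite module over a Noetherian ring. -/
lemma lc_zero_finite [IsNoetherianRing R] (J : Ideal R) (M : Type u) [AddCommGroup M] [Module R M]
    [Module.Finite R M] : Module.Finite R ((localCohomology J 0).obj (ModuleCat.of R M)) := by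
  have : IsNoetherian R M := isNoetherian_of_isNoetherianRing_of_finite R M
  have h : Module.Finite R (DRing.torsionSub J (ModuleCat.of R M)) :=
    Module.Finite.of_fg (IsNoetherian.noetherian (DRing.torsionSub J M))
  exact Module.Finite.equiv (lcH0Equiv J (ModuleCat.of R M)).symm

/-- **Faltings**: if a power of `J` kills `H^i_J(M)` for `i ≤ n` (`M` finite over a Noetherian ring)
then these local cohomology modules are finite. -/
theorem lc_finite_of_pow_smul_eq_zero [IsNoetherianRing R] (J : Ideal R) (n : ℕ) :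
    ∀ (M : Type u) [AddCommGroup M] [Module R M] [Module.Finite R M] (k : ℕ),
      (∀ i ≤ n, ∀ a ∈ J ^ k, ∀ x : (localCohomology J i).obj (ModuleCat.of R M), a • x = 0) →
      ∀ i ≤ n, Module.Finite R ((localCohomology J i).obj (ModuleCat.of R M)) := by
  induction n with
  | zero =>
    intro M _ _ _ k _ i hi
    obtain rfl : i = 0 := by omega
    exact lc_zero_finite J M
  | succ n ih =>
    intro M _ _ _ k hk i hi
    rcases Nat.eq_zero_or_pos i with rfl | hi0
    · exact lc_zero_finite J M
    -- pass to `M' = M / Γ_J(M)`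
    have hbij := lcMap_mkQ_torsionSub_bijective J M
    have hbot := torsionSub_quotient_eq_bot J M
    have hk' : ∀ j ≤ n + 1, ∀ a ∈ J ^ k, ∀ x : (localCohomology J j).obj
        (ModuleCat.of R (M ⧸ DRing.torsionSub J M)), a • x = 0 := by
      intro j hj a ha x
      rcases Nat.eq_zero_or_pos j with rfl | hj0
      · have h0 : x = 0 := by
          apply (lcH0Equiv J (ModuleCat.of R (M ⧸ DRing.torsionSub J M))).injective
          rw [map_zero]
          have hmem := (lcH0Equiv J (ModuleCat.of R (M ⧸ DRing.torsionSub J M)) x).2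
          apply Subtype.ext
          have hmem' : ((lcH0Equiv J (ModuleCat.of R (M ⧸ DRing.torsionSub J M)) x : _) :
              M ⧸ DRing.torsionSub J M) ∈ DRing.torsionSub J (M ⧸ DRing.torsionSub J M) := hmem
          exact ((Submodule.mem_bot R).mp (hbot.le hmem')).trans (Submodule.coe_zero).symm
        rw [h0, smul_zero]
      · obtain ⟨y, rfl⟩ := (hbij j hj0).2 x
        rw [← map_smul, hk j hj a ha y, map_zero]
    suffices H : Module.Finite R ((localCohomology J i).obj
        (ModuleCat.of R (M ⧸ DRing.torsionSub J M))) by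
      let e := LinearEquiv.ofBijective
        ((localCohomology J i).map (ModuleCat.ofHom (DRing.torsionSub J M).mkQ)).hom (hbij i hi0)
      exact Module.Finite.equiv e.symm
    obtain ⟨r, hrJ, hreg⟩ :=
      exists_isSMulRegular_of_torsionSub_eq_bot J (M ⧸ DRing.torsionSub J M) hbot
    have hsreg : IsSMulRegular (M ⧸ DRing.torsionSub J M) (r ^ k) := hreg.pow k
    have hsk : r ^ k ∈ J ^ k := Ideal.pow_mem_pow hrJ k
    have hS := hsreg.smulShortComplex_shortExact (M := ModuleCat.of R (M ⧸ DRing.torsionSub J M))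
    obtain ⟨j, rfl⟩ : ∃ j, i = j + 1 := ⟨i - 1, by omega⟩
    have hQ : ∀ l ≤ n, ∀ a ∈ J ^ (k + k), ∀ x : (localCohomology J l).obj
        (ModuleCat.of R (QuotSMulTop (r ^ k) (M ⧸ DRing.torsionSub J M))), a • x = 0 := by
      intro l hl a ha x
      rw [pow_add] at ha
      exact lc_ideal_mul_smul_eq_zero_X₃ J hS l (J ^ k) (J ^ k) (hk' l (by omega))
        (hk' (l + 1) (by omega)) a ha x
    have hfin := ih (QuotSMulTop (r ^ k) (M ⧸ DRing.torsionSub J M)) (k + k) hQ j (by omega)
    have hsurj : Function.Surjective (lcDelta J hS j) := by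
      intro y
      apply lc_exact₁ J hS j y
      have h1 : ((localCohomology J (j + 1)).map
          (r ^ k • 𝟙 (ModuleCat.of R (M ⧸ DRing.torsionSub J M)))).hom y = r ^ k • y :=
        lcMap_smul_id J (j + 1) _ (r ^ k) y
      exact h1.trans (hk' (j + 1) hi (r ^ k) hsk y)
    have : Module.Finite R ((localCohomology J j).obj
        ((ModuleCat.of R (M ⧸ DRing.torsionSub J M)).smulShortComplex (r ^ k)).X₃) := hfin
    exact Module.Finite.of_surjective (lcDelta J hS j) hsurj

/-- a finite `J`-power-torsion module is killed by a power of `J`. -/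
lemma exists_pow_smul_eq_zero_of_finite (J : Ideal R) (N : Type*) [AddCommGroup N] [Module R N]
    [Module.Finite R N] (h : ∀ x : N, ∃ n : ℕ, ∀ a ∈ J ^ n, a • x = 0) :
    ∃ k : ℕ, ∀ a ∈ J ^ k, ∀ x : N, a • x = 0 := by
  classical
  obtain ⟨s, hs⟩ := (Module.Finite.fg_top : (⊤ : Submodule R N).FG)
  choose k hk using h
  refine ⟨s.sup k, fun a ha x => ?_⟩
  have hx : x ∈ Submodule.span R (s : Set N) := hs ▸ Submodule.mem_top
  refine Submodule.span_induction (p := fun x _ => a • x = 0) ?_ ?_ ?_ ?_ hx
  · intro y hy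
    exact hk y a (Ideal.pow_le_pow_right (Finset.le_sup hy) ha)
  · simp
  · intro x y _ _ hx hy
    rw [smul_add, hx, hy, add_zero]
  · intro r x _ hx
    rw [smul_comm, hx, smul_zero]

end Groth.Agent.Lib.Helper60
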