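/-
Copyright (c) 2026. Released under Apache 2.0 license.
# Additivity of local cohomology on morphisms; modules locally free away from `V(J)` (helper60)

* `lcMap_add`, `lcMap_zero_hom`, `lcMap_sum`, `lcMap_comp_apply`.
* `lc_smul_eq_zero_pi` : an element killing `H^i_J(N)` kills `H^i_J(N^t)`.
* `exists_factor_through_free_of_projective_away` : if `M_f` is projective, then `f^N • id_M`
  factors through a finite free module.
* `lc_smul_eq_zero_of_factor`.
-/
import Groth.Agent.Lib.Helper60.LocalCohFinite
import Mathlib.RingTheory.TensorProduct.IsBaseChangePi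

universe u
open CategoryTheory Abelian

namespace Groth.Agent.Lib.Helper60

variable {R : Type u} [CommRing R]

lemma lcMap_add (J : Ideal R) (i : ℕ) {M N : ModuleCat.{u} R} (φ ψ : M ⟶ N)
    (y : (localCohomology J i).obj M) :
    ((localCohomology J i).map (φ + ψ)).hom y =
      ((localCohomology J i).map φ).hom y + ((localCohomology J i).map ψ).hom y := by
  obtain ⟨n, x, rfl⟩ := lcMk_surj J i M y
  rw [lcMap_lcMk, lcMap_lcMk, lcMap_lcMk, Ext.mk₀_add, Ext.comp_add, lcMk_add]

lemma lcMap_zero_hom (J : Ideal R) (i : ℕ) {M N : ModuleCat.{u} R}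
    (y : (localCohomology J i).obj M) :
    ((localCohomology J i).map (0 : M ⟶ N)).hom y = 0 := by
  obtain ⟨n, x, rfl⟩ := lcMk_surj J i M y
  rw [lcMap_lcMk, Ext.mk₀_zero, Ext.comp_zero, lcMk_zero]

lemma lcMap_sum (J : Ideal R) (i : ℕ) {M N : ModuleCat.{u} R} {ι : Type*} (s : Finset ι)
    (φ : ι → (M ⟶ N)) (y : (localCohomology J i).obj M) :
    ((localCohomology J i).map (∑ j ∈ s, φ j)).hom y =
      ∑ j ∈ s, ((localCohomology J i).map (φ j)).hom y := by
  classical
  induction s using Finset.induction_on with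
  | empty => rw [Finset.sum_empty, Finset.sum_empty, lcMap_zero_hom]
  | insert a s ha ih => rw [Finset.sum_insert ha, Finset.sum_insert ha, lcMap_add, ih]

lemma lcMap_comp_apply (J : Ideal R) (i : ℕ) {M N P : ModuleCat.{u} R} (φ : M ⟶ N) (ψ : N ⟶ P)
    (y : (localCohomology J i).obj M) :
    ((localCohomology J i).map (φ ≫ ψ)).hom y =
      ((localCohomology J i).map ψ).hom (((localCohomology J i).map φ).hom y) := by
  rw [Functor.map_comp]
  rfl

lemma lcMap_id_apply (J : Ideal R) (i : ℕ) {M : ModuleCat.{u} R}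
    (y : (localCohomology J i).obj M) :
    ((localCohomology J i).map (𝟙 M)).hom y = y := by
  rw [CategoryTheory.Functor.map_id]
  rfl

/-- an element killing `H^i_J(N)` kills `H^i_J(N^t)`. -/
lemma lc_smul_eq_zero_pi (J : Ideal R) (i : ℕ) (N : Type u) [AddCommGroup N] [Module R N]
    (ι : Type) [Fintype ι] [DecidableEq ι] (a : R)
    (ha : ∀ y : (localCohomology J i).obj (ModuleCat.of R N), a • y = 0)
    (y : (localCohomology J i).obj (ModuleCat.of R (ι → N))) : a • y = 0 := by
  have hid : 𝟙 (ModuleCat.of R (ι → N)) =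
      ∑ j : ι, (ModuleCat.ofHom (LinearMap.proj (R := R) (φ := fun _ : ι => N) j) ≫
        ModuleCat.ofHom (LinearMap.single R (fun _ : ι => N) j)) := by
    apply ModuleCat.hom_ext
    rw [ModuleCat.hom_sum]
    apply LinearMap.ext
    intro x
    rw [LinearMap.sum_apply]
    simp only [ModuleCat.hom_comp, ModuleCat.hom_ofHom, ModuleCat.hom_id, LinearMap.id_coe, id_eq,
      LinearMap.coe_comp, Function.comp_apply, LinearMap.coe_proj, Function.eval,
      LinearMap.coe_single]
    exact (Finset.univ_sum_single x).symm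
  rw [← lcMap_id_apply J i y, hid, lcMap_sum, Finset.smul_sum]
  refine Finset.sum_eq_zero fun j _ => ?_
  rw [lcMap_comp_apply, ← map_smul, ha, map_zero]

/-- If `M_f` is projective (`M` finite over a Noetherian ring), then `f^N • id_M` factors through a
finite free module. -/
theorem exists_factor_through_free_of_projective_away [IsNoetherianRing R]
    (M : Type u) [AddCommGroup M] [Module R M] [Module.Finite R M] (f : R)
    [Module.Projective (Localization.Away f) (LocalizedModule (Submonoid.powers f) M)] :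
    ∃ (t : ℕ) (α : M →ₗ[R] (Fin t → R)) (β : (Fin t → R) →ₗ[R] M) (N : ℕ),
      β ∘ₗ α = f ^ N • LinearMap.id := by
  have hfp : Module.FinitePresentation R M := Module.finitePresentation_of_finite R M
  obtain ⟨t, β', α', -, -, hβα⟩ := Module.Finite.exists_comp_eq_id_of_projective
    (Localization.Away f) (LocalizedModule (Submonoid.powers f) M)
  let loc : (Fin t → R) →ₗ[R] (Fin t → Localization.Away f) :=
    LinearMap.pi fun i => Algebra.linearMap R (Localization.Away f) ∘ₗ LinearMap.proj i
  have hloc : IsLocalizedModule (Submonoid.powers f) loc :=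
    IsLocalizedModule.pi (Submonoid.powers f) (fun _ => Algebra.linearMap R (Localization.Away f))
  let mk := LocalizedModule.mkLinearMap (Submonoid.powers f) M
  obtain ⟨α, s, hα⟩ := Module.FinitePresentation.exists_lift_of_isLocalizedModule
    (Submonoid.powers f) loc ((α'.restrictScalars R) ∘ₗ mk)
  obtain ⟨β, s', hβ⟩ := Module.FinitePresentation.exists_lift_of_isLocalizedModule
    (Submonoid.powers f) mk ((β'.restrictScalars R) ∘ₗ loc)
  have h1 : mk ∘ₗ (β ∘ₗ α) = mk ∘ₗ ((s' * s : Submonoid.powers f) • LinearMap.id) := by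
    ext m
    have e1 : mk (β (α m)) = s' • β' (loc (α m)) := LinearMap.congr_fun hβ (α m)
    have e2 : loc (α m) = s • α' (mk m) := LinearMap.congr_fun hα m
    have e3 : β' (α' (mk m)) = mk m := LinearMap.congr_fun hβα (mk m)
    simp only [Submonoid.smul_def] at e1 e2
    simp only [LinearMap.comp_apply, LinearMap.smul_apply, LinearMap.id_apply, Submonoid.smul_def,
      Submonoid.coe_mul]
    rw [e1, e2, LinearMap.map_smul_of_tower, e3, map_smul, mul_smul]
  obtain ⟨s'', hs''⟩ := Module.Finite.exists_smul_of_comp_eq_of_isLocalizedModule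
    (Submonoid.powers f) mk _ _ h1
  obtain ⟨c, hc⟩ := s''.2
  obtain ⟨a, ha⟩ := s.2
  obtain ⟨b, hb⟩ := s'.2
  simp only at hc ha hb
  refine ⟨t, (f ^ c) • α, β, c + (b + a), ?_⟩
  rw [LinearMap.comp_smul, hc, ← Submonoid.smul_def, hs'', Submonoid.smul_def, Submonoid.smul_def,
    ← hc, Submonoid.coe_mul, ← ha, ← hb, smul_smul, ← pow_add, ← pow_add]

/-- if `c • id_M` factors through `R^t` and `a` kills `H^i_J(R)`, then `a * c` kills `H^i_J(M)`. -/
theorem lc_smul_eq_zero_of_factor (J : Ideal R) (i : ℕ) {M : Type u} [AddCommGroup M] [Module R M]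
    (t : ℕ) (α : M →ₗ[R] (Fin t → R)) (β : (Fin t → R) →ₗ[R] M) (c : R)
    (hβα : β ∘ₗ α = c • LinearMap.id) (a : R)
    (ha : ∀ y : (localCohomology J i).obj (ModuleCat.of R R), a • y = 0)
    (y : (localCohomology J i).obj (ModuleCat.of R M)) : (a * c) • y = 0 := by
  have h1 : c • 𝟙 (ModuleCat.of R M) = ModuleCat.ofHom α ≫ ModuleCat.ofHom β := by
    rw [← ModuleCat.ofHom_comp, hβα]
    rfl
  rw [mul_smul, ← lcMap_smul_id J i (ModuleCat.of R M) c y, h1, lcMap_comp_apply, ← map_smul,
    lc_smul_eq_zero_pi J i R (Fin t) a ha, map_zero]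

end Groth.Agent.Lib.Helper60
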