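import Groth.Agent.Lib.Helper60.MayerVietorisLC
import Groth.Agent.Lib.Helper60.LocalCohPrincipal

/-!
# Local cohomology vanishes above the number of generators (helper60)
-/

set_option autoImplicit false
universe u
open CategoryTheory CategoryTheory.Limits Opposite Abelian

namespace Groth.Agent.Lib.Helper60

variable {R : Type u} [CommRing R]

open LocCoh

/-- `H^i_0(M) = 0` for `i > 0`. -/
lemma lc_subsingleton_bot [IsNoetherianRing R] (i : ℕ) (hi : 0 < i) (M : Type u) [AddCommGroup M]
    [Module R M] : Subsingleton ((localCohomology (⊥ : Ideal R) i).obj (ModuleCat.of R M)) := by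
  rcases Nat.lt_or_ge i 2 with h | h
  · have : i = 1 := by omega
    subst this
    refine ⟨fun y z => ?_⟩
    suffices H : ∀ y : (localCohomology (⊥ : Ideal R) 1).obj (ModuleCat.of R M), y = 0 by
      rw [H y, H z]
    intro y
    obtain ⟨d, rfl⟩ := dtToH1_surjective (⊥ : Ideal R) (ModuleCat.of R M) y
    obtain ⟨n, f, rfl⟩ := dtMk_surj _ _ d
    rw [← dtMk_res _ _ (Nat.le_succ n) f]
    have : dtRes (⊥ : Ideal R) (Nat.le_succ n) f = 0 := by
      apply LinearMap.ext
      rintro ⟨x, hx⟩
      have hx' : x = 0 := by
        rw [Ideal.bot_pow (Nat.succ_ne_zero n)] at hx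
        exact hx
      subst hx'
      exact map_zero _
    rw [this, dtMk_zero, map_zero]
  · have e : (⊥ : Ideal R) = Ideal.span {(0 : R)} := by simp
    rw [e]
    exact lc_subsingleton_of_principal 0 i h M

/-- local cohomology with support in an ideal generated by `t` elements vanishes above `t`. -/
theorem lc_subsingleton_of_card_lt [IsNoetherianRing R] (M : Type u) [AddCommGroup M] [Module R M] :
    ∀ (s : Finset R) (i : ℕ), s.card < i →
      Subsingleton ((localCohomology (Ideal.span (s : Set R)) i).obj (ModuleCat.of R M)) := by
  classical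
  have key : ∀ t : ℕ, ∀ s : Finset R, s.card ≤ t → ∀ i : ℕ, s.card < i →
      Subsingleton ((localCohomology (Ideal.span (s : Set R)) i).obj (ModuleCat.of R M)) := by
    intro t
    induction t with
    | zero =>
      intro s hs i hi
      have : s = ∅ := Finset.card_eq_zero.mp (Nat.le_zero.mp hs)
      subst this
      have e : Ideal.span ((∅ : Finset R) : Set R) = ⊥ := by simp
      rw [e]
      exact lc_subsingleton_bot i (by simpa using hi) M
    | succ t ih =>
      intro s hs i hi
      rcases s.eq_empty_or_nonempty with rfl | ⟨a, ha⟩
      · exact ih ∅ (by simp) i hi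
      have hcard : (s.erase a).card + 1 = s.card := Finset.card_erase_add_one ha
      obtain ⟨j, rfl⟩ : ∃ j, i = j + 1 := ⟨i - 1, by omega⟩
      have hs' : (s.erase a).card ≤ t := by omega
      have hsplit : Ideal.span (s : Set R) =
          Ideal.span ((s.erase a : Finset R) : Set R) ⊔ Ideal.span {a} := by
        conv_lhs => rw [← Finset.insert_erase ha, Finset.coe_insert, Ideal.span_insert, sup_comm]
      rw [hsplit]
      have hb := ih (s.erase a) hs' (j + 1) (by omega)
      have ha' := lc_subsingleton_of_principal a (j + 1) (by omega) M
      have hprod : Subsingleton ((localCohomology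
          (Ideal.span ((s.erase a : Finset R) : Set R) * Ideal.span {a}) j).obj
            (ModuleCat.of R M)) := by
        have e : Ideal.span ((s.erase a : Finset R) : Set R) * Ideal.span {a} =
            Ideal.span (((s.erase a).image (· * a) : Finset R) : Set R) := by
          rw [Finset.coe_image, Ideal.span_mul_span', Set.mul_singleton]
        rw [e]
        exact ih _ (Finset.card_image_le.trans hs') j
          (lt_of_le_of_lt Finset.card_image_le (by omega))
      have hinf : Subsingleton ((localCohomology
          (Ideal.span ((s.erase a : Finset R) : Set R) ⊓ Ideal.span {a}) j).obj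
            (ModuleCat.of R M)) :=
        lc_subsingleton_of_pow_le _ (Ideal.span ((s.erase a : Finset R) : Set R) * Ideal.span {a})
          2 1 (by rw [pow_two]; exact Ideal.mul_mono inf_le_left inf_le_right)
          (by rw [pow_one]; exact Ideal.mul_le_inf) j _
      refine ⟨fun y z => ?_⟩
      suffices H : ∀ y : (localCohomology
          (Ideal.span ((s.erase a : Finset R) : Set R) ⊔ Ideal.span {a}) (j + 1)).obj
            (ModuleCat.of R M), y = 0 by rw [H y, H z]
      intro y
      obtain ⟨x, rfl⟩ := (MV.exact_at_sup _ (Ideal.span {a}) (ModuleCat.of R M) j y).mp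
        ⟨Subsingleton.elim _ _, Subsingleton.elim _ _⟩
      rw [Subsingleton.elim x 0, map_zero]
  intro s i hi
  exact key s.card s le_rfl i hi

end Groth.Agent.Lib.Helper60
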