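import Groth.Agent.Lib.Helper60.Bootstrap2
import Groth.Agent.Lib.Helper29.DepthLoc4
import Groth.Prelude.Def_Formal2

/-!
# Bootstrap depth conditions (helper60)

* `depth_gt_of_no_prime_between` : the depth estimate under condition (6) when no prime of
  `V(I) ∖ T` lies between `p` and `q ∈ T`;
* `dimBetween_mono` : `dim (A/p)_r ≤ dim (A/p)_q` for `p ≤ r ≤ q`.
-/

set_option autoImplicit false
universe u
open IsLocalRing TensorProduct

namespace Groth.Agent.Lib.Helper60.Bootstrap

variable (A : Type u) [CommRing A] [IsNoetherianRing A] (I : Ideal A)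
  (M : Type u) [AddCommGroup M] [Module A M] [Module.Finite A M]

theorem depth_gt_of_no_prime_between (T : Set (PrimeSpectrum A))
    (hTI : T ⊆ PrimeSpectrum.zeroLocus (I : Set A)) (s : ℕ)
    (h6 : ∀ q : PrimeSpectrum A, q ∈ T →
      ∀ p' : PrimeSpectrum (AdicCompletion (I.map (algebraMap A
        (Localization.AtPrime q.asIdeal))) (Localization.AtPrime q.asIdeal)),
      ¬ (I.map (algebraMap A (AdicCompletion (I.map (algebraMap A
        (Localization.AtPrime q.asIdeal))) (Localization.AtPrime q.asIdeal)))) ≤ p'.asIdeal →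
      (∀ q' : PrimeSpectrum (AdicCompletion (I.map (algebraMap A
        (Localization.AtPrime q.asIdeal))) (Localization.AtPrime q.asIdeal)), p' ≤ q' →
        (I.map (algebraMap A (AdicCompletion (I.map (algebraMap A
          (Localization.AtPrime q.asIdeal))) (Localization.AtPrime q.asIdeal)))) ≤ q'.asIdeal →
        q'.asIdeal.IsMaximal) →
      (s : ℕ∞) < LocCoh.depth (Localization.AtPrime p'.asIdeal)
        (LocalizedModule p'.asIdeal.primeCompl (AdicCompletion (I.map (algebraMap A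
          (Localization.AtPrime q.asIdeal))) (LocalizedModule q.asIdeal.primeCompl M))))
    (p q : PrimeSpectrum A) (hpq : p ≤ q) (hp : ¬ I ≤ p.asIdeal) (hq : q ∈ T)
    (hr : ∀ r : PrimeSpectrum A, p ≤ r → r ≤ q → I ≤ r.asIdeal → r ∈ T) :
    (s : ℕ∞) < LocCoh.depth (Localization.AtPrime p.asIdeal)
      (LocalizedModule p.asIdeal.primeCompl M) := by
  let S : Set (PrimeSpectrum A) := {r | r ∈ T ∧ p ≤ r ∧ r ≤ q}
  have hSne : S.Nonempty := ⟨q, hq, hpq, le_rfl⟩
  obtain ⟨r₀, hr₀S, hr₀min⟩ := (InvImage.wf (fun r : PrimeSpectrum A => r.asIdeal.height)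
    wellFounded_lt).has_min S hSne
  obtain ⟨hr₀T, hpr₀, hr₀q⟩ := hr₀S
  have hIr₀ : I ≤ r₀.asIdeal := by
    have := hTI hr₀T
    rwa [PrimeSpectrum.mem_zeroLocus] at this
  refine depth_gt_of_cpl A I M s r₀ hIr₀ (h6 r₀ hr₀T) p hpr₀ hp ?_
  intro r hpr hrr₀ hIr
  have hrT : r ∈ T := hr r hpr (hrr₀.trans hr₀q) hIr
  have hrS : r ∈ S := ⟨hrT, hpr, hrr₀.trans hr₀q⟩
  by_contra hne
  have hlt : r < r₀ := lt_of_le_of_ne hrr₀ hne
  have hlt' : r.asIdeal < r₀.asIdeal := hlt
  have := Ideal.height_strict_mono_of_isPrime hlt'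
  exact hr₀min r hrS this

/-- `dim (A/p)_r ≤ dim (A/p)_q` for primes `p ≤ r ≤ q`. -/
theorem dimBetween_mono {p r q : Ideal A} [p.IsPrime] [r.IsPrime] [q.IsPrime] (hpr : p ≤ r)
    (hrq : r ≤ q) : Formal2.dimBetween A p r ≤ Formal2.dimBetween A p q := by
  unfold Formal2.dimBetween
  rw [Groth.Agent.Lib.Helper29.ringKrullDim_localization_quotient_map_eq_height A hpr,
    Groth.Agent.Lib.Helper29.ringKrullDim_localization_quotient_map_eq_height A (hpr.trans hrq)]
  have := Ideal.height_mono (Ideal.map_mono (f := Ideal.Quotient.mk p) hrq)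
  exact_mod_cast this

end Groth.Agent.Lib.Helper60.Bootstrap
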