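import Mathlib.RingTheory.Filtration
import Mathlib.RingTheory.Ideal.Operations

set_option autoImplicit false
universe u

namespace Groth.Agent.Lib.Helper60

variable {R : Type u} [CommRing R]

lemma sup_pow_add_le (I J : Ideal R) : ∀ n m : ℕ, (I ⊔ J) ^ (n + m) ≤ I ^ n ⊔ J ^ m := by
  intro n
  induction n with
  | zero => intro m; simp
  | succ n ihn =>
    intro m
    induction m with
    | zero => simp
    | succ m ihm =>
      have e : n + 1 + (m + 1) = (n + 1 + m) + 1 := by ring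
      rw [e, pow_succ']
      have hX1 : (I ⊔ J) ^ (n + 1 + m) ≤ I ^ n ⊔ J ^ (m + 1) := by
        have := ihn (m + 1)
        rwa [show n + (m + 1) = n + 1 + m by ring] at this
      have hX2 : (I ⊔ J) ^ (n + 1 + m) ≤ I ^ (n + 1) ⊔ J ^ m := ihm
      rw [Ideal.sup_mul]
      apply sup_le
      · calc I * (I ⊔ J) ^ (n + 1 + m) ≤ I * (I ^ n ⊔ J ^ (m + 1)) := Ideal.mul_mono_right hX1
          _ = I * I ^ n ⊔ I * J ^ (m + 1) := Ideal.mul_sup _ _ _
          _ ≤ I ^ (n + 1) ⊔ J ^ (m + 1) := by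
            apply sup_le_sup
            · rw [pow_succ']
            · exact Ideal.mul_le_right
      · calc J * (I ⊔ J) ^ (n + 1 + m) ≤ J * (I ^ (n + 1) ⊔ J ^ m) := Ideal.mul_mono_right hX2
          _ = J * I ^ (n + 1) ⊔ J * J ^ m := Ideal.mul_sup _ _ _
          _ ≤ I ^ (n + 1) ⊔ J ^ (m + 1) := by
            apply sup_le_sup
            · exact Ideal.mul_le_right
            · rw [pow_succ']

lemma sup_pow_two_mul_le (I J : Ideal R) (n : ℕ) : (I ⊔ J) ^ (2 * n) ≤ I ^ n ⊔ J ^ n := by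
  rw [two_mul]
  exact sup_pow_add_le I J n n

lemma pow_sup_pow_le (I J : Ideal R) (n : ℕ) : I ^ n ⊔ J ^ n ≤ (I ⊔ J) ^ n :=
  sup_le (Ideal.pow_right_mono le_sup_left n) (Ideal.pow_right_mono le_sup_right n)

lemma inf_pow_le (I J : Ideal R) (n : ℕ) : (I ⊓ J) ^ n ≤ I ^ n ⊓ J ^ n :=
  le_inf (Ideal.pow_right_mono inf_le_left n) (Ideal.pow_right_mono inf_le_right n)

/-- Artin–Rees: the filtration `I^k ∩ J^k` is cofinal with the powers of `I ∩ J`. -/
lemma exists_pow_inf_pow_le [IsNoetherianRing R] (I J : Ideal R) (m : ℕ) :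
    ∃ k : ℕ, m ≤ k ∧ I ^ k ⊓ J ^ k ≤ (I ⊓ J) ^ m := by
  obtain ⟨c, hc⟩ := Ideal.exists_pow_inf_eq_pow_smul I ((J ^ m : Ideal R) : Submodule R R)
  refine ⟨m + c, Nat.le_add_right m c, ?_⟩
  have h1 := hc (m + c) (Nat.le_add_left c m)
  rw [Nat.add_sub_cancel] at h1
  have h2 : I ^ (m + c) ⊓ J ^ (m + c) ≤ (I ^ (m + c) • ⊤ ⊓ (J ^ m : Ideal R) : Submodule R R) := by
    rw [Ideal.smul_eq_mul, Ideal.mul_top]
    exact inf_le_inf le_rfl (Ideal.pow_le_pow_right (Nat.le_add_right m c))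
  refine h2.trans ?_
  rw [h1, Ideal.smul_eq_mul]
  calc I ^ m * (I ^ c • ⊤ ⊓ J ^ m) ≤ I ^ m * J ^ m := Ideal.mul_mono_right inf_le_right
    _ = (I * J) ^ m := (mul_pow I J m).symm
    _ ≤ (I ⊓ J) ^ m := Ideal.pow_right_mono Ideal.mul_le_inf m

end Groth.Agent.Lib.Helper60
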