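import Groth.Agent.Lib.Helper60.ExtFG
import Groth.Agent.Lib.Helper60.LocalCohAra

/-!
# Cohomological dimension of an ideal (helper60)

* `lc_subsingleton_X₂`, `lc_subsingleton_X₃` : vanishing along short exact sequences.
* `lc_subsingleton_of_linearEquiv`, `lc_subsingleton_prod`, `lc_subsingleton_pi_fin`.
* `lc_subsingleton_of_ring` : if `H^i_J(R) = 0` for all `i > d` then `H^i_J(M) = 0` for all `i > d`
  and all modules `M` (Noetherian ring).
-/

set_option autoImplicit false
universe u
open CategoryTheory CategoryTheory.Limits Opposite Abelian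

namespace Groth.Agent.Lib.Helper60

variable {R : Type u} [CommRing R]

lemma lc_subsingleton_X₂ (J : Ideal R) {S : ShortComplex (ModuleCat.{u} R)} (hS : S.ShortExact)
    (i : ℕ) (h1 : Subsingleton ((localCohomology J i).obj S.X₁))
    (h3 : Subsingleton ((localCohomology J i).obj S.X₃)) :
    Subsingleton ((localCohomology J i).obj S.X₂) := by
  refine ⟨fun a b => ?_⟩
  suffices H : ∀ y : (localCohomology J i).obj S.X₂, y = 0 by rw [H a, H b]
  intro y
  obtain ⟨y₁, rfl⟩ := lc_exact₂ J hS i y (Subsingleton.elim _ _)
  rw [Subsingleton.elim y₁ 0, map_zero]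

lemma lc_subsingleton_X₃ (J : Ideal R) {S : ShortComplex (ModuleCat.{u} R)} (hS : S.ShortExact)
    (i : ℕ) (h2 : Subsingleton ((localCohomology J i).obj S.X₂))
    (h1 : Subsingleton ((localCohomology J (i + 1)).obj S.X₁)) :
    Subsingleton ((localCohomology J i).obj S.X₃) := by
  refine ⟨fun a b => ?_⟩
  suffices H : ∀ y : (localCohomology J i).obj S.X₃, y = 0 by rw [H a, H b]
  intro y
  obtain ⟨y₂, rfl⟩ := lc_exact₃ J hS i y (Subsingleton.elim _ _)
  rw [Subsingleton.elim y₂ 0, map_zero]

lemma lc_subsingleton_of_linearEquiv (J : Ideal R) (i : ℕ) {M N : Type u} [AddCommGroup M]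
    [Module R M] [AddCommGroup N] [Module R N] (e : M ≃ₗ[R] N)
    (h : Subsingleton ((localCohomology J i).obj (ModuleCat.of R M))) :
    Subsingleton ((localCohomology J i).obj (ModuleCat.of R N)) :=
  (((localCohomology J i).mapIso e.toModuleIso).symm.toLinearEquiv.injective).subsingleton

lemma lc_subsingleton_prod (J : Ideal R) (i : ℕ) (M N : Type u) [AddCommGroup M]
    [Module R M] [AddCommGroup N] [Module R N]
    (hM : Subsingleton ((localCohomology J i).obj (ModuleCat.of R M)))
    (hN : Subsingleton ((localCohomology J i).obj (ModuleCat.of R N))) :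
    Subsingleton ((localCohomology J i).obj (ModuleCat.of R (M × N))) := by
  have hS := sesOfSurjective_shortExact (LinearMap.snd R M N) LinearMap.snd_surjective
  have e : M ≃ₗ[R] LinearMap.ker (LinearMap.snd R M N) :=
    (LinearEquiv.ofInjective (LinearMap.inl R M N) LinearMap.inl_injective).trans
      (LinearEquiv.ofEq _ _ (LinearMap.ker_snd R M N).symm)
  exact lc_subsingleton_X₂ J hS i (lc_subsingleton_of_linearEquiv J i e hM) hN

lemma lc_subsingleton_of_subsingleton [IsNoetherianRing R] (J : Ideal R) (i : ℕ) (M : Type u)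
    [AddCommGroup M] [Module R M] [Subsingleton M] :
    Subsingleton ((localCohomology J i).obj (ModuleCat.of R M)) := by
  apply lc_subsingleton_of_supportDim_lt J i M
  rw [Module.supportDim_eq_bot_of_subsingleton]
  exact WithBot.bot_lt_coe _

lemma lc_subsingleton_pi_fin [IsNoetherianRing R] (J : Ideal R) (i : ℕ) (M : Type u)
    [AddCommGroup M] [Module R M]
    (h : Subsingleton ((localCohomology J i).obj (ModuleCat.of R M))) (n : ℕ) :
    Subsingleton ((localCohomology J i).obj (ModuleCat.of R (Fin n → M))) := by
  induction n with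
  | zero => exact lc_subsingleton_of_subsingleton J i _
  | succ n ih =>
    exact lc_subsingleton_of_linearEquiv J i (Fin.consLinearEquiv R (fun _ : Fin (n + 1) => M))
      (lc_subsingleton_prod J i M (Fin n → M) h ih)

/-- If `H^i_J(R) = 0` for all `i > d`, then `H^i_J(M) = 0` for all `i > d` and all finite `M`. -/
theorem lc_subsingleton_of_ring_of_finite [IsNoetherianRing R] (J : Ideal R) (d : ℕ)
    (h : ∀ i : ℕ, d < i → Subsingleton ((localCohomology J i).obj (ModuleCat.of R R))) :
    ∀ (i : ℕ), d < i → ∀ (M : Type u) [AddCommGroup M] [Module R M] [Module.Finite R M],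
      Subsingleton ((localCohomology J i).obj (ModuleCat.of R M)) := by
  classical
  obtain ⟨s, hs⟩ : J.FG := IsNoetherian.noetherian J
  have key : ∀ k : ℕ, ∀ i : ℕ, d < i → s.card < i + k →
      ∀ (M : Type u) [AddCommGroup M] [Module R M] [Module.Finite R M],
      Subsingleton ((localCohomology J i).obj (ModuleCat.of R M)) := by
    intro k
    induction k with
    | zero =>
      intro i _ hi M _ _ _
      rw [← hs]
      exact lc_subsingleton_of_card_lt M s i (by omega)
    | succ k ih =>
      intro i hdi hi M _ _ _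
      obtain ⟨n, f, hf⟩ := Module.Finite.exists_fin' R M
      have hS := sesOfSurjective_shortExact f hf
      have h2 : Subsingleton ((localCohomology J i).obj (sesOfSurjective f).X₂) :=
        lc_subsingleton_pi_fin J i R (h i hdi) n
      have h1 : Subsingleton ((localCohomology J (i + 1)).obj (sesOfSurjective f).X₁) :=
        ih (i + 1) (by omega) (by omega) (LinearMap.ker f)
      exact lc_subsingleton_X₃ J hS i h2 h1
  intro i hi M _ _ _
  exact key (s.card + 1) i hi (by omega) M

/-- If `H^i_J(R) = 0` for all `i > d`, then `H^i_J(M) = 0` for all `i > d` and all `M`. -/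
theorem lc_subsingleton_of_ring [IsNoetherianRing R] (J : Ideal R) (d : ℕ)
    (h : ∀ i : ℕ, d < i → Subsingleton ((localCohomology J i).obj (ModuleCat.of R R)))
    (i : ℕ) (hi : d < i) (M : Type u) [AddCommGroup M] [Module R M] :
    Subsingleton ((localCohomology J i).obj (ModuleCat.of R M)) := by
  refine ⟨fun a b => ?_⟩
  suffices H : ∀ y : (localCohomology J i).obj (ModuleCat.of R M), y = 0 by rw [H a, H b]
  intro y
  obtain ⟨M₀, hfg, y₀, rfl⟩ := lc_exists_fg J i (ModuleCat.of R M) y
  have : Module.Finite R M₀ := Module.Finite.iff_fg.mpr hfg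
  have := lc_subsingleton_of_ring_of_finite J d h i hi M₀
  rw [Subsingleton.elim y₀ 0, map_zero]

end Groth.Agent.Lib.Helper60
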