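/-
Copyright (c) 2026. Released under Apache 2.0 license.
# Local cohomology with support in a sum of ideals (helper60)

`cd(I + J) ≤ cd(I) + cd(J)` by dimension shifting (no spectral sequence).

* `lc_subsingleton_X₁`, `exists_injective_embedding`.
* `torsionMap`, `sesGamma`, `sesGamma_shortExact` : `0 → Γ_J N → Γ_J M → Γ_J (M/N) → 0` is exact
  when `H^1_J(N) = 0`.
* `lc_sup_subsingleton_of_acyclic` : for a `Γ_J`-acyclic `M`, `H^n_I(Γ_J M) = 0` implies
  `H^n_{I+J}(M) = 0` (`n ≥ 1`).
* `lc_sup_subsingleton` : if `H^p_I = 0` for `p > a` on all modules and `H^q_J(M) = 0` for `q > b`,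
  then `H^n_{I+J}(M) = 0` for `n > a + b`.
-/
import Groth.Agent.Lib.Helper60.LocalCohCd
import Groth.Agent.Lib.Helper60.IdealPowers

set_option autoImplicit false
universe u
open CategoryTheory CategoryTheory.Limits Opposite Abelian

namespace Groth.Agent.Lib.Helper60

variable {R : Type u} [CommRing R]

lemma lc_subsingleton_X₁ (J : Ideal R) {S : ShortComplex (ModuleCat.{u} R)} (hS : S.ShortExact)
    (i : ℕ) (h3 : Subsingleton ((localCohomology J i).obj S.X₃))
    (h2 : Subsingleton ((localCohomology J (i + 1)).obj S.X₂)) :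
    Subsingleton ((localCohomology J (i + 1)).obj S.X₁) := by
  refine ⟨fun a b => ?_⟩
  suffices H : ∀ y : (localCohomology J (i + 1)).obj S.X₁, y = 0 by rw [H a, H b]
  intro y
  obtain ⟨y₃, rfl⟩ := lc_exact₁ J hS i y (Subsingleton.elim _ _)
  rw [Subsingleton.elim y₃ 0, map_zero]

/-- every module embeds into an injective module. -/
lemma exists_injective_embedding (N : Type u) [AddCommGroup N] [Module R N] :
    ∃ (E : Type u) (_ : AddCommGroup E) (_ : Module R E) (_ : Module.Injective R E)
      (ι : N →ₗ[R] E), Function.Injective ι := by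
  let E := Injective.under (ModuleCat.of R N)
  let ι : ModuleCat.of R N ⟶ E := Injective.ι _
  have hι : Function.Injective ι.hom := (ModuleCat.mono_iff_injective ι).mp inferInstance
  have hE : Injective (ModuleCat.of R E) := (inferInstance : Injective E)
  have : Module.Injective R E := Module.injective_module_of_injective_object R E
  exact ⟨E, inferInstance, inferInstance, this, ι.hom, hι⟩

section gamma

variable (J : Ideal R) {M N : Type u} [AddCommGroup M] [Module R M] [AddCommGroup N] [Module R N]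

/-- `Γ_J` on linear maps. -/
def torsionMap (f : M →ₗ[R] N) : DRing.torsionSub J M →ₗ[R] DRing.torsionSub J N :=
  f.restrict fun _ hm => DRing.map_mem_torsionSub J f hm

@[simp] lemma torsionMap_coe (f : M →ₗ[R] N) (x : DRing.torsionSub J M) :
    (torsionMap J f x : N) = f x := rfl

/-- the short complex `Γ_J N → Γ_J M → Γ_J (M/N)`. -/
noncomputable def sesGamma (ι : N →ₗ[R] M) : ShortComplex (ModuleCat.{u} R) :=
  ShortComplex.mk (ModuleCat.ofHom (torsionMap J ι))
    (ModuleCat.ofHom (torsionMap J (LinearMap.range ι).mkQ)) (by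
      ext x
      simp)

lemma sesGamma_shortExact (ι : N →ₗ[R] M) (hι : Function.Injective ι)
    (h1 : Subsingleton ((localCohomology J 1).obj (ModuleCat.of R N))) :
    (sesGamma J ι).ShortExact := by
  apply ModuleCat.shortComplex_shortExact
  · intro (e : DRing.torsionSub J M)
    constructor
    · intro he
      have he' : (LinearMap.range ι).mkQ (e : M) = 0 := congrArg Subtype.val he
      rw [Submodule.mkQ_apply, Submodule.Quotient.mk_eq_zero] at he'
      obtain ⟨n, hn⟩ := he'
      obtain ⟨k, hk⟩ := e.2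
      refine ⟨⟨n, k, fun a ha => hι ?_⟩, Subtype.ext hn⟩
      rw [map_smul, hn, hk a ha, map_zero]
    · rintro ⟨n, rfl⟩
      apply Subtype.ext
      simp
  · intro x y hxy
    apply Subtype.ext
    apply hι
    exact congrArg Subtype.val hxy
  · rintro ⟨c, k, hk⟩
    obtain ⟨y₃, hy₃⟩ := exists_lcH0Map_eq J (sesOfInjective ι).X₃ c k hk
    have h1' : Subsingleton ((localCohomology J (0 + 1)).obj (sesOfInjective ι).X₁) := h1
    obtain ⟨y₂, hy₂⟩ := lc_exact₃ J (sesOfInjective_shortExact ι hι) 0 y₃ (Subsingleton.elim _ _)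
    refine ⟨⟨lcH0Map J _ y₂, lcH0Map_mem_torsionSub J _ y₂⟩, Subtype.ext ?_⟩
    have := lcH0Map_naturality J (sesOfInjective ι).g y₂
    rw [hy₂, hy₃] at this
    exact this.symm

end gamma

/-- For a `Γ_J`-acyclic module `M`, vanishing of `H^n_I(Γ_J M)` implies vanishing of
`H^n_{I+J}(M)`, `n ≥ 1` (Noetherian ring). -/
theorem lc_sup_subsingleton_of_acyclic [IsNoetherianRing R] (I J : Ideal R) (m : ℕ) :
    ∀ (M : Type u) [AddCommGroup M] [Module R M],
      (∀ q : ℕ, 0 < q → Subsingleton ((localCohomology J q).obj (ModuleCat.of R M))) →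
      Subsingleton ((localCohomology I (m + 1)).obj (ModuleCat.of R (DRing.torsionSub J M))) →
      Subsingleton ((localCohomology (I ⊔ J) (m + 1)).obj (ModuleCat.of R M)) := by
  induction m with
  | zero =>
    intro M _ _ hac hI
    obtain ⟨E, _, _, _, ι, hι⟩ := exists_injective_embedding (R := R) M
    have hS := sesOfInjective_shortExact ι hι
    have hSΓ := sesGamma_shortExact J ι hι (hac 1 one_pos)
    have : Injective (sesOfInjective ι).X₂ := Module.injective_object_of_injective_module R E
    have := lc_subsingleton_of_injective (I ⊔ J) (sesOfInjective ι).X₂ 1 one_pos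
    refine ⟨fun a b => ?_⟩
    suffices H : ∀ y : (localCohomology (I ⊔ J) (0 + 1)).obj (ModuleCat.of R M), y = 0 by
      rw [H a, H b]
    intro y
    obtain ⟨y₃, rfl⟩ := lc_exact₁ (I ⊔ J) hS 0 y (Subsingleton.elim _ _)
    obtain ⟨k, hk⟩ := lcH0Map_mem_torsionSub (I ⊔ J) _ y₃
    -- the element `c ∈ Γ_I(Γ_J(C))`
    have hcJ : lcH0Map (I ⊔ J) _ y₃ ∈ DRing.torsionSub J (E ⧸ LinearMap.range ι) :=
      ⟨k, fun a ha => hk a (Ideal.pow_right_mono le_sup_right k ha)⟩
    have hcI : ∀ a ∈ I ^ k, a • (⟨lcH0Map (I ⊔ J) _ y₃, hcJ⟩ :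
        DRing.torsionSub J (E ⧸ LinearMap.range ι)) = 0 :=
      fun a ha => Subtype.ext (hk a (Ideal.pow_right_mono le_sup_left k ha))
    obtain ⟨z₃, hz₃⟩ := exists_lcH0Map_eq I (sesGamma J ι).X₃ ⟨_, hcJ⟩ k hcI
    have hI' : Subsingleton ((localCohomology I (0 + 1)).obj (sesGamma J ι).X₁) := hI
    obtain ⟨z₂, hz₂⟩ := lc_exact₃ I hSΓ 0 z₃ (Subsingleton.elim _ _)
    have he' := lcH0Map_naturality I (sesGamma J ι).g z₂
    rw [hz₂, hz₃] at he'
    obtain ⟨a, ha⟩ := lcH0Map_mem_torsionSub I _ z₂
    obtain ⟨e', he'def⟩ : ∃ e' : DRing.torsionSub J E, e' = lcH0Map I (sesGamma J ι).X₂ z₂ :=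
      ⟨_, rfl⟩
    rw [← he'def] at ha he'
    obtain ⟨b, hb⟩ := e'.2
    have hkill : ∀ r ∈ (I ⊔ J) ^ (a + b), r • (e' : E) = 0 := by
      intro r hr
      obtain ⟨r₁, hr₁, r₂, hr₂, rfl⟩ := Submodule.mem_sup.mp (sup_pow_add_le I J a b hr)
      rw [add_smul, hb r₂ hr₂, add_zero]
      exact congrArg Subtype.val (ha r₁ hr₁)
    obtain ⟨y₂, hy₂⟩ := exists_lcH0Map_eq (I ⊔ J) (sesOfInjective ι).X₂ _ (a + b) hkill
    have : ((localCohomology (I ⊔ J) 0).map (sesOfInjective ι).g).hom y₂ = y₃ := by
      apply lcH0Map_injective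
      rw [lcH0Map_naturality, hy₂]
      exact (congrArg Subtype.val he').symm
    rw [← this, lcDelta_comp_map]
    rfl
  | succ m ih =>
    intro M _ _ hac hI
    obtain ⟨E, _, _, _, ι, hι⟩ := exists_injective_embedding (R := R) M
    have hS := sesOfInjective_shortExact ι hι
    have hSΓ := sesGamma_shortExact J ι hι (hac 1 one_pos)
    have : Injective (sesOfInjective ι).X₂ := Module.injective_object_of_injective_module R E
    have : Module.Injective R (DRing.torsionSub J E) := injective_torsionSub J E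
    have : Injective (sesGamma J ι).X₂ :=
      Module.injective_object_of_injective_module R (DRing.torsionSub J E)
    -- `C = E/M` is `Γ_J`-acyclic
    have hacC : ∀ q : ℕ, 0 < q → Subsingleton ((localCohomology J q).obj
        (ModuleCat.of R (E ⧸ LinearMap.range ι))) := fun q hq =>
      lc_subsingleton_X₃ J hS q (lc_subsingleton_of_injective J _ q hq) (hac (q + 1) (Nat.succ_pos q))
    -- `H^{m+1}_I(Γ_J C) = 0`
    have hIC : Subsingleton ((localCohomology I (m + 1)).obj
        (ModuleCat.of R (DRing.torsionSub J (E ⧸ LinearMap.range ι)))) :=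
      lc_subsingleton_X₃ I hSΓ (m + 1) (lc_subsingleton_of_injective I _ (m + 1) (Nat.succ_pos m)) hI
    have hC := ih (E ⧸ LinearMap.range ι) hacC hIC
    exact lc_subsingleton_X₁ (I ⊔ J) hS (m + 1) hC
      (lc_subsingleton_of_injective (I ⊔ J) _ (m + 1 + 1) (Nat.succ_pos _))

/-- If `H^p_I` vanishes for `p > a` on all modules and `H^q_J(M) = 0` for `q > b`, then
`H^n_{I+J}(M) = 0` for `n > a + b`. -/
theorem lc_sup_subsingleton [IsNoetherianRing R] (I J : Ideal R) (a : ℕ)
    (hI : ∀ (N : Type u) [AddCommGroup N] [Module R N] (p : ℕ), a < p →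
      Subsingleton ((localCohomology I p).obj (ModuleCat.of R N))) (b : ℕ) :
    ∀ (M : Type u) [AddCommGroup M] [Module R M],
      (∀ q : ℕ, b < q → Subsingleton ((localCohomology J q).obj (ModuleCat.of R M))) →
      ∀ n : ℕ, a + b < n → Subsingleton ((localCohomology (I ⊔ J) n).obj (ModuleCat.of R M)) := by
  induction b with
  | zero =>
    intro M _ _ hac n hn
    obtain ⟨m, rfl⟩ : ∃ m, n = m + 1 := ⟨n - 1, by omega⟩
    exact lc_sup_subsingleton_of_acyclic I J m M hac (hI _ (m + 1) (by omega))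
  | succ b ih =>
    intro M _ _ hac n hn
    obtain ⟨E, _, _, _, ι, hι⟩ := exists_injective_embedding (R := R) M
    have hS := sesOfInjective_shortExact ι hι
    have : Injective (sesOfInjective ι).X₂ := Module.injective_object_of_injective_module R E
    have hacC : ∀ q : ℕ, b < q → Subsingleton ((localCohomology J q).obj
        (ModuleCat.of R (E ⧸ LinearMap.range ι))) := fun q hq =>
      lc_subsingleton_X₃ J hS q (lc_subsingleton_of_injective J _ q (by omega))
        (hac (q + 1) (by omega))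
    obtain ⟨m, rfl⟩ : ∃ m, n = m + 1 := ⟨n - 1, by omega⟩
    have hC := ih (E ⧸ LinearMap.range ι) hacC m (by omega)
    exact lc_subsingleton_X₁ (I ⊔ J) hS m hC
      (lc_subsingleton_of_injective (I ⊔ J) _ (m + 1) (Nat.succ_pos _))

end Groth.Agent.Lib.Helper60
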