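import Groth.Agent.Lib.Helper60.LocalCohCompare
import Groth.Agent.Lib.Helper60.LocalCohPrincipal
import Groth.Agent.Lib.Helper60.LocalCohSum
import Groth.Agent.Lib.Helper60.FlatBC2

/-!
# Adding one generator: `H^i_{a + Rb}` versus `H^i_a` (helper60)

For a Noetherian ring `R`, an ideal `a`, an element `b` and the comparison maps
`cmp a b i M : H^i_{a+Rb}(M) → H^i_a(M)`:

* `mem_range_cmp_iff` : the image of `cmp` is the `b`-power torsion of `H^i_a(M)`;
* `cmp_zero_injective` : `cmp` is injective in degree `0`;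
* `nonempty_ker_cmp_equiv` : `ker (cmp (i+1)) ≅ H^1_{Rb}(H^i_a(M))`.

Auxiliary: `lcCongr`, `lc_module_injective`, `lc_one_subsingleton_of_surjective_of_injective`,
`exists_torsion_lift`, `lcMap_one_bijective_of_exact`.
-/

set_option autoImplicit false
universe u
open CategoryTheory CategoryTheory.Limits Opposite Abelian

namespace Groth.Agent.Lib.Helper60

variable {R : Type u} [CommRing R]

section general

/-- a linear equivalence induces a linear equivalence on local cohomology. -/
noncomputable def lcCongr (J : Ideal R) (i : ℕ) {M N : Type u} [AddCommGroup M] [Module R M]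
    [AddCommGroup N] [Module R N] (e : M ≃ₗ[R] N) :
    (localCohomology J i).obj (ModuleCat.of R M) ≃ₗ[R] (localCohomology J i).obj (ModuleCat.of R N) :=
  ((localCohomology J i).mapIso e.toModuleIso).toLinearEquiv

lemma lcCongr_apply (J : Ideal R) (i : ℕ) {M N : Type u} [AddCommGroup M] [Module R M]
    [AddCommGroup N] [Module R N] (e : M ≃ₗ[R] N)
    (y : (localCohomology J i).obj (ModuleCat.of R M)) :
    lcCongr J i e y = ((localCohomology J i).map (ModuleCat.ofHom (e : M →ₗ[R] N))).hom y := rfl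

lemma module_injective_of_subsingleton (Q : Type u) [AddCommGroup Q] [Module R Q] [Subsingleton Q] :
    Module.Injective R Q :=
  Module.Baer.injective fun _ _ => ⟨0, fun _ _ => Subsingleton.elim _ _⟩

lemma module_injective_of_equiv {Q Q' : Type u} [AddCommGroup Q] [Module R Q] [AddCommGroup Q']
    [Module R Q'] (e : Q ≃ₗ[R] Q') [Module.Injective R Q] : Module.Injective R Q' :=
  (Module.Baer.of_equiv e (Module.Baer.of_injective inferInstance)).injective

/-- local cohomology of an injective module is an injective module (zero in positive degrees). -/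
lemma lc_module_injective [IsNoetherianRing R] (J : Ideal R) (E : Type u) [AddCommGroup E]
    [Module R E] [Module.Injective R E] (i : ℕ) :
    Module.Injective R ((localCohomology J i).obj (ModuleCat.of R E)) := by
  rcases Nat.eq_zero_or_pos i with rfl | hi
  · have := injective_torsionSub J E
    exact module_injective_of_equiv (lcH0Equiv J (ModuleCat.of R E)).symm
  · have : Injective (ModuleCat.of R E) := Module.injective_object_of_injective_module R E
    have := lc_subsingleton_of_injective J (ModuleCat.of R E) i hi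
    exact module_injective_of_subsingleton _

end general

section principal

variable (b : R)

lemma smul_eq_zero_of_mem_span_pow {N : Type u} [AddCommGroup N] [Module R N] {x : N} {n : ℕ}
    (hx : b ^ n • x = 0) : ∀ r ∈ (Ideal.span {b} : Ideal R) ^ n, r • x = 0 := by
  intro r hr
  rw [Ideal.span_singleton_pow, Ideal.mem_span_singleton] at hr
  obtain ⟨s, rfl⟩ := hr
  rw [mul_comm, mul_smul, hx, smul_zero]

lemma pow_smul_eq_zero_of_forall_mem_span_pow {N : Type u} [AddCommGroup N] [Module R N] {x : N}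
    {n : ℕ} (hx : ∀ r ∈ (Ideal.span {b} : Ideal R) ^ n, r • x = 0) : b ^ n • x = 0 :=
  hx _ (Ideal.pow_mem_pow (Ideal.mem_span_singleton_self b) n)

variable [IsNoetherianRing R]

/-- a quotient of an injective module has vanishing `H^1_{Rb}`. -/
lemma lc_one_subsingleton_of_surjective_of_injective {B C : Type u} [AddCommGroup B] [Module R B]
    [AddCommGroup C] [Module R C] [Module.Injective R B] (p : B →ₗ[R] C)
    (hp : Function.Surjective p) :
    Subsingleton ((localCohomology (Ideal.span {b}) 1).obj (ModuleCat.of R C)) := by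
  have hS := sesOfSubmodule_shortExact (LinearMap.ker p)
  have : Injective (sesOfSubmodule (LinearMap.ker p)).X₂ :=
    Module.injective_object_of_injective_module R B
  have h1 := lc_subsingleton_of_injective (Ideal.span {b}) (sesOfSubmodule (LinearMap.ker p)).X₂ 1
    Nat.one_pos
  have h2 : Subsingleton ((localCohomology (Ideal.span {b}) 2).obj
      (sesOfSubmodule (LinearMap.ker p)).X₁) :=
    lc_subsingleton_of_principal b 2 le_rfl (LinearMap.ker p)
  have h3 : Subsingleton ((localCohomology (Ideal.span {b}) 1).obj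
      (ModuleCat.of R (B ⧸ LinearMap.ker p))) := by
    refine ⟨fun y z => ?_⟩
    suffices H : ∀ y : (localCohomology (Ideal.span {b}) 1).obj
        (sesOfSubmodule (LinearMap.ker p)).X₃, y = 0 by
      exact (H y).trans (H z).symm
    intro y
    obtain ⟨y₂, rfl⟩ := lc_exact₃ (Ideal.span {b}) hS 1 y (Subsingleton.elim _ _)
    rw [Subsingleton.elim y₂ 0, map_zero]
  exact (lcCongr (Ideal.span {b}) 1 (p.quotKerEquivOfSurjective hp)).symm.toEquiv.subsingleton

variable {B C H : Type u} [AddCommGroup B] [Module R B] [AddCommGroup C] [Module R C]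
  [AddCommGroup H] [Module R H] [Module.Injective R B] (f : B →ₗ[R] C) (g : C →ₗ[R] H)
  (hg : Function.Surjective g) (hfg : Function.Exact f g)

include hfg in
lemma lc_one_subsingleton_ker :
    Subsingleton ((localCohomology (Ideal.span {b}) 1).obj (ModuleCat.of R (LinearMap.ker g))) := by
  refine lc_one_subsingleton_of_surjective_of_injective b
    (f.codRestrict (LinearMap.ker g) (fun x => hfg.apply_apply_eq_zero x)) ?_
  rintro ⟨c, hc⟩
  obtain ⟨x, rfl⟩ := (hfg c).mp hc
  exact ⟨x, rfl⟩

include hg hfg in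
/-- `b`-power torsion elements lift to `b`-power torsion elements along `g : C → H` when
`ker g` is a quotient of an injective module. -/
lemma exists_torsion_lift (h : H) (hh : ∃ n : ℕ, b ^ n • h = 0) :
    ∃ c : C, g c = h ∧ ∃ m : ℕ, b ^ m • c = 0 := by
  obtain ⟨n, hn⟩ := hh
  obtain ⟨c₀, rfl⟩ := hg h
  have hS := sesOfSubmodule_shortExact (LinearMap.ker g)
  have h1 : Subsingleton ((localCohomology (Ideal.span {b}) (0 + 1)).obj
      (sesOfSubmodule (LinearMap.ker g)).X₁) := lc_one_subsingleton_ker b f g hfg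
  have hq : b ^ n • (LinearMap.ker g).mkQ c₀ = 0 := by
    rw [← map_smul, Submodule.mkQ_apply, Submodule.Quotient.mk_eq_zero, LinearMap.mem_ker,
      map_smul, hn]
  obtain ⟨y, hy⟩ := exists_lcH0Map_eq (Ideal.span {b}) (sesOfSubmodule (LinearMap.ker g)).X₃
    ((LinearMap.ker g).mkQ c₀) n (smul_eq_zero_of_mem_span_pow b hq)
  obtain ⟨y₂, hy₂⟩ := lc_exact₃ (Ideal.span {b}) hS 0 y (Subsingleton.elim _ _)
  obtain ⟨c, hc⟩ : ∃ c : C, c = lcH0Map (Ideal.span {b}) (sesOfSubmodule (LinearMap.ker g)).X₂ y₂ :=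
    ⟨_, rfl⟩
  refine ⟨c, ?_, ?_⟩
  · have h3 := lcH0Map_naturality (Ideal.span {b}) (sesOfSubmodule (LinearMap.ker g)).g y₂
    rw [hy₂, hy, ← hc] at h3
    have h4 : (LinearMap.ker g).mkQ c₀ = (LinearMap.ker g).mkQ c := h3
    have h5 := (Submodule.Quotient.eq _).mp h4
    rw [LinearMap.mem_ker, map_sub, sub_eq_zero] at h5
    exact h5.symm
  · obtain ⟨m, hm⟩ := lcH0Map_mem_torsionSub (Ideal.span {b})
      (sesOfSubmodule (LinearMap.ker g)).X₂ y₂
    rw [← hc] at hm
    exact ⟨m, pow_smul_eq_zero_of_forall_mem_span_pow b hm⟩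

include hg hfg in
/-- `H^1_{Rb}(C) → H^1_{Rb}(H)` is bijective when `ker (C → H)` is a quotient of an injective
module. -/
lemma lcMap_one_bijective_of_exact :
    Function.Bijective ((localCohomology (Ideal.span {b}) 1).map (ModuleCat.ofHom g)).hom := by
  have hS := sesOfSubmodule_shortExact (LinearMap.ker g)
  have h1 : Subsingleton ((localCohomology (Ideal.span {b}) 1).obj
      (sesOfSubmodule (LinearMap.ker g)).X₁) := lc_one_subsingleton_ker b f g hfg
  have h2 : Subsingleton ((localCohomology (Ideal.span {b}) 2).obj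
      (sesOfSubmodule (LinearMap.ker g)).X₁) :=
    lc_subsingleton_of_principal b 2 le_rfl (LinearMap.ker g)
  have hmk : Function.Bijective ((localCohomology (Ideal.span {b}) 1).map
      (sesOfSubmodule (LinearMap.ker g)).g).hom := by
    constructor
    · rw [injective_iff_map_eq_zero]
      intro y hy
      obtain ⟨y₁, rfl⟩ := lc_exact₂ (Ideal.span {b}) hS 1 y hy
      have : y₁ = 0 := Subsingleton.elim _ _
      rw [this, map_zero]
    · intro y₃
      exact lc_exact₃ (Ideal.span {b}) hS 1 y₃ (Subsingleton.elim _ _)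
  have hfac : ModuleCat.ofHom g = ModuleCat.ofHom (LinearMap.ker g).mkQ ≫
      ModuleCat.ofHom ((g.quotKerEquivOfSurjective hg : _ →ₗ[R] H)) := by
    apply ModuleCat.hom_ext
    apply LinearMap.ext
    intro c
    rfl
  rw [hfac, CategoryTheory.Functor.map_comp, ModuleCat.hom_comp]
  exact (lcCongr (Ideal.span {b}) 1 (g.quotKerEquivOfSurjective hg)).bijective.comp hmk

end principal

section cmp

variable (a : Ideal R) (b : R)

/-- the comparison map `H^i_{a+Rb}(M) → H^i_a(M)`. -/
noncomputable abbrev cmp (i : ℕ) (M : ModuleCat.{u} R) :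
    (localCohomology (a ⊔ Ideal.span {b}) i).obj M →ₗ[R] (localCohomology a i).obj M :=
  ((Dual2.HmapOfLE (le_sup_left : a ≤ a ⊔ Ideal.span {b}) i).app M).hom

lemma cmp_delta {S : ShortComplex (ModuleCat.{u} R)} (hS : S.ShortExact) (i : ℕ)
    (y : (localCohomology (a ⊔ Ideal.span {b}) i).obj S.X₃) :
    cmp a b (i + 1) S.X₁ (lcDelta (a ⊔ Ideal.span {b}) hS i y) =
      lcDelta a hS i (cmp a b i S.X₃ y) :=
  HmapOfLE_lcDelta le_sup_left hS i y

lemma cmp_naturality (i : ℕ) {M N : ModuleCat.{u} R} (φ : M ⟶ N)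
    (y : (localCohomology (a ⊔ Ideal.span {b}) i).obj M) :
    cmp a b i N (((localCohomology (a ⊔ Ideal.span {b}) i).map φ).hom y) =
      ((localCohomology a i).map φ).hom (cmp a b i M y) :=
  HmapOfLE_naturality le_sup_left i φ y

lemma exists_pow_smul_eq_zero_sup (i : ℕ) (M : ModuleCat.{u} R)
    (y : (localCohomology (a ⊔ Ideal.span {b}) i).obj M) : ∃ n : ℕ, b ^ n • y = 0 := by
  obtain ⟨n, hn⟩ := lc_isPowerTorsion (a ⊔ Ideal.span {b}) i M y
  exact ⟨n, hn _ (Ideal.pow_mem_pow (Ideal.mem_sup_right (Ideal.mem_span_singleton_self b)) n)⟩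

lemma cmp_zero_injective (M : ModuleCat.{u} R) : Function.Injective (cmp a b 0 M) := by
  intro y z h
  apply lcH0Map_injective (a ⊔ Ideal.span {b}) M
  rw [← lcH0Map_HmapOfLE (le_sup_left : a ≤ a ⊔ Ideal.span {b}) M y,
    ← lcH0Map_HmapOfLE (le_sup_left : a ≤ a ⊔ Ideal.span {b}) M z]
  exact congrArg _ h

lemma mem_range_cmp_zero (M : ModuleCat.{u} R) (x : (localCohomology a 0).obj M) {n : ℕ}
    (hx : b ^ n • x = 0) : ∃ y, cmp a b 0 M y = x := by
  obtain ⟨k, hk⟩ := lcH0Map_mem_torsionSub a M x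
  have hb : b ^ n • lcH0Map a M x = 0 := by rw [← map_smul, hx, map_zero]
  have hkill : ∀ r ∈ (a ⊔ Ideal.span {b}) ^ (k + n), r • lcH0Map a M x = 0 := by
    intro r hr
    have hr' := sup_pow_add_le a (Ideal.span {b}) k n hr
    obtain ⟨r₁, hr₁, r₂, hr₂, rfl⟩ := Submodule.mem_sup.mp hr'
    rw [add_smul, hk r₁ hr₁, smul_eq_zero_of_mem_span_pow b hb r₂ hr₂, add_zero]
  obtain ⟨y', hy'⟩ := exists_lcH0Map_eq (a ⊔ Ideal.span {b}) M _ (k + n) hkill
  refine ⟨y', ?_⟩
  apply lcH0Map_injective a M
  rw [lcH0Map_HmapOfLE, hy']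

variable [IsNoetherianRing R]

/-- the image of `H^i_{a+Rb}(M) → H^i_a(M)` is the `b`-power torsion of `H^i_a(M)`. -/
theorem mem_range_cmp_iff (i : ℕ) : ∀ (M : Type u) [AddCommGroup M] [Module R M]
    (x : (localCohomology a i).obj (ModuleCat.of R M)),
    x ∈ LinearMap.range (cmp a b i (ModuleCat.of R M)) ↔ ∃ n : ℕ, b ^ n • x = 0 := by
  induction i with
  | zero =>
    intro M _ _ x
    constructor
    · rintro ⟨y, rfl⟩
      obtain ⟨n, hn⟩ := exists_pow_smul_eq_zero_sup a b 0 _ y
      exact ⟨n, by rw [← map_smul, hn, map_zero]⟩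
    · rintro ⟨n, hn⟩
      exact mem_range_cmp_zero a b _ x hn
  | succ i ih =>
    intro M _ _ x
    constructor
    · rintro ⟨y, rfl⟩
      obtain ⟨n, hn⟩ := exists_pow_smul_eq_zero_sup a b (i + 1) _ y
      exact ⟨n, by rw [← map_smul, hn, map_zero]⟩
    · intro hx
      obtain ⟨E, _, _, _, ι, hι⟩ := exists_injective_embedding (R := R) M
      have hS := sesOfInjective_shortExact ι hι
      have hE : Injective (sesOfInjective ι).X₂ := Module.injective_object_of_injective_module R E
      have h1 := lc_subsingleton_of_injective a (sesOfInjective ι).X₂ (i + 1) (Nat.succ_pos _)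
      have hBinj : Module.Injective R ((localCohomology a i).obj (sesOfInjective ι).X₂) :=
        lc_module_injective a E i
      have hgsurj : Function.Surjective (lcDelta a hS i) := fun y =>
        lc_exact₁ a hS i y (Subsingleton.elim _ _)
      have hex : Function.Exact ((localCohomology a i).map (sesOfInjective ι).g).hom
          (lcDelta a hS i) := by
        intro y
        constructor
        · intro hy
          exact lc_exact₃ a hS i y hy
        · rintro ⟨y₂, rfl⟩
          exact lcDelta_comp_map a hS i y₂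
      obtain ⟨c, hc, m, hm⟩ := exists_torsion_lift b
        ((localCohomology a i).map (sesOfInjective ι).g).hom (lcDelta a hS i) hgsurj hex x hx
      obtain ⟨t, ht⟩ := (ih (E ⧸ LinearMap.range ι) c).mpr ⟨m, hm⟩
      refine ⟨lcDelta (a ⊔ Ideal.span {b}) hS i t, ?_⟩
      rw [← hc, ← ht]
      exact cmp_delta a b hS i t

/-- base case: `ker (H^1_{a+Rb}(M) → H^1_a(M)) ≅ H^1_{Rb}(H^0_a(M))`. -/
theorem nonempty_ker_cmp_one_equiv (M : Type u) [AddCommGroup M] [Module R M] :
    Nonempty (LinearMap.ker (cmp a b 1 (ModuleCat.of R M)) ≃ₗ[R]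
      (localCohomology (Ideal.span {b}) 1).obj
        (ModuleCat.of R ((localCohomology a 0).obj (ModuleCat.of R M)))) := by
  obtain ⟨E, _, _, _, ι, hι⟩ := exists_injective_embedding (R := R) M
  have hS := sesOfInjective_shortExact ι hι
  have hE : Injective (sesOfInjective ι).X₂ := Module.injective_object_of_injective_module R E
  have hE1 := lc_subsingleton_of_injective (a ⊔ Ideal.span {b}) (sesOfInjective ι).X₂ 1 Nat.one_pos
  -- the modules `A₀ = H^0_a(M) ⊆ B = H^0_a(E)`, `C = H^0_a(Q)`
  let ιs : (localCohomology a 0).obj (ModuleCat.of R M) →ₗ[R]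
      (localCohomology a 0).obj (ModuleCat.of R E) :=
    ((localCohomology a 0).map (sesOfInjective ι).f).hom
  let πs : (localCohomology a 0).obj (ModuleCat.of R E) →ₗ[R]
      (localCohomology a 0).obj (sesOfInjective ι).X₃ :=
    ((localCohomology a 0).map (sesOfInjective ι).g).hom
  have hιs : Function.Injective ιs := by
    intro y z h
    apply lcH0Map_injective a
    apply hι
    have h1 := lcH0Map_naturality a (sesOfInjective ι).f y
    have h2 := lcH0Map_naturality a (sesOfInjective ι).f z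
    exact h1.symm.trans ((congrArg _ h).trans h2)
  have hBinj : Module.Injective R ((localCohomology a 0).obj (ModuleCat.of R E)) :=
    lc_module_injective a E 0
  have hS₁ := sesOfInjective_shortExact ιs hιs
  have hB1 : Subsingleton ((localCohomology (Ideal.span {b}) (0 + 1)).obj (sesOfInjective ιs).X₂) := by
    have : Injective (sesOfInjective ιs).X₂ := Module.injective_object_of_injective_module R _
    exact lc_subsingleton_of_injective (Ideal.span {b}) (sesOfInjective ιs).X₂ 1 Nat.one_pos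
  -- `f̄ : B / A₀ → C`
  have hle : LinearMap.range ιs ≤ LinearMap.ker πs := by
    rintro _ ⟨y, rfl⟩
    exact lcMap_comp_map a (S := sesOfInjective ι) 0 y
  let fbar : ((localCohomology a 0).obj (ModuleCat.of R E) ⧸ LinearMap.range ιs) →ₗ[R]
      (localCohomology a 0).obj (sesOfInjective ι).X₃ :=
    (LinearMap.range ιs).liftQ πs hle
  have hfbar : Function.Injective fbar := by
    rw [← LinearMap.ker_eq_bot]
    apply Submodule.ker_liftQ_eq_bot
    intro y hy
    exact lc_exact₂ a hS 0 y hy
  have hfbar_mk : ∀ e, fbar ((LinearMap.range ιs).mkQ e) = πs e := fun e => rfl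
  -- evaluation maps for `H^0_{Rb}`
  let ev : (localCohomology (Ideal.span {b}) 0).obj (sesOfInjective ιs).X₃ →ₗ[R]
      ((localCohomology a 0).obj (ModuleCat.of R E) ⧸ LinearMap.range ιs) :=
    lcH0Map (Ideal.span {b}) (sesOfInjective ιs).X₃
  let evB : (localCohomology (Ideal.span {b}) 0).obj (sesOfInjective ιs).X₂ →ₗ[R]
      (localCohomology a 0).obj (ModuleCat.of R E) :=
    lcH0Map (Ideal.span {b}) (sesOfInjective ιs).X₂
  have hev_inj : Function.Injective ev := lcH0Map_injective (Ideal.span {b}) _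
  have hev_tors : ∀ z, ∃ n : ℕ, b ^ n • ev z = 0 := by
    intro z
    obtain ⟨n, hn⟩ := lcH0Map_mem_torsionSub (Ideal.span {b}) (sesOfInjective ιs).X₃ z
    exact ⟨n, pow_smul_eq_zero_of_forall_mem_span_pow b hn⟩
  have hev_ex : ∀ (q : (localCohomology a 0).obj (ModuleCat.of R E) ⧸ LinearMap.range ιs) (n : ℕ),
      b ^ n • q = 0 → ∃ z, ev z = q := by
    intro q n hq
    exact exists_lcH0Map_eq (Ideal.span {b}) (sesOfInjective ιs).X₃ q n
      (smul_eq_zero_of_mem_span_pow b hq)
  have hevB_tors : ∀ w, ∃ n : ℕ, b ^ n • evB w = 0 := by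
    intro w
    obtain ⟨n, hn⟩ := lcH0Map_mem_torsionSub (Ideal.span {b}) (sesOfInjective ιs).X₂ w
    exact ⟨n, pow_smul_eq_zero_of_forall_mem_span_pow b hn⟩
  have hevB_ex : ∀ (e : (localCohomology a 0).obj (ModuleCat.of R E)) (n : ℕ),
      b ^ n • e = 0 → ∃ w, evB w = e := by
    intro e n he
    exact exists_lcH0Map_eq (Ideal.span {b}) (sesOfInjective ιs).X₂ e n
      (smul_eq_zero_of_mem_span_pow b he)
  have hev_nat : ∀ w, ev (((localCohomology (Ideal.span {b}) 0).map (sesOfInjective ιs).g).hom w) =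
      (LinearMap.range ιs).mkQ (evB w) := fun w =>
    lcH0Map_naturality (Ideal.span {b}) (sesOfInjective ιs).g w
  -- the two surjections
  let p₂ := lcDelta (Ideal.span {b}) hS₁ 0
  have hp₂ : Function.Surjective p₂ := fun y =>
    lc_exact₁ (Ideal.span {b}) hS₁ 0 y (Subsingleton.elim _ _)
  let u : (localCohomology (Ideal.span {b}) 0).obj (sesOfInjective ιs).X₃ →ₗ[R]
      (localCohomology a 0).obj (sesOfInjective ι).X₃ := fbar ∘ₗ ev
  have hu_apply : ∀ z, u z = fbar (ev z) := fun z => rfl
  have hu : ∀ z, u z ∈ LinearMap.range (cmp a b 0 (sesOfInjective ι).X₃) := by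
    intro z
    obtain ⟨n, hn⟩ := hev_tors z
    exact mem_range_cmp_zero a b _ (u z) (n := n) (by
      rw [hu_apply, ← map_smul, hn, map_zero])
  let eQ := LinearEquiv.ofInjective (cmp a b 0 (sesOfInjective ι).X₃)
    (cmp_zero_injective a b (sesOfInjective ι).X₃)
  let tOf : (localCohomology (Ideal.span {b}) 0).obj (sesOfInjective ιs).X₃ →ₗ[R]
      (localCohomology (a ⊔ Ideal.span {b}) 0).obj (sesOfInjective ι).X₃ :=
    (eQ.symm : _ →ₗ[R] _) ∘ₗ u.codRestrict _ hu
  have hcmp_t : ∀ z, cmp a b 0 (sesOfInjective ι).X₃ (tOf z) = u z := by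
    intro z
    have := eQ.apply_symm_apply (u.codRestrict _ hu z)
    exact congrArg Subtype.val this
  let p₁' : (localCohomology (Ideal.span {b}) 0).obj (sesOfInjective ιs).X₃ →ₗ[R]
      (localCohomology (a ⊔ Ideal.span {b}) 1).obj (ModuleCat.of R M) :=
    lcDelta (a ⊔ Ideal.span {b}) hS 0 ∘ₗ tOf
  have hp₁'_apply : ∀ z, p₁' z = lcDelta (a ⊔ Ideal.span {b}) hS 0 (tOf z) := fun z => rfl
  have hp₁' : ∀ z, p₁' z ∈ LinearMap.ker (cmp a b 1 (ModuleCat.of R M)) := by
    intro z
    rw [LinearMap.mem_ker, hp₁'_apply]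
    have h1 := cmp_delta a b hS 0 (tOf z)
    rw [hcmp_t, hu_apply] at h1
    obtain ⟨e, he⟩ := (LinearMap.range ιs).mkQ_surjective (ev z)
    rw [← he, hfbar_mk] at h1
    exact h1.trans (lcDelta_comp_map a hS 0 e)
  let p₁ := p₁'.codRestrict _ hp₁'
  have hp₁_apply : ∀ z, (p₁ z : (localCohomology (a ⊔ Ideal.span {b}) 1).obj (ModuleCat.of R M)) =
      lcDelta (a ⊔ Ideal.span {b}) hS 0 (tOf z) := fun z => rfl
  have hp₁ : Function.Surjective p₁ := by
    rintro ⟨y, hy⟩
    rw [LinearMap.mem_ker] at hy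
    obtain ⟨t, rfl⟩ := lc_exact₁ (a ⊔ Ideal.span {b}) hS 0 y (Subsingleton.elim _ _)
    have h1 : lcDelta a hS 0 (cmp a b 0 (sesOfInjective ι).X₃ t) = 0 := by
      rw [← cmp_delta]
      exact hy
    obtain ⟨e, he'⟩ : ∃ e : (localCohomology a 0).obj (ModuleCat.of R E),
        πs e = cmp a b 0 (sesOfInjective ι).X₃ t := lc_exact₃ a hS 0 _ h1
    obtain ⟨n, hn⟩ := exists_pow_smul_eq_zero_sup a b 0 _ t
    have h2 : b ^ n • (LinearMap.range ιs).mkQ e = 0 := by
      apply hfbar
      rw [map_zero, map_smul, hfbar_mk, he', ← map_smul, hn, map_zero]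
    obtain ⟨z, hz⟩ := hev_ex _ n h2
    refine ⟨z, Subtype.ext ?_⟩
    rw [hp₁_apply]
    congr 1
    apply cmp_zero_injective a b
    rw [hcmp_t, hu_apply, hz, hfbar_mk, he']
  refine nonempty_linearEquiv_of_surjective p₁ p₂ hp₁ hp₂ (LinearEquiv.refl R _) ?_
  intro z
  rw [LinearEquiv.refl_apply]
  constructor
  · intro hz
    have hz' : lcDelta (a ⊔ Ideal.span {b}) hS 0 (tOf z) = 0 := by
      rw [← hp₁_apply, hz]
      rfl
    obtain ⟨s, hs⟩ : ∃ s : (localCohomology (a ⊔ Ideal.span {b}) 0).obj (ModuleCat.of R E),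
        ((localCohomology (a ⊔ Ideal.span {b}) 0).map (sesOfInjective ι).g).hom s = tOf z :=
      lc_exact₃ (a ⊔ Ideal.span {b}) hS 0 _ hz'
    have h1 : u z = πs (cmp a b 0 (ModuleCat.of R E) s) := by
      rw [← hcmp_t, ← hs]
      exact cmp_naturality a b 0 (sesOfInjective ι).g s
    have h2 : ev z = (LinearMap.range ιs).mkQ (cmp a b 0 (ModuleCat.of R E) s) := by
      apply hfbar
      rw [hfbar_mk, ← h1, hu_apply]
    obtain ⟨n, hn⟩ := exists_pow_smul_eq_zero_sup a b 0 _ s
    have h3 : b ^ n • cmp a b 0 (ModuleCat.of R E) s = 0 := by rw [← map_smul, hn, map_zero]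
    obtain ⟨w, hw⟩ := hevB_ex _ n h3
    have h4 : ((localCohomology (Ideal.span {b}) 0).map (sesOfInjective ιs).g).hom w = z := by
      apply hev_inj
      rw [hev_nat, hw, h2]
    rw [← h4]
    exact lcDelta_comp_map (Ideal.span {b}) hS₁ 0 w
  · intro hz
    obtain ⟨w, hw⟩ := lc_exact₃ (Ideal.span {b}) hS₁ 0 z hz
    apply Subtype.ext
    rw [hp₁_apply]
    obtain ⟨n, hn⟩ := hevB_tors w
    obtain ⟨s, hs⟩ := mem_range_cmp_zero a b (ModuleCat.of R E) (evB w) hn
    have h2 : tOf z = ((localCohomology (a ⊔ Ideal.span {b}) 0).map (sesOfInjective ι).g).hom s := by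
      apply cmp_zero_injective a b
      have e1 := hcmp_t z
      have e2 := cmp_naturality a b 0 (sesOfInjective ι).g s
      refine e1.trans (Eq.trans ?_ e2.symm)
      show u z = πs (cmp a b 0 (ModuleCat.of R E) s)
      rw [hu_apply, ← hw, hev_nat, hfbar_mk, hs]
    rw [h2]
    exact lcDelta_comp_map (a ⊔ Ideal.span {b}) hS 0 s

/-- **`ker (H^{i+1}_{a+Rb}(M) → H^{i+1}_a(M)) ≅ H^1_{Rb}(H^i_a(M))`.** -/
theorem nonempty_ker_cmp_equiv (i : ℕ) : ∀ (M : Type u) [AddCommGroup M] [Module R M],
    Nonempty (LinearMap.ker (cmp a b (i + 1) (ModuleCat.of R M)) ≃ₗ[R]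
      (localCohomology (Ideal.span {b}) 1).obj
        (ModuleCat.of R ((localCohomology a i).obj (ModuleCat.of R M)))) := by
  induction i with
  | zero => exact fun M _ _ => nonempty_ker_cmp_one_equiv a b M
  | succ i ih =>
    intro M _ _
    obtain ⟨E, _, _, _, ι, hι⟩ := exists_injective_embedding (R := R) M
    have hS := sesOfInjective_shortExact ι hι
    have hE : Injective (sesOfInjective ι).X₂ := Module.injective_object_of_injective_module R E
    have h1 := lc_subsingleton_of_injective (a ⊔ Ideal.span {b}) (sesOfInjective ι).X₂ (i + 1)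
      (Nat.succ_pos _)
    have h2 := lc_subsingleton_of_injective (a ⊔ Ideal.span {b}) (sesOfInjective ι).X₂ (i + 1 + 1)
      (Nat.succ_pos _)
    have h3 := lc_subsingleton_of_injective a (sesOfInjective ι).X₂ (i + 1) (Nat.succ_pos _)
    have h4 := lc_subsingleton_of_injective a (sesOfInjective ι).X₂ (i + 1 + 1) (Nat.succ_pos _)
    have hδ' := lcDelta_bijective (a ⊔ Ideal.span {b}) hS (i + 1)
    have hδ := lcDelta_bijective a hS (i + 1)
    obtain ⟨e₀⟩ := ih (E ⧸ LinearMap.range ι)
    let eδ := LinearEquiv.ofBijective (lcDelta (a ⊔ Ideal.span {b}) hS (i + 1)) hδ'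
    have hmap : (LinearMap.ker (cmp a b (i + 1) (sesOfInjective ι).X₃)).map (eδ : _ →ₗ[R] _) =
        LinearMap.ker (cmp a b (i + 1 + 1) (sesOfInjective ι).X₁) := by
      ext y
      constructor
      · rintro ⟨t, ht, rfl⟩
        rw [SetLike.mem_coe, LinearMap.mem_ker] at ht
        rw [LinearMap.mem_ker]
        show cmp a b (i + 1 + 1) _ (lcDelta (a ⊔ Ideal.span {b}) hS (i + 1) t) = 0
        rw [cmp_delta, ht, map_zero]
      · intro hy
        rw [LinearMap.mem_ker] at hy
        obtain ⟨t, rfl⟩ := hδ'.2 y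
        refine ⟨t, ?_, rfl⟩
        rw [SetLike.mem_coe, LinearMap.mem_ker]
        apply hδ.1
        rw [map_zero, ← cmp_delta]
        exact hy
    let e₁ : LinearMap.ker (cmp a b (i + 1) (sesOfInjective ι).X₃) ≃ₗ[R]
        LinearMap.ker (cmp a b (i + 1 + 1) (sesOfInjective ι).X₁) :=
      (eδ.submoduleMap _).trans (LinearEquiv.ofEq _ _ hmap)
    have hBinj : Module.Injective R ((localCohomology a i).obj (sesOfInjective ι).X₂) :=
      lc_module_injective a E i
    have hgsurj : Function.Surjective (lcDelta a hS i) := fun y =>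
      lc_exact₁ a hS i y (Subsingleton.elim _ _)
    have hex : Function.Exact ((localCohomology a i).map (sesOfInjective ι).g).hom
        (lcDelta a hS i) := by
      intro y
      constructor
      · intro hy
        exact lc_exact₃ a hS i y hy
      · rintro ⟨y₂, rfl⟩
        exact lcDelta_comp_map a hS i y₂
    have hbij := lcMap_one_bijective_of_exact b
      ((localCohomology a i).map (sesOfInjective ι).g).hom (lcDelta a hS i) hgsurj hex
    let e₂ := LinearEquiv.ofBijective _ hbij
    exact ⟨e₁.symm.trans (e₀.trans e₂)⟩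

end cmp

end Groth.Agent.Lib.Helper60
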