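import Groth.Prelude.Def_W4bk5brsh16IT
import Mathlib.Algebra.Category.ModuleCat.FilteredColimits
import Mathlib.CategoryTheory.Limits.FunctorCategory.Basic

/-!
# Concrete description of the ideal transform `D_I(M) = colim_n Hom_R(I^n, M)` (helper60)
-/

set_option autoImplicit false
universe u
open CategoryTheory CategoryTheory.Limits Opposite

namespace Groth.Agent.Lib.Helper60

variable {R : Type u} [CommRing R]

open LocCoh

instance forgetModuleCat_preservesColimitsOfShape_natOpOp :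
    PreservesColimitsOfShape ℕᵒᵖᵒᵖ (forget (ModuleCat.{u} R)) :=
  haveI : PreservesFilteredColimitsOfSize.{0, 0} (forget (ModuleCat.{u} R)) :=
    preservesSmallestFilteredColimits_of_preservesFilteredColimits _
  inferInstance

/-- The evaluated diagram `n ↦ Hom_R(I^n, M)`. -/
noncomputable abbrev dtDiag (I : Ideal R) (M : ModuleCat.{u} R) : ℕᵒᵖᵒᵖ ⥤ ModuleCat.{u} R :=
  transformDiagram I ⋙ (evaluation _ _).obj M

/-- The evaluated colimit cocone, with point `D_I(M)`. -/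
noncomputable abbrev dtCocone (I : Ideal R) (M : ModuleCat.{u} R) : Cocone (dtDiag I M) :=
  ((evaluation _ _).obj M).mapCocone (colimit.cocone (transformDiagram I))

/-- The evaluated colimit cocone is a colimit cocone. -/
noncomputable def dtIsColimit (I : Ideal R) (M : ModuleCat.{u} R) : IsColimit (dtCocone I M) :=
  isColimitOfPreserves ((evaluation _ _).obj M) (colimit.isColimit (transformDiagram I))

/-- A linear map `f : I^n → M` as an element of the `n`-th term of the diagram. -/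
def dtElem (I : Ideal R) (M : ModuleCat.{u} R) (n : ℕ) (f : ↥(I ^ n) →ₗ[R] M) :
    ((dtDiag I M).obj (op (op n)) : Type u) :=
  (ModuleCat.ofHom f : ModuleCat.of R ↥(I ^ n) ⟶ M)

/-- The linear map underlying an element of the `n`-th term of the diagram. -/
def dtElemHom (I : Ideal R) (M : ModuleCat.{u} R) (j : ℕᵒᵖᵒᵖ)
    (y : ((dtDiag I M).obj j : Type u)) : ↥(I ^ j.unop.unop) →ₗ[R] M :=
  ModuleCat.Hom.hom (show ModuleCat.of R ↥(I ^ j.unop.unop) ⟶ M from y)

lemma dtElem_dtElemHom (I : Ideal R) (M : ModuleCat.{u} R) (j : ℕᵒᵖᵒᵖ)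
    (y : ((dtDiag I M).obj j : Type u)) : dtElem I M j.unop.unop (dtElemHom I M j y) = y := rfl

/-- The class in `D_I(M)` of a linear map `f : I^n → M`. -/
noncomputable def dtMk (I : Ideal R) (M : ModuleCat.{u} R) (n : ℕ) (f : ↥(I ^ n) →ₗ[R] M) :
    (idealTransform I).obj M :=
  ((dtCocone I M).ι.app (op (op n))).hom (dtElem I M n f)

lemma dtMk_surj (I : Ideal R) (M : ModuleCat.{u} R) (x : (idealTransform I).obj M) :
    ∃ (n : ℕ) (f : ↥(I ^ n) →ₗ[R] M), dtMk I M n f = x := by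
  obtain ⟨j, y, hy⟩ := Concrete.isColimit_exists_rep (dtDiag I M) (dtIsColimit I M) x
  exact ⟨j.unop.unop, dtElemHom I M j y, hy⟩

/-- restriction of `f : I^n → M` to `I^k` for `n ≤ k`. -/
def dtRes (I : Ideal R) {M : Type u} [AddCommGroup M] [Module R M] {n k : ℕ} (h : n ≤ k)
    (f : ↥(I ^ n) →ₗ[R] M) : ↥(I ^ k) →ₗ[R] M :=
  f ∘ₗ Submodule.inclusion (Ideal.pow_le_pow_right h)

@[simp] lemma dtRes_apply (I : Ideal R) {M : Type u} [AddCommGroup M] [Module R M] {n k : ℕ}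
    (h : n ≤ k) (f : ↥(I ^ n) →ₗ[R] M) (x : ↥(I ^ k)) :
    dtRes I h f x = f ⟨x.1, Ideal.pow_le_pow_right h x.2⟩ := rfl

/-- the morphism `op (op n) ⟶ op (op k)` in `ℕᵒᵖᵒᵖ` for `n ≤ k`. -/
def natOpOpHom {n k : ℕ} (h : n ≤ k) : (op (op n) : ℕᵒᵖᵒᵖ) ⟶ op (op k) :=
  (homOfLE h).op.op

lemma dtDiag_map_apply (I : Ideal R) (M : ModuleCat.{u} R) {n k : ℕ} (h : n ≤ k)
    (f : ↥(I ^ n) →ₗ[R] M) :
    ((dtDiag I M).map (natOpOpHom h)).hom (dtElem I M n f) = dtElem I M k (dtRes I h f) := by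
  rfl

lemma dtMk_res (I : Ideal R) (M : ModuleCat.{u} R) {n k : ℕ} (h : n ≤ k)
    (f : ↥(I ^ n) →ₗ[R] M) : dtMk I M k (dtRes I h f) = dtMk I M n f := by
  have := (dtCocone I M).w (natOpOpHom h)
  have h2 := congrArg (fun φ => φ.hom (dtElem I M n f)) this
  simp only [ModuleCat.hom_comp, LinearMap.coe_comp, Function.comp_apply] at h2
  rw [dtDiag_map_apply] at h2
  exact h2

lemma dtElem_injective (I : Ideal R) (M : ModuleCat.{u} R) (n : ℕ) :
    Function.Injective (dtElem I M n) := by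
  intro f g h
  exact congrArg (dtElemHom I M (op (op n))) h

lemma dtMk_eq_iff (I : Ideal R) (M : ModuleCat.{u} R) {n m : ℕ}
    (f : ↥(I ^ n) →ₗ[R] M) (g : ↥(I ^ m) →ₗ[R] M) :
    dtMk I M n f = dtMk I M m g ↔
      ∃ (k : ℕ) (hn : n ≤ k) (hm : m ≤ k), dtRes I hn f = dtRes I hm g := by
  constructor
  · intro h
    have h' := (Concrete.isColimit_rep_eq_iff_exists (dtDiag I M) (dtIsColimit I M)
      (i := op (op n)) (j := op (op m)) (dtElem I M n f) (dtElem I M m g)).mp h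
    obtain ⟨k, a, b, hab⟩ := h'
    have hn : n ≤ k.unop.unop := a.unop.unop.le
    have hm : m ≤ k.unop.unop := b.unop.unop.le
    refine ⟨k.unop.unop, hn, hm, ?_⟩
    have ha : a = natOpOpHom hn := Subsingleton.elim _ _
    have hb : b = natOpOpHom hm := Subsingleton.elim _ _
    rw [ha, hb] at hab
    erw [dtDiag_map_apply, dtDiag_map_apply] at hab
    exact dtElem_injective I M _ hab
  · rintro ⟨k, hn, hm, h⟩
    rw [← dtMk_res I M hn f, ← dtMk_res I M hm g, h]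

lemma dtElem_add (I : Ideal R) (M : ModuleCat.{u} R) (n : ℕ) (f g : ↥(I ^ n) →ₗ[R] M) :
    dtElem I M n (f + g) = dtElem I M n f + dtElem I M n g := rfl

lemma dtElem_smul (I : Ideal R) (M : ModuleCat.{u} R) (n : ℕ) (r : R) (f : ↥(I ^ n) →ₗ[R] M) :
    dtElem I M n (r • f) = r • dtElem I M n f := rfl

lemma dtElem_zero (I : Ideal R) (M : ModuleCat.{u} R) (n : ℕ) :
    dtElem I M n (0 : ↥(I ^ n) →ₗ[R] M) = 0 := rfl

lemma dtMk_add (I : Ideal R) (M : ModuleCat.{u} R) (n : ℕ) (f g : ↥(I ^ n) →ₗ[R] M) :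
    dtMk I M n (f + g) = dtMk I M n f + dtMk I M n g := by
  unfold dtMk
  rw [dtElem_add, map_add]
  rfl

lemma dtMk_smul (I : Ideal R) (M : ModuleCat.{u} R) (n : ℕ) (r : R) (f : ↥(I ^ n) →ₗ[R] M) :
    dtMk I M n (r • f) = r • dtMk I M n f := by
  unfold dtMk
  rw [dtElem_smul, map_smul]
  rfl

lemma dtMk_zero (I : Ideal R) (M : ModuleCat.{u} R) (n : ℕ) :
    dtMk I M n (0 : ↥(I ^ n) →ₗ[R] M) = 0 := by
  unfold dtMk
  rw [dtElem_zero, map_zero]
  rfl

lemma dtMk_eq_zero_iff (I : Ideal R) (M : ModuleCat.{u} R) {n : ℕ} (f : ↥(I ^ n) →ₗ[R] M) :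
    dtMk I M n f = 0 ↔ ∃ (k : ℕ) (hn : n ≤ k), dtRes I hn f = 0 := by
  rw [← dtMk_zero I M n, dtMk_eq_iff]
  constructor
  · rintro ⟨k, hn, hm, h⟩
    exact ⟨k, hn, h.trans (by ext; simp)⟩
  · rintro ⟨k, hn, h⟩
    exact ⟨k, hn, hn, h.trans (by ext; simp)⟩

lemma dtMap_dtMk (I : Ideal R) {M N : ModuleCat.{u} R} (φ : M ⟶ N) (n : ℕ)
    (f : ↥(I ^ n) →ₗ[R] M) :
    ((idealTransform I).map φ).hom (dtMk I M n f) = dtMk I N n (φ.hom ∘ₗ f) := by
  have := (colimit.ι (transformDiagram I) (op (op n))).naturality φ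
  have h2 := congrArg (fun ψ => ψ.hom (dtElem I M n f)) this
  simp only [ModuleCat.hom_comp, LinearMap.coe_comp, Function.comp_apply] at h2
  exact h2.symm

lemma toDT_eq_dtMk (I : Ideal R) (M : Type u) [AddCommGroup M] [Module R M] (m : M) :
    toDT I M m = dtMk I (ModuleCat.of R M) 0 ((LinearMap.lsmul R M).flip m ∘ₗ (I ^ 0).subtype) := by
  rfl

end Groth.Agent.Lib.Helper60
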