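/-
Copyright (c) 2026. Released under Apache 2.0 license.
# Local-global principle for finiteness of local cohomology (Faltings), helper60

* `LocFinite N` : every localization `N_p` is a finite `R_p`-module.
* `locFinite_of_exact`, `locFinite_of_finite`, `locFinite_of_linearEquiv`.
* `exists_pow_smul_localization` : if `H` is `I`-power torsion and `H_p` is finite then some `I^m`
  kills the image of `H` in `H_p`.
* `exists_pow_smul_eq_zero_of_locFinite` : `H` `I`-power torsion, `(0 :_H I)` finitely generated and
  all `H_p` finite ⟹ `I^k H = 0` for some `k`.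
* `lc_finite_of_locFinite` : the local-global principle.
-/
import Groth.Agent.Lib.Helper60.LocalCohFinite
import Mathlib.RingTheory.Ideal.AssociatedPrime.Finiteness
import Mathlib.Algebra.Module.LocalizedModule.Exact
import Mathlib.RingTheory.Localization.Module

set_option autoImplicit false
universe u
open CategoryTheory

namespace Groth.Agent.Lib.Helper60

variable {R : Type u} [CommRing R]

/-- all localizations of `N` at primes are finite modules. -/
def LocFinite (R : Type u) [CommRing R] (N : Type u) [AddCommGroup N] [Module R N] : Prop :=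
  ∀ (p : Ideal R) [p.IsPrime],
    Module.Finite (Localization.AtPrime p) (LocalizedModule p.primeCompl N)

lemma locFinite_of_exact [IsNoetherianRing R] {A B C : Type u} [AddCommGroup A] [Module R A]
    [AddCommGroup B] [Module R B] [AddCommGroup C] [Module R C] (f : A →ₗ[R] B) (g : B →ₗ[R] C)
    (h : Function.Exact f g) (hA : LocFinite R A) (hC : LocFinite R C) : LocFinite R B := by
  intro p _
  have := hA p
  have := hC p
  have hex : Function.Exact (LocalizedModule.map p.primeCompl f)
      (LocalizedModule.map p.primeCompl g) := LocalizedModule.map_exact p.primeCompl f g h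
  have : IsNoetherian (Localization.AtPrime p) (LocalizedModule p.primeCompl A) :=
    isNoetherian_of_isNoetherianRing_of_finite _ _
  have : IsNoetherian (Localization.AtPrime p) (LocalizedModule p.primeCompl C) :=
    isNoetherian_of_isNoetherianRing_of_finite _ _
  have : IsNoetherian (Localization.AtPrime p) (LocalizedModule p.primeCompl B) :=
    isNoetherian_of_range_eq_ker (LocalizedModule.map p.primeCompl f)
      (LocalizedModule.map p.primeCompl g) (LinearMap.exact_iff.mp hex).symm
  infer_instance

lemma locFinite_of_finite (N : Type u) [AddCommGroup N] [Module R N] [Module.Finite R N] :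
    LocFinite R N := by
  intro p _
  infer_instance

lemma locFinite_of_surjective [IsNoetherianRing R] {A B : Type u} [AddCommGroup A] [Module R A]
    [AddCommGroup B] [Module R B] (f : A →ₗ[R] B) (hf : Function.Surjective f)
    (hA : LocFinite R A) : LocFinite R B := by
  intro p _
  have := hA p
  exact Module.Finite.of_surjective (LocalizedModule.map p.primeCompl f)
    (LocalizedModule.map_surjective p.primeCompl f hf)

lemma locFinite_of_injective [IsNoetherianRing R] {A B : Type u} [AddCommGroup A] [Module R A]
    [AddCommGroup B] [Module R B] (f : A →ₗ[R] B) (hf : Function.Injective f)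
    (hB : LocFinite R B) : LocFinite R A := by
  intro p _
  have := hB p
  have : IsNoetherian (Localization.AtPrime p) (LocalizedModule p.primeCompl B) :=
    isNoetherian_of_isNoetherianRing_of_finite _ _
  have : IsNoetherian (Localization.AtPrime p) (LocalizedModule p.primeCompl A) :=
    isNoetherian_of_injective (LocalizedModule.map p.primeCompl f)
      (LocalizedModule.map_injective p.primeCompl f hf)
  infer_instance

/-- if `H` is `I`-power torsion and `H_p` is a finite `R_p`-module, then some `I^m` kills the
image of `H` in `H_p`. -/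
lemma exists_pow_smul_localization (I : Ideal R) (H : Type u) [AddCommGroup H] [Module R H]
    (htor : ∀ x : H, ∃ n : ℕ, ∀ a ∈ I ^ n, a • x = 0) (p : Ideal R) [p.IsPrime]
    [Module.Finite (Localization.AtPrime p) (LocalizedModule p.primeCompl H)] :
    ∃ m : ℕ, ∀ a ∈ I ^ m, ∀ h : H, ∃ s ∉ p, s • a • h = 0 := by
  classical
  obtain ⟨S, hS⟩ := (Module.Finite.fg_top :
    (⊤ : Submodule (Localization.AtPrime p) (LocalizedModule p.primeCompl H)).FG)
  -- each generator is killed by a power of `I`
  have h1 : ∀ x : LocalizedModule p.primeCompl H, ∃ n : ℕ, ∀ a ∈ I ^ n, a • x = 0 := by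
    intro x
    induction x using LocalizedModule.induction_on with
    | h m s =>
      obtain ⟨n, hn⟩ := htor m
      refine ⟨n, fun a ha => ?_⟩
      rw [LocalizedModule.smul'_mk, hn a ha, LocalizedModule.zero_mk]
  choose k hk using h1
  refine ⟨S.sup k, fun a ha h => ?_⟩
  have h2 : ∀ x : LocalizedModule p.primeCompl H, a • x = 0 := by
    intro x
    have hx : x ∈ Submodule.span (Localization.AtPrime p) (S : Set (LocalizedModule p.primeCompl H)) :=
      hS ▸ Submodule.mem_top
    refine Submodule.span_induction (p := fun x _ => a • x = 0) ?_ ?_ ?_ ?_ hx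
    · intro y hy
      exact hk y a (Ideal.pow_le_pow_right (Finset.le_sup hy) ha)
    · simp
    · intro x y _ _ hx hy
      rw [smul_add, hx, hy, add_zero]
    · intro r x _ hx
      rw [smul_comm, hx, smul_zero]
  have h3 := h2 (LocalizedModule.mkLinearMap p.primeCompl H h)
  rw [← map_smul, ← LinearMap.mem_ker, LocalizedModule.mem_ker_mkLinearMap_iff] at h3
  obtain ⟨s, hs, hs0⟩ := h3
  exact ⟨s, hs, hs0⟩

/-- `H` `I`-power torsion, `(0 :_H I)` finitely generated and all `H_p` finite ⟹ `I^k H = 0`. -/
theorem exists_pow_smul_eq_zero_of_locFinite [IsNoetherianRing R] (I : Ideal R) (H : Type u)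
    [AddCommGroup H] [Module R H] (htor : ∀ x : H, ∃ n : ℕ, ∀ a ∈ I ^ n, a • x = 0)
    (hT : (Submodule.torsionBySet R H (I : Set R)).FG) (hloc : LocFinite R H) :
    ∃ k : ℕ, ∀ a ∈ I ^ k, ∀ h : H, a • h = 0 := by
  classical
  have : Module.Finite R (Submodule.torsionBySet R H (I : Set R)) := Module.Finite.iff_fg.mpr hT
  have hfin : (associatedPrimes R (Submodule.torsionBySet R H (I : Set R))).Finite :=
    associatedPrimes.finite R _
  have h1 : ∀ p : Ideal R, p ∈ associatedPrimes R (Submodule.torsionBySet R H (I : Set R)) →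
      ∃ m : ℕ, ∀ a ∈ I ^ m, ∀ h : H, ∃ s ∉ p, s • a • h = 0 := by
    intro p hp
    have : p.IsPrime := hp.isPrime
    have := hloc p
    exact exists_pow_smul_localization I H htor p
  choose! m hm using h1
  refine ⟨hfin.toFinset.sup m, fun a ha h => ?_⟩
  by_contra hne
  have hex : ∃ n, ∀ c ∈ I ^ n, c • (a • h) = 0 := htor (a • h)
  have hn₀ : ∀ c ∈ I ^ (Nat.find hex), c • (a • h) = 0 := Nat.find_spec hex
  have hn₀pos : Nat.find hex ≠ 0 := by
    intro h0
    have := hn₀ 1 (by rw [h0, pow_zero, Ideal.one_eq_top]; exact Submodule.mem_top)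
    rw [one_smul] at this
    exact hne this
  obtain ⟨n₁, hn₁⟩ := Nat.exists_eq_succ_of_ne_zero hn₀pos
  have hmin : ¬ ∀ c ∈ I ^ n₁, c • (a • h) = 0 := Nat.find_min hex (by omega)
  push Not at hmin
  obtain ⟨b, hb, hbne⟩ := hmin
  have hxT : b • a • h ∈ Submodule.torsionBySet R H (I : Set R) := by
    rw [Submodule.mem_torsionBySet_iff]
    rintro ⟨c, hc⟩
    show c • b • a • h = 0
    rw [← mul_smul]
    apply hn₀
    rw [hn₁, pow_succ']
    exact Ideal.mul_mem_mul hc hb
  obtain ⟨x, hxdef⟩ : ∃ x : Submodule.torsionBySet R H (I : Set R), (x : H) = b • a • h :=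
    ⟨⟨_, hxT⟩, rfl⟩
  have hx : x ≠ 0 := fun h0 => hbne (by rw [← hxdef, h0]; rfl)
  have : Nontrivial (Submodule.span R {x}) :=
    ⟨⟨⟨x, Submodule.mem_span_singleton_self x⟩, 0, fun h0 => hx (congrArg Subtype.val h0)⟩⟩
  obtain ⟨P, hP⟩ := associatedPrimes.nonempty R (Submodule.span R {x})
  have hPT : P ∈ associatedPrimes R (Submodule.torsionBySet R H (I : Set R)) :=
    associatedPrimes.subset_of_injective (Submodule.span R {x}).injective_subtype hP
  obtain ⟨hPprime, y, hy⟩ := isAssociatedPrime_iff.mp hP
  obtain ⟨c, hc⟩ := Submodule.mem_span_singleton.mp y.2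
  have haP : a ∈ I ^ (m P) :=
    Ideal.pow_le_pow_right (Finset.le_sup (f := m) (hfin.mem_toFinset.mpr hPT)) ha
  obtain ⟨s, hsP, hs0⟩ := hm P hPT a haP h
  apply hsP
  rw [hy, Submodule.mem_colon_singleton, Submodule.mem_bot]
  apply Subtype.ext
  apply Subtype.ext
  show s • ((y : Submodule.torsionBySet R H (I : Set R)) : H) = 0
  rw [← hc]
  show s • c • (x : H) = 0
  rw [hxdef, smul_comm s c, smul_comm s b, hs0, smul_zero, smul_zero]

/-- over a Noetherian ring, a submodule of a finitely generated submodule is finitely generated. -/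
lemma fg_of_le_fg [IsNoetherianRing R] {H : Type*} [AddCommGroup H] [Module R H]
    {T N : Submodule R H} (hN : N.FG) (hle : T ≤ N) : T.FG := by
  have : IsNoetherian R N := isNoetherian_of_fg_of_noetherian N hN
  have h1 : (Submodule.comap N.subtype T).FG := IsNoetherian.noetherian _
  have h2 := h1.map N.subtype
  rwa [Submodule.map_comap_subtype, inf_eq_right.mpr hle] at h2

/-- **Local-global principle for finiteness of local cohomology** (Faltings). -/
theorem lc_finite_of_locFinite [IsNoetherianRing R] (I : Ideal R) (n : ℕ) :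
    ∀ (M : Type u) [AddCommGroup M] [Module R M] [Module.Finite R M],
      (∀ i ≤ n, LocFinite R ((localCohomology I i).obj (ModuleCat.of R M))) →
      ∀ i ≤ n, Module.Finite R ((localCohomology I i).obj (ModuleCat.of R M)) := by
  induction n with
  | zero =>
    intro M _ _ _ _ i hi
    obtain rfl : i = 0 := by omega
    exact lc_zero_finite I M
  | succ n ih =>
    intro M _ _ _ hloc i hi
    have hfinM : ∀ j ≤ n, Module.Finite R ((localCohomology I j).obj (ModuleCat.of R M)) :=
      ih M (fun j hj => hloc j (by omega))
    rcases Nat.lt_or_ge i (n + 1) with hlt | hge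
    · exact hfinM i (by omega)
    obtain rfl : i = n + 1 := by omega
    -- an exponent `K ≥ 1` with `I^K` killing `H^j(M)`, `j ≤ n`
    have h1 : ∀ j : ℕ, j ≤ n → ∃ k : ℕ, ∀ a ∈ I ^ k,
        ∀ x : (localCohomology I j).obj (ModuleCat.of R M), a • x = 0 := fun j hj => by
      have := hfinM j hj
      exact exists_pow_smul_eq_zero_of_finite I _ (lc_isPowerTorsion I j (ModuleCat.of R M))
    choose! k hk using h1
    obtain ⟨K, hKdef⟩ : ∃ K : ℕ, K = (Finset.range (n + 1)).sup k + 1 := ⟨_, rfl⟩
    have hK : ∀ j ≤ n, ∀ a ∈ I ^ K,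
        ∀ x : (localCohomology I j).obj (ModuleCat.of R M), a • x = 0 := fun j hj a ha x =>
      hk j hj a (Ideal.pow_le_pow_right (by
        have := Finset.le_sup (f := k) (Finset.mem_range.mpr (show j < n + 1 by omega))
        omega) ha) x
    -- pass to `M' = M / Γ_I(M)`
    have hbij := lcMap_mkQ_torsionSub_bijective I M
    have hbot := torsionSub_quotient_eq_bot I M
    have hK' : ∀ j ≤ n, ∀ a ∈ I ^ K, ∀ x : (localCohomology I j).obj
        (ModuleCat.of R (M ⧸ DRing.torsionSub I M)), a • x = 0 := by
      intro j hj a ha x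
      rcases Nat.eq_zero_or_pos j with rfl | hj0
      · have h0 : x = 0 := by
          apply (lcH0Equiv I (ModuleCat.of R (M ⧸ DRing.torsionSub I M))).injective
          rw [map_zero]
          have hmem := (lcH0Equiv I (ModuleCat.of R (M ⧸ DRing.torsionSub I M)) x).2
          apply Subtype.ext
          have hmem' : ((lcH0Equiv I (ModuleCat.of R (M ⧸ DRing.torsionSub I M)) x : _) :
              M ⧸ DRing.torsionSub I M) ∈ DRing.torsionSub I (M ⧸ DRing.torsionSub I M) := hmem
          exact ((Submodule.mem_bot R).mp (hbot.le hmem')).trans (Submodule.coe_zero).symm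
        rw [h0, smul_zero]
      · obtain ⟨y, rfl⟩ := (hbij j hj0).2 x
        rw [← map_smul, hK j hj a ha y, map_zero]
    have hloc' : ∀ j ≤ n + 1, LocFinite R ((localCohomology I j).obj
        (ModuleCat.of R (M ⧸ DRing.torsionSub I M))) := by
      intro j hj
      rcases Nat.eq_zero_or_pos j with rfl | hj0
      · have := lc_zero_finite I (M ⧸ DRing.torsionSub I M)
        exact locFinite_of_finite _
      · exact locFinite_of_surjective _ (hbij j hj0).2 (hloc j hj)
    suffices H : Module.Finite R ((localCohomology I (n + 1)).obj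
        (ModuleCat.of R (M ⧸ DRing.torsionSub I M))) by
      let e := LinearEquiv.ofBijective
        ((localCohomology I (n + 1)).map (ModuleCat.ofHom (DRing.torsionSub I M).mkQ)).hom
        (hbij (n + 1) (Nat.succ_pos n))
      exact Module.Finite.equiv e.symm
    obtain ⟨r, hrI, hreg⟩ :=
      exists_isSMulRegular_of_torsionSub_eq_bot I (M ⧸ DRing.torsionSub I M) hbot
    have hsreg : IsSMulRegular (M ⧸ DRing.torsionSub I M) (r ^ K) := hreg.pow K
    have hsK : r ^ K ∈ I ^ K := Ideal.pow_mem_pow hrI K
    have hsI : r ^ K ∈ I := Ideal.pow_le_self (by omega) hsK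
    have hS := hsreg.smulShortComplex_shortExact (M := ModuleCat.of R (M ⧸ DRing.torsionSub I M))
    -- `H^j(Q)` is locally finite for `j ≤ n`
    have hlocQ : ∀ j ≤ n, LocFinite R ((localCohomology I j).obj
        (ModuleCat.of R (QuotSMulTop (r ^ K) (M ⧸ DRing.torsionSub I M)))) := by
      intro j hj
      refine locFinite_of_exact
        ((localCohomology I j).map ((ModuleCat.of R (M ⧸ DRing.torsionSub I M)).smulShortComplex
          (r ^ K)).g).hom (lcDelta I hS j) ?_ (hloc' j (by omega)) (hloc' (j + 1) (by omega))
      intro y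
      constructor
      · intro hy
        exact lc_exact₃ I hS j y hy
      · rintro ⟨z, rfl⟩
        exact lcDelta_comp_map I hS j z
    have hfinQ := ih (QuotSMulTop (r ^ K) (M ⧸ DRing.torsionSub I M)) hlocQ
    -- `(0 :_H I)` is finitely generated
    have hT : (Submodule.torsionBySet R ((localCohomology I (n + 1)).obj
        ((ModuleCat.of R (M ⧸ DRing.torsionSub I M)).smulShortComplex (r ^ K)).X₁)
        (I : Set R)).FG := by
      have hle : Submodule.torsionBySet R ((localCohomology I (n + 1)).obj
          ((ModuleCat.of R (M ⧸ DRing.torsionSub I M)).smulShortComplex (r ^ K)).X₁) (I : Set R) ≤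
          LinearMap.range (lcDelta I hS n) := by
        intro y hy
        rw [Submodule.mem_torsionBySet_iff] at hy
        apply lc_exact₁ I hS n y
        have h1 : ((localCohomology I (n + 1)).map
            (r ^ K • 𝟙 (ModuleCat.of R (M ⧸ DRing.torsionSub I M)))).hom y = r ^ K • y :=
          lcMap_smul_id I (n + 1) _ (r ^ K) y
        exact h1.trans (hy ⟨r ^ K, hsI⟩)
      have : Module.Finite R ((localCohomology I n).obj
          ((ModuleCat.of R (M ⧸ DRing.torsionSub I M)).smulShortComplex (r ^ K)).X₃) :=
        hfinQ n le_rfl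
      have hfg : (LinearMap.range (lcDelta I hS n)).FG := by
        rw [← Submodule.map_top]
        exact Module.Finite.fg_top.map _
      exact fg_of_le_fg hfg hle
    obtain ⟨k', hk'⟩ := exists_pow_smul_eq_zero_of_locFinite I
      ((localCohomology I (n + 1)).obj
        ((ModuleCat.of R (M ⧸ DRing.torsionSub I M)).smulShortComplex (r ^ K)).X₁)
      (lc_isPowerTorsion I (n + 1) _) hT (hloc' (n + 1) le_rfl)
    refine lc_finite_of_pow_smul_eq_zero I (n + 1) (M ⧸ DRing.torsionSub I M) (K + k') ?_
      (n + 1) le_rfl
    intro j hj a ha x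
    rcases Nat.lt_or_ge j (n + 1) with hlt | hge
    · exact hK' j (by omega) a (Ideal.pow_le_pow_right (Nat.le_add_right K k') ha) x
    · obtain rfl : j = n + 1 := by omega
      exact hk' a (Ideal.pow_le_pow_right (Nat.le_add_left k' K) ha) x

end Groth.Agent.Lib.Helper60
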