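/-
Copyright (c) 2026. Released under Apache 2.0 license.
# First local cohomology of a domain with support in a height-one ideal (helper60)

* `lc_one_finite_of_regular_smul_eq_zero` : if a regular element kills `H^1_a(M)` then it is finite.
* `depth_eq_one_of_domain` : one-dimensional Noetherian local domains have depth one.
* `radical_eq_maximalIdeal_of_mem_minimalPrimes`.
* `lc_one_not_finite_of_height_eq_one` : for an ideal of height one in a Noetherian domain `D`,
  `H^1_𝔞(D)` is not finitely generated.
-/
import Groth.Agent.Lib.Helper60.LocalCohCM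
import Groth.Agent.Lib.Helper60.FlatBC2
import Groth.Agent.Lib.Helper60.LocalCohFinite

set_option autoImplicit false
universe u
open CategoryTheory IsLocalRing

namespace Groth.Agent.Lib.Helper60

variable {R : Type u} [CommRing R]

/-- if a regular element `γ` kills `H^1_a(M)` then `H^1_a(M)` is finite. -/
lemma lc_one_finite_of_regular_smul_eq_zero [IsNoetherianRing R] (a : Ideal R) (M : Type u)
    [AddCommGroup M] [Module R M] [Module.Finite R M] (γ : R) (hreg : IsSMulRegular M γ)
    (hkill : ∀ y : (localCohomology a 1).obj (ModuleCat.of R M), γ • y = 0) :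
    Module.Finite R ((localCohomology a 1).obj (ModuleCat.of R M)) := by
  have hS := hreg.smulShortComplex_shortExact (M := ModuleCat.of R M)
  have hsurj : Function.Surjective (lcDelta a hS 0) := by
    intro y
    apply lc_exact₁ a hS 0 y
    have h1 : ((localCohomology a (0 + 1)).map (γ • 𝟙 (ModuleCat.of R M))).hom y = γ • y :=
      lcMap_smul_id a (0 + 1) _ γ y
    exact h1.trans (hkill y)
  have : Module.Finite R ((localCohomology a 0).obj
      ((ModuleCat.of R M).smulShortComplex γ).X₃) := lc_zero_finite a (QuotSMulTop γ M)
  exact Module.Finite.of_surjective (lcDelta a hS 0) hsurj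

/-- a one-dimensional Noetherian local domain has depth one. -/
lemma depth_eq_one_of_domain [IsNoetherianRing R] [IsLocalRing R] [IsDomain R]
    (hd : ringKrullDim R = 1) : LocCoh.depth R R = 1 := by
  apply le_antisymm
  · have h1 := Groth.Agent.Lib.Helper29.depth_le_supportDim R R
    rw [Module.supportDim_self_eq_ringKrullDim, hd] at h1
    exact_mod_cast h1
  · -- a nonzero element of the maximal ideal
    have hne : maximalIdeal R ≠ ⊥ := by
      intro h
      have : IsField R := by
        rw [← isField_iff_maximalIdeal_eq] at h
        exact h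
      have := ringKrullDim_eq_zero_of_isField this
      rw [hd] at this
      exact absurd this (by norm_num)
    obtain ⟨x, hx, hx0⟩ := Submodule.exists_mem_ne_zero_of_ne_bot hne
    have hreg : RingTheory.Sequence.IsWeaklyRegular R [x] := by
      rw [RingTheory.Sequence.isWeaklyRegular_cons_iff]
      refine ⟨?_, RingTheory.Sequence.IsWeaklyRegular.nil _ _⟩
      exact (IsRegular.of_ne_zero hx0).left.isSMulRegular
    have := Groth.Agent.Lib.Helper29.length_le_idealDepth (maximalIdeal R) R [x] hreg
      (by simpa using hx)
    simpa [LocCoh.depth] using this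

/-- in a local ring, if the maximal ideal is a minimal prime of `I`, then `√I = m`. -/
lemma radical_eq_maximalIdeal_of_mem_minimalPrimes [IsLocalRing R] (I : Ideal R)
    (h : maximalIdeal R ∈ I.minimalPrimes) : I.radical = maximalIdeal R := by
  apply le_antisymm
  · exact (Ideal.radical_mono h.1.2).trans h.1.1.radical.le
  · rw [Ideal.radical_eq_sInf]
    apply le_sInf
    rintro p ⟨hIp, hp⟩
    exact h.2 ⟨hp, hIp⟩ (le_maximalIdeal hp.ne_top)

open TensorProduct in
/-- for an ideal of height one in a Noetherian domain, `H^1_𝔞(D)` is not finitely generated. -/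
theorem lc_one_not_finite_of_height_eq_one (D : Type u) [CommRing D] [IsDomain D]
    [IsNoetherianRing D] (𝔞 : Ideal D) (h𝔞 : 𝔞.height = 1) :
    ¬ Module.Finite D (LocCoh.H 𝔞 1 D) := by
  intro hfin
  -- a minimal prime of height one
  have h1 : 𝔞.height = ((1 : ℕ) : ℕ∞) := by simpa using h𝔞
  rw [Ideal.height_eq_inf_minimalPrimes] at h1
  simp only [ENat.iInf_eq_natCast_iff] at h1
  obtain ⟨⟨q, ⟨hqmin, hq1⟩, -⟩, -⟩ := h1
  have hqprime : q.IsPrime := hqmin.1.1
  have hqh : q.height = 1 := by
    rw [hq1]; rfl
  -- the localization
  have hdim : ringKrullDim (Localization.AtPrime q) = 1 := by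
    rw [IsLocalization.AtPrime.ringKrullDim_eq_height q (Localization.AtPrime q), hqh]; rfl
  have hmin : maximalIdeal (Localization.AtPrime q) ∈
      (𝔞.map (algebraMap D (Localization.AtPrime q))).minimalPrimes := by
    rwa [IsLocalization.minimalPrimes_map q.primeCompl (Localization.AtPrime q) 𝔞,
      Set.mem_preimage, Localization.AtPrime.under_maximalIdeal]
  have hrad := radical_eq_maximalIdeal_of_mem_minimalPrimes _ hmin
  -- flat base change
  obtain ⟨φ⟩ := nonempty_lc_flatBaseChange (R' := Localization.AtPrime q) 𝔞 1 D
  have hfin1 : Module.Finite (Localization.AtPrime q)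
      (LocCoh.H (𝔞.map (algebraMap D (Localization.AtPrime q))) 1
        ((Localization.AtPrime q) ⊗[D] D)) := Module.Finite.equiv φ
  let e : (Localization.AtPrime q) ⊗[D] D ≃ₗ[Localization.AtPrime q] Localization.AtPrime q :=
    TensorProduct.AlgebraTensorModule.rid D (Localization.AtPrime q) (Localization.AtPrime q)
  have hfin2 : Module.Finite (Localization.AtPrime q)
      (LocCoh.H (𝔞.map (algebraMap D (Localization.AtPrime q))) 1 (Localization.AtPrime q)) :=
    Module.Finite.equiv ((localCohomology (𝔞.map (algebraMap D (Localization.AtPrime q))) 1).mapIso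
      e.toModuleIso).toLinearEquiv
  have hfin3 : Module.Finite (Localization.AtPrime q)
      (LocCoh.H (maximalIdeal (Localization.AtPrime q)) 1 (Localization.AtPrime q)) :=
    Module.Finite.equiv (((localCohomology.isoOfSameRadical
      (hrad.trans (Ideal.IsPrime.radical inferInstance).symm) 1).app
      (ModuleCat.of (Localization.AtPrime q) (Localization.AtPrime q))).toLinearEquiv)
  have hnt := lc_nontrivial_of_depth_eq (Localization.AtPrime q) 1
    (by rw [depth_eq_one_of_domain hdim]; rfl)
  exact lc_top_not_finite one_pos (by rw [hdim]; rfl) (Localization.AtPrime q) hnt hfin3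

end Groth.Agent.Lib.Helper60
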