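import Groth.Agent.Lib.Helper60.LocalCohAddGen
import Groth.Agent.Lib.Helper60.LocalCohDepth
import Groth.Agent.Lib.Helper60.ExtFG
import Groth.Agent.Lib.Helper60.LocalCohAdditive

/-!
# Local cohomology commutes with localization at one element (helper60)

* `lc_smul_bijective` : if `r` acts bijectively on `N` it acts bijectively on `H^i_J(N)`.
* `lc_subsingleton_of_smul_bijective` : if moreover `r ∈ J` then `H^i_J(N) = 0`.
* `lc_exists_pow_smul_eq_zero_of_torsion` : `H^i_a(T)` is `b`-power torsion if `T` is.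
* `isLocalizedModule_lcMap` : if `f : M → M'` is a localization at the powers of `b`, so is
  `H^i_a(f)` (Noetherian ring).
* `nonempty_lc_one_equiv_of_isLocalizedModule` : `H^1_{Rb}(N) ≅ N' / f(N)` for a localization
  `f : N → N'` at the powers of `b`.
-/

set_option autoImplicit false
universe u
open CategoryTheory CategoryTheory.Limits Opposite Abelian

namespace Groth.Agent.Lib.Helper60

variable {R : Type u} [CommRing R]

section smul

lemma lcMap_smul_apply (J : Ideal R) (i : ℕ) (N : Type u) [AddCommGroup N] [Module R N] (r : R)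
    (y : (localCohomology J i).obj (ModuleCat.of R N)) :
    ((localCohomology J i).map (ModuleCat.ofHom (r • (LinearMap.id : N →ₗ[R] N)))).hom y = r • y :=
  lcMap_smul_id J i (ModuleCat.of R N) r y

/-- if `r` acts bijectively on `N`, it acts bijectively on `H^i_J(N)`. -/
lemma lc_smul_bijective (J : Ideal R) (i : ℕ) (N : Type u) [AddCommGroup N] [Module R N] (r : R)
    (hr : Function.Bijective (fun x : N => r • x)) :
    Function.Bijective (fun y : (localCohomology J i).obj (ModuleCat.of R N) => r • y) := by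
  let β : N ≃ₗ[R] N := LinearEquiv.ofBijective (r • (LinearMap.id : N →ₗ[R] N)) hr
  have h := (lcCongr J i β).bijective
  have h2 : (fun y : (localCohomology J i).obj (ModuleCat.of R N) => r • y) = lcCongr J i β := by
    funext y
    rw [lcCongr_apply]
    exact (lcMap_smul_apply J i N r y).symm
  rw [h2]
  exact h

/-- if `r ∈ J` acts bijectively on `N` then `H^i_J(N) = 0`. -/
lemma lc_subsingleton_of_smul_bijective (J : Ideal R) (i : ℕ) (N : Type u) [AddCommGroup N]
    [Module R N] (r : R) (hrJ : r ∈ J) (hr : Function.Bijective (fun x : N => r • x)) :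
    Subsingleton ((localCohomology J i).obj (ModuleCat.of R N)) := by
  have hb := lc_smul_bijective J i N r hr
  refine ⟨fun y z => ?_⟩
  have H : ∀ y : (localCohomology J i).obj (ModuleCat.of R N), y = 0 := fun y =>
    lc_eq_zero_of_smul_injective J i _ r hrJ (fun y hy => hb.1 (hy.trans (smul_zero r).symm)) y
  rw [H y, H z]

end smul

section torsion

variable (a : Ideal R) (b : R)

lemma exists_elt_pow_smul_eq_zero_of_fg {T : Type u} [AddCommGroup T] [Module R T]
    (hT : ∀ x : T, ∃ n : ℕ, b ^ n • x = 0) (M₀ : Submodule R T) (hfg : M₀.FG) :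
    ∃ k : ℕ, ∀ x ∈ M₀, b ^ k • x = 0 := by
  obtain ⟨s, rfl⟩ := hfg
  choose n hn using hT
  refine ⟨s.sup n, fun x hx => ?_⟩
  induction hx using Submodule.span_induction with
  | mem x hx =>
    have hle : n x ≤ s.sup n := Finset.le_sup hx
    obtain ⟨d, hd⟩ := Nat.exists_eq_add_of_le hle
    rw [hd, pow_add, mul_comm, mul_smul, hn, smul_zero]
  | zero => exact smul_zero _
  | add x y _ _ hx hy => rw [smul_add, hx, hy, add_zero]
  | smul r x _ hx => rw [smul_comm, hx, smul_zero]

variable [IsNoetherianRing R]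

/-- `H^i_a(T)` is `b`-power torsion if `T` is. -/
theorem lc_exists_pow_smul_eq_zero_of_torsion (i : ℕ) (T : Type u) [AddCommGroup T] [Module R T]
    (hT : ∀ x : T, ∃ n : ℕ, b ^ n • x = 0)
    (y : (localCohomology a i).obj (ModuleCat.of R T)) : ∃ k : ℕ, b ^ k • y = 0 := by
  obtain ⟨M₀, hfg, y₀, rfl⟩ := lc_exists_fg a i (ModuleCat.of R T) y
  obtain ⟨k, hk⟩ := exists_elt_pow_smul_eq_zero_of_fg b hT M₀ hfg
  refine ⟨k, ?_⟩
  have h0 : ModuleCat.ofHom ((b ^ k) • (LinearMap.id : M₀ →ₗ[R] M₀)) = 0 := by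
    apply ModuleCat.hom_ext
    apply LinearMap.ext
    rintro ⟨x, hx⟩
    exact Subtype.ext (hk x hx)
  have h1 : b ^ k • y₀ = 0 := by
    rw [← lcMap_smul_apply a i M₀ (b ^ k) y₀, h0, lcMap_zero_hom]
  rw [← map_smul, h1, map_zero]

end torsion

section localize

variable [IsNoetherianRing R] (a : Ideal R) (b : R)

lemma exists_pow_of_mem_powers {N : Type*} [AddCommGroup N] [Module R N] {x : N}
    (h : ∃ c : Submonoid.powers b, c • x = 0) : ∃ n : ℕ, b ^ n • x = 0 := by
  obtain ⟨⟨_, n, rfl⟩, hc⟩ := h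
  exact ⟨n, hc⟩

/-- if `f : M → M'` is a localization at the powers of `b`, so is `H^i_a(f)`. -/
theorem isLocalizedModule_lcMap (i : ℕ) {M M' : Type u} [AddCommGroup M] [Module R M]
    [AddCommGroup M'] [Module R M'] (f : M →ₗ[R] M') [IsLocalizedModule (Submonoid.powers b) f] :
    IsLocalizedModule (Submonoid.powers b)
      ((localCohomology a i).map (ModuleCat.ofHom f)).hom := by
  -- the two short exact sequences
  have hS₁ := sesOfSubmodule_shortExact (LinearMap.ker f)
  let fbar : (M ⧸ LinearMap.ker f) →ₗ[R] M' := (LinearMap.ker f).liftQ f le_rfl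
  have hfbar : Function.Injective fbar := by
    rw [← LinearMap.ker_eq_bot]
    exact Submodule.ker_liftQ_eq_bot _ _ _ le_rfl
  have hS₂ := sesOfInjective_shortExact fbar hfbar
  have hfac : ModuleCat.ofHom f = ModuleCat.ofHom (LinearMap.ker f).mkQ ≫ ModuleCat.ofHom fbar := by
    rw [← ModuleCat.ofHom_comp]
    congr 1
  have hF : ∀ x : (localCohomology a i).obj (ModuleCat.of R M),
      ((localCohomology a i).map (ModuleCat.ofHom f)).hom x =
        ((localCohomology a i).map (ModuleCat.ofHom fbar)).hom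
          (((localCohomology a i).map (ModuleCat.ofHom (LinearMap.ker f).mkQ)).hom x) := by
    intro x
    rw [hfac, lcMap_comp_apply]
  -- torsion of kernel and cokernel
  have hK : ∀ x : LinearMap.ker f, ∃ n : ℕ, b ^ n • x = 0 := by
    rintro ⟨x, hx⟩
    obtain ⟨n, hn⟩ := exists_pow_of_mem_powers b
      ((IsLocalizedModule.eq_zero_iff (Submonoid.powers b) f).mp hx)
    exact ⟨n, Subtype.ext hn⟩
  have hC : ∀ x : M' ⧸ LinearMap.range fbar, ∃ n : ℕ, b ^ n • x = 0 := by
    intro x
    obtain ⟨y, rfl⟩ := (LinearMap.range fbar).mkQ_surjective x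
    obtain ⟨⟨m, ⟨_, n, rfl⟩⟩, hm⟩ := IsLocalizedModule.surj (Submonoid.powers b) f y
    refine ⟨n, ?_⟩
    rw [← map_smul, Submodule.mkQ_apply, Submodule.Quotient.mk_eq_zero]
    exact ⟨(LinearMap.ker f).mkQ m, hm.symm⟩
  have hKt : ∀ (j : ℕ) (y : (localCohomology a j).obj (sesOfSubmodule (LinearMap.ker f)).X₁),
      ∃ k : ℕ, b ^ k • y = 0 :=
    fun j => lc_exists_pow_smul_eq_zero_of_torsion a b j (LinearMap.ker f) hK
  have hCt : ∀ (j : ℕ) (y : (localCohomology a j).obj (sesOfInjective fbar).X₃),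
      ∃ k : ℕ, b ^ k • y = 0 :=
    fun j => lc_exists_pow_smul_eq_zero_of_torsion a b j (M' ⧸ LinearMap.range fbar) hC
  refine ⟨?_, ?_, ?_⟩
  · rintro ⟨_, n, rfl⟩
    rw [Module.End.isUnit_iff]
    have hM' : Function.Bijective (fun x : M' => b ^ n • x) :=
      (Module.End.isUnit_iff _).mp
        (IsLocalizedModule.map_units f (⟨b ^ n, n, rfl⟩ : Submonoid.powers b))
    exact lc_smul_bijective a i M' (b ^ n) hM'
  · intro y
    obtain ⟨k, hk⟩ := hCt i (((localCohomology a i).map (sesOfInjective fbar).g).hom y)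
    have hk2 : ((localCohomology a i).map (sesOfInjective fbar).g).hom (b ^ k • y) = 0 :=
      (map_smul _ _ _).trans hk
    obtain ⟨z, hz⟩ : ∃ z : (localCohomology a i).obj (ModuleCat.of R (M ⧸ LinearMap.ker f)),
        ((localCohomology a i).map (ModuleCat.ofHom fbar)).hom z = b ^ k • y :=
      lc_exact₂ a hS₂ i (b ^ k • y) hk2
    obtain ⟨k', hk'⟩ := hKt (i + 1) (lcDelta a hS₁ i z)
    have hk2' : lcDelta a hS₁ i (b ^ k' • z) = 0 := (map_smul _ _ _).trans hk'
    obtain ⟨x, hx⟩ : ∃ x : (localCohomology a i).obj (ModuleCat.of R M),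
        ((localCohomology a i).map (ModuleCat.ofHom (LinearMap.ker f).mkQ)).hom x = b ^ k' • z :=
      lc_exact₃ a hS₁ i (b ^ k' • z) hk2'
    refine ⟨⟨x, ⟨b ^ (k' + k), k' + k, rfl⟩⟩, ?_⟩
    show b ^ (k' + k) • y = ((localCohomology a i).map (ModuleCat.ofHom f)).hom x
    have e0 : b ^ (k' + k) • y = b ^ k' • (b ^ k • y) := by rw [pow_add, mul_smul]
    have e1 := hF x
    have e2 : ((localCohomology a i).map (ModuleCat.ofHom fbar)).hom
        (((localCohomology a i).map (ModuleCat.ofHom (LinearMap.ker f).mkQ)).hom x) =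
        ((localCohomology a i).map (ModuleCat.ofHom fbar)).hom (b ^ k' • z) := congrArg _ hx
    have e3 : ((localCohomology a i).map (ModuleCat.ofHom fbar)).hom (b ^ k' • z) =
        b ^ k' • ((localCohomology a i).map (ModuleCat.ofHom fbar)).hom z := map_smul _ _ _
    have e4 : b ^ k' • ((localCohomology a i).map (ModuleCat.ofHom fbar)).hom z =
        b ^ k' • (b ^ k • y) := congrArg _ hz
    exact e0.trans (e1.trans (e2.trans (e3.trans e4))).symm
  · intro x₁ x₂ h
    suffices H : ∀ x : (localCohomology a i).obj (ModuleCat.of R M),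
        ((localCohomology a i).map (ModuleCat.ofHom f)).hom x = 0 → ∃ n : ℕ, b ^ n • x = 0 by
      obtain ⟨n, hn⟩ := H (x₁ - x₂) (by rw [map_sub, h, sub_self])
      refine ⟨⟨b ^ n, n, rfl⟩, ?_⟩
      show b ^ n • x₁ = b ^ n • x₂
      rw [smul_sub, sub_eq_zero] at hn
      exact hn
    intro x hx
    rw [hF] at hx
    -- `x̄` is `b`-power torsion
    have hxbar : ∃ k : ℕ, b ^ k •
        ((localCohomology a i).map (sesOfSubmodule (LinearMap.ker f)).g).hom x = 0 := by
      rcases Nat.eq_zero_or_pos i with rfl | hi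
      · refine ⟨0, ?_⟩
        rw [pow_zero, one_smul]
        have h1 := lcH0Map_naturality a (ModuleCat.ofHom fbar)
          (((localCohomology a 0).map (ModuleCat.ofHom (LinearMap.ker f).mkQ)).hom x)
        rw [hx, map_zero] at h1
        have h2 : lcH0Map a (ModuleCat.of R (M ⧸ LinearMap.ker f))
            (((localCohomology a 0).map (ModuleCat.ofHom (LinearMap.ker f).mkQ)).hom x) = 0 :=
          hfbar (h1.symm.trans (map_zero fbar).symm)
        exact lcH0Map_injective a _ (h2.trans (map_zero _).symm)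
      · obtain ⟨j, rfl⟩ := Nat.exists_eq_succ_of_ne_zero hi.ne'
        obtain ⟨c, hc⟩ := lc_exact₁ a hS₂ j _ hx
        obtain ⟨k, hk⟩ := hCt j c
        refine ⟨k, ?_⟩
        have e1 : lcDelta a hS₂ j (b ^ k • c) = b ^ k • lcDelta a hS₂ j c := map_smul _ _ _
        have e2 : lcDelta a hS₂ j (b ^ k • c) = 0 := by rw [hk, map_zero]
        have e3 : b ^ k • lcDelta a hS₂ j c = 0 := e1.symm.trans e2
        exact (congrArg (fun t => b ^ k • t) hc).symm.trans e3
    obtain ⟨k, hk⟩ := hxbar
    have hk2 : ((localCohomology a i).map (sesOfSubmodule (LinearMap.ker f)).g).hom (b ^ k • x) = 0 :=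
      (map_smul _ _ _).trans hk
    obtain ⟨κ, hκ⟩ := lc_exact₂ a hS₁ i (b ^ k • x) hk2
    obtain ⟨k', hk'⟩ := hKt i κ
    refine ⟨k' + k, ?_⟩
    have e1 : ((localCohomology a i).map (sesOfSubmodule (LinearMap.ker f)).f).hom (b ^ k' • κ) =
        b ^ k' • ((localCohomology a i).map (sesOfSubmodule (LinearMap.ker f)).f).hom κ :=
      map_smul _ _ _
    have e2 : ((localCohomology a i).map (sesOfSubmodule (LinearMap.ker f)).f).hom (b ^ k' • κ) = 0 := by
      rw [hk', map_zero]
    have e3 : b ^ k' • (b ^ k • x) = 0 :=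
      (congrArg (fun t => b ^ k' • t) hκ).symm.trans (e1.symm.trans e2)
    rw [pow_add, mul_smul]
    exact e3

/-- `H^1_{Rb}(N) ≅ N' / f(N)` for a localization `f : N → N'` at the powers of `b`. -/
theorem nonempty_lc_one_equiv_of_isLocalizedModule {N N' : Type u} [AddCommGroup N] [Module R N]
    [AddCommGroup N'] [Module R N'] (f : N →ₗ[R] N') [IsLocalizedModule (Submonoid.powers b) f] :
    Nonempty ((localCohomology (Ideal.span {b}) 1).obj (ModuleCat.of R N) ≃ₗ[R]
      (N' ⧸ LinearMap.range f)) := by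
  have hS := sesOfSubmodule_shortExact (LinearMap.range f)
  have hb' : Function.Bijective (fun x : N' => b • x) :=
    (Module.End.isUnit_iff _).mp
      (IsLocalizedModule.map_units f (⟨b, 1, pow_one b⟩ : Submonoid.powers b))
  have h0 : Subsingleton ((localCohomology (Ideal.span {b}) 0).obj
      (sesOfSubmodule (LinearMap.range f)).X₂) :=
    lc_subsingleton_of_smul_bijective (Ideal.span {b}) 0 N' b (Ideal.mem_span_singleton_self b) hb'
  have h1 : Subsingleton ((localCohomology (Ideal.span {b}) (0 + 1)).obj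
      (sesOfSubmodule (LinearMap.range f)).X₂) :=
    lc_subsingleton_of_smul_bijective (Ideal.span {b}) 1 N' b (Ideal.mem_span_singleton_self b) hb'
  have hδ := lcDelta_bijective (Ideal.span {b}) hS 0
  let e₁ := LinearEquiv.ofBijective (lcDelta (Ideal.span {b}) hS 0) hδ
  have hC : ∀ x : N' ⧸ LinearMap.range f, ∃ n : ℕ, b ^ n • x = 0 := by
    intro x
    obtain ⟨y, rfl⟩ := (LinearMap.range f).mkQ_surjective x
    obtain ⟨⟨m, ⟨_, n, rfl⟩⟩, hm⟩ := IsLocalizedModule.surj (Submonoid.powers b) f y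
    refine ⟨n, ?_⟩
    rw [← map_smul, Submodule.mkQ_apply, Submodule.Quotient.mk_eq_zero]
    exact ⟨m, hm.symm⟩
  have hev : Function.Bijective
      (lcH0Map (Ideal.span {b}) (ModuleCat.of R (N' ⧸ LinearMap.range f))) := by
    refine ⟨lcH0Map_injective _ _, fun q => ?_⟩
    obtain ⟨n, hn⟩ := hC q
    exact exists_lcH0Map_eq _ _ q n (smul_eq_zero_of_mem_span_pow b hn)
  let e₂ := LinearEquiv.ofBijective _ hev
  have hK' : ∀ x ∈ LinearMap.ker f, ∃ n : ℕ, ∀ r ∈ (Ideal.span {b} : Ideal R) ^ n, r • x = 0 := by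
    intro x hx
    obtain ⟨n, hn⟩ := exists_pow_of_mem_powers b
      ((IsLocalizedModule.eq_zero_iff (Submonoid.powers b) f).mp hx)
    exact ⟨n, smul_eq_zero_of_mem_span_pow b hn⟩
  let e₃ := (LinearEquiv.ofBijective _
    (lcMap_mkQ_bijective_of_torsion (Ideal.span {b}) (LinearMap.ker f) hK' 1 Nat.one_pos)).trans
      (lcCongr (Ideal.span {b}) 1 f.quotKerEquivRange)
  exact ⟨e₃.trans (e₁.symm.trans e₂)⟩

end localize

end Groth.Agent.Lib.Helper60
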