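import Groth.Agent.Lib.Helper60.BC

set_option autoImplicit false
universe u
open CategoryTheory CategoryTheory.Limits Opposite Abelian IsLocalRing
open Groth.Agent.Lib.Helper29

namespace Groth.Agent.Lib.Helper60

section bass3

variable {A : Type u} [CommRing A] [IsLocalRing A] [IsNoetherianRing A]

/-- Nakayama for `Ext`: if every class is divisible by some `x ∈ m` then `Ext` vanishes. -/
theorem ext_subsingleton_of_forall_exists_smul (N M : Type u) [AddCommGroup N] [Module A N]
    [Module.Finite A N] [AddCommGroup M] [Module A M] [Module.Finite A M] (i : ℕ) (x : A)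
    (hx : x ∈ maximalIdeal A)
    (h : ∀ e : Abelian.Ext (ModuleCat.of A N) (ModuleCat.of A M) i, ∃ e₂ :
      Abelian.Ext (ModuleCat.of A N) (ModuleCat.of A M) i, x • e₂ = e) :
    Subsingleton (Abelian.Ext (ModuleCat.of A N) (ModuleCat.of A M) i) := by
  have hfin : Module.Finite A (Abelian.Ext (ModuleCat.of A N) (ModuleCat.of A M) i) :=
    ext_finite i N M
  have htop : (⊤ : Submodule A (Abelian.Ext (ModuleCat.of A N) (ModuleCat.of A M) i)) ≤
      maximalIdeal A • ⊤ := by
    intro e _
    obtain ⟨e₂, rfl⟩ := h e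
    exact Submodule.smul_mem_smul hx Submodule.mem_top
  have hbot := Submodule.eq_bot_of_le_smul_of_le_jacobson_bot (maximalIdeal A) ⊤
    Module.Finite.fg_top htop (IsLocalRing.maximalIdeal_le_jacobson ⊥)
  refine ⟨fun a b => ?_⟩
  have key : ∀ c : Abelian.Ext (ModuleCat.of A N) (ModuleCat.of A M) i, c = 0 := by
    intro c
    have : c ∈ (⊤ : Submodule A _) := Submodule.mem_top
    rw [hbot] at this
    exact this
  rw [key a, key b]

/-- over a Gorenstein local ring of dimension `n`, a finite nonzero module has positive depth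
iff `Ext^n(M, A) = 0`. -/
theorem depth_pos_iff_ext_top (h : ∃ n : ℕ, HasInjectiveDimensionLT (ModuleCat.of A A) n) (n : ℕ)
    (hn : ringKrullDim A = n) (M : Type u) [AddCommGroup M] [Module A M] [Module.Finite A M]
    [Nontrivial M] :
    0 < LocCoh.depth A M ↔
      Subsingleton (Abelian.Ext (ModuleCat.of A M) (ModuleCat.of A A) n) := by
  obtain ⟨t, ht, hdim, hP⟩ := gorenstein_data (A := A) h
  obtain rfl : t = n := by
    rw [Module.supportDim_self_eq_ringKrullDim, hn] at hdim
    exact_mod_cast hdim.symm
  constructor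
  · intro hpos
    obtain ⟨x, hx, hreg⟩ := exists_isSMulRegular_of_one_le_depth M (Order.one_le_iff_pos.mpr hpos)
    have hS : (ModuleCat.smulShortComplex (ModuleCat.of A M) x).ShortExact :=
      IsSMulRegular.smulShortComplex_shortExact (M := ModuleCat.of A M) hreg
    refine ext_subsingleton_of_forall_exists_smul M A t x hx ?_
    intro e
    have h3 : Subsingleton (Abelian.Ext (ModuleCat.smulShortComplex (ModuleCat.of A M) x).X₃
        (ModuleCat.of A A) (t + 1)) :=
      HasInjectiveDimensionLT.subsingleton _ (t + 1) (t + 1) le_rfl _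
    obtain ⟨e₂, he₂⟩ := Ext.contravariant_sequence_exact₁ hS (ModuleCat.of A A) e
      (add_comm 1 t) (Subsingleton.elim _ _)
    let e₂' : Abelian.Ext (ModuleCat.of A M) (ModuleCat.of A A) t := e₂
    have he₂' : (Ext.mk₀ (x • 𝟙 (ModuleCat.of A M))).comp e₂' (zero_add t) = e := he₂
    refine ⟨e₂', ?_⟩
    rw [← he₂', Ext.mk₀_smul, Ext.smul_comp, Ext.mk₀_id_comp]
  · intro hsub
    by_contra hnpos
    have hd0 : LocCoh.depth A M = 0 := by
      rcases eq_or_ne (LocCoh.depth A M) 0 with h0 | h0
      · exact h0
      · exact absurd (pos_iff_ne_zero.mpr h0) hnpos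
    obtain ⟨f, hf⟩ := exists_injective_residueField_of_depth_eq_zero M hd0
    have hS := sesOfInjective_shortExact f hf
    have hk : Subsingleton (Abelian.Ext (ModuleCat.of A (A ⧸ maximalIdeal A))
        (ModuleCat.of A A) t) := by
      refine ⟨fun a b => ?_⟩
      have key : ∀ c : Abelian.Ext (ModuleCat.of A (A ⧸ maximalIdeal A)) (ModuleCat.of A A) t,
          c = 0 := by
        intro c
        have h3 : Subsingleton (Abelian.Ext (sesOfInjective f).X₃ (ModuleCat.of A A) (t + 1)) :=
          HasInjectiveDimensionLT.subsingleton _ (t + 1) (t + 1) le_rfl _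
        obtain ⟨c₂, hc₂⟩ := Ext.contravariant_sequence_exact₁ hS (ModuleCat.of A A) c
          (add_comm 1 t) (Subsingleton.elim _ _)
        have h2 : Subsingleton (Abelian.Ext (sesOfInjective f).X₂ (ModuleCat.of A A) t) := hsub
        rw [← hc₂, Subsingleton.elim c₂ 0, Ext.comp_zero]
        rfl
      exact (key a).trans (key b).symm
    have hmA := maximalIdeal_smul_top_ne_top A A
    have h1 : ((t : ℕ) : ℕ∞) ≤ LocCoh.idealDepth (maximalIdeal A) A := by
      have : LocCoh.idealDepth (maximalIdeal A) A = t := ht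
      rw [this]
    have h2 : ((t + 1 : ℕ) : ℕ∞) ≤ LocCoh.idealDepth (maximalIdeal A) A := by
      rw [le_idealDepth_iff_ext (maximalIdeal A) A hmA (t + 1)]
      intro i hi
      rcases Nat.lt_succ_iff_lt_or_eq.mp hi with hi' | rfl
      · exact (le_idealDepth_iff_ext (maximalIdeal A) A hmA t).mp h1 i hi'
      · exact hk
    have h3 : LocCoh.idealDepth (maximalIdeal A) A = t := ht
    rw [h3] at h2
    have h6 : t + 1 ≤ t := by exact_mod_cast h2
    omega

end bass3

end Groth.Agent.Lib.Helper60
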