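import Mathlib

/-!
# Chevalley's theorem for complete Noetherian local rings (helper60)
-/

set_option autoImplicit false
universe u
open IsLocalRing

namespace Groth.Agent.Lib.Helper60

section artinian

variable (R : Type u) [CommRing R] [IsLocalRing R] [IsNoetherianRing R]

lemma isArtinianRing_quot_maximalIdeal_pow' (n : ℕ) :
    IsArtinianRing (R ⧸ (maximalIdeal R) ^ n) := by
  rw [isArtinianRing_iff_krullDimLE_zero]
  refine Ring.KrullDimLE.mk₀ fun J hJ => ?_
  have hP : (J.comap (Ideal.Quotient.mk ((maximalIdeal R) ^ n))).IsPrime := hJ.comap _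
  have h1 : (maximalIdeal R) ^ n ≤ J.comap (Ideal.Quotient.mk ((maximalIdeal R) ^ n)) := by
    intro x hx
    rw [Ideal.mem_comap, Ideal.Quotient.eq_zero_iff_mem.mpr hx]
    exact zero_mem _
  have h2 : maximalIdeal R ≤ J.comap (Ideal.Quotient.mk ((maximalIdeal R) ^ n)) :=
    hP.le_of_pow_le h1
  have h3 : J.comap (Ideal.Quotient.mk ((maximalIdeal R) ^ n)) = maximalIdeal R :=
    le_antisymm (IsLocalRing.le_maximalIdeal hP.ne_top) h2
  have h4 : (J.comap (Ideal.Quotient.mk ((maximalIdeal R) ^ n))).IsMaximal := by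
    rw [h3]; infer_instance
  have h5 := Ideal.map_comap_of_surjective (Ideal.Quotient.mk ((maximalIdeal R) ^ n))
    Ideal.Quotient.mk_surjective J
  rcases Ideal.map_eq_top_or_isMaximal_of_surjective
    (Ideal.Quotient.mk ((maximalIdeal R) ^ n)) Ideal.Quotient.mk_surjective h4 with h | h
  · rw [h5] at h; exact absurd h hJ.ne_top
  · rwa [h5] at h

lemma isArtinian_quot_maximalIdeal_pow (n : ℕ) : IsArtinian R (R ⧸ (maximalIdeal R) ^ n) := by
  have := isArtinianRing_quot_maximalIdeal_pow' R n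
  exact isArtinian_of_surjective_algebraMap
    (Ideal.Quotient.mk_surjective (I := (maximalIdeal R) ^ n))

/-- a decreasing sequence of ideals stabilises modulo `m^s`. -/
lemma exists_sup_pow_stable (𝔞 : ℕ → Ideal R) (hanti : Antitone 𝔞) (s : ℕ) :
    ∃ N, ∀ n, N ≤ n → 𝔞 n ⊔ maximalIdeal R ^ s = 𝔞 N ⊔ maximalIdeal R ^ s := by
  have := isArtinian_quot_maximalIdeal_pow R s
  let f : ℕ →o (Submodule R (R ⧸ (maximalIdeal R) ^ s))ᵒᵈ :=
    ⟨fun n => OrderDual.toDual (Submodule.map (Submodule.mkQ (maximalIdeal R ^ s)) (𝔞 n)),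
      fun a b hab => Submodule.map_mono (hanti hab)⟩
  obtain ⟨N, hN⟩ := IsArtinian.monotone_stabilizes f
  refine ⟨N, fun n hn => ?_⟩
  have h := hN n hn
  have h' : Submodule.map (Submodule.mkQ (maximalIdeal R ^ s)) (𝔞 N) =
      Submodule.map (Submodule.mkQ (maximalIdeal R ^ s)) (𝔞 n) := h
  have h'' := congrArg (Submodule.comap (Submodule.mkQ (maximalIdeal R ^ s))) h'
  rw [Submodule.comap_map_mkQ, Submodule.comap_map_mkQ] at h''
  rw [sup_comm, ← h'', sup_comm]

end artinian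

section chevalley

variable (S : Type u) [CommRing S] [IsLocalRing S] [IsNoetherianRing S]

/-- ideals of a Noetherian local ring are closed: `⨅ s, (𝔞 ⊔ m^s) = 𝔞`. -/
lemma mem_of_forall_mem_sup_pow (𝔞 : Ideal S) (x : S)
    (hx : ∀ s : ℕ, x ∈ 𝔞 ⊔ maximalIdeal S ^ s) : x ∈ 𝔞 := by
  have hK := Ideal.iInf_pow_smul_eq_bot_of_isLocalRing (R := S) (M := S ⧸ 𝔞) (maximalIdeal S)
    (Ideal.IsPrime.ne_top inferInstance)
  have hmem : (Submodule.Quotient.mk x : S ⧸ 𝔞) ∈
      (⨅ i : ℕ, maximalIdeal S ^ i • ⊤ : Submodule S (S ⧸ 𝔞)) := by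
    rw [Submodule.mem_iInf]
    intro s
    obtain ⟨a, ha, μ, hμ, rfl⟩ := Submodule.mem_sup.mp (hx s)
    have h0 : (Submodule.Quotient.mk a : S ⧸ 𝔞) = 0 :=
      (Submodule.Quotient.mk_eq_zero _).mpr ha
    rw [Submodule.Quotient.mk_add, h0, zero_add]
    have : (Submodule.Quotient.mk μ : S ⧸ 𝔞) = μ • Submodule.Quotient.mk (1 : S) := by
      rw [← Submodule.Quotient.mk_smul, smul_eq_mul, mul_one]
    rw [this]
    exact Submodule.smul_mem_smul hμ Submodule.mem_top
  rw [hK, Submodule.mem_bot] at hmem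
  exact (Submodule.Quotient.mk_eq_zero _).mp hmem

variable [IsAdicComplete (maximalIdeal S) S]

/-- **Chevalley's theorem.** -/
theorem chevalley (𝔞 : ℕ → Ideal S) (hanti : Antitone 𝔞) (hinf : ⨅ n, 𝔞 n = ⊥) (t : ℕ) :
    ∃ n, 𝔞 n ≤ maximalIdeal S ^ t := by
  by_contra hcon
  push Not at hcon
  -- stabilisation indices
  choose N hN using exists_sup_pow_stable S 𝔞 hanti
  let U : ℕ → Ideal S := fun s => 𝔞 (N s) ⊔ maximalIdeal S ^ s
  have hU : ∀ s n, U s ≤ 𝔞 n ⊔ maximalIdeal S ^ s := by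
    intro s n
    rcases le_total (N s) n with h | h
    · exact (hN s n h).ge
    · exact sup_le_sup_right (hanti h) _
  have hUstep : ∀ s, U s ≤ U (s + 1) ⊔ maximalIdeal S ^ s := by
    intro s
    have h1 : U s ≤ 𝔞 (max (N s) (N (s + 1))) ⊔ maximalIdeal S ^ s := hU s _
    refine h1.trans ?_
    have h2 : 𝔞 (max (N s) (N (s + 1))) ≤ U (s + 1) := by
      have := (hN (s + 1) _ (le_max_right (N s) (N (s + 1)))).le
      exact le_sup_left.trans this
    exact sup_le_sup_right h2 _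
  -- starting point
  obtain ⟨x0, hx0, hx0'⟩ := SetLike.not_le_iff_exists.mp (hcon (N t))
  have hx0U : x0 ∈ U t := Ideal.mem_sup_left hx0
  -- the sequence
  have hstep : ∀ (j : ℕ) (y : {y : S // y ∈ U (t + j)}),
      ∃ z : {z : S // z ∈ U (t + (j + 1))}, z.1 - y.1 ∈ maximalIdeal S ^ (t + j) := by
    intro j y
    have := hUstep (t + j) y.2
    obtain ⟨z, hz, μ, hμ, hsum⟩ := Submodule.mem_sup.mp this
    refine ⟨⟨z, hz⟩, ?_⟩
    have : z - y.1 = -μ := by rw [← hsum]; ring
    rw [this]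
    exact neg_mem hμ
  choose nxt hnxt using hstep
  let x : (j : ℕ) → {y : S // y ∈ U (t + j)} := fun j =>
    Nat.rec (motive := fun j => {y : S // y ∈ U (t + j)}) ⟨x0, hx0U⟩ (fun j y => nxt j y) j
  have hxsucc : ∀ j, (x (j + 1)).1 - (x j).1 ∈ maximalIdeal S ^ (t + j) := fun j => hnxt j (x j)
  have hxle : ∀ i j, i ≤ j → (x j).1 - (x i).1 ∈ maximalIdeal S ^ (t + i) := by
    intro i j hij
    induction j, hij using Nat.le_induction with
    | base => rw [sub_self]; exact zero_mem _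
    | succ j hij ih =>
      have : (x (j + 1)).1 - (x i).1 = ((x (j + 1)).1 - (x j).1) + ((x j).1 - (x i).1) := by ring
      rw [this]
      exact add_mem (Ideal.pow_le_pow_right (by omega) (hxsucc j)) ih
  have hx_congr : ∀ a b : ℕ, a = b → (x a).1 = (x b).1 := by
    intro a b h; subst h; rfl
  -- the limit
  let f : ℕ → S := fun j => (x (j - t)).1
  have hf : ∀ {a b : ℕ}, a ≤ b →
      f a ≡ f b [SMOD (maximalIdeal S ^ a • ⊤ : Submodule S S)] := by
    intro a b hab
    rw [SModEq.sub_mem, smul_eq_mul, Ideal.mul_top]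
    have h1 := hxle (a - t) (b - t) (by omega)
    have : f a - f b = -((x (b - t)).1 - (x (a - t)).1) := by simp only [f]; ring
    rw [this]
    exact neg_mem (Ideal.pow_le_pow_right (by omega) h1)
  obtain ⟨L, hL⟩ := IsPrecomplete.prec (inferInstance : IsPrecomplete (maximalIdeal S) S) hf
  have hL' : ∀ j, f j - L ∈ maximalIdeal S ^ j := by
    intro j
    have := hL j
    rwa [SModEq.sub_mem, smul_eq_mul, Ideal.mul_top] at this
  -- `L` lies in every `𝔞 n`
  have hLmem : ∀ n, L ∈ 𝔞 n := by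
    intro n
    apply mem_of_forall_mem_sup_pow
    intro s
    have key : ∀ s', t ≤ s' → L ∈ 𝔞 n ⊔ maximalIdeal S ^ s' := by
      intro s' hs'
      obtain ⟨j, rfl⟩ : ∃ j, s' = t + j := ⟨s' - t, by omega⟩
      have hfj : f (t + j) = (x j).1 := hx_congr _ _ (Nat.add_sub_cancel_left ..)
      have h1 : f (t + j) ∈ 𝔞 n ⊔ maximalIdeal S ^ (t + j) := by
        rw [hfj]
        exact hU (t + j) n (x j).2
      have h2 : L = f (t + j) - (f (t + j) - L) := by ring
      rw [h2]
      exact sub_mem h1 (Ideal.mem_sup_right (hL' (t + j)))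
    rcases le_total t s with h | h
    · exact key s h
    · have hle : 𝔞 n ⊔ maximalIdeal S ^ t ≤ 𝔞 n ⊔ maximalIdeal S ^ s :=
        sup_le_sup_left (Ideal.pow_le_pow_right h) _
      exact hle (key t le_rfl)
  have hL0 : L = 0 := by
    have : L ∈ ⨅ n, 𝔞 n := by
      rw [Submodule.mem_iInf]
      exact hLmem
    rwa [hinf, Submodule.mem_bot] at this
  -- contradiction
  have := hL' t
  rw [hL0, sub_zero] at this
  have hft : f t = x0 := (hx_congr _ _ (Nat.sub_self t)).trans rfl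
  rw [hft] at this
  exact hx0' this

end chevalley

end Groth.Agent.Lib.Helper60
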