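import Mathlib
import Groth.Agent.Lib.Helper60.HL1

/-!
# Symbolic powers of a prime and their cofinality with ordinary powers (helper60)
-/

set_option autoImplicit false
universe u
open IsLocalRing

namespace Groth.Agent.Lib.Helper60

section symb

variable {S : Type u} [CommRing S]

/-- the `n`-th symbolic power of a prime `P`: `{x | ∃ s ∉ P, s x ∈ P^n}`. -/
def symbPow (P : Ideal S) [hP : P.IsPrime] (n : ℕ) : Ideal S where
  carrier := {x | ∃ s, s ∉ P ∧ s * x ∈ P ^ n}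
  add_mem' := by
    rintro a b ⟨s, hs, hsa⟩ ⟨t, ht, htb⟩
    refine ⟨s * t, fun h => (hP.mem_or_mem h).elim hs ht, ?_⟩
    have : s * t * (a + b) = t * (s * a) + s * (t * b) := by ring
    rw [this]
    exact add_mem (Ideal.mul_mem_left _ _ hsa) (Ideal.mul_mem_left _ _ htb)
  zero_mem' := ⟨1, fun h => hP.ne_top ((Ideal.eq_top_iff_one _).mpr h), by
    rw [mul_zero]; exact zero_mem _⟩
  smul_mem' := by
    rintro c x ⟨s, hs, hsx⟩
    refine ⟨s, hs, ?_⟩
    rw [smul_eq_mul, mul_left_comm]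
    exact Ideal.mul_mem_left _ _ hsx

variable (P : Ideal S) [hP : P.IsPrime]

lemma mem_symbPow {n : ℕ} {x : S} : x ∈ symbPow P n ↔ ∃ s, s ∉ P ∧ s * x ∈ P ^ n := Iff.rfl

lemma pow_le_symbPow (n : ℕ) : P ^ n ≤ symbPow P n := fun x hx =>
  ⟨1, fun h => hP.ne_top ((Ideal.eq_top_iff_one _).mpr h), by rwa [one_mul]⟩

lemma symbPow_antitone : Antitone (symbPow P) := by
  intro a b hab x ⟨s, hs, hsx⟩
  exact ⟨s, hs, Ideal.pow_le_pow_right hab hsx⟩

lemma mem_symbPow_of_mul_mem {n : ℕ} {s x : S} (hs : s ∉ P) (h : s * x ∈ symbPow P n) :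
    x ∈ symbPow P n := by
  obtain ⟨t, ht, htx⟩ := h
  refine ⟨t * s, fun h => (hP.mem_or_mem h).elim ht hs, ?_⟩
  rwa [mul_assoc]

lemma iInf_symbPow_eq_bot [IsDomain S] [IsNoetherianRing S] : ⨅ n, symbPow P n = ⊥ := by
  rw [eq_bot_iff]
  intro x hx
  rw [Submodule.mem_iInf] at hx
  rw [Submodule.mem_bot]
  have hK := Ideal.iInf_pow_eq_bot_of_isLocalRing (R := Localization.AtPrime P)
    (maximalIdeal (Localization.AtPrime P)) (Ideal.IsPrime.ne_top inferInstance)
  have hmem : algebraMap S (Localization.AtPrime P) x ∈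
      ⨅ i : ℕ, maximalIdeal (Localization.AtPrime P) ^ i := by
    rw [Submodule.mem_iInf]
    intro n
    obtain ⟨s, hs, hsx⟩ := hx n
    have h1 : algebraMap S (Localization.AtPrime P) (s * x) ∈
        Ideal.map (algebraMap S (Localization.AtPrime P)) (P ^ n) := Ideal.mem_map_of_mem _ hsx
    rw [Ideal.map_pow, Localization.AtPrime.map_eq_maximalIdeal, map_mul] at h1
    have hu : IsUnit (algebraMap S (Localization.AtPrime P) s) :=
      IsLocalization.map_units (Localization.AtPrime P) (⟨s, hs⟩ : P.primeCompl)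
    exact (Ideal.unit_mul_mem_iff_mem _ hu).mp h1
  rw [hK, Submodule.mem_bot] at hmem
  have hinj : Function.Injective (algebraMap S (Localization.AtPrime P)) :=
    IsLocalization.injective (Localization.AtPrime P) P.primeCompl_le_nonZeroDivisors
  exact hinj (hmem.trans (map_zero _).symm)

end symb

section cofinal

variable {S : Type u} [CommRing S] [IsLocalRing S] [IsNoetherianRing S]
variable (P : Ideal S) [hP : P.IsPrime]

/-- elements of the symbolic power are killed into `P^k` by a power of the maximal ideal, when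
`P` has "dimension one". -/
lemma exists_pow_mul_mem_of_mem_symbPow
    (hP1 : ∀ 𝔮 : Ideal S, 𝔮.IsPrime → P < 𝔮 → 𝔮 = maximalIdeal S) (k : ℕ) (x : S)
    (hx : x ∈ symbPow P k) : ∃ T : ℕ, ∀ μ ∈ maximalIdeal S ^ T, μ * x ∈ P ^ k := by
  obtain ⟨s, hs, hsx⟩ := hx
  have hrad : maximalIdeal S ≤ (P ^ k ⊔ Ideal.span {s}).radical := by
    rw [Ideal.radical_eq_sInf]
    refine le_sInf ?_
    rintro 𝔮 ⟨hle, hq⟩
    have h1 : P ≤ 𝔮 := hq.le_of_pow_le (le_sup_left.trans hle)
    have h2 : s ∈ 𝔮 := hle (Ideal.mem_sup_right (Ideal.subset_span rfl))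
    have h3 : P < 𝔮 := lt_of_le_of_ne h1 (fun h => hs (h ▸ h2))
    exact (hP1 𝔮 hq h3).ge
  obtain ⟨T, hT⟩ := Ideal.exists_pow_le_of_le_radical_of_fg hrad
    (IsNoetherian.noetherian (maximalIdeal S))
  refine ⟨T, fun μ hμ => ?_⟩
  obtain ⟨a, ha, b, hb, rfl⟩ := Submodule.mem_sup.mp (hT hμ)
  obtain ⟨c, rfl⟩ := Ideal.mem_span_singleton'.mp hb
  have : (a + c * s) * x = a * x + c * (s * x) := by ring
  rw [this]
  exact add_mem (Ideal.mul_mem_right _ _ ha) (Ideal.mul_mem_left _ _ hsx)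

lemma exists_pow_mul_symbPow_le
    (hP1 : ∀ 𝔮 : Ideal S, 𝔮.IsPrime → P < 𝔮 → 𝔮 = maximalIdeal S) (k : ℕ) :
    ∃ T : ℕ, ∀ x ∈ symbPow P k, ∀ μ ∈ maximalIdeal S ^ T, μ * x ∈ P ^ k := by
  let L : ℕ →o Ideal S :=
    ⟨fun T => (P ^ k).colon ((maximalIdeal S ^ T : Ideal S) : Set S), by
      intro a b hab x hx
      rw [Submodule.mem_colon] at hx ⊢
      intro μ hμ
      exact hx μ (Ideal.pow_le_pow_right hab hμ)⟩
  obtain ⟨T0, hT0⟩ := monotone_stabilizes_iff_noetherian.mpr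
    (inferInstance : IsNoetherian S S) L
  refine ⟨T0, fun x hx μ hμ => ?_⟩
  obtain ⟨T, hT⟩ := exists_pow_mul_mem_of_mem_symbPow P hP1 k x hx
  have h1 : x ∈ L T := by
    change x ∈ (P ^ k).colon ((maximalIdeal S ^ T : Ideal S) : Set S)
    rw [Submodule.mem_colon]
    intro ν hν
    rw [smul_eq_mul, mul_comm]
    exact hT ν hν
  have h2 : x ∈ L T0 := by
    rcases le_total T T0 with h | h
    · exact L.monotone h h1
    · rw [hT0 T h]; exact h1
  have h3 : x ∈ (P ^ k).colon ((maximalIdeal S ^ T0 : Ideal S) : Set S) := h2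
  rw [Submodule.mem_colon] at h3
  have := h3 μ hμ
  rwa [smul_eq_mul, mul_comm] at this

/-- **cofinality** of symbolic and ordinary powers in a complete local domain, for primes of
"dimension one". -/
theorem exists_symbPow_le_pow [IsDomain S] [IsAdicComplete (maximalIdeal S) S]
    (hP1 : ∀ 𝔮 : Ideal S, 𝔮.IsPrime → P < 𝔮 → 𝔮 = maximalIdeal S) (k : ℕ) :
    ∃ n, k ≤ n ∧ symbPow P n ≤ P ^ k := by
  obtain ⟨T0, hT0⟩ := exists_pow_mul_symbPow_le P hP1 k
  obtain ⟨c, hc⟩ := Ideal.exists_pow_inf_eq_pow_smul (maximalIdeal S)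
    (symbPow P k : Submodule S S)
  obtain ⟨n0, hn0⟩ := chevalley S (symbPow P) (symbPow_antitone P) (iInf_symbPow_eq_bot P) (T0 + c)
  refine ⟨max n0 k, le_max_right _ _, ?_⟩
  intro x hx
  have hx1 : x ∈ maximalIdeal S ^ (T0 + c) := hn0 (symbPow_antitone P (le_max_left n0 k) hx)
  have hx2 : x ∈ symbPow P k := symbPow_antitone P (le_max_right n0 k) hx
  have hx3 : x ∈ (maximalIdeal S ^ (T0 + c) • ⊤ ⊓ (symbPow P k : Submodule S S) :
      Submodule S S) := by
    refine ⟨?_, hx2⟩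
    rw [smul_eq_mul, Ideal.mul_top]
    exact hx1
  rw [hc (T0 + c) (Nat.le_add_left c T0), Nat.add_sub_cancel] at hx3
  have hle : (maximalIdeal S ^ T0 • (maximalIdeal S ^ c • ⊤ ⊓ (symbPow P k : Submodule S S)) :
      Submodule S S) ≤ P ^ k := by
    rw [Submodule.smul_le]
    intro μ hμ y hy
    rw [smul_eq_mul]
    exact hT0 y hy.2 μ hμ
  exact hle hx3

end cofinal

end Groth.Agent.Lib.Helper60
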