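import Groth.Agent.Lib.Helper60.LocalCohTop
import Mathlib.RingTheory.Ideal.AssociatedPrime.Finiteness

/-!
# Top local cohomology, II (helper60)

* `exists_linearMap_ne_zero_of_mem_support` : nonzero map `M → R/p` for `p ∈ Supp M`, `M` finite.
* `supportDim_lt_of_prime_lt` : modules supported strictly above a prime have dimension `< dim R`.
* `lc_top_subsingleton_of_support` : if `H^d_J(M) = 0` for a finite `M` whose support contains all
  top-dimensional minimal primes, then `H^d_J(N) = 0` for all `N`.
-/

set_option autoImplicit false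
universe u
open CategoryTheory CategoryTheory.Limits Opposite Abelian Order

namespace Groth.Agent.Lib.Helper60

variable {R : Type u} [CommRing R]

lemma exists_linearMap_ne_zero_of_mem_support [IsNoetherianRing R] (M : Type u) [AddCommGroup M]
    [Module R M] [Module.Finite R M] (p : PrimeSpectrum R) (hp : p ∈ Module.support R M) :
    ∃ g : M →ₗ[R] (R ⧸ p.asIdeal), g ≠ 0 := by
  by_contra hne
  push Not at hne
  have hsub : Subsingleton (M →ₗ[R] (R ⧸ p.asIdeal)) :=
    ⟨fun a b => (hne a).trans (hne b).symm⟩
  obtain ⟨r, hr, hreg⟩ := IsSMulRegular.subsingleton_linearMap_iff.mp hsub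
  have hrp : r ∈ p.asIdeal := Module.annihilator_le_of_mem_support hp hr
  have h1 : r • (1 : R ⧸ p.asIdeal) = r • 0 := by
    rw [smul_zero, Algebra.smul_def, mul_one, Ideal.Quotient.algebraMap_eq,
      Ideal.Quotient.eq_zero_iff_mem]
    exact hrp
  have h2 := hreg h1
  have : (1 : R ⧸ p.asIdeal) ≠ 0 := by
    have : Nontrivial (R ⧸ p.asIdeal) := Ideal.Quotient.nontrivial_iff.mpr p.2.ne_top
    exact one_ne_zero
  exact this h2

lemma supportDim_lt_of_prime_lt {R : Type*} [CommRing R] {d : ℕ} (hd : ringKrullDim R = d)
    (Q : Type*) [AddCommGroup Q] [Module R Q] (p : Ideal R) [hp : p.IsPrime]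
    (hpQ : p ≤ Module.annihilator R Q) (a : R) (haQ : a ∈ Module.annihilator R Q) (hap : a ∉ p) :
    Module.supportDim R Q < (d : WithBot ℕ∞) := by
  rw [Module.supportDim, krullDim_lt_coe_iff]
  intro l
  let l' : LTSeries (PrimeSpectrum R) := l.map Subtype.val (fun _ _ hab => hab)
  have hhead : l'.head = l.head.1 := LTSeries.head_map _ _ _
  have hann : Module.annihilator R Q ≤ l.head.1.asIdeal :=
    Module.annihilator_le_of_mem_support l.head.2
  have hlt : (⟨p, hp⟩ : PrimeSpectrum R) < l'.head := by
    rw [hhead]
    refine lt_of_le_of_ne (hpQ.trans hann) ?_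
    intro heq
    apply hap
    have : a ∈ l.head.1.asIdeal := hann haQ
    rw [← heq] at this
    exact this
  have h1 : ((l'.cons ⟨p, hp⟩ hlt).length : WithBot ℕ∞) ≤ ringKrullDim R :=
    LTSeries.length_le_krullDim _
  rw [hd, RelSeries.cons_length] at h1
  have h2 : l'.length + 1 ≤ d := by exact_mod_cast h1
  have h3 : l'.length = l.length := rfl
  omega

lemma lc_subsingleton_of_exact (J : Ideal R) (i : ℕ) {N₁ N₂ N₃ : Type u} [AddCommGroup N₁]
    [Module R N₁] [AddCommGroup N₂] [Module R N₂] [AddCommGroup N₃] [Module R N₃]
    (f : N₁ →ₗ[R] N₂) (g : N₂ →ₗ[R] N₃) (hf : Function.Injective f) (hg : Function.Surjective g)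
    (hfg : Function.Exact f g)
    (h1 : Subsingleton ((localCohomology J i).obj (ModuleCat.of R N₁)))
    (h3 : Subsingleton ((localCohomology J i).obj (ModuleCat.of R N₃))) :
    Subsingleton ((localCohomology J i).obj (ModuleCat.of R N₂)) := by
  let S : ShortComplex (ModuleCat.{u} R) :=
    ShortComplex.mk (ModuleCat.ofHom f) (ModuleCat.ofHom g) (by
      ext x
      exact hfg.apply_apply_eq_zero x)
  have hS : S.ShortExact := ModuleCat.shortComplex_shortExact S hfg hf hg
  exact lc_subsingleton_X₂ J hS i h1 h3

/-- If `H^d_J(M) = 0` for one finite module `M` whose support contains every minimal prime `p`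
with `dim R/p = d = dim R`, then `H^d_J(N) = 0` for every module `N`. -/
theorem lc_top_subsingleton_of_support [IsNoetherianRing R] (J : Ideal R) {d : ℕ}
    (hd : ringKrullDim R = d) (M : Type u) [AddCommGroup M] [Module R M] [Module.Finite R M]
    (hsupp : ∀ p ∈ minimalPrimes R, ringKrullDim (R ⧸ p) = d → ∀ hp : p.IsPrime,
      (⟨p, hp⟩ : PrimeSpectrum R) ∈ Module.support R M)
    (hvan : Subsingleton ((localCohomology J d).obj (ModuleCat.of R M)))
    (N : Type u) [AddCommGroup N] [Module R N] :
    Subsingleton ((localCohomology J d).obj (ModuleCat.of R N)) := by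
  -- vanishing above `d`
  have hGV : ∀ (N : Type u) [AddCommGroup N] [Module R N],
      Subsingleton ((localCohomology J (d + 1)).obj (ModuleCat.of R N)) := by
    intro N _ _
    apply lc_subsingleton_of_supportDim_lt J (d + 1) N
    refine lt_of_le_of_lt ((Module.supportDim_le_ringKrullDim R _).trans hd.le) ?_
    exact_mod_cast Nat.lt_succ_self d
  -- primes
  have hprime : ∀ p : PrimeSpectrum R,
      Subsingleton ((localCohomology J d).obj (ModuleCat.of R (R ⧸ p.asIdeal))) := by
    intro p
    by_cases hlt : ringKrullDim (R ⧸ p.asIdeal) < (d : WithBot ℕ∞)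
    · apply lc_subsingleton_of_supportDim_lt J d
      rwa [Module.supportDim_quotient_eq_ringKrullDim]
    · have hle : ringKrullDim (R ⧸ p.asIdeal) ≤ (d : WithBot ℕ∞) := by
        rw [← hd]; exact ringKrullDim_quotient_le _
      have heq : ringKrullDim (R ⧸ p.asIdeal) = d := le_antisymm hle (not_lt.mp hlt)
      -- `p` is a minimal prime
      have hmin : p.asIdeal ∈ minimalPrimes R := by
        have h1 : (d : WithBot ℕ∞) ≤ Order.krullDim
            (PrimeSpectrum.zeroLocus (R := R) (p.asIdeal : Set R)) := by
          rw [← ringKrullDim_quotient, heq]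
        obtain ⟨l, hl⟩ := le_krullDim_iff.mp h1
        let l' : LTSeries (PrimeSpectrum R) := l.map Subtype.val (fun _ _ hab => hab)
        have hhead : l'.head = l.head.1 := LTSeries.head_map _ _ _
        obtain ⟨hm, -⟩ := head_minimal_of_length_eq hd l' (le_of_eq hl.symm)
        have hple : p.asIdeal ≤ l'.head.asIdeal := by
          rw [hhead]
          exact (PrimeSpectrum.mem_zeroLocus _ _).mp l.head.2
        have := hm.2 ⟨p.2, bot_le⟩ hple
        rw [le_antisymm hple this]
        exact hm
      have hpM := hsupp p.asIdeal hmin heq p.2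
      obtain ⟨g, hg⟩ := exists_linearMap_ne_zero_of_mem_support M p hpM
      -- `H^d(range g) = 0`
      have hSa := sesOfSurjective_shortExact g.rangeRestrict g.surjective_rangeRestrict
      have hrange : Subsingleton ((localCohomology J d).obj
          (ModuleCat.of R (LinearMap.range g))) :=
        lc_subsingleton_X₃ J hSa d hvan (hGV _)
      -- the cokernel has small support
      obtain ⟨m, hm⟩ : ∃ m, g m ≠ 0 := by
        by_contra h
        push Not at h
        exact hg (LinearMap.ext h)
      obtain ⟨a, ha⟩ := Ideal.Quotient.mk_surjective (g m)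
      have hap : a ∉ p.asIdeal := by
        intro hmem
        apply hm
        rw [← ha, Ideal.Quotient.eq_zero_iff_mem]
        exact hmem
      have hQ : Subsingleton ((localCohomology J d).obj
          (ModuleCat.of R ((R ⧸ p.asIdeal) ⧸ LinearMap.range g))) := by
        apply lc_subsingleton_of_supportDim_lt J d
        have := p.2
        apply supportDim_lt_of_prime_lt hd _ p.asIdeal ?_ a ?_ hap
        · intro r hr
          rw [Module.mem_annihilator]
          intro x
          obtain ⟨x, rfl⟩ := Submodule.Quotient.mk_surjective _ x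
          obtain ⟨x, rfl⟩ := Ideal.Quotient.mk_surjective x
          rw [← Submodule.Quotient.mk_smul, Algebra.smul_def, Ideal.Quotient.algebraMap_eq,
            ← map_mul]
          have : Ideal.Quotient.mk p.asIdeal (r * x) = 0 :=
            Ideal.Quotient.eq_zero_iff_mem.mpr (p.asIdeal.mul_mem_right _ hr)
          rw [this]
          exact Submodule.Quotient.mk_zero _
        · rw [Module.mem_annihilator]
          intro x
          obtain ⟨x, rfl⟩ := Submodule.Quotient.mk_surjective _ x
          obtain ⟨x, rfl⟩ := Ideal.Quotient.mk_surjective x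
          rw [← Submodule.Quotient.mk_smul, Submodule.Quotient.mk_eq_zero]
          refine ⟨x • m, ?_⟩
          rw [map_smul, ← ha, Algebra.smul_def, Algebra.smul_def, Ideal.Quotient.algebraMap_eq,
            mul_comm]
      exact lc_subsingleton_of_exact J d (LinearMap.range g).subtype (LinearMap.range g).mkQ
        (LinearMap.range g).injective_subtype (LinearMap.range g).mkQ_surjective
        (LinearMap.exact_subtype_mkQ _) hrange hQ
  -- finite modules
  have hfin : ∀ (N : Type u) [AddCommGroup N] [Module R N] [Module.Finite R N],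
      Subsingleton ((localCohomology J d).obj (ModuleCat.of R N)) := by
    intro N _ _ hN
    refine IsNoetherianRing.induction_on_isQuotientEquivQuotientPrime R hN
      (motive := fun N _ _ _ => Subsingleton ((localCohomology J d).obj (ModuleCat.of R N)))
      ?_ ?_ ?_
    · intro N _ _ _ _
      exact lc_subsingleton_of_subsingleton J d N
    · intro N _ _ _ p e
      exact lc_subsingleton_of_linearEquiv J d e.symm (hprime p)
    · intro N₁ _ _ _ N₂ _ _ _ N₃ _ _ _ f g hf hg hfg h1 h3
      exact lc_subsingleton_of_exact J d f g hf hg hfg h1 h3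
  -- all modules
  refine ⟨fun a b => ?_⟩
  suffices H : ∀ y : (localCohomology J d).obj (ModuleCat.of R N), y = 0 by rw [H a, H b]
  intro y
  obtain ⟨M₀, hfg, y₀, rfl⟩ := lc_exists_fg J d (ModuleCat.of R N) y
  have : Module.Finite R M₀ := Module.Finite.iff_fg.mpr hfg
  have := hfin M₀
  rw [Subsingleton.elim y₀ 0, map_zero]

end Groth.Agent.Lib.Helper60
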