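import Mathlib
import Groth.Agent.Lib.Helper60.HL2
import Groth.Agent.Lib.Helper60.BD
import Groth.Agent.Lib.Helper60.LocalCohTop2
import Groth.Agent.Lib.Helper60.LocalCohBC

/-!
# Hartshorne–Lichtenbaum: the Gorenstein step (helper60)
-/

set_option autoImplicit false
set_option linter.unusedSectionVars false
universe u
open CategoryTheory CategoryTheory.Limits Opposite Abelian IsLocalRing
open Groth.Agent.Lib.Helper29

namespace Groth.Agent.Lib.Helper60

section ext

variable {A : Type u} [CommRing A] [IsLocalRing A] [IsNoetherianRing A]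

/-- over a Gorenstein local ring of dimension `n`, `Ext^n(M, A) = 0` for a finite module `M` with
a regular element in the maximal ideal. -/
theorem ext_top_subsingleton_of_regular
    (h : ∃ n : ℕ, HasInjectiveDimensionLT (ModuleCat.of A A) n) (n : ℕ)
    (hn : ringKrullDim A = n) (M : Type u) [AddCommGroup M] [Module A M] [Module.Finite A M]
    (x : A) (hx : x ∈ maximalIdeal A) (hreg : IsSMulRegular M x) :
    Subsingleton (Abelian.Ext (ModuleCat.of A M) (ModuleCat.of A A) n) := by
  obtain ⟨t, ht, hdim, hP⟩ := gorenstein_data (A := A) h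
  obtain rfl : t = n := by
    rw [Module.supportDim_self_eq_ringKrullDim, hn] at hdim
    exact_mod_cast hdim.symm
  have hS : (ModuleCat.smulShortComplex (ModuleCat.of A M) x).ShortExact :=
    IsSMulRegular.smulShortComplex_shortExact (M := ModuleCat.of A M) hreg
  refine ext_subsingleton_of_forall_exists_smul M A t x hx ?_
  intro e
  have h3 : Subsingleton (Abelian.Ext (ModuleCat.smulShortComplex (ModuleCat.of A M) x).X₃
      (ModuleCat.of A A) (t + 1)) :=
    HasInjectiveDimensionLT.subsingleton _ (t + 1) (t + 1) le_rfl _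
  obtain ⟨e₂, he₂⟩ := Ext.contravariant_sequence_exact₁ hS (ModuleCat.of A A) e
    (add_comm 1 t) (Subsingleton.elim _ _)
  let e₂' : Abelian.Ext (ModuleCat.of A M) (ModuleCat.of A A) t := e₂
  have he₂' : (Ext.mk₀ (x • 𝟙 (ModuleCat.of A M))).comp e₂' (zero_add t) = e := he₂
  refine ⟨e₂', ?_⟩
  rw [← he₂', Ext.mk₀_smul, Ext.smul_comp, Ext.mk₀_id_comp]

end ext

section cofinal

variable {A S : Type u} [CommRing A] [CommRing S] [Algebra A S] [IsNoetherianRing A]
  [Module.Finite A S] [IsLocalRing S] [IsNoetherianRing S]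
  (P : Ideal S) [hP : P.IsPrime]

/-- the contraction of the symbolic powers. -/
def symbComap (n : ℕ) : Ideal A := (symbPow P n).comap (algebraMap A S)

lemma pow_comap_le_symbComap (n : ℕ) : (P.comap (algebraMap A S)) ^ n ≤ symbComap (A := A) P n := by
  unfold symbComap
  rw [← Ideal.map_le_iff_le_comap, Ideal.map_pow]
  exact (Ideal.pow_right_mono Ideal.map_comap_le n).trans (pow_le_symbPow P n)

lemma symbComap_antitone : Antitone (symbComap (A := A) P) := fun _ _ hab =>
  Ideal.comap_mono (symbPow_antitone P hab)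

lemma exists_symbComap_le_pow [IsDomain S] [IsAdicComplete (maximalIdeal S) S]
    (hinj : Function.Injective (algebraMap A S))
    (hP1 : ∀ 𝔮 : Ideal S, 𝔮.IsPrime → P < 𝔮 → 𝔮 = maximalIdeal S)
    (hrad : ((P.comap (algebraMap A S)).map (algebraMap A S)).radical = P) (k : ℕ) :
    ∃ n, k ≤ n ∧ symbComap (A := A) P n ≤ (P.comap (algebraMap A S)) ^ k := by
  set Q := P.comap (algebraMap A S) with hQ
  obtain ⟨c, hc⟩ := Ideal.exists_pow_le_of_le_radical_of_fg hrad.ge (IsNoetherian.noetherian P)
  let N₀ : Submodule A S := LinearMap.range (Algebra.linearMap A S)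
  obtain ⟨c', hc'⟩ := Ideal.exists_pow_inf_eq_pow_smul Q N₀
  obtain ⟨n, hn, hle⟩ := exists_symbPow_le_pow P hP1 (c * (k + c'))
  refine ⟨max n k, le_max_right _ _, ?_⟩
  intro a ha
  have h1 : algebraMap A S a ∈ symbPow P n := symbPow_antitone P (le_max_left _ _) ha
  have h2 : algebraMap A S a ∈ P ^ (c * (k + c')) := hle h1
  have h3 : algebraMap A S a ∈ (Q.map (algebraMap A S)) ^ (k + c') := by
    rw [pow_mul] at h2
    exact Ideal.pow_right_mono hc _ h2
  rw [← Ideal.map_pow] at h3
  have h4 : algebraMap A S a ∈ (Q ^ (k + c') • ⊤ ⊓ N₀ : Submodule A S) := by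
    refine ⟨?_, ⟨a, rfl⟩⟩
    rw [Ideal.smul_top_eq_map]
    exact h3
  rw [hc' (k + c') (Nat.le_add_left _ _), Nat.add_sub_cancel] at h4
  have h5 : (Q ^ k • (Q ^ c' • ⊤ ⊓ N₀) : Submodule A S) ≤
      Submodule.map (Algebra.linearMap A S) (Q ^ k) := by
    rw [Submodule.smul_le]
    rintro r hr _ ⟨-, ⟨b, rfl⟩⟩
    refine ⟨r * b, Ideal.mul_mem_right _ _ hr, ?_⟩
    simp [Algebra.smul_def]
  obtain ⟨a', ha', heq⟩ := h5 h4
  have : a' = a := hinj heq
  rwa [this] at ha'

end cofinal

section vanishing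

variable {A S : Type u} [CommRing A] [CommRing S] [Algebra A S] [IsLocalRing A]
  [IsNoetherianRing A] [Module.Finite A S] [IsLocalRing S] [IsNoetherianRing S] [IsDomain S]
  [IsAdicComplete (maximalIdeal S) S] (P : Ideal S) [hP : P.IsPrime]

include hP in
lemma comap_ne_maximalIdeal (hPm : P ≠ maximalIdeal S) :
    P.comap (algebraMap A S) ≠ maximalIdeal A := by
  intro h
  have : Algebra.IsIntegral A S := Algebra.IsIntegral.of_finite A S
  have hmax : (P.comap (algebraMap A S)).IsMaximal := by rw [h]; infer_instance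
  have := Ideal.isMaximal_of_isIntegral_of_isMaximal_comap (R := A) P hmax
  exact hPm (IsLocalRing.eq_maximalIdeal this)

theorem lc_top_self_subsingleton_of_gorenstein
    (h : ∃ n : ℕ, HasInjectiveDimensionLT (ModuleCat.of A A) n) (d : ℕ)
    (hd : ringKrullDim A = d) (hinj : Function.Injective (algebraMap A S))
    (hP1 : ∀ 𝔮 : Ideal S, 𝔮.IsPrime → P < 𝔮 → 𝔮 = maximalIdeal S)
    (hPm : P ≠ maximalIdeal S)
    (hrad : ((P.comap (algebraMap A S)).map (algebraMap A S)).radical = P) :
    Subsingleton (LocCoh.H (P.comap (algebraMap A S)) d A) := by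
  set Q := P.comap (algebraMap A S) with hQ
  have hQprime : Q.IsPrime := hP.comap _
  have hQm : Q ≠ maximalIdeal A := comap_ne_maximalIdeal P hPm
  obtain ⟨μ, hμm, hμQ⟩ : ∃ μ ∈ maximalIdeal A, μ ∉ Q := by
    by_contra hcon
    push Not at hcon
    have hle : maximalIdeal A ≤ Q := hcon
    exact hQm ((maximalIdeal.isMaximal A).eq_of_le hQprime.ne_top hle).symm
  have hμP : algebraMap A S μ ∉ P := hμQ
  have hreg : ∀ n, IsSMulRegular (A ⧸ symbComap (A := A) P n) μ := by
    intro n
    rw [isSMulRegular_iff_right_eq_zero_of_smul]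
    intro m hm
    obtain ⟨a, rfl⟩ := Ideal.Quotient.mk_surjective m
    rw [← Ideal.Quotient.mk_eq_mk, ← Submodule.Quotient.mk_smul, Ideal.Quotient.mk_eq_mk,
      Ideal.Quotient.eq_zero_iff_mem, smul_eq_mul] at hm
    rw [Ideal.Quotient.eq_zero_iff_mem]
    have h1 : algebraMap A S μ * algebraMap A S a ∈ symbPow P n := by
      rw [← map_mul]; exact hm
    exact mem_symbPow_of_mul_mem P hμP h1
  have hExt : ∀ n, Subsingleton (Abelian.Ext (ModuleCat.of A (A ⧸ symbComap (A := A) P n))
      (ModuleCat.of A A) d) := fun n =>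
    ext_top_subsingleton_of_regular h d hd _ μ hμm (hreg n)
  refine ⟨fun a b => ?_⟩
  suffices H : ∀ y : LocCoh.H Q d A, y = 0 by rw [H a, H b]
  intro y
  obtain ⟨n, x, rfl⟩ := lcMk_surj Q d (ModuleCat.of A A) y
  rw [lcMk_eq_zero_iff]
  obtain ⟨j, hj, hle⟩ := exists_symbComap_le_pow (A := A) P hinj hP1 hrad n
  refine ⟨j, hj, ?_⟩
  let f1 : quotPow Q j ⟶ ModuleCat.of A (A ⧸ symbComap (A := A) P j) :=
    ModuleCat.ofHom (Submodule.mapQ _ _ LinearMap.id (pow_comap_le_symbComap (A := A) P j))
  let f2 : ModuleCat.of A (A ⧸ symbComap (A := A) P j) ⟶ quotPow Q n :=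
    ModuleCat.ofHom (Submodule.mapQ _ _ LinearMap.id hle)
  have hf : quotPowMap Q hj = f1 ≫ f2 := by
    apply ModuleCat.hom_ext
    apply LinearMap.ext
    intro z
    obtain ⟨z, rfl⟩ := Submodule.Quotient.mk_surjective _ z
    rfl
  have := hExt j
  unfold lcRes
  rw [hf, ← Ext.mk₀_comp_mk₀_assoc, Subsingleton.elim ((Ext.mk₀ f2).comp x (zero_add d)) 0,
    Ext.comp_zero]

theorem lc_top_subsingleton_of_gorenstein_subring
    (h : ∃ n : ℕ, HasInjectiveDimensionLT (ModuleCat.of A A) n) (d : ℕ)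
    (hd : ringKrullDim A = d) (hinj : Function.Injective (algebraMap A S))
    (hP1 : ∀ 𝔮 : Ideal S, 𝔮.IsPrime → P < 𝔮 → 𝔮 = maximalIdeal S)
    (hPm : P ≠ maximalIdeal S)
    (hrad : ((P.comap (algebraMap A S)).map (algebraMap A S)).radical = P)
    (N : Type u) [AddCommGroup N] [Module S N] :
    Subsingleton (LocCoh.H P d N) := by
  have hA := lc_top_self_subsingleton_of_gorenstein P h d hd hinj hP1 hPm hrad
  set Q := P.comap (algebraMap A S) with hQ
  have hsupp : ∀ p ∈ minimalPrimes A, ringKrullDim (A ⧸ p) = d → ∀ hp : p.IsPrime,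
      (⟨p, hp⟩ : PrimeSpectrum A) ∈ Module.support A A := by
    intro p _ _ hp
    rw [Module.support_of_algebra, PrimeSpectrum.mem_zeroLocus]
    intro x hx
    have hx' : algebraMap A A x = 0 := hx
    have hx'' : x = 0 := hx'
    rw [hx'']
    exact zero_mem _
  have hall : ∀ (N : Type u) [AddCommGroup N] [Module A N],
      Subsingleton ((localCohomology Q d).obj (ModuleCat.of A N)) :=
    lc_top_subsingleton_of_support Q hd A hsupp hA
  let _ : Module A N := Module.compHom N (algebraMap A S)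
  have : IsScalarTower A S N := IsScalarTower.of_algebraMap_smul fun r x => rfl
  obtain ⟨φ, -⟩ := exists_lc_baseChange (R := A) (R' := S) Q d N
  have := hall N
  have h1 : Subsingleton (LocCoh.H (Q.map (algebraMap A S)) d N) := φ.toEquiv.subsingleton
  have hrad' : (Q.map (algebraMap A S)).radical = P.radical := by rw [hrad, hP.radical]
  exact ((localCohomology.isoOfSameRadical hrad' d).app
    (ModuleCat.of S N)).toLinearEquiv.toEquiv.symm.subsingleton

end vanishing

end Groth.Agent.Lib.Helper60
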