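import Mathlib
import Groth.Agent.S0581
import Groth.Agent.S5784
import Groth.Agent.S2821
import Groth.Agent.S0342
import Groth.Agent.S0343

/-!
# Hartshorne–Lichtenbaum: construction of a Gorenstein subring (helper60)
-/

set_option autoImplicit false
universe u
open IsLocalRing

namespace Groth.Agent.Lib.Helper60

section loc

lemma ker_isLocalization_lift {T C S : Type*} [CommRing T] [CommRing C] [CommRing S] [Algebra T C]
    (M : Submonoid T) [IsLocalization M C] (φ : T →+* S) (hφ : ∀ m : M, IsUnit (φ m)) :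
    RingHom.ker (IsLocalization.lift hφ : C →+* S) = (RingHom.ker φ).map (algebraMap T C) := by
  ext x
  obtain ⟨a, s, rfl⟩ := IsLocalization.exists_mk'_eq M x
  rw [RingHom.mem_ker, IsLocalization.lift_mk', IsLocalization.mk'_mem_map_algebraMap_iff]
  constructor
  · intro h
    refine ⟨1, M.one_mem, ?_⟩
    rw [one_mul, RingHom.mem_ker]
    exact (Units.mul_left_eq_zero _).mp h
  · rintro ⟨m, hm, h⟩
    rw [RingHom.mem_ker, map_mul] at h
    have h2 : φ a = 0 := ((hφ ⟨m, hm⟩).mul_right_eq_zero).mp h
    rw [h2, zero_mul]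

end loc

section regular

/-- a complete local domain is finite over a regular local ring. -/
theorem exists_regular_subring (S : Type u) [CommRing S] [IsDomain S] [IsLocalRing S]
    [IsNoetherianRing S] [IsAdicComplete (maximalIdeal S) S] :
    ∃ (B : Type u) (_ : CommRing B) (_ : IsRegularLocalRing B) (f : B →+* S),
      Function.Injective f ∧ f.Finite := by
  obtain ⟨Λ, _, n, f, hΛ, hinj, hfin, -⟩ := Groth.Agent.S0581.result S
  have hreg : IsRegularRing Λ ∧ IsLocalRing Λ := by
    rcases hΛ with hF | hC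
    · let _ := hF.toField
      exact ⟨inferInstance, inferInstance⟩
    · obtain ⟨hdom, hdvr, -, -⟩ := hC
      exact ⟨inferInstance, inferInstance⟩
  obtain ⟨h1, h2⟩ := hreg
  have h3 : IsRegularRing (MvPowerSeries (Fin n) Λ) := Groth.Agent.S5784.result Λ n
  have h4 : IsLocalRing (MvPowerSeries (Fin n) Λ) := inferInstance
  have h5 : IsRegularLocalRing (MvPowerSeries (Fin n) Λ) :=
    IsRegularLocalRing.of_isRegularRing_of_isLocalRing _
  exact ⟨MvPowerSeries (Fin n) Λ, inferInstance, h5, f, hinj, hfin⟩

end regular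

section hyper

open Polynomial

/-- the hypersurface `B[y]` over a regular local ring, as a Gorenstein local ring mapping
injectively to `S`. -/
theorem exists_gorenstein_hypersurface (B S : Type u) [CommRing B] [IsRegularLocalRing B]
    [CommRing S] [IsDomain S] [IsLocalRing S] [Algebra B S] [Module.Finite B S]
    (hinj : Function.Injective (algebraMap B S)) (y : S) :
    ∃ (A : Type u) (_ : CommRing A) (_ : LocCoh.IsGorensteinLocalRing A) (ψ : A →+* S)
      (ι : B →+* A) (y' : A), Function.Injective ψ ∧ ψ.comp ι = algebraMap B S ∧ ψ y' = y := by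
  classical
  obtain ⟨hdomB, hufdB⟩ := Groth.Agent.S2821.result B
  have hic : IsIntegrallyClosed B := inferInstance
  have htf : Module.IsTorsionFree B S := Module.isTorsionFree_iff_algebraMap_injective.mpr hinj
  have hint : Algebra.IsIntegral B S := Algebra.IsIntegral.of_finite B S
  have hy : IsIntegral B y := Algebra.IsIntegral.isIntegral y
  let φ : B[X] →+* S := ((Polynomial.aeval y : B[X] →ₐ[B] S) : B[X] →+* S)
  have hφC : ∀ b : B, φ (Polynomial.C b) = algebraMap B S b := fun b => Polynomial.aeval_C y b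
  have hφX : φ Polynomial.X = y := Polynomial.aeval_X y
  have hker : RingHom.ker φ = Ideal.span {minpoly B y} := minpoly.ker_eval hy
  let 𝔫 : Ideal B[X] := (maximalIdeal S).comap φ
  have h𝔫 : 𝔫.IsPrime := Ideal.IsPrime.comap φ
  have hcomap : 𝔫.comap (Polynomial.C : B →+* B[X]) = maximalIdeal B := by
    have h1 : 𝔫.comap (Polynomial.C : B →+* B[X]) = (maximalIdeal S).comap (algebraMap B S) := by
      ext b
      simp only [𝔫, Ideal.mem_comap, hφC]
    rw [h1]
    have hmax : ((maximalIdeal S).comap (algebraMap B S)).IsMaximal :=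
      Ideal.isMaximal_comap_of_isIntegral_of_isMaximal (R := B) (maximalIdeal S)
    exact IsLocalRing.eq_maximalIdeal hmax
  have hregC : IsRegularLocalRing (Localization.AtPrime 𝔫) :=
    Polynomial.isRegularLocalRing_localization_atPrime_of_comap_eq_maximalIdeal B 𝔫 hcomap
  have hGC : LocCoh.IsGorensteinLocalRing (Localization.AtPrime 𝔫) :=
    Groth.Agent.S0342.result (Localization.AtPrime 𝔫)
  have hdomC : IsDomain (Localization.AtPrime 𝔫) :=
    IsLocalization.isDomain_localization 𝔫.primeCompl_le_nonZeroDivisors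
  have hg𝔫 : minpoly B y ∈ 𝔫 := by
    change φ (minpoly B y) ∈ maximalIdeal S
    have : φ (minpoly B y) = 0 := minpoly.aeval B y
    rw [this]
    exact zero_mem _
  have hg'm : algebraMap B[X] (Localization.AtPrime 𝔫) (minpoly B y) ∈
      maximalIdeal (Localization.AtPrime 𝔫) := by
    rw [← Localization.AtPrime.map_eq_maximalIdeal]
    exact Ideal.mem_map_of_mem _ hg𝔫
  have hg'0 : algebraMap B[X] (Localization.AtPrime 𝔫) (minpoly B y) ≠ 0 := by
    intro h
    have hinjC : Function.Injective (algebraMap B[X] (Localization.AtPrime 𝔫)) :=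
      IsLocalization.injective (Localization.AtPrime 𝔫) 𝔫.primeCompl_le_nonZeroDivisors
    exact minpoly.ne_zero hy (hinjC (h.trans (map_zero _).symm))
  have hreg : IsSMulRegular (Localization.AtPrime 𝔫)
      (algebraMap B[X] (Localization.AtPrime 𝔫) (minpoly B y)) :=
    (IsRegular.of_ne_zero hg'0).left.isSMulRegular
  have hGA := (Groth.Agent.S0343.result (Localization.AtPrime 𝔫) _ hg'm hreg).mp hGC
  have hunits : ∀ m : 𝔫.primeCompl, IsUnit (φ m) := by
    intro m
    by_contra h
    exact m.2 ((IsLocalRing.mem_maximalIdeal _).mpr h)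
  have hψ₀ : ∀ p, (IsLocalization.lift hunits : Localization.AtPrime 𝔫 →+* S)
      (algebraMap B[X] (Localization.AtPrime 𝔫) p) = φ p := IsLocalization.lift_eq hunits
  have hkerψ₀ : RingHom.ker (IsLocalization.lift hunits : Localization.AtPrime 𝔫 →+* S) =
      Ideal.span {algebraMap B[X] (Localization.AtPrime 𝔫) (minpoly B y)} := by
    rw [ker_isLocalization_lift 𝔫.primeCompl φ hunits, hker, Ideal.map_span, Set.image_singleton]
  have hle : ∀ a ∈ Ideal.span {algebraMap B[X] (Localization.AtPrime 𝔫) (minpoly B y)},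
      (IsLocalization.lift hunits : Localization.AtPrime 𝔫 →+* S) a = 0 := by
    intro a ha
    rw [← RingHom.mem_ker, hkerψ₀]
    exact ha
  refine ⟨Localization.AtPrime 𝔫 ⧸
      Ideal.span {algebraMap B[X] (Localization.AtPrime 𝔫) (minpoly B y)}, inferInstance, hGA,
    Ideal.Quotient.lift _ (IsLocalization.lift hunits : Localization.AtPrime 𝔫 →+* S)
      hle,
    (Ideal.Quotient.mk _).comp ((algebraMap B[X] (Localization.AtPrime 𝔫)).comp Polynomial.C),
    Ideal.Quotient.mk _ (algebraMap B[X] (Localization.AtPrime 𝔫) Polynomial.X), ?_, ?_, ?_⟩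
  · rw [injective_iff_map_eq_zero]
    intro a ha
    obtain ⟨c, rfl⟩ := Ideal.Quotient.mk_surjective a
    rw [Ideal.Quotient.lift_mk] at ha
    rw [Ideal.Quotient.eq_zero_iff_mem, ← hkerψ₀]
    exact ha
  · ext b
    simp only [RingHom.comp_apply, Ideal.Quotient.lift_mk, hψ₀, hφC]
  · rw [Ideal.Quotient.lift_mk, hψ₀, hφX]

end hyper

section final

theorem exists_gorenstein_subring (S : Type u) [CommRing S] [IsDomain S] [IsLocalRing S]
    [IsNoetherianRing S] [IsAdicComplete (maximalIdeal S) S] (P : Ideal S) [hP : P.IsPrime]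
    (hP1 : ∀ 𝔮 : Ideal S, 𝔮.IsPrime → P < 𝔮 → 𝔮 = maximalIdeal S) :
    ∃ (A : Type u) (_ : CommRing A) (_ : LocCoh.IsGorensteinLocalRing A) (ψ : A →+* S),
      Function.Injective ψ ∧ ψ.Finite ∧ ((P.comap ψ).map ψ).radical = P := by
  classical
  obtain ⟨B, _, hB, f, hfinj, hffin⟩ := exists_regular_subring S
  let _ : Algebra B S := f.toAlgebra
  have hfinBS : Module.Finite B S := hffin
  have hintBS : Algebra.IsIntegral B S := Algebra.IsIntegral.of_finite B S
  have hinjBS : Function.Injective (algebraMap B S) := hfinj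
  set Q : Ideal B := P.comap (algebraMap B S) with hQ
  have hfinite := Ideal.finite_minimalPrimes_of_isNoetherianRing S (Q.map (algebraMap B S))
  have hQP : Q.map (algebraMap B S) ≤ P := Ideal.map_comap_le
  -- choose `y`
  obtain ⟨y, hyP, hy⟩ : ∃ y ∈ P, ∀ P' ∈ (Q.map (algebraMap B S)).minimalPrimes,
      P' ≠ P → y ∉ P' := by
    by_contra hcon
    push Not at hcon
    have hFfin : {P' ∈ (Q.map (algebraMap B S)).minimalPrimes | P' ≠ P}.Finite :=
      hfinite.subset (fun _ h => h.1)
    have hsub : (P : Set S) ⊆ ⋃ P' ∈ hFfin.toFinset, (P' : Set S) := by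
      intro y hyP
      obtain ⟨P', hP', hne, hyP'⟩ := hcon y hyP
      simp only [Set.mem_iUnion]
      refine ⟨P', ?_, hyP'⟩
      rw [Set.Finite.mem_toFinset]
      exact ⟨hP', hne⟩
    have hprimes : ∀ K ∈ hFfin.toFinset, K ≠ (⊥ : Ideal S) → K ≠ (⊥ : Ideal S) → K.IsPrime := by
      rintro K hK - -
      rw [Set.Finite.mem_toFinset] at hK
      exact hK.1.1.1
    obtain ⟨P', hP'F, hle⟩ := (Ideal.subset_union_prime (s := hFfin.toFinset)
      (f := fun K : Ideal S => K) ⊥ ⊥ hprimes).mp hsub
    rw [Set.Finite.mem_toFinset] at hP'F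
    obtain ⟨hP'min, hne⟩ := hP'F
    have : P' ≤ P := hP'min.2 ⟨hP, hQP⟩ hle
    exact hne (le_antisymm this hle)
  have huniq : ∀ P'' : Ideal S, P''.IsPrime → P''.comap (algebraMap B S) = Q → y ∈ P'' →
      P'' = P := by
    intro P'' hP'' hcomap hyP''
    have hle : Q.map (algebraMap B S) ≤ P'' := by rw [Ideal.map_le_iff_le_comap, hcomap]
    obtain ⟨P', hP'min, hP'le⟩ := Ideal.exists_minimalPrimes_le hle
    have hP'prime : P'.IsPrime := hP'min.1.1
    have heq : P' = P'' := by
      by_contra hne
      have hlt : P' < P'' := lt_of_le_of_ne hP'le hne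
      have h1 := Ideal.IsIntegral.comap_lt_comap (R := B) hlt
      rw [hcomap] at h1
      have h2 : Q ≤ P'.comap (algebraMap B S) := Ideal.map_le_iff_le_comap.mp hP'min.1.2
      exact absurd h1 (not_lt_of_ge h2)
    subst heq
    by_contra hne
    exact hy P' hP'min hne hyP''
  obtain ⟨A, _, hGA, ψ, ι, y', hψinj, hψι, hψy⟩ := exists_gorenstein_hypersurface B S hinjBS y
  have hψfin : ψ.Finite := by
    apply RingHom.Finite.of_comp_finite (f := ι)
    rw [hψι]
    exact hffin
  refine ⟨A, inferInstance, hGA, ψ, hψinj, hψfin, ?_⟩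
  let _ : Algebra A S := ψ.toAlgebra
  have hfinAS : Module.Finite A S := hψfin
  have hintAS : Algebra.IsIntegral A S := Algebra.IsIntegral.of_finite A S
  have hψalg : algebraMap A S = ψ := rfl
  apply le_antisymm
  · exact (hP.radical_le_iff).mpr Ideal.map_comap_le
  · rw [Ideal.radical_eq_sInf]
    refine le_sInf ?_
    rintro P'' ⟨hle, hP''⟩
    have hQ'le : P.comap ψ ≤ P''.comap ψ := Ideal.map_le_iff_le_comap.mp hle
    by_cases hcase : P''.comap ψ = P.comap ψ
    · have h1 : P''.comap (algebraMap B S) = Q := by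
        rw [hQ, ← hψι, ← Ideal.comap_comap, hcase, Ideal.comap_comap]
      have h2 : y ∈ P'' := by
        have : y' ∈ P''.comap ψ := by
          rw [hcase]
          change ψ y' ∈ P
          rw [hψy]; exact hyP
        rw [← hψy]; exact this
      exact (huniq P'' hP'' h1 h2).ge
    · have hlt : P.comap ψ < P''.comap ψ := lt_of_le_of_ne hQ'le (Ne.symm hcase)
      have h𝔮prime : (P''.comap ψ).IsPrime := hP''.comap ψ
      obtain ⟨P''', hge, hprime''', hcomap'''⟩ :=
        Ideal.exists_ideal_over_prime_of_isIntegral (R := A) (S := S) (P''.comap ψ) P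
          (le_of_lt hlt)
      have hne : P''' ≠ P := by
        intro h
        rw [h] at hcomap'''
        exact hcase hcomap'''.symm
      have hmax''' : P''' = maximalIdeal S :=
        hP1 P''' hprime''' (lt_of_le_of_ne hge (Ne.symm hne))
      have hmaxq : (P''.comap ψ).IsMaximal := by
        rw [← hcomap''', hmax''']
        exact Ideal.isMaximal_comap_of_isIntegral_of_isMaximal (R := A) (maximalIdeal S)
      have := Ideal.isMaximal_of_isIntegral_of_isMaximal_comap (R := A) P'' hmaxq
      rw [IsLocalRing.eq_maximalIdeal this]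
      exact IsLocalRing.le_maximalIdeal hP.ne_top

end final

end Groth.Agent.Lib.Helper60
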