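import Groth.Agent.Lib.Helper60.LocalCohTop2
import Groth.Agent.Lib.Helper60.LocalCohBC
import Groth.Agent.Lib.Helper60.IdealPowers

/-!
# Comparison of `H^i_{J+b}` and `H^i_J`; cohomological dimension and enlarging the ideal inside the
Jacobson radical (helper60)

* `HmapOfLE_lcDelta` : the comparison maps `H^i_{J'} → H^i_J` commute with connecting maps.
* `HmapOfLE_surjective_of_torsion` : `H^i_{J ⊔ b}(T) → H^i_J(T)` is surjective for `b`-torsion `T`.
* `ringKrullDim_away_lt` : `dim R_f < dim R` for `f` in the Jacobson radical.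
* `lc_top_subsingleton_of_le` : if `J ≤ J' ≤ Jac(R)`, `d = dim R` and `H^d_{J'}` vanishes on all
  modules, then so does `H^d_J`.
-/

set_option autoImplicit false
universe u
open CategoryTheory CategoryTheory.Limits Opposite Abelian Order

namespace Groth.Agent.Lib.Helper60

variable {R : Type u} [CommRing R]

section compare

variable {J J' : Ideal R} (h : J ≤ J')

lemma HmapOfLE_lcDelta {S : ShortComplex (ModuleCat.{u} R)} (hS : S.ShortExact) (i : ℕ)
    (y : (localCohomology J' i).obj S.X₃) :
    ((Dual2.HmapOfLE h (i + 1)).app S.X₁).hom (lcDelta J' hS i y) =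
      lcDelta J hS i (((Dual2.HmapOfLE h i).app S.X₃).hom y) := by
  obtain ⟨n, x, rfl⟩ := lcMk_surj J' i S.X₃ y
  rw [lcDelta_lcMk, HmapOfLE_lcMk, HmapOfLE_lcMk, lcDelta_lcMk, qres_comp]

lemma HmapOfLE_naturality (i : ℕ) {M N : ModuleCat.{u} R} (φ : M ⟶ N)
    (y : (localCohomology J' i).obj M) :
    ((Dual2.HmapOfLE h i).app N).hom (((localCohomology J' i).map φ).hom y) =
      ((localCohomology J i).map φ).hom (((Dual2.HmapOfLE h i).app M).hom y) := by
  have := (Dual2.HmapOfLE h i).naturality φ
  exact congrArg (fun ψ => ψ.hom y) this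

lemma lcH0Map_HmapOfLE (M : ModuleCat.{u} R) (y : (localCohomology J' 0).obj M) :
    lcH0Map J M (((Dual2.HmapOfLE h 0).app M).hom y) = lcH0Map J' M y := by
  obtain ⟨n, x, rfl⟩ := lcMk_surj J' 0 M y
  obtain ⟨ψ, rfl⟩ := ext0_surj_mk₀ J' M x
  rw [HmapOfLE_lcMk, lcH0Map_lcMk, lcH0Map_lcMk, ext0Eval_mk₀]
  unfold qres
  rw [Ext.mk₀_comp_mk₀, ext0Eval_mk₀]
  rfl

end compare

/-- for a `b`-torsion module `T`, the comparison map `H^i_{J ⊔ b}(T) → H^i_J(T)` is surjective. -/
theorem HmapOfLE_surjective_of_torsion [IsNoetherianRing R] (J b : Ideal R) (i : ℕ) :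
    ∀ (T : Type u) [AddCommGroup T] [Module R T],
      (∀ x : T, ∃ n : ℕ, ∀ a ∈ b ^ n, a • x = 0) →
      Function.Surjective
        ((Dual2.HmapOfLE (le_sup_left : J ≤ J ⊔ b) i).app (ModuleCat.of R T)).hom := by
  induction i with
  | zero =>
    intro T _ _ hT y
    obtain ⟨n, hn⟩ := lcH0Map_mem_torsionSub J (ModuleCat.of R T) y
    obtain ⟨k, hk⟩ := hT (lcH0Map J (ModuleCat.of R T) y)
    have hkill : ∀ a ∈ (J ⊔ b) ^ (n + k), a • lcH0Map J (ModuleCat.of R T) y = 0 := by
      intro a ha
      have ha' := sup_pow_add_le J b n k ha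
      obtain ⟨a₁, ha₁, a₂, ha₂, rfl⟩ := Submodule.mem_sup.mp ha'
      rw [add_smul, hn a₁ ha₁, hk a₂ ha₂, add_zero]
    obtain ⟨y', hy'⟩ := exists_lcH0Map_eq (J ⊔ b) (ModuleCat.of R T) _ (n + k) hkill
    refine ⟨y', ?_⟩
    apply lcH0Map_injective J (ModuleCat.of R T)
    rw [lcH0Map_HmapOfLE, hy']
  | succ i ih =>
    intro T _ _ hT y
    obtain ⟨E₀, _, _, _, ι, hι, hE₀⟩ := exists_injective_torsion_embedding b T hT
    have hS := sesOfInjective_shortExact ι hι
    have : Injective (sesOfInjective ι).X₂ := Module.injective_object_of_injective_module R E₀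
    have := lc_subsingleton_of_injective J (sesOfInjective ι).X₂ (i + 1) (Nat.succ_pos _)
    obtain ⟨y₃, hy₃⟩ := lc_exact₁ J hS i y (Subsingleton.elim _ _)
    have htors : ∀ x : E₀ ⧸ LinearMap.range ι, ∃ n : ℕ, ∀ a ∈ b ^ n, a • x = 0 := by
      intro x
      obtain ⟨e, rfl⟩ := (LinearMap.range ι).mkQ_surjective x
      obtain ⟨n, hn⟩ := hE₀ e
      exact ⟨n, fun a ha => ((LinearMap.range ι).mkQ.map_smul a e).symm.trans
        ((congrArg (LinearMap.range ι).mkQ (hn a ha)).trans (map_zero _))⟩
    obtain ⟨z, hz⟩ := ih (E₀ ⧸ LinearMap.range ι) htors y₃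
    refine ⟨lcDelta (J ⊔ b) hS i z, ?_⟩
    rw [← hy₃, ← hz]
    exact HmapOfLE_lcDelta le_sup_left hS i z

lemma ringKrullDim_away_lt {R : Type*} [CommRing R] {d : ℕ} (hd : ringKrullDim R = d) (f : R)
    (hf : f ∈ (⊥ : Ideal R).jacobson) :
    ringKrullDim (Localization.Away f) < (d : WithBot ℕ∞) := by
  rw [ringKrullDim, krullDim_lt_coe_iff]
  intro l
  have hinj := PrimeSpectrum.localization_comap_injective (Localization.Away f) (Submonoid.powers f)
  have hmono : StrictMono (PrimeSpectrum.comap (algebraMap R (Localization.Away f))) :=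
    Monotone.strictMono_of_injective (fun a b hab => Ideal.comap_mono hab) hinj
  let l' : LTSeries (PrimeSpectrum R) := l.map _ hmono
  have hfl : f ∉ l'.last.asIdeal := by
    have hlast : l'.last = PrimeSpectrum.comap (algebraMap R (Localization.Away f)) l.last :=
      LTSeries.last_map _ _ _
    rw [hlast]
    intro hmem
    have hmem' : algebraMap R (Localization.Away f) f ∈ l.last.asIdeal := hmem
    exact l.last.2.ne_top (Ideal.eq_top_of_isUnit_mem _ hmem'
      (IsLocalization.map_units (Localization.Away f) ⟨f, Submonoid.mem_powers f⟩))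
  obtain ⟨m, hm, hle⟩ := Ideal.exists_le_maximal l'.last.asIdeal l'.last.2.ne_top
  have hfm : f ∈ m := by
    rw [Ideal.jacobson, Ideal.mem_sInf] at hf
    exact hf ⟨bot_le, hm⟩
  have hlt : l'.last < (⟨m, hm.isPrime⟩ : PrimeSpectrum R) := by
    refine lt_of_le_of_ne hle ?_
    intro heq
    apply hfl
    rw [heq]
    exact hfm
  have h1 : ((l'.snoc ⟨m, hm.isPrime⟩ hlt).length : WithBot ℕ∞) ≤ ringKrullDim R :=
    LTSeries.length_le_krullDim _
  rw [hd, RelSeries.snoc_length] at h1
  have h2 : l'.length + 1 ≤ d := by exact_mod_cast h1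
  have h3 : l'.length = l.length := rfl
  omega

/-- `H^d_J(M_f) = 0` for `f` in the Jacobson radical, `d = dim R`. -/
lemma lc_subsingleton_localizedModule_away [IsNoetherianRing R] (J : Ideal R) {d : ℕ}
    (hd : ringKrullDim R = d) (f : R) (hf : f ∈ (⊥ : Ideal R).jacobson)
    (M : Type u) [AddCommGroup M] [Module R M] :
    Subsingleton ((localCohomology J d).obj
      (ModuleCat.of R (LocalizedModule (Submonoid.powers f) M))) := by
  have hdim := ringKrullDim_away_lt hd f hf
  have h1 : Subsingleton (LocCoh.H (J.map (algebraMap R (Localization.Away f))) d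
      (LocalizedModule (Submonoid.powers f) M)) := by
    apply lc_subsingleton_of_supportDim_lt (R := Localization.Away f)
    exact lt_of_le_of_lt (Module.supportDim_le_ringKrullDim _ _) hdim
  obtain ⟨φ, -⟩ := exists_lc_baseChange (R := R) (R' := Localization.Away f) J d
    (LocalizedModule (Submonoid.powers f) M)
  exact φ.symm.injective.subsingleton

/-- one step: from `J ⊔ (f)` to `J`. -/
theorem lc_top_subsingleton_step [IsNoetherianRing R] (J : Ideal R) {e : ℕ}
    (hd : ringKrullDim R = (e + 1 : ℕ)) (f : R) (hf : f ∈ (⊥ : Ideal R).jacobson)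
    (hvan : ∀ (N : Type u) [AddCommGroup N] [Module R N],
      Subsingleton ((localCohomology (J ⊔ Ideal.span {f}) (e + 1)).obj (ModuleCat.of R N)))
    (M : Type u) [AddCommGroup M] [Module R M] :
    Subsingleton ((localCohomology J (e + 1)).obj (ModuleCat.of R M)) := by
  set b : Ideal R := Ideal.span {f} with hb
  -- `b`-torsion modules
  have hfpow : ∀ n : ℕ, ∀ a ∈ b ^ n, ∃ c : R, a = c * f ^ n := by
    intro n a ha
    rw [hb, Ideal.span_singleton_pow, Ideal.mem_span_singleton] at ha
    obtain ⟨c, rfl⟩ := ha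
    exact ⟨c, mul_comm _ _⟩
  have step1 : ∀ (T : Type u) [AddCommGroup T] [Module R T],
      (∀ x : T, ∃ n : ℕ, f ^ n • x = 0) →
      (∀ x : T, ∃ n : ℕ, ∀ a ∈ b ^ n, a • x = 0) := by
    intro T _ _ hT x
    obtain ⟨n, hn⟩ := hT x
    refine ⟨n, fun a ha => ?_⟩
    obtain ⟨c, rfl⟩ := hfpow n a ha
    rw [mul_smul, hn, smul_zero]
  have step1' : ∀ (T : Type u) [AddCommGroup T] [Module R T],
      (∀ x : T, ∃ n : ℕ, f ^ n • x = 0) →
      Subsingleton ((localCohomology J (e + 1)).obj (ModuleCat.of R T)) := by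
    intro T _ _ hT
    have hsurj := HmapOfLE_surjective_of_torsion J b (e + 1) T (step1 T hT)
    have := hvan T
    exact hsurj.subsingleton
  -- the localization map
  let ℓ : M →ₗ[R] LocalizedModule (Submonoid.powers f) M :=
    LocalizedModule.mkLinearMap (Submonoid.powers f) M
  have hSA := sesOfSurjective_shortExact ℓ.rangeRestrict ℓ.surjective_rangeRestrict
  have hSB := sesOfSubmodule_shortExact (LinearMap.range ℓ)
  -- kernel is `f`-torsion
  have hK : ∀ x : LinearMap.ker ℓ.rangeRestrict, ∃ n : ℕ, f ^ n • x = 0 := by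
    rintro ⟨x, hx⟩
    have hx' : ℓ x = 0 := by
      have := congrArg Subtype.val (LinearMap.mem_ker.mp hx)
      exact this
    obtain ⟨⟨_, n, rfl⟩, hc⟩ := (IsLocalizedModule.eq_zero_iff (Submonoid.powers f) ℓ).mp hx'
    refine ⟨n, Subtype.ext ?_⟩
    exact hc
  -- cokernel is `f`-torsion
  have hC : ∀ x : LocalizedModule (Submonoid.powers f) M ⧸ LinearMap.range ℓ,
      ∃ n : ℕ, f ^ n • x = 0 := by
    intro x
    obtain ⟨y, rfl⟩ := Submodule.Quotient.mk_surjective _ x
    induction y using LocalizedModule.induction_on with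
    | h m s =>
      obtain ⟨_, n, rfl⟩ := s
      refine ⟨n, ?_⟩
      rw [← Submodule.Quotient.mk_smul, Submodule.Quotient.mk_eq_zero]
      refine ⟨m, ?_⟩
      show LocalizedModule.mk m 1 = f ^ n • LocalizedModule.mk m ⟨f ^ n, _⟩
      rw [LocalizedModule.smul'_mk, LocalizedModule.mk_eq]
      refine ⟨1, ?_⟩
      simp [Submonoid.smul_def]
  have hMf := lc_subsingleton_localizedModule_away J hd f hf M
  -- `H^{e+1}_J(range ℓ) = 0`
  have hrange : Subsingleton ((localCohomology J (e + 1)).obj (sesOfSubmodule (LinearMap.range ℓ)).X₁) := by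
    refine ⟨fun a c => ?_⟩
    suffices H : ∀ y : (localCohomology J (e + 1)).obj (sesOfSubmodule (LinearMap.range ℓ)).X₁,
        y = 0 by rw [H a, H c]
    intro y
    have : Subsingleton ((localCohomology J (e + 1)).obj (sesOfSubmodule (LinearMap.range ℓ)).X₂) :=
      hMf
    obtain ⟨c, rfl⟩ := lc_exact₁ J hSB e y (Subsingleton.elim _ _)
    obtain ⟨c', rfl⟩ := HmapOfLE_surjective_of_torsion J b e _ (step1 _ hC) c
    have h0 : lcDelta (J ⊔ b) hSB e c' = 0 := by
      have : Subsingleton ((localCohomology (J ⊔ b) (e + 1)).obj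
          (sesOfSubmodule (LinearMap.range ℓ)).X₁) := hvan (LinearMap.range ℓ)
      exact Subsingleton.elim _ _
    have := HmapOfLE_lcDelta (le_sup_left : J ≤ J ⊔ b) hSB e c'
    rw [h0, map_zero] at this
    exact this.symm
  exact lc_subsingleton_X₂ J hSA (e + 1) (step1' _ hK) hrange

/-- If `J ≤ J' ≤ Jac(R)`, `dim R = d` and `H^d_{J'}` vanishes on all modules, then so does
`H^d_J`. -/
theorem lc_top_subsingleton_of_le [IsNoetherianRing R] {J J' : Ideal R} (hJJ' : J ≤ J')
    (hJ' : J' ≤ (⊥ : Ideal R).jacobson) {d : ℕ} (hd : ringKrullDim R = d)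
    (hvan : ∀ (N : Type u) [AddCommGroup N] [Module R N],
      Subsingleton ((localCohomology J' d).obj (ModuleCat.of R N)))
    (M : Type u) [AddCommGroup M] [Module R M] :
    Subsingleton ((localCohomology J d).obj (ModuleCat.of R M)) := by
  classical
  rcases Nat.eq_zero_or_pos d with rfl | hd0
  · -- `d = 0`: the ring is trivial
    have hR : Subsingleton R := by
      by_contra hne
      rw [not_subsingleton_iff_nontrivial] at hne
      obtain ⟨m, hm⟩ := Ideal.exists_maximal R
      have hJm : J' ≤ m := hJ'.trans (by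
        rw [Ideal.jacobson]
        exact sInf_le ⟨bot_le, hm⟩)
      have := hvan (R ⧸ m)
      have hnt : Nontrivial (R ⧸ m) := Ideal.Quotient.nontrivial_iff.mpr hm.ne_top
      obtain ⟨y, hy⟩ := exists_lcH0Map_eq J' (ModuleCat.of R (R ⧸ m)) (1 : R ⧸ m) 1 (by
        intro a ha
        rw [pow_one] at ha
        rw [Algebra.smul_def, mul_one, Ideal.Quotient.algebraMap_eq, Ideal.Quotient.eq_zero_iff_mem]
        exact hJm ha)
      rw [Subsingleton.elim y 0, map_zero] at hy
      exact one_ne_zero hy.symm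
    have : Subsingleton M := Module.subsingleton R M
    exact lc_subsingleton_of_subsingleton J 0 M
  · obtain ⟨e, rfl⟩ : ∃ e, d = e + 1 := ⟨d - 1, by omega⟩
    obtain ⟨s, hs⟩ : J'.FG := IsNoetherian.noetherian J'
    have key : ∀ t : Finset R, (∀ x ∈ t, x ∈ (⊥ : Ideal R).jacobson) →
        (∀ (N : Type u) [AddCommGroup N] [Module R N],
          Subsingleton ((localCohomology (J ⊔ Ideal.span (t : Set R)) (e + 1)).obj
            (ModuleCat.of R N))) →
        ∀ (N : Type u) [AddCommGroup N] [Module R N],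
          Subsingleton ((localCohomology J (e + 1)).obj (ModuleCat.of R N)) := by
      intro t
      induction t using Finset.induction_on with
      | empty =>
        intro _ h N _ _
        have := h N
        simpa using this
      | insert f t hft ih =>
        intro hmem h N _ _
        apply ih (fun x hx => hmem x (Finset.mem_insert_of_mem hx))
        intro N' _ _
        apply lc_top_subsingleton_step (J ⊔ Ideal.span (t : Set R)) hd f
          (hmem f (Finset.mem_insert_self f t))
        intro N'' _ _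
        have := h N''
        have heq : J ⊔ Ideal.span ((insert f t : Finset R) : Set R) =
            J ⊔ Ideal.span (t : Set R) ⊔ Ideal.span {f} := by
          rw [Finset.coe_insert, Ideal.span_insert, sup_assoc, sup_comm (Ideal.span {f})]
        rw [heq] at this
        exact this
    apply key s (fun x hx => hJ' (hs ▸ Ideal.subset_span hx))
    intro N _ _
    have heq : J ⊔ Ideal.span (s : Set R) = J' := by
      rw [hs]; exact sup_eq_right.mpr hJJ'
    rw [heq]
    exact hvan N

end Groth.Agent.Lib.Helper60
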