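import Mathlib
import Groth.Agent.Lib.Helper60.HL3
import Groth.Agent.Lib.Helper60.HL4
import Groth.Agent.Lib.Helper60.NV5
import Groth.Agent.Lib.Helper60.LocalCohCompare
import Groth.Agent.Lib.Helper44.AdicQuot
import Groth.Agent.Lib.Helper55.KrullDimIntegral

/-!
# Hartshorne–Lichtenbaum vanishing: assembly (helper60)
-/

set_option autoImplicit false
set_option linter.unusedSectionVars false
universe u
open CategoryTheory CategoryTheory.Limits Opposite Abelian IsLocalRing Order
open Groth.Agent.Lib.Helper29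
open scoped TensorProduct

namespace Groth.Agent.Lib.Helper60

section quot

variable (A : Type u) [CommRing A] [IsLocalRing A]

theorem isLocalRing_quotient' (J : Ideal A) (hJ : J ≠ ⊤) : IsLocalRing (A ⧸ J) := by
  have : Nontrivial (A ⧸ J) := Ideal.Quotient.nontrivial_iff.mpr hJ
  exact IsLocalRing.of_surjective' (Ideal.Quotient.mk J) Ideal.Quotient.mk_surjective

theorem maximalIdeal_quotient' (J : Ideal A) [IsLocalRing (A ⧸ J)] :
    maximalIdeal (A ⧸ J) = (maximalIdeal A).map (Ideal.Quotient.mk J) := by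
  have hJ : J ≠ ⊤ := Ideal.Quotient.nontrivial_iff.mp inferInstance
  symm
  apply IsLocalRing.eq_maximalIdeal
  exact Ideal.IsMaximal.map_of_surjective_of_ker_le Ideal.Quotient.mk_surjective
    (by rw [Ideal.mk_ker]; exact le_maximalIdeal hJ)

theorem isAdicComplete_quotient' [IsNoetherianRing A] [IsAdicComplete (maximalIdeal A) A]
    (J : Ideal A) [IsLocalRing (A ⧸ J)] : IsAdicComplete (maximalIdeal (A ⧸ J)) (A ⧸ J) := by
  rw [maximalIdeal_quotient']
  exact Groth.Agent.Lib.Helper44.isAdicComplete_quotient_ring (maximalIdeal A) J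

lemma exists_nonmaximal_prime_of_one_le (K : Ideal A) (h : 1 ≤ ringKrullDim (A ⧸ K)) :
    ∃ 𝔮 : Ideal A, 𝔮.IsPrime ∧ K ≤ 𝔮 ∧ 𝔮 ≠ maximalIdeal A := by
  by_contra hcon
  push Not at hcon
  have h0 : Ring.KrullDimLE 0 (A ⧸ K) := by
    refine Ring.KrullDimLE.mk₀ fun J hJ => ?_
    have hP : (J.comap (Ideal.Quotient.mk K)).IsPrime := hJ.comap _
    have h1 : K ≤ J.comap (Ideal.Quotient.mk K) := by
      intro x hx
      rw [Ideal.mem_comap, Ideal.Quotient.eq_zero_iff_mem.mpr hx]
      exact zero_mem _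
    have h3 := hcon _ hP h1
    have h4 : (J.comap (Ideal.Quotient.mk K)).IsMaximal := by
      rw [h3]; infer_instance
    have h5 := Ideal.map_comap_of_surjective (Ideal.Quotient.mk K)
      Ideal.Quotient.mk_surjective J
    rcases Ideal.map_eq_top_or_isMaximal_of_surjective
      (Ideal.Quotient.mk K) Ideal.Quotient.mk_surjective h4 with h | h
    · rw [h5] at h; exact absurd h hJ.ne_top
    · rwa [h5] at h
  rw [Ring.krullDimLE_iff] at h0
  have : (1 : WithBot ℕ∞) ≤ 0 := h.trans (by exact_mod_cast h0)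
  exact absurd this (by decide)

end quot

section domain

/-- **Hartshorne–Lichtenbaum**, complete local domain case. -/
theorem lc_top_subsingleton_of_complete_domain (S : Type u) [CommRing S] [IsDomain S]
    [IsLocalRing S] [IsNoetherianRing S] [IsAdicComplete (maximalIdeal S) S] (d : ℕ)
    (hd : ringKrullDim S = d) (J : Ideal S)
    (hJ : ∃ 𝔮 : Ideal S, 𝔮.IsPrime ∧ J ≤ 𝔮 ∧ 𝔮 ≠ maximalIdeal S)
    (N : Type u) [AddCommGroup N] [Module S N] : Subsingleton (LocCoh.H J d N) := by
  obtain ⟨𝔮₀, h𝔮₀⟩ := hJ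
  obtain ⟨P, hPmem, hPmax⟩ := set_has_maximal_iff_noetherian.mpr
    (inferInstance : IsNoetherian S S)
    {𝔮 : Ideal S | 𝔮.IsPrime ∧ J ≤ 𝔮 ∧ 𝔮 ≠ maximalIdeal S} ⟨𝔮₀, h𝔮₀⟩
  obtain ⟨hP, hJP, hPm⟩ := hPmem
  have hP1 : ∀ 𝔮 : Ideal S, 𝔮.IsPrime → P < 𝔮 → 𝔮 = maximalIdeal S := by
    intro 𝔮 h𝔮 hlt
    by_contra hne
    exact hPmax 𝔮 ⟨h𝔮, hJP.trans hlt.le, hne⟩ hlt
  obtain ⟨A, _, hGA, ψ, hψinj, hψfin, hrad⟩ := exists_gorenstein_subring S P hP1
  let _ : Algebra A S := ψ.toAlgebra
  have hfinAS : Module.Finite A S := hψfin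
  have hintAS : Algebra.IsIntegral A S := Algebra.IsIntegral.of_finite A S
  have hN : IsNoetherianRing A := hGA.toIsNoetherian
  have hL : IsLocalRing A := hGA.toIsLocalRing
  have hdA : ringKrullDim A = d := by
    rw [← hd]
    exact (Groth.Agent.Lib.Helper55.ringKrullDim_eq_of_isIntegral_of_injective A S hψinj).symm
  have hvan : ∀ (N : Type u) [AddCommGroup N] [Module S N],
      Subsingleton ((localCohomology P d).obj (ModuleCat.of S N)) := fun N _ _ =>
    lc_top_subsingleton_of_gorenstein_subring (A := A) P hGA.exists_hasInjectiveDimensionLT d hdA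
      hψinj hP1 hPm hrad N
  have hjac : P ≤ (⊥ : Ideal S).jacobson := by
    rw [IsLocalRing.jacobson_eq_maximalIdeal ⊥ bot_ne_top]
    exact IsLocalRing.le_maximalIdeal hP.ne_top
  exact lc_top_subsingleton_of_le hJP hjac hd hvan N

end domain

section devissage

variable {R : Type u} [CommRing R]

/-- dévissage: top local cohomology vanishes as soon as it vanishes on `R/p` for the
top-dimensional minimal primes `p`. -/
theorem lc_top_subsingleton_of_minimalPrimes [IsNoetherianRing R] (J : Ideal R) {d : ℕ}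
    (hd : ringKrullDim R = d)
    (hmin : ∀ p ∈ minimalPrimes R, ringKrullDim (R ⧸ p) = d →
      Subsingleton ((localCohomology J d).obj (ModuleCat.of R (R ⧸ p))))
    (N : Type u) [AddCommGroup N] [Module R N] :
    Subsingleton ((localCohomology J d).obj (ModuleCat.of R N)) := by
  have hprime : ∀ p : PrimeSpectrum R,
      Subsingleton ((localCohomology J d).obj (ModuleCat.of R (R ⧸ p.asIdeal))) := by
    intro p
    by_cases hlt : ringKrullDim (R ⧸ p.asIdeal) < (d : WithBot ℕ∞)
    · apply lc_subsingleton_of_supportDim_lt J d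
      rwa [Module.supportDim_quotient_eq_ringKrullDim]
    · have hle : ringKrullDim (R ⧸ p.asIdeal) ≤ (d : WithBot ℕ∞) := by
        rw [← hd]; exact ringKrullDim_quotient_le _
      have heq : ringKrullDim (R ⧸ p.asIdeal) = d := le_antisymm hle (not_lt.mp hlt)
      have hminp : p.asIdeal ∈ minimalPrimes R := by
        have h1 : (d : WithBot ℕ∞) ≤ Order.krullDim
            (PrimeSpectrum.zeroLocus (R := R) (p.asIdeal : Set R)) := by
          rw [← ringKrullDim_quotient, heq]
        obtain ⟨l, hl⟩ := le_krullDim_iff.mp h1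
        let l' : LTSeries (PrimeSpectrum R) := l.map Subtype.val (fun _ _ hab => hab)
        have hhead : l'.head = l.head.1 := LTSeries.head_map _ _ _
        obtain ⟨hm, -⟩ := head_minimal_of_length_eq hd l' (le_of_eq hl.symm)
        have hple : p.asIdeal ≤ l'.head.asIdeal := by
          rw [hhead]
          exact (PrimeSpectrum.mem_zeroLocus _ _).mp l.head.2
        have := hm.2 ⟨p.2, bot_le⟩ hple
        rw [le_antisymm hple this]
        exact hm
      exact hmin p.asIdeal hminp heq
  have hfin : ∀ (N : Type u) [AddCommGroup N] [Module R N] [Module.Finite R N],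
      Subsingleton ((localCohomology J d).obj (ModuleCat.of R N)) := by
    intro N _ _ hN
    refine IsNoetherianRing.induction_on_isQuotientEquivQuotientPrime R hN
      (motive := fun N _ _ _ => Subsingleton ((localCohomology J d).obj (ModuleCat.of R N)))
      ?_ ?_ ?_
    · intro N _ _ _ _
      exact lc_subsingleton_of_subsingleton J d N
    · intro N _ _ _ p e
      exact lc_subsingleton_of_linearEquiv J d e.symm (hprime p)
    · intro N₁ _ _ _ N₂ _ _ _ N₃ _ _ _ f g hf hg hfg h1 h3
      exact lc_subsingleton_of_exact J d f g hf hg hfg h1 h3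
  refine ⟨fun a b => ?_⟩
  suffices H : ∀ y : (localCohomology J d).obj (ModuleCat.of R N), y = 0 by rw [H a, H b]
  intro y
  obtain ⟨M₀, hfg, y₀, rfl⟩ := lc_exists_fg J d (ModuleCat.of R N) y
  have : Module.Finite R M₀ := Module.Finite.iff_fg.mpr hfg
  have := hfin M₀
  rw [Subsingleton.elim y₀ 0, map_zero]

end devissage

section complete

/-- **Hartshorne–Lichtenbaum**, complete local case. -/
theorem lc_top_subsingleton_of_complete (S : Type u) [CommRing S] [IsLocalRing S]
    [IsNoetherianRing S] [IsAdicComplete (maximalIdeal S) S] (d : ℕ) (hd : ringKrullDim S = d)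
    (J : Ideal S)
    (h : ∀ p ∈ minimalPrimes S, ringKrullDim (S ⧸ p) = d → 1 ≤ ringKrullDim (S ⧸ (J ⊔ p)))
    (N : Type u) [AddCommGroup N] [Module S N] : Subsingleton (LocCoh.H J d N) := by
  apply lc_top_subsingleton_of_minimalPrimes J hd ?_ N
  intro p hpmin hpdim
  have hp : p.IsPrime := hpmin.1.1
  have hTloc : IsLocalRing (S ⧸ p) := isLocalRing_quotient' S p hp.ne_top
  have hTcomp : IsAdicComplete (maximalIdeal (S ⧸ p)) (S ⧸ p) := isAdicComplete_quotient' S p
  have hTdom : IsDomain (S ⧸ p) := Ideal.Quotient.isDomain p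
  obtain ⟨𝔮, h𝔮prime, h𝔮le, h𝔮ne⟩ := exists_nonmaximal_prime_of_one_le S (J ⊔ p) (h p hpmin hpdim)
  have hp𝔮 : p ≤ 𝔮 := le_sup_right.trans h𝔮le
  have hker : RingHom.ker (Ideal.Quotient.mk p) ≤ 𝔮 := by rw [Ideal.mk_ker]; exact hp𝔮
  have h𝔮'prime : (𝔮.map (Ideal.Quotient.mk p)).IsPrime :=
    Ideal.map_isPrime_of_surjective Ideal.Quotient.mk_surjective hker
  have h𝔮'comap : (𝔮.map (Ideal.Quotient.mk p)).comap (Ideal.Quotient.mk p) = 𝔮 := by
    rw [Ideal.comap_map_of_surjective _ Ideal.Quotient.mk_surjective, ← RingHom.ker_eq_comap_bot]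
    exact sup_eq_left.mpr hker
  have hJ' : J.map (algebraMap S (S ⧸ p)) ≤ 𝔮.map (Ideal.Quotient.mk p) :=
    Ideal.map_mono (le_sup_left.trans h𝔮le)
  have h𝔮'ne : 𝔮.map (Ideal.Quotient.mk p) ≠ maximalIdeal (S ⧸ p) := by
    intro heq
    apply h𝔮ne
    rw [← h𝔮'comap, heq]
    have : ((maximalIdeal (S ⧸ p)).comap (Ideal.Quotient.mk p)).IsMaximal :=
      Ideal.comap_isMaximal_of_surjective _ Ideal.Quotient.mk_surjective
    exact IsLocalRing.eq_maximalIdeal this
  have hvan := lc_top_subsingleton_of_complete_domain (S ⧸ p) d hpdim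
    (J.map (algebraMap S (S ⧸ p))) ⟨_, h𝔮'prime, hJ', h𝔮'ne⟩ (S ⧸ p)
  obtain ⟨φ, -⟩ := exists_lc_baseChange (R := S) (R' := S ⧸ p) J d (S ⧸ p)
  exact φ.symm.toEquiv.subsingleton

end complete

section final

/-- **Hartshorne–Lichtenbaum vanishing theorem**. -/
theorem hartshorne_lichtenbaum (R : Type u) [CommRing R] [IsLocalRing R] [IsNoetherianRing R]
    (I : Ideal R) (d : ℕ) (hd : ringKrullDim R = d)
    (h : ∀ p ∈ minimalPrimes (AdicCompletion (maximalIdeal R) R),
      ringKrullDim (AdicCompletion (maximalIdeal R) R ⧸ p) = d →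
      1 ≤ ringKrullDim (AdicCompletion (maximalIdeal R) R ⧸
        (I.map (algebraMap R (AdicCompletion (maximalIdeal R) R)) ⊔ p)))
    (M : Type u) [AddCommGroup M] [Module R M] (i : ℕ) (hi : d ≤ i) :
    Subsingleton (LocCoh.H I i M) := by
  rcases Nat.lt_or_eq_of_le hi with hlt | rfl
  · apply lc_subsingleton_of_supportDim_lt I i M
    refine lt_of_le_of_lt ((Module.supportDim_le_ringKrullDim R _).trans hd.le) ?_
    exact_mod_cast hlt
  have hI : maximalIdeal R ≠ ⊤ := Ideal.IsPrime.ne_top inferInstance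
  have hloc : IsLocalRing (AdicCompletion (maximalIdeal R) R) :=
    isLocalRing_adicCompletion R _ hI
  have hN : IsNoetherianRing (AdicCompletion (maximalIdeal R) R) := Groth.Agent.S0543.result R _
  have hmax := maximalIdeal_adicCompletion_eq_map R _ hI
  have hdim := (ringKrullDim_adicCompletion_eq_and_isRegularLocalRing_iff R _ hI).1
  have hcomp : IsAdicComplete (maximalIdeal (AdicCompletion (maximalIdeal R) R))
      (AdicCompletion (maximalIdeal R) R) := by
    rw [hmax]
    exact AdicCompletion.isAdicComplete_self _ (IsNoetherian.noetherian _)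
  have hvanS := lc_top_subsingleton_of_complete (AdicCompletion (maximalIdeal R) R) d
    (hdim.trans hd) (I.map (algebraMap R (AdicCompletion (maximalIdeal R) R))) h
  -- faithful flatness
  have hlochom : IsLocalHom (algebraMap R (AdicCompletion (maximalIdeal R) R)) := by
    refine ⟨fun a ha => ?_⟩
    by_contra hna
    have ham : a ∈ maximalIdeal R := (IsLocalRing.mem_maximalIdeal a).mpr hna
    have : algebraMap R (AdicCompletion (maximalIdeal R) R) a ∈
        maximalIdeal (AdicCompletion (maximalIdeal R) R) := by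
      rw [hmax]; exact Ideal.mem_map_of_mem _ ham
    exact (IsLocalRing.mem_maximalIdeal _).mp this ha
  have hff : Module.FaithfullyFlat R (AdicCompletion (maximalIdeal R) R) :=
    Module.FaithfullyFlat.of_flat_of_isLocalHom
  obtain ⟨e⟩ := nonempty_lc_flatBaseChange (R := R) (R' := AdicCompletion (maximalIdeal R) R)
    I d R
  have h2 : Subsingleton (AdicCompletion (maximalIdeal R) R ⊗[R] LocCoh.H I d R) := by
    have := hvanS (AdicCompletion (maximalIdeal R) R ⊗[R] R)
    exact e.toEquiv.subsingleton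
  have hvanR : Subsingleton (LocCoh.H I d R) :=
    Module.FaithfullyFlat.lTensor_reflects_triviality R (AdicCompletion (maximalIdeal R) R) _
  have hsupp : ∀ p ∈ minimalPrimes R, ringKrullDim (R ⧸ p) = d → ∀ hp : p.IsPrime,
      (⟨p, hp⟩ : PrimeSpectrum R) ∈ Module.support R R := by
    intro p _ _ hp
    rw [Module.support_of_algebra, PrimeSpectrum.mem_zeroLocus]
    intro x hx
    have hx' : algebraMap R R x = 0 := hx
    have hx'' : x = 0 := hx'
    rw [hx'']
    exact zero_mem _
  exact lc_top_subsingleton_of_support I hd R hsupp hvanR M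

end final

end Groth.Agent.Lib.Helper60
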