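import Groth.Agent.Lib.Helper60.NV10
import Groth.Agent.Lib.Helper60.LocalCohCd

set_option autoImplicit false
universe u
open CategoryTheory CategoryTheory.Limits Opposite Abelian RingTheory.Sequence IsLocalRing
open Groth.Agent.Lib.Helper29
open scoped TensorProduct

namespace Groth.Agent.Lib.Helper60

section bc

/-- flat base change of vanishing: `H^i_I(R) = 0 ⟹ H^i_{IR'}(R') = 0`. -/
theorem lc_self_subsingleton_baseChange {R : Type u} [CommRing R] [IsNoetherianRing R]
    {R' : Type u} [CommRing R'] [Algebra R R'] [Module.Flat R R'] [IsNoetherianRing R']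
    (I : Ideal R) (i : ℕ) (h : Subsingleton (LocCoh.H I i R)) :
    Subsingleton (LocCoh.H (I.map (algebraMap R R')) i R') := by
  obtain ⟨φ⟩ := nonempty_lc_flatBaseChange (R' := R') I i R
  have h2 : Subsingleton (R' ⊗[R] LocCoh.H I i R) := by
    refine ⟨fun a b => ?_⟩
    have key : ∀ c : R' ⊗[R] LocCoh.H I i R, c = 0 := by
      intro c
      induction c using TensorProduct.induction_on with
      | zero => rfl
      | tmul x y => rw [Subsingleton.elim y 0, TensorProduct.tmul_zero]
      | add x y hx hy => rw [hx, hy, add_zero]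
    rw [key a, key b]
  have h3 : Subsingleton (LocCoh.H (I.map (algebraMap R R')) i (R' ⊗[R] R)) :=
    φ.symm.toEquiv.subsingleton
  let r := TensorProduct.AlgebraTensorModule.rid R R' R'
  exact ((localCohomology (I.map (algebraMap R R')) i).mapIso
      r.toModuleIso).toLinearEquiv.symm.toEquiv.subsingleton

end bc

section rad

lemma radical_eq_maximalIdeal_of_ringKrullDim_quotient_lt_one {S : Type*} [CommRing S]
    [IsLocalRing S] (J : Ideal S) (hJ : J ≠ ⊤) (h : ringKrullDim (S ⧸ J) < 1) :
    J.radical = maximalIdeal S := by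
  have h0 : Ring.KrullDimLE 0 (S ⧸ J) := by
    rw [Ring.krullDimLE_iff]
    exact Order.le_of_lt_succ h
  have hmax := Ideal.krullDimLE_zero_quotient_iff_forall_minimalPrimes_isMaximal.mp h0
  rw [← Ideal.sInf_minimalPrimes]
  apply le_antisymm
  · obtain ⟨p, hp⟩ := Ideal.nonempty_minimalPrimes hJ
    have := hmax p hp
    rw [← IsLocalRing.eq_maximalIdeal this]
    exact sInf_le hp
  · apply le_sInf
    intro p hp
    rw [IsLocalRing.eq_maximalIdeal (hmax p hp)]

end rad

section LH

variable (R : Type u) [CommRing R] [IsNoetherianRing R] [IsLocalRing R]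

/-- the easy half of the Lichtenbaum–Hartshorne vanishing theorem. -/
theorem one_le_ringKrullDim_of_lc_top_subsingleton (n : ℕ) (hn : ringKrullDim R = n)
    (a : Ideal R) (ha : a ≠ ⊤) (hvan : Subsingleton (LocCoh.H a n R))
    (P : Ideal (AdicCompletion (maximalIdeal R) R)) [P.IsPrime]
    (hP : ringKrullDim ((AdicCompletion (maximalIdeal R) R) ⧸ P) = n) :
    1 ≤ ringKrullDim ((AdicCompletion (maximalIdeal R) R) ⧸
      (a.map (algebraMap R (AdicCompletion (maximalIdeal R) R)) ⊔ P)) := by
  have hI : maximalIdeal R ≠ ⊤ := Ideal.IsPrime.ne_top inferInstance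
  have hloc : IsLocalRing (AdicCompletion (maximalIdeal R) R) :=
    isLocalRing_adicCompletion R _ hI
  have hN : IsNoetherianRing (AdicCompletion (maximalIdeal R) R) := Groth.Agent.S0543.result R _
  have hmax := maximalIdeal_adicCompletion_eq_map R _ hI
  have hdim := (ringKrullDim_adicCompletion_eq_and_isRegularLocalRing_iff R _ hI).1
  have hvan' := lc_self_subsingleton_baseChange (R' := AdicCompletion (maximalIdeal R) R) a n hvan
  set S := AdicCompletion (maximalIdeal R) R with hS
  set b := a.map (algebraMap R S) with hb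
  have hble : b ≤ maximalIdeal S := by
    rw [hmax]
    exact Ideal.map_mono (IsLocalRing.le_maximalIdeal ha)
  have hPle : P ≤ maximalIdeal S := IsLocalRing.le_maximalIdeal (Ideal.IsPrime.ne_top inferInstance)
  have hbP : b ⊔ P ≠ ⊤ := by
    intro h
    have : b ⊔ P ≤ maximalIdeal S := sup_le hble hPle
    rw [h] at this
    exact (Ideal.IsPrime.ne_top (inferInstance : (maximalIdeal S).IsPrime)) (top_le_iff.mp this)
  have hbtop : b ≠ ⊤ := by
    intro h
    apply hbP
    rw [h, top_sup_eq]
  by_contra hcon
  rw [not_le] at hcon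
  have hrad := radical_eq_maximalIdeal_of_ringKrullDim_quotient_lt_one (b ⊔ P) hbP hcon
  rw [sup_comm] at hrad
  have hnt := lc_quotient_prime_nontrivial S b hbtop P hrad n hP
  -- the short exact sequence `0 → P → S → S/P → 0`
  have hSa := sesOfSurjective_shortExact (Submodule.mkQ P) (Submodule.mkQ_surjective P)
  have hGV : Subsingleton ((localCohomology b (n + 1)).obj (sesOfSurjective (Submodule.mkQ P)).X₁) := by
    apply lc_subsingleton_of_supportDim_lt b (n + 1)
    refine lt_of_le_of_lt ((Module.supportDim_le_ringKrullDim S _).trans (hdim.trans hn).le) ?_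
    exact_mod_cast Nat.lt_succ_self n
  have h3 : Subsingleton (LocCoh.H b n (S ⧸ P)) :=
    lc_subsingleton_X₃ b hSa n hvan' hGV
  exact not_subsingleton _ h3

end LH

end Groth.Agent.Lib.Helper60
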