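import Mathlib
import Groth.Agent.Lib.Helper60.HL5
import Groth.Agent.Lib.Helper60.MayerVietorisLC
import Groth.Agent.Lib.Helper60.LocalCohSum
import Groth.Agent.Lib.Helper60.LocalCohPrincipal
import Groth.Agent.Lib.Helper60.NV11

/-!
# Connectedness bound for complete local domains (helper60)
-/

set_option autoImplicit false
set_option linter.unusedSectionVars false
universe u
open CategoryTheory CategoryTheory.Limits Opposite Abelian IsLocalRing Order
open Groth.Agent.Lib.Helper29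

namespace Groth.Agent.Lib.Helper60

section dim

variable {R : Type u} [CommRing R] [IsNoetherianRing R]

lemma krullDim_congr_set {α : Type*} [Preorder α] {s t : Set α} (h : s = t) :
    Order.krullDim s = Order.krullDim t := by subst h; rfl

lemma supportDim_quotSMulTop_quotient (𝔠 : Ideal R) (x : R) :
    Module.supportDim R (QuotSMulTop x (R ⧸ 𝔠)) = ringKrullDim (R ⧸ (𝔠 ⊔ Ideal.span {x})) := by
  rw [← Module.supportDim_quotient_eq_ringKrullDim]
  unfold Module.supportDim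
  apply krullDim_congr_set
  rw [Module.support_quotSMulTop, Module.support_eq_zeroLocus, Module.support_eq_zeroLocus,
    Ideal.annihilator_quotient, Ideal.annihilator_quotient, PrimeSpectrum.zeroLocus_sup,
    PrimeSpectrum.zeroLocus_span]

lemma ringKrullDim_quotient_le_sup_span_add_one [IsLocalRing R] (𝔠 : Ideal R) {x : R}
    (hx : x ∈ maximalIdeal R) :
    ringKrullDim (R ⧸ 𝔠) ≤ ringKrullDim (R ⧸ (𝔠 ⊔ Ideal.span {x})) + 1 := by
  rw [← supportDim_quotSMulTop_quotient, ← Module.supportDim_quotient_eq_ringKrullDim]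
  exact Module.supportDim_le_supportDim_quotSMulTop_succ hx

lemma ringKrullDim_quotient_sup_span_add_one_le (𝔠 : Ideal R) {x : R}
    (hx : ∀ p ∈ 𝔠.minimalPrimes, x ∉ p) :
    ringKrullDim (R ⧸ (𝔠 ⊔ Ideal.span {x})) + 1 ≤ ringKrullDim (R ⧸ 𝔠) := by
  rw [← supportDim_quotSMulTop_quotient, ← Module.supportDim_quotient_eq_ringKrullDim]
  apply Module.supportDim_quotSMulTop_succ_le_of_notMem_minimalPrimes
  rw [Ideal.annihilator_quotient]
  exact hx

end dim

section cd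

variable {R : Type u} [CommRing R]

lemma radical_inf_sup_eq (a b s : Ideal R) :
    ((a ⊔ s) ⊓ (b ⊔ s)).radical = ((a ⊓ b) ⊔ s).radical := by
  apply le_antisymm
  · rw [Ideal.radical_le_radical_iff]
    intro z hz
    refine ⟨2, ?_⟩
    rw [pow_two]
    have h1 : z * z ∈ (a ⊔ s) * (b ⊔ s) := Ideal.mul_mem_mul hz.1 hz.2
    have h2 : (a ⊔ s) * (b ⊔ s) ≤ (a ⊓ b) ⊔ s := by
      rw [Ideal.mul_le]
      intro r hr t ht
      obtain ⟨r1, hr1, r2, hr2, rfl⟩ := Submodule.mem_sup.mp hr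
      obtain ⟨t1, ht1, t2, ht2, rfl⟩ := Submodule.mem_sup.mp ht
      have : (r1 + r2) * (t1 + t2) = r1 * t1 + (r1 * t2 + r2 * (t1 + t2)) := by ring
      rw [this]
      refine Submodule.add_mem_sup ⟨Ideal.mul_mem_right _ _ hr1, Ideal.mul_mem_left _ _ ht1⟩ ?_
      exact add_mem (Ideal.mul_mem_left _ _ ht2) (Ideal.mul_mem_right _ _ hr2)
    exact h2 h1
  · apply Ideal.radical_mono
    exact le_inf (sup_le_sup_right inf_le_left _) (sup_le_sup_right inf_le_right _)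

lemma cdLE_of_radical_eq [IsNoetherianRing R] {J J' : Ideal R} (h : J.radical = J'.radical) {k : ℕ}
    (hk : LocCoh.CdLE R J k) : LocCoh.CdLE R J' k := by
  intro M _ _ i hi
  have := hk M i hi
  exact ((localCohomology.isoOfSameRadical h i).app
    (ModuleCat.of R M)).toLinearEquiv.toEquiv.symm.subsingleton

lemma cdLE_sup_span_singleton [IsNoetherianRing R] (J : Ideal R) (x : R) {k : ℕ}
    (hk : LocCoh.CdLE R J k) : LocCoh.CdLE R (J ⊔ Ideal.span {x}) (k + 1) := by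
  intro M _ _ n hn
  have hI : ∀ (N : Type u) [AddCommGroup N] [Module R N] (p : ℕ), 1 < p →
      Subsingleton ((localCohomology (Ideal.span {x}) p).obj (ModuleCat.of R N)) :=
    fun N _ _ p hp => lc_subsingleton_of_principal x p hp N
  have := lc_sup_subsingleton (Ideal.span {x}) J 1 hI k M (fun q hq => hk M q hq) n (by omega)
  rw [sup_comm]
  exact this

end cd

section main

variable (R : Type u) [CommRing R] [IsDomain R] [IsNoetherianRing R] [IsLocalRing R]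
  [IsAdicComplete (maximalIdeal R) R]

lemma exists_nat_ringKrullDim_quotient (J : Ideal R) (hJ : J ≠ ⊤) :
    ∃ d : ℕ, ringKrullDim (R ⧸ J) = d := by
  have : Nontrivial (R ⧸ J) := Ideal.Quotient.nontrivial_iff.mpr hJ
  have : IsLocalRing (R ⧸ J) :=
    IsLocalRing.of_surjective' (Ideal.Quotient.mk J) Ideal.Quotient.mk_surjective
  have h1 : ringKrullDim (R ⧸ J) ≠ ⊤ := ringKrullDim_ne_top
  have h2 : ringKrullDim (R ⧸ J) ≠ ⊥ := ringKrullDim_ne_bot
  obtain ⟨e, he⟩ := WithBot.ne_bot_iff_exists.mp h2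
  have h3 : e ≠ ⊤ := by
    rintro rfl
    exact h1 he.symm
  refine ⟨e.toNat, ?_⟩
  rw [← he]
  have h4 : ((e.toNat : ℕ) : ℕ∞) = e := ENat.natCast_toNat h3
  exact (congrArg (fun z : ℕ∞ => (z : WithBot ℕ∞)) h4).symm

/-- base case: `a + b` is `m`-primary. -/
theorem connectedness_bound_base (n : ℕ) (hn : ringKrullDim R = n) (a b : Ideal R) (ha : a ≠ ⊤)
    (hb : b ≠ ⊤) (h0 : ringKrullDim (R ⧸ (a ⊔ b)) = 0)
    (ha1 : 1 ≤ ringKrullDim (R ⧸ a)) (hb1 : 1 ≤ ringKrullDim (R ⧸ b)) (k : ℕ)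
    (hk : LocCoh.CdLE R (a ⊓ b) k) : n ≤ k + 1 := by
  by_contra hcon
  push Not at hcon
  obtain ⟨i, rfl⟩ : ∃ i, n = i + 1 := ⟨n - 1, by omega⟩
  have hki : k < i := by omega
  have hva : Subsingleton (LocCoh.H a (i + 1) R) :=
    lc_top_subsingleton_of_complete_domain R (i + 1) hn a
      (exists_nonmaximal_prime_of_one_le R a ha1) R
  have hvb : Subsingleton (LocCoh.H b (i + 1) R) :=
    lc_top_subsingleton_of_complete_domain R (i + 1) hn b
      (exists_nonmaximal_prime_of_one_le R b hb1) R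
  have habtop : a ⊔ b ≠ ⊤ := by
    intro h
    have : a ⊔ b ≤ maximalIdeal R := sup_le (le_maximalIdeal ha) (le_maximalIdeal hb)
    rw [h] at this
    exact (Ideal.IsPrime.ne_top (inferInstance : (maximalIdeal R).IsPrime)) (top_le_iff.mp this)
  have hrad : (a ⊔ b).radical = maximalIdeal R :=
    radical_eq_maximalIdeal_of_ringKrullDim_quotient_lt_one (a ⊔ b) habtop (by
      rw [h0]; exact zero_lt_one)
  have hrad' : (a ⊔ b).radical = (maximalIdeal R).radical := by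
    rw [hrad, (Ideal.IsPrime.radical inferInstance)]
  have hnt : Nontrivial (LocCoh.H (maximalIdeal R) (i + 1) R) := lc_top_nontrivial R (i + 1) hn
  have hnt' : Nontrivial (LocCoh.H (a ⊔ b) (i + 1) R) :=
    ((localCohomology.isoOfSameRadical hrad' (i + 1)).app
      (ModuleCat.of R R)).toLinearEquiv.toEquiv.nontrivial
  obtain ⟨w, hw⟩ := exists_ne (0 : LocCoh.H (a ⊔ b) (i + 1) R)
  have hsub : Subsingleton (LocCoh.H (a ⊓ b) i R) := hk R i hki
  obtain ⟨x, hx⟩ := (MV.exact_at_sup a b (ModuleCat.of R R) i w).mp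
    ⟨Subsingleton.elim _ _, Subsingleton.elim _ _⟩
  apply hw
  rw [← hx, Subsingleton.elim x 0, map_zero]

lemma exists_mem_maximalIdeal_notMem_minimalPrimes_ideal (𝔠 : Ideal R)
    (h1 : 1 ≤ ringKrullDim (R ⧸ 𝔠)) :
    ∃ x ∈ maximalIdeal R, ∀ p ∈ 𝔠.minimalPrimes, x ∉ p := by
  classical
  have hfin := Ideal.finite_minimalPrimes_of_isNoetherianRing R 𝔠
  by_contra hcon
  push Not at hcon
  have hsub : (maximalIdeal R : Set R) ⊆ ⋃ p ∈ hfin.toFinset, (p : Set R) := by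
    intro y hy
    obtain ⟨p, hp, hyp⟩ := hcon y hy
    simp only [Set.mem_iUnion]
    exact ⟨p, by rwa [Set.Finite.mem_toFinset], hyp⟩
  have hprimes : ∀ K ∈ hfin.toFinset, K ≠ (⊥ : Ideal R) → K ≠ (⊥ : Ideal R) → K.IsPrime := by
    rintro K hK - -
    rw [Set.Finite.mem_toFinset] at hK
    exact hK.1.1
  obtain ⟨p, hp, hle⟩ := (Ideal.subset_union_prime (s := hfin.toFinset)
    (f := fun K : Ideal R => K) ⊥ ⊥ hprimes).mp hsub
  rw [Set.Finite.mem_toFinset] at hp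
  obtain ⟨𝔮, h𝔮, hle𝔮, hne𝔮⟩ := exists_nonmaximal_prime_of_one_le R 𝔠 h1
  have hpm : p = maximalIdeal R := le_antisymm (le_maximalIdeal hp.1.1.ne_top) hle
  have h2 : p ≤ 𝔮 := hp.2 ⟨h𝔮, hle𝔮⟩ (hpm ▸ le_maximalIdeal h𝔮.ne_top)
  exact hne𝔮 (le_antisymm (le_maximalIdeal h𝔮.ne_top) (hpm ▸ h2))

theorem connectedness_bound_aux (n : ℕ) (hn : ringKrullDim R = n) :
    ∀ (d : ℕ) (a b : Ideal R) (k : ℕ), a ≠ ⊤ → b ≠ ⊤ → ringKrullDim (R ⧸ (a ⊔ b)) = d →
      (d : WithBot ℕ∞) < ringKrullDim (R ⧸ a) → (d : WithBot ℕ∞) < ringKrullDim (R ⧸ b) →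
      LocCoh.CdLE R (a ⊓ b) k → n ≤ k + d + 1 := by
  intro d
  induction d with
  | zero =>
    intro a b k ha hb h0 hda hdb hk
    have h0' : ringKrullDim (R ⧸ (a ⊔ b)) = 0 := by rw [h0]; rfl
    have hpos : ∀ 𝔠 : Ideal R, 𝔠 ≠ ⊤ → ((0 : ℕ) : WithBot ℕ∞) < ringKrullDim (R ⧸ 𝔠) →
        1 ≤ ringKrullDim (R ⧸ 𝔠) := by
      intro 𝔠 h𝔠 hlt
      obtain ⟨e0, he0⟩ := exists_nat_ringKrullDim_quotient R 𝔠 h𝔠
      rw [he0] at hlt ⊢
      have : 0 < e0 := by exact_mod_cast hlt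
      exact_mod_cast this
    have ha1 : 1 ≤ ringKrullDim (R ⧸ a) := hpos a ha hda
    have hb1 : 1 ≤ ringKrullDim (R ⧸ b) := hpos b hb hdb
    have := connectedness_bound_base R n hn a b ha hb h0' ha1 hb1 k hk
    omega
  | succ d ih =>
    intro a b k ha hb hd hda hdb hk
    have hab : a ⊔ b ≠ ⊤ := by
      intro h
      have : a ⊔ b ≤ maximalIdeal R := sup_le (le_maximalIdeal ha) (le_maximalIdeal hb)
      rw [h] at this
      exact (Ideal.IsPrime.ne_top (inferInstance : (maximalIdeal R).IsPrime))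
        (top_le_iff.mp this)
    have h1 : 1 ≤ ringKrullDim (R ⧸ (a ⊔ b)) := by
      rw [hd]
      exact_mod_cast Nat.succ_le_succ (Nat.zero_le d)
    obtain ⟨x, hxm, hx⟩ := exists_mem_maximalIdeal_notMem_minimalPrimes_ideal R (a ⊔ b) h1
    have hsm : Ideal.span {x} ≤ maximalIdeal R := by
      rw [Ideal.span_le]; intro y hy; rw [Set.mem_singleton_iff.mp hy]; exact hxm
    have hne : ∀ 𝔠 : Ideal R, 𝔠 ≠ ⊤ → 𝔠 ⊔ Ideal.span {x} ≠ ⊤ := by
      intro 𝔠 h𝔠 h
      have : 𝔠 ⊔ Ideal.span {x} ≤ maximalIdeal R := sup_le (le_maximalIdeal h𝔠) hsm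
      rw [h] at this
      exact (Ideal.IsPrime.ne_top (inferInstance : (maximalIdeal R).IsPrime))
        (top_le_iff.mp this)
    have hsup : (a ⊔ Ideal.span {x}) ⊔ (b ⊔ Ideal.span {x}) = (a ⊔ b) ⊔ Ideal.span {x} := by
      rw [sup_sup_sup_comm, sup_idem]
    have hd' : ringKrullDim (R ⧸ ((a ⊔ Ideal.span {x}) ⊔ (b ⊔ Ideal.span {x}))) = d := by
      rw [hsup]
      have h1 := ringKrullDim_quotient_le_sup_span_add_one (a ⊔ b) hxm
      have h2 := ringKrullDim_quotient_sup_span_add_one_le (a ⊔ b) hx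
      obtain ⟨e, he⟩ := exists_nat_ringKrullDim_quotient R ((a ⊔ b) ⊔ Ideal.span {x}) (hne _ hab)
      rw [hd, he] at h1 h2
      rw [he]
      have h1' : d + 1 ≤ e + 1 := by exact_mod_cast h1
      have h2' : e + 1 ≤ d + 1 := by exact_mod_cast h2
      have : e = d := by omega
      rw [this]
    have hdrop : ∀ 𝔠 : Ideal R, 𝔠 ≠ ⊤ → ((d + 1 : ℕ) : WithBot ℕ∞) < ringKrullDim (R ⧸ 𝔠) →
        (d : WithBot ℕ∞) < ringKrullDim (R ⧸ (𝔠 ⊔ Ideal.span {x})) := by
      intro 𝔠 h𝔠 hlt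
      have h1 := ringKrullDim_quotient_le_sup_span_add_one 𝔠 hxm
      obtain ⟨e, he⟩ := exists_nat_ringKrullDim_quotient R (𝔠 ⊔ Ideal.span {x}) (hne _ h𝔠)
      obtain ⟨e0, he0⟩ := exists_nat_ringKrullDim_quotient R 𝔠 h𝔠
      rw [he, he0] at h1
      rw [he0] at hlt
      rw [he]
      have h1' : e0 ≤ e + 1 := by exact_mod_cast h1
      have h2' : d + 1 < e0 := by exact_mod_cast hlt
      exact_mod_cast (by omega : d < e)
    have hk' : LocCoh.CdLE R ((a ⊔ Ideal.span {x}) ⊓ (b ⊔ Ideal.span {x})) (k + 1) :=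
      cdLE_of_radical_eq (radical_inf_sup_eq a b (Ideal.span {x})).symm
        (cdLE_sup_span_singleton (a ⊓ b) x hk)
    have := ih (a ⊔ Ideal.span {x}) (b ⊔ Ideal.span {x}) (k + 1) (hne a ha) (hne b hb) hd'
      (hdrop a ha hda) (hdrop b hb hdb) hk'
    omega

end main

end Groth.Agent.Lib.Helper60
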