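import Mathlib
import Groth.Agent.Lib.Helper60.CB1
import Groth.Agent.Lib.Helper60.LocalCohAra

/-!
# Connectedness of punctured spectra in complete local domains (helper60)
-/

set_option autoImplicit false
set_option linter.unusedSectionVars false
universe u
open CategoryTheory CategoryTheory.Limits Opposite Abelian IsLocalRing Order
open Groth.Agent.Lib.Helper29

namespace Groth.Agent.Lib.Helper60

section aux

variable (R : Type u) [CommRing R] [IsLocalRing R]

lemma one_le_ringKrullDim_quotient_of_nonmaximal_prime (a : Ideal R) (p : Ideal R) [hp : p.IsPrime]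
    (hap : a ≤ p) (hpm : p ≠ maximalIdeal R) : 1 ≤ ringKrullDim (R ⧸ a) := by
  by_contra hcon
  rw [not_le] at hcon
  have hatop : a ≠ ⊤ := fun h => hp.ne_top (top_le_iff.mp (h ▸ hap))
  have hrad := radical_eq_maximalIdeal_of_ringKrullDim_quotient_lt_one a hatop hcon
  have h1 : maximalIdeal R ≤ p := by
    rw [← hrad]
    exact (hp.radical_le_iff).mpr hap
  exact hpm (le_antisymm (le_maximalIdeal hp.ne_top) h1)

lemma cdLE_span_range [IsNoetherianRing R] {t : ℕ} (f : Fin t → R) :
    LocCoh.CdLE R (Ideal.span (Set.range f)) t := by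
  classical
  intro M _ _ i hi
  have h1 : (Finset.univ.image f).card < i :=
    lt_of_le_of_lt (Finset.card_image_le.trans (by simp)) hi
  have := lc_subsingleton_of_card_lt M (Finset.univ.image f) i h1
  rw [Finset.coe_image, Finset.coe_univ, Set.image_univ] at this
  exact this

end aux

section main

variable (R : Type u) [CommRing R] [IsDomain R] [IsNoetherianRing R] [IsLocalRing R]
  [IsAdicComplete (maximalIdeal R) R]

theorem isConnected_punctured (d : ℕ) (hd : ringKrullDim R = d) (t : ℕ) (ht : t + 2 ≤ d)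
    (f : Fin t → R) (I : Ideal R) (hItop : I ≠ ⊤)
    (hI : I.radical = (Ideal.span (Set.range f)).radical) :
    _root_.IsConnected {x : PrimeSpectrum R | I ≤ x.asIdeal ∧ x.asIdeal ≠ maximalIdeal R} := by
  have hcdI : LocCoh.CdLE R I t := cdLE_of_radical_eq hI.symm (cdLE_span_range R f)
  constructor
  · -- nonempty
    by_contra hemp
    rw [Set.not_nonempty_iff_eq_empty] at hemp
    have hrad : I.radical = maximalIdeal R := by
      apply le_antisymm
      · exact (Ideal.IsPrime.radical_le_iff inferInstance).mpr (le_maximalIdeal hItop)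
      · rw [Ideal.radical_eq_sInf]
        refine le_sInf ?_
        rintro 𝔮 ⟨hle, h𝔮⟩
        by_contra hne
        have hne' : 𝔮 ≠ maximalIdeal R := fun h => hne h.ge
        have : (⟨𝔮, h𝔮⟩ : PrimeSpectrum R) ∈
            {x : PrimeSpectrum R | I ≤ x.asIdeal ∧ x.asIdeal ≠ maximalIdeal R} := ⟨hle, hne'⟩
        rw [hemp] at this
        exact this
    have hrad' : I.radical = (maximalIdeal R).radical := by
      rw [hrad, (Ideal.IsPrime.radical inferInstance)]
    have hnt : Nontrivial (LocCoh.H (maximalIdeal R) d R) := lc_top_nontrivial R d hd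
    have hsub : Subsingleton (LocCoh.H (maximalIdeal R) d R) :=
      cdLE_of_radical_eq hrad' hcdI R d (by omega)
    exact not_subsingleton _ hsub
  · rw [isPreconnected_closed_iff]
    intro Z Z' hZ hZ' hsub hne hne'
    obtain ⟨a0, rfl⟩ := (PrimeSpectrum.isClosed_iff_zeroLocus_ideal Z).mp hZ
    obtain ⟨b0, rfl⟩ := (PrimeSpectrum.isClosed_iff_zeroLocus_ideal Z').mp hZ'
    obtain ⟨p, ⟨hpI, hpm⟩, hpa⟩ := hne
    obtain ⟨q, ⟨hqI, hqm⟩, hqb⟩ := hne'
    rw [PrimeSpectrum.mem_zeroLocus, SetLike.coe_subset_coe] at hpa hqb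
    by_contra hcon
    rw [Set.not_nonempty_iff_eq_empty] at hcon
    -- the ideals `a`, `b`
    have hap : a0 ⊔ I ≤ p.asIdeal := sup_le hpa hpI
    have hbq : b0 ⊔ I ≤ q.asIdeal := sup_le hqb hqI
    have ha : a0 ⊔ I ≠ ⊤ := fun h => p.2.ne_top (top_le_iff.mp (h ▸ hap))
    have hb : b0 ⊔ I ≠ ⊤ := fun h => q.2.ne_top (top_le_iff.mp (h ▸ hbq))
    have ha1 : 1 ≤ ringKrullDim (R ⧸ (a0 ⊔ I)) :=
      one_le_ringKrullDim_quotient_of_nonmaximal_prime R _ p.asIdeal hap hpm
    have hb1 : 1 ≤ ringKrullDim (R ⧸ (b0 ⊔ I)) :=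
      one_le_ringKrullDim_quotient_of_nonmaximal_prime R _ q.asIdeal hbq hqm
    have habtop : (a0 ⊔ I) ⊔ (b0 ⊔ I) ≠ ⊤ := by
      intro h
      have : (a0 ⊔ I) ⊔ (b0 ⊔ I) ≤ maximalIdeal R :=
        sup_le (le_maximalIdeal ha) (le_maximalIdeal hb)
      rw [h] at this
      exact (Ideal.IsPrime.ne_top (inferInstance : (maximalIdeal R).IsPrime))
        (top_le_iff.mp this)
    have h0 : ringKrullDim (R ⧸ ((a0 ⊔ I) ⊔ (b0 ⊔ I))) = 0 := by
      obtain ⟨e, he⟩ := exists_nat_ringKrullDim_quotient R _ habtop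
      rw [he]
      suffices e = 0 by rw [this]; rfl
      by_contra hne0
      have h1 : 1 ≤ ringKrullDim (R ⧸ ((a0 ⊔ I) ⊔ (b0 ⊔ I))) := by
        rw [he]
        exact_mod_cast Nat.one_le_iff_ne_zero.mpr hne0
      obtain ⟨𝔯, h𝔯, hle, hne⟩ := exists_nonmaximal_prime_of_one_le R _ h1
      have hmem : (⟨𝔯, h𝔯⟩ : PrimeSpectrum R) ∈
          {x : PrimeSpectrum R | I ≤ x.asIdeal ∧ x.asIdeal ≠ maximalIdeal R} ∩
            (PrimeSpectrum.zeroLocus (a0 : Set R) ∩ PrimeSpectrum.zeroLocus (b0 : Set R)) := by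
        refine ⟨⟨(le_sup_right.trans le_sup_left).trans hle, hne⟩, ?_, ?_⟩
        · rw [PrimeSpectrum.mem_zeroLocus, SetLike.coe_subset_coe]
          exact (le_sup_left.trans le_sup_left).trans hle
        · rw [PrimeSpectrum.mem_zeroLocus, SetLike.coe_subset_coe]
          exact (le_sup_left.trans le_sup_right).trans hle
      rw [hcon] at hmem
      exact hmem
    have hradab : ((a0 ⊔ I) ⊓ (b0 ⊔ I)).radical = I.radical := by
      apply le_antisymm
      · rw [Ideal.radical_eq_sInf I]
        refine le_sInf ?_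
        rintro 𝔯 ⟨hle, h𝔯⟩
        apply (h𝔯.radical_le_iff).mpr
        by_cases hm : 𝔯 = maximalIdeal R
        · rw [hm]
          exact inf_le_left.trans (le_maximalIdeal ha)
        · have hmem : (⟨𝔯, h𝔯⟩ : PrimeSpectrum R) ∈
              {x : PrimeSpectrum R | I ≤ x.asIdeal ∧ x.asIdeal ≠ maximalIdeal R} := ⟨hle, hm⟩
          rcases hsub hmem with h | h
          · rw [PrimeSpectrum.mem_zeroLocus, SetLike.coe_subset_coe] at h
            exact inf_le_left.trans (sup_le h hle)
          · rw [PrimeSpectrum.mem_zeroLocus, SetLike.coe_subset_coe] at h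
            exact inf_le_right.trans (sup_le h hle)
      · exact Ideal.radical_mono (le_inf le_sup_right le_sup_right)
    have hk : LocCoh.CdLE R ((a0 ⊔ I) ⊓ (b0 ⊔ I)) t := cdLE_of_radical_eq hradab.symm hcdI
    have := connectedness_bound_base R d hd (a0 ⊔ I) (b0 ⊔ I) ha hb h0 ha1 hb1 t hk
    omega

end main

end Groth.Agent.Lib.Helper60
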