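import Mathlib
import Groth.Agent.Lib.Helper60.CB2

/-!
# Dimension lemmas for connectedness bounds (helper60)
-/

set_option autoImplicit false
set_option linter.unusedSectionVars false
universe u
open CategoryTheory CategoryTheory.Limits Opposite Abelian IsLocalRing Order
open Groth.Agent.Lib.Helper29

namespace Groth.Agent.Lib.Helper60

section dim

variable {R : Type u} [CommRing R]

lemma ringKrullDim_quotient_anti {I J : Ideal R} (h : I ≤ J) :
    ringKrullDim (R ⧸ J) ≤ ringKrullDim (R ⧸ I) :=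
  ringKrullDim_le_of_surjective (Ideal.Quotient.factor h) (Ideal.Quotient.factor_surjective h)

lemma ringKrullDim_quotient_radical (I : Ideal R) :
    ringKrullDim (R ⧸ I.radical) = ringKrullDim (R ⧸ I) := by
  rw [ringKrullDim_quotient, ringKrullDim_quotient]
  apply krullDim_congr_set
  exact PrimeSpectrum.zeroLocus_radical I

/-- a prime over `I` realising the dimension of `R/I`. -/
lemma exists_prime_ringKrullDim_quotient_eq (I : Ideal R) (e : ℕ)
    (h : ringKrullDim (R ⧸ I) = e) :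
    ∃ 𝔮 : Ideal R, 𝔮.IsPrime ∧ I ≤ 𝔮 ∧ ringKrullDim (R ⧸ 𝔮) = e := by
  have h1 : (e : WithBot ℕ∞) ≤ Order.krullDim (PrimeSpectrum.zeroLocus (R := R) (I : Set R)) := by
    rw [← ringKrullDim_quotient, h]
  obtain ⟨l, hl⟩ := le_krullDim_iff.mp h1
  have hI : I ≤ l.head.1.asIdeal := (PrimeSpectrum.mem_zeroLocus _ _).mp l.head.2
  refine ⟨l.head.1.asIdeal, l.head.1.2, hI, le_antisymm ?_ ?_⟩
  · rw [← h]; exact ringKrullDim_quotient_anti hI
  · rw [ringKrullDim_quotient]
    have hmem : ∀ i, (l i).1 ∈ PrimeSpectrum.zeroLocus (R := R) (l.head.1.asIdeal : Set R) := by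
      intro i
      rw [PrimeSpectrum.mem_zeroLocus, SetLike.coe_subset_coe]
      have : l.head ≤ l i := LTSeries.head_le l i
      exact this
    let l' : LTSeries (PrimeSpectrum.zeroLocus (R := R) (l.head.1.asIdeal : Set R)) :=
      { length := l.length
        toFun := fun i => ⟨(l i).1, hmem i⟩
        step := fun i => l.step i }
    have := LTSeries.length_le_krullDim l'
    rw [← hl]
    exact this

lemma ringKrullDim_quotient_add_one_le_of_lt [IsNoetherianRing R] {𝔭 𝔮 : Ideal R}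
    [h𝔭 : 𝔭.IsPrime] (h : 𝔭 < 𝔮) :
    ringKrullDim (R ⧸ 𝔮) + 1 ≤ ringKrullDim (R ⧸ 𝔭) := by
  obtain ⟨x, hx𝔮, hx𝔭⟩ := SetLike.exists_of_lt h
  have h1 : 𝔭 ⊔ Ideal.span {x} ≤ 𝔮 := by
    refine sup_le h.le ?_
    rw [Ideal.span_le]; intro y hy; rw [Set.mem_singleton_iff.mp hy]; exact hx𝔮
  have h2 := ringKrullDim_quotient_sup_span_add_one_le 𝔭 (x := x) (by
    intro p hp
    rw [Ideal.minimalPrimes_eq_subsingleton_self] at hp
    rw [Set.mem_singleton_iff.mp hp]
    exact hx𝔭)
  exact (add_le_add_left (ringKrullDim_quotient_anti h1) 1).trans h2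

end dim

section cdbc

variable {R : Type u} [CommRing R] [IsNoetherianRing R]

/-- cohomological dimension does not increase under passing to a quotient ring. -/
lemma cdLE_map_quotient (𝔮 J : Ideal R) {k : ℕ} (hk : LocCoh.CdLE R J k) :
    LocCoh.CdLE (R ⧸ 𝔮) (J.map (algebraMap R (R ⧸ 𝔮))) k := by
  intro M _ _ i hi
  let _ : Module R M := Module.compHom M (algebraMap R (R ⧸ 𝔮))
  have : IsScalarTower R (R ⧸ 𝔮) M := IsScalarTower.of_algebraMap_smul fun r x => rfl
  obtain ⟨φ, -⟩ := exists_lc_baseChange (R := R) (R' := R ⧸ 𝔮) J i M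
  have := hk M i hi
  exact φ.toEquiv.subsingleton

end cdbc

section L

variable (R : Type u) [CommRing R] [IsNoetherianRing R] [IsLocalRing R]

lemma exists_nat_ringKrullDim_quotient_local (J : Ideal R) (hJ : J ≠ ⊤) :
    ∃ d : ℕ, ringKrullDim (R ⧸ J) = d := by
  have : Nontrivial (R ⧸ J) := Ideal.Quotient.nontrivial_iff.mpr hJ
  have : IsLocalRing (R ⧸ J) :=
    IsLocalRing.of_surjective' (Ideal.Quotient.mk J) Ideal.Quotient.mk_surjective
  have h1 : ringKrullDim (R ⧸ J) ≠ ⊤ := ringKrullDim_ne_top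
  have h2 : ringKrullDim (R ⧸ J) ≠ ⊥ := ringKrullDim_ne_bot
  obtain ⟨e, he⟩ := WithBot.ne_bot_iff_exists.mp h2
  have h3 : e ≠ ⊤ := by
    rintro rfl
    exact h1 he.symm
  refine ⟨e.toNat, ?_⟩
  rw [← he]
  have h4 : ((e.toNat : ℕ) : ℕ∞) = e := ENat.natCast_toNat h3
  exact (congrArg (fun z : ℕ∞ => (z : WithBot ℕ∞)) h4).symm

lemma exists_mem_maximalIdeal_notMem_minimalPrimes_ideal' (𝔠 : Ideal R)
    (h1 : 1 ≤ ringKrullDim (R ⧸ 𝔠)) :
    ∃ x ∈ maximalIdeal R, ∀ p ∈ 𝔠.minimalPrimes, x ∉ p := by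
  classical
  have hfin := Ideal.finite_minimalPrimes_of_isNoetherianRing R 𝔠
  by_contra hcon
  push Not at hcon
  have hsub : (maximalIdeal R : Set R) ⊆ ⋃ p ∈ hfin.toFinset, (p : Set R) := by
    intro y hy
    obtain ⟨p, hp, hyp⟩ := hcon y hy
    simp only [Set.mem_iUnion]
    exact ⟨p, by rwa [Set.Finite.mem_toFinset], hyp⟩
  have hprimes : ∀ K ∈ hfin.toFinset, K ≠ (⊥ : Ideal R) → K ≠ (⊥ : Ideal R) → K.IsPrime := by
    rintro K hK - -
    rw [Set.Finite.mem_toFinset] at hK
    exact hK.1.1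
  obtain ⟨p, hp, hle⟩ := (Ideal.subset_union_prime (s := hfin.toFinset)
    (f := fun K : Ideal R => K) ⊥ ⊥ hprimes).mp hsub
  rw [Set.Finite.mem_toFinset] at hp
  obtain ⟨𝔮, h𝔮, hle𝔮, hne𝔮⟩ := exists_nonmaximal_prime_of_one_le R 𝔠 h1
  have hpm : p = maximalIdeal R := le_antisymm (le_maximalIdeal hp.1.1.ne_top) hle
  have h2 : p ≤ 𝔮 := hp.2 ⟨h𝔮, hle𝔮⟩ (hpm ▸ le_maximalIdeal h𝔮.ne_top)
  exact hne𝔮 (le_antisymm (le_maximalIdeal h𝔮.ne_top) (hpm ▸ h2))

/-- `dim R ≤ cd(J) + dim R/J` in a Noetherian local ring. -/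
theorem ringKrullDim_le_cd_add_dim_quotient (n : ℕ) (hn : ringKrullDim R = n) :
    ∀ (e : ℕ) (J : Ideal R) (k : ℕ), J ≠ ⊤ → ringKrullDim (R ⧸ J) = e → LocCoh.CdLE R J k →
      n ≤ k + e := by
  intro e
  induction e with
  | zero =>
    intro J k hJ h0 hk
    by_contra hcon
    push Not at hcon
    have hrad : J.radical = maximalIdeal R :=
      radical_eq_maximalIdeal_of_ringKrullDim_quotient_lt_one J hJ (by
        rw [h0]; exact_mod_cast zero_lt_one)
    have hrad' : J.radical = (maximalIdeal R).radical := by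
      rw [hrad, (Ideal.IsPrime.radical inferInstance)]
    have hnt : Nontrivial (LocCoh.H (maximalIdeal R) n R) := lc_top_nontrivial R n hn
    have hsub : Subsingleton (LocCoh.H (maximalIdeal R) n R) :=
      cdLE_of_radical_eq hrad' hk R n (by omega)
    exact not_subsingleton _ hsub
  | succ e ih =>
    intro J k hJ he hk
    have h1 : 1 ≤ ringKrullDim (R ⧸ J) := by
      rw [he]
      exact_mod_cast Nat.succ_le_succ (Nat.zero_le e)
    obtain ⟨x, hxm, hx⟩ := exists_mem_maximalIdeal_notMem_minimalPrimes_ideal' R J h1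
    have hsm : Ideal.span {x} ≤ maximalIdeal R := by
      rw [Ideal.span_le]; intro y hy; rw [Set.mem_singleton_iff.mp hy]; exact hxm
    have hne : J ⊔ Ideal.span {x} ≠ ⊤ := by
      intro h
      have : J ⊔ Ideal.span {x} ≤ maximalIdeal R := sup_le (le_maximalIdeal hJ) hsm
      rw [h] at this
      exact (Ideal.IsPrime.ne_top (inferInstance : (maximalIdeal R).IsPrime))
        (top_le_iff.mp this)
    have he' : ringKrullDim (R ⧸ (J ⊔ Ideal.span {x})) = e := by
      have h1 := ringKrullDim_quotient_le_sup_span_add_one J hxm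
      have h2 := ringKrullDim_quotient_sup_span_add_one_le J hx
      obtain ⟨e', he'⟩ := exists_nat_ringKrullDim_quotient_local R (J ⊔ Ideal.span {x}) hne
      rw [he, he'] at h1 h2
      rw [he']
      have h1' : e + 1 ≤ e' + 1 := by exact_mod_cast h1
      have h2' : e' + 1 ≤ e + 1 := by exact_mod_cast h2
      have : e' = e := by omega
      rw [this]
    have := ih (J ⊔ Ideal.span {x}) (k + 1) hne he' (cdLE_sup_span_singleton J x hk)
    omega

end L

end Groth.Agent.Lib.Helper60
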