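import Groth.Agent.Lib.Helper60.NV5
import Groth.Agent.Lib.Helper60.LocalCohTop2

set_option autoImplicit false
universe u
open CategoryTheory CategoryTheory.Limits Opposite Abelian RingTheory.Sequence IsLocalRing
open Groth.Agent.Lib.Helper29

namespace Groth.Agent.Lib.Helper60

section modules

variable (A : Type u) [CommRing A] [IsLocalRing A] [IsNoetherianRing A]

/-- **Grothendieck's non-vanishing theorem** for modules: `H^n_m(M) ≠ 0`, `n = dim M`. -/
theorem lc_nontrivial_of_supportDim_eq (M : Type u) [AddCommGroup M] [Module A M]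
    [Module.Finite A M] [Nontrivial M] (n : ℕ) (hn : Module.supportDim A M = n) :
    Nontrivial (LocCoh.H (maximalIdeal A) n M) := by
  have hI : Module.annihilator A M ≠ ⊤ := by
    intro h
    obtain ⟨m, hm⟩ := exists_ne (0 : M)
    apply hm
    have h1 : (1 : A) ∈ Module.annihilator A M := by rw [h]; trivial
    have h2 := Module.mem_annihilator.mp h1 m
    rwa [one_smul] at h2
  have hnt : Nontrivial (A ⧸ Module.annihilator A M) := Ideal.Quotient.nontrivial_iff.mpr hI
  have hloc : IsLocalRing (A ⧸ Module.annihilator A M) :=
    IsLocalRing.of_surjective' _ Ideal.Quotient.mk_surjective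
  let _ : Module (A ⧸ Module.annihilator A M) M := Module.quotientAnnihilator
  have hdimB : ringKrullDim (A ⧸ Module.annihilator A M) = n := by
    rw [← hn, Module.supportDim_eq_ringKrullDim_quotient_annihilator]
  have hfin : Module.Finite (A ⧸ Module.annihilator A M) M :=
    Module.Finite.of_restrictScalars_finite A (A ⧸ Module.annihilator A M) M
  have h1 := lc_top_nontrivial (A ⧸ Module.annihilator A M) n hdimB
  by_contra hcon
  rw [not_nontrivial_iff_subsingleton] at hcon
  obtain ⟨φ, -⟩ := exists_lc_baseChange (R := A) (R' := A ⧸ Module.annihilator A M)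
    (maximalIdeal A) n M
  have h2 : Subsingleton (LocCoh.H ((maximalIdeal A).map
      (algebraMap A (A ⧸ Module.annihilator A M))) n M) := φ.toEquiv.subsingleton
  have h3 : (maximalIdeal A).map (algebraMap A (A ⧸ Module.annihilator A M)) =
      maximalIdeal (A ⧸ Module.annihilator A M) :=
    map_maximalIdeal_of_surjective (Ideal.Quotient.mk (Module.annihilator A M))
      Ideal.Quotient.mk_surjective
  rw [h3] at h2
  have hann : Module.annihilator (A ⧸ Module.annihilator A M) M = ⊥ := by
    rw [eq_bot_iff]
    intro b hb
    obtain ⟨a, rfl⟩ := Ideal.Quotient.mk_surjective b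
    rw [Ideal.mem_bot, Ideal.Quotient.eq_zero_iff_mem, Module.mem_annihilator]
    intro m
    have h4 := Module.mem_annihilator.mp hb m
    have h5 : (Ideal.Quotient.mk (Module.annihilator A M) a) • m = a • m :=
      algebraMap_smul (A ⧸ Module.annihilator A M) a m
    rwa [h5] at h4
  have hsupp : ∀ p ∈ minimalPrimes (A ⧸ Module.annihilator A M),
      ringKrullDim ((A ⧸ Module.annihilator A M) ⧸ p) = n → ∀ hp : p.IsPrime,
      (⟨p, hp⟩ : PrimeSpectrum (A ⧸ Module.annihilator A M)) ∈
        Module.support (A ⧸ Module.annihilator A M) M := by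
    intro p _ _ hp
    rw [Module.mem_support_iff_of_finite, hann]
    exact bot_le
  have h6 := lc_top_subsingleton_of_support (maximalIdeal (A ⧸ Module.annihilator A M)) hdimB M
    hsupp h2 (A ⧸ Module.annihilator A M)
  exact not_subsingleton _ h6

end modules

end Groth.Agent.Lib.Helper60
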