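import Groth.Agent.Lib.Helper60.ExtBridge2
import Groth.Agent.Lib.Helper60.IdealTransform
import Mathlib.Algebra.Homology.LocalCohomology

/-!
# Elementwise description of Mathlib's local cohomology `H^i_J(M) = colim_n Ext^i(R/J^n, M)`
in terms of the new `Abelian.Ext` (helper60)
-/

set_option autoImplicit false
universe u
open CategoryTheory CategoryTheory.Limits Opposite Abelian

namespace Groth.Agent.Lib.Helper60

variable {R : Type u} [CommRing R]

open localCohomology

/-- `R/J^n` as an object of `ModuleCat R`. -/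
abbrev quotPow (J : Ideal R) (n : ℕ) : ModuleCat.{u} R := ModuleCat.of R (R ⧸ J ^ n)

/-- the projection `R/J^k ⟶ R/J^n` for `n ≤ k`. -/
def quotPowMap (J : Ideal R) {n k : ℕ} (h : n ≤ k) : quotPow J k ⟶ quotPow J n :=
  ModuleCat.ofHom (Submodule.mapQ _ _ LinearMap.id (Ideal.pow_le_pow_right h))

/-- The evaluated diagram `n ↦ Ext^i(R/J^n, M)` (old Ext). -/
noncomputable abbrev lcDiag (J : Ideal R) (i : ℕ) (M : ModuleCat.{u} R) : ℕᵒᵖᵒᵖ ⥤ ModuleCat.{u} R :=
  diagram (idealPowersDiagram J) i ⋙ (evaluation _ _).obj M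

/-- The evaluated colimit cocone, with point `H^i_J(M)`. -/
noncomputable abbrev lcCocone (J : Ideal R) (i : ℕ) (M : ModuleCat.{u} R) : Cocone (lcDiag J i M) :=
  ((evaluation _ _).obj M).mapCocone (colimit.cocone (diagram (idealPowersDiagram J) i))

/-- The evaluated colimit cocone is a colimit cocone. -/
noncomputable def lcIsColimit (J : Ideal R) (i : ℕ) (M : ModuleCat.{u} R) :
    IsColimit (lcCocone J i M) :=
  isColimitOfPreserves ((evaluation _ _).obj M) (colimit.isColimit (diagram (idealPowersDiagram J) i))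

/-- old `Ext^i(R/J^n, M)` as a type. -/
abbrev OldExt (J : Ideal R) (i : ℕ) (M : ModuleCat.{u} R) (n : ℕ) : Type u :=
  (((Ext R (ModuleCat.{u} R) i).obj (op (quotPow J n))).obj M : ModuleCat.{u} R)

/-- The structure map `Ext^i(R/J^n, M) → H^i_J(M)` (old Ext), as a linear map. -/
noncomputable def lcIota (J : Ideal R) (i : ℕ) (M : ModuleCat.{u} R) (n : ℕ) :
    OldExt J i M n →ₗ[R] ((localCohomology J i).obj M) :=
  ((lcCocone J i M).ι.app (op (op n))).hom

/-- The transition map `Ext^i(R/J^n, M) → Ext^i(R/J^k, M)` (old Ext), as a linear map. -/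
noncomputable def lcTrans (J : Ideal R) (i : ℕ) (M : ModuleCat.{u} R) {n k : ℕ} (h : n ≤ k) :
    OldExt J i M n →ₗ[R] OldExt J i M k :=
  (((Ext R (ModuleCat.{u} R) i).map (quotPowMap J h).op).app M).hom

lemma lcIota_surj (J : Ideal R) (i : ℕ) (M : ModuleCat.{u} R) (y : (localCohomology J i).obj M) :
    ∃ (n : ℕ) (z : OldExt J i M n), lcIota J i M n z = y := by
  obtain ⟨j, z, hz⟩ := Concrete.isColimit_exists_rep (lcDiag J i M) (lcIsColimit J i M) y
  exact ⟨j.unop.unop, z, hz⟩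

lemma lcIota_trans (J : Ideal R) (i : ℕ) (M : ModuleCat.{u} R) {n k : ℕ} (h : n ≤ k)
    (z : OldExt J i M n) : lcIota J i M k (lcTrans J i M h z) = lcIota J i M n z := by
  have := (lcCocone J i M).w (natOpOpHom h)
  exact congrArg (fun φ => φ.hom z) this

lemma lcIota_eq_iff (J : Ideal R) (i : ℕ) (M : ModuleCat.{u} R) {n m : ℕ}
    (z : OldExt J i M n) (w : OldExt J i M m) :
    lcIota J i M n z = lcIota J i M m w ↔
      ∃ (k : ℕ) (hn : n ≤ k) (hm : m ≤ k), lcTrans J i M hn z = lcTrans J i M hm w := by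
  constructor
  · intro h
    have h' := (Concrete.isColimit_rep_eq_iff_exists (lcDiag J i M) (lcIsColimit J i M)
      (i := op (op n)) (j := op (op m)) z w).mp h
    obtain ⟨k, a, b, hab⟩ := h'
    have hn : n ≤ k.unop.unop := a.unop.unop.le
    have hm : m ≤ k.unop.unop := b.unop.unop.le
    refine ⟨k.unop.unop, hn, hm, ?_⟩
    have ha : a = natOpOpHom hn := Subsingleton.elim _ _
    have hb : b = natOpOpHom hm := Subsingleton.elim _ _
    rw [ha, hb] at hab
    exact hab
  · rintro ⟨k, hn, hm, h⟩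
    rw [← lcIota_trans J i M hn z, ← lcIota_trans J i M hm w, h]

lemma lcMap_lcIota (J : Ideal R) (i : ℕ) {M N : ModuleCat.{u} R} (φ : M ⟶ N) (n : ℕ)
    (z : OldExt J i M n) :
    ((localCohomology J i).map φ).hom (lcIota J i M n z) =
      lcIota J i N n ((((Ext R (ModuleCat.{u} R) i).obj (op (quotPow J n))).map φ).hom z) := by
  have := (colimit.ι (diagram (idealPowersDiagram J) i) (op (op n))).naturality φ
  exact (congrArg (fun ψ => ψ.hom z) this).symm

/-! ### Description via the new `Abelian.Ext` -/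

/-- The class in `H^i_J(M)` of an element of `Ext^i(R/J^n, M)`. -/
noncomputable def lcMk (J : Ideal R) (i : ℕ) (M : ModuleCat.{u} R) (n : ℕ)
    (x : Abelian.Ext (quotPow J n) M i) : (localCohomology J i).obj M :=
  lcIota J i M n ((extBridge (quotPow J n) i M).symm x)

lemma lcMk_surj (J : Ideal R) (i : ℕ) (M : ModuleCat.{u} R) (y : (localCohomology J i).obj M) :
    ∃ (n : ℕ) (x : Abelian.Ext (quotPow J n) M i), lcMk J i M n x = y := by
  obtain ⟨n, z, hz⟩ := lcIota_surj J i M y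
  refine ⟨n, extBridge (quotPow J n) i M z, ?_⟩
  unfold lcMk
  rw [LinearEquiv.symm_apply_apply]
  exact hz

/-- restriction of a class along `R/J^k → R/J^n`. -/
noncomputable def lcRes (J : Ideal R) {i : ℕ} {M : ModuleCat.{u} R} {n k : ℕ} (h : n ≤ k)
    (x : Abelian.Ext (quotPow J n) M i) : Abelian.Ext (quotPow J k) M i :=
  (Ext.mk₀ (quotPowMap J h)).comp x (zero_add i)

lemma extBridge_lcTrans (J : Ideal R) (i : ℕ) (M : ModuleCat.{u} R) {n k : ℕ} (h : n ≤ k)
    (z : OldExt J i M n) :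
    extBridge (quotPow J k) i M (lcTrans J i M h z) = lcRes J h (extBridge (quotPow J n) i M z) :=
  extBridge_mapLeft i (quotPowMap J h) M z

lemma lcTrans_extBridge_symm (J : Ideal R) (i : ℕ) (M : ModuleCat.{u} R) {n k : ℕ} (h : n ≤ k)
    (x : Abelian.Ext (quotPow J n) M i) :
    lcTrans J i M h ((extBridge (quotPow J n) i M).symm x) =
      (extBridge (quotPow J k) i M).symm (lcRes J h x) := by
  apply (extBridge (quotPow J k) i M).injective
  rw [extBridge_lcTrans, LinearEquiv.apply_symm_apply, LinearEquiv.apply_symm_apply]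

lemma lcMk_res (J : Ideal R) (i : ℕ) (M : ModuleCat.{u} R) {n k : ℕ} (h : n ≤ k)
    (x : Abelian.Ext (quotPow J n) M i) : lcMk J i M k (lcRes J h x) = lcMk J i M n x := by
  unfold lcMk
  rw [← lcTrans_extBridge_symm, lcIota_trans]

lemma lcMk_eq_iff (J : Ideal R) (i : ℕ) (M : ModuleCat.{u} R) {n m : ℕ}
    (x : Abelian.Ext (quotPow J n) M i) (y : Abelian.Ext (quotPow J m) M i) :
    lcMk J i M n x = lcMk J i M m y ↔
      ∃ (k : ℕ) (hn : n ≤ k) (hm : m ≤ k), lcRes J hn x = lcRes J hm y := by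
  unfold lcMk
  rw [lcIota_eq_iff]
  constructor
  · rintro ⟨k, hn, hm, h⟩
    refine ⟨k, hn, hm, ?_⟩
    rw [lcTrans_extBridge_symm, lcTrans_extBridge_symm] at h
    exact (extBridge (quotPow J k) i M).symm.injective h
  · rintro ⟨k, hn, hm, h⟩
    refine ⟨k, hn, hm, ?_⟩
    rw [lcTrans_extBridge_symm, lcTrans_extBridge_symm, h]

lemma lcMk_add (J : Ideal R) (i : ℕ) (M : ModuleCat.{u} R) (n : ℕ)
    (x y : Abelian.Ext (quotPow J n) M i) :
    lcMk J i M n (x + y) = lcMk J i M n x + lcMk J i M n y := by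
  unfold lcMk
  rw [map_add, map_add]

lemma lcMk_smul (J : Ideal R) (i : ℕ) (M : ModuleCat.{u} R) (n : ℕ) (r : R)
    (x : Abelian.Ext (quotPow J n) M i) :
    lcMk J i M n (r • x) = r • lcMk J i M n x := by
  unfold lcMk
  rw [map_smul, map_smul]

lemma lcMk_zero (J : Ideal R) (i : ℕ) (M : ModuleCat.{u} R) (n : ℕ) :
    lcMk J i M n (0 : Abelian.Ext (quotPow J n) M i) = 0 := by
  unfold lcMk
  rw [map_zero, map_zero]

lemma lcMk_neg (J : Ideal R) (i : ℕ) (M : ModuleCat.{u} R) (n : ℕ)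
    (x : Abelian.Ext (quotPow J n) M i) :
    lcMk J i M n (-x) = -lcMk J i M n x := by
  unfold lcMk
  rw [map_neg, map_neg]

lemma lcMk_sub (J : Ideal R) (i : ℕ) (M : ModuleCat.{u} R) (n : ℕ)
    (x y : Abelian.Ext (quotPow J n) M i) :
    lcMk J i M n (x - y) = lcMk J i M n x - lcMk J i M n y := by
  unfold lcMk
  rw [map_sub, map_sub]

lemma lcRes_zero (J : Ideal R) {i : ℕ} {M : ModuleCat.{u} R} {n k : ℕ} (h : n ≤ k) :
    lcRes J h (0 : Abelian.Ext (quotPow J n) M i) = 0 := by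
  unfold lcRes
  rw [Ext.comp_zero]

lemma lcRes_add (J : Ideal R) {i : ℕ} {M : ModuleCat.{u} R} {n k : ℕ} (h : n ≤ k)
    (x y : Abelian.Ext (quotPow J n) M i) :
    lcRes J h (x + y) = lcRes J h x + lcRes J h y := by
  unfold lcRes
  rw [Ext.comp_add]

lemma lcMk_eq_zero_iff (J : Ideal R) (i : ℕ) (M : ModuleCat.{u} R) {n : ℕ}
    (x : Abelian.Ext (quotPow J n) M i) :
    lcMk J i M n x = 0 ↔ ∃ (k : ℕ) (hn : n ≤ k), lcRes J hn x = 0 := by
  rw [← lcMk_zero J i M n, lcMk_eq_iff]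
  constructor
  · rintro ⟨k, hn, hm, h⟩
    exact ⟨k, hn, h.trans (lcRes_zero J hm)⟩
  · rintro ⟨k, hn, h⟩
    exact ⟨k, hn, hn, h.trans (lcRes_zero J hn).symm⟩

lemma lcMap_lcMk (J : Ideal R) (i : ℕ) {M N : ModuleCat.{u} R} (φ : M ⟶ N) (n : ℕ)
    (x : Abelian.Ext (quotPow J n) M i) :
    ((localCohomology J i).map φ).hom (lcMk J i M n x) =
      lcMk J i N n (x.comp (Ext.mk₀ φ) (add_zero i)) := by
  unfold lcMk
  rw [lcMap_lcIota]
  congr 1
  apply (extBridge (quotPow J n) i N).injective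
  rw [LinearEquiv.apply_symm_apply, extBridge_map, LinearEquiv.apply_symm_apply]

end Groth.Agent.Lib.Helper60
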