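import Groth.Agent.Lib.Helper60.NV2
import Groth.Agent.Lib.Helper60.LocalCohDepth
import Groth.Agent.Lib.Helper60.ExtFG

set_option autoImplicit false
universe u
open CategoryTheory CategoryTheory.Limits Opposite Abelian RingTheory.Sequence IsLocalRing
open Groth.Agent.Lib.Helper29

namespace Groth.Agent.Lib.Helper60

section seq

variable {R : Type u} [CommRing R] [IsNoetherianRing R]

/-- depth drops by the length along a regular sequence in `I`. -/
theorem idealDepth_quotient_ofList_add_length (I : Ideal R) (rs : List R) :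
    ∀ (M : Type u) [AddCommGroup M] [Module R M] [Module.Finite R M],
      IsWeaklyRegular M rs → (∀ r ∈ rs, r ∈ I) →
      LocCoh.idealDepth I (M ⧸ Ideal.ofList rs • (⊤ : Submodule R M)) + rs.length =
        LocCoh.idealDepth I M := by
  induction rs with
  | nil =>
    intro M _ _ _ _ _
    have e : (M ⧸ Ideal.ofList ([] : List R) • (⊤ : Submodule R M)) ≃ₗ[R] M :=
      Submodule.quotEquivOfEqBot _ (by rw [Ideal.ofList_nil, Submodule.bot_smul])
    rw [idealDepth_congr I e]
    simp
  | cons y rs' ih =>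
    intro M _ _ _ hreg hmem
    obtain ⟨hy, hreg'⟩ := (isWeaklyRegular_cons_iff M y rs').mp hreg
    have h1 := ih (QuotSMulTop y M) hreg' (fun r hr => hmem r (List.mem_cons_of_mem _ hr))
    have h2 := idealDepth_quotSMulTop_add_one I M (hmem y (by simp)) hy
    rw [idealDepth_congr I (Submodule.quotOfListConsSMulTopEquivQuotSMulTopInner M y rs'),
      List.length_cons, ← h2, ← h1]
    push_cast
    rw [add_assoc]

end seq

section claimC

variable {S : Type u} [CommRing S] [IsLocalRing S] [IsNoetherianRing S]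

/-- **Non-vanishing over a Cohen–Macaulay local ring**: `H^d_m(S/J) ≠ 0` for `d = dim S/J`. -/
theorem lc_quotient_nontrivial_of_isCohenMacaulay (hCM : LocCoh.IsCohenMacaulayModule S S)
    (J : Ideal S) (hJ : J ≠ ⊤) (d : ℕ) (hd : Module.supportDim S (S ⧸ J) = d) :
    Nontrivial ((localCohomology (maximalIdeal S) d).obj (ModuleCat.of S (S ⧸ J))) := by
  have hJm : J ≤ maximalIdeal S := le_maximalIdeal hJ
  have hJS : J • (⊤ : Submodule S S) ≠ ⊤ := by
    intro h
    exact maximalIdeal_smul_top_ne_top S S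
      (top_le_iff.mp (h.symm.le.trans (Submodule.smul_mono_left hJm)))
  -- a maximal regular sequence inside `J`
  have hgtop : LocCoh.idealDepth J S ≠ ⊤ := by
    intro h
    have h1 := idealDepth_mono hJm S
    rw [h] at h1
    exact depth_ne_top S S (top_le_iff.mp h1)
  obtain ⟨g, hg⟩ := ENat.ne_top_iff_exists.mp hgtop
  rcases (le_idealDepth_iff J S g).mp (by rw [← hg]) with h | ⟨ys, hlen, hmem, hreg⟩
  · exact absurd h hJS
  have hysm : ∀ r ∈ ys, r ∈ maximalIdeal S := fun r hr => hJm (hmem r hr)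
  have hle : Ideal.ofList ys • (⊤ : Submodule S S) ≤ (J : Submodule S S) := by
    rw [smul_eq_mul, Ideal.mul_top, Ideal.ofList, Ideal.span_le]
    exact fun r hr => hmem r hr
  have hnt : Nontrivial (S ⧸ Ideal.ofList ys • (⊤ : Submodule S S)) := by
    apply Submodule.Quotient.nontrivial_iff.mpr
    intro h
    rw [h] at hle
    exact hJ (top_le_iff.mp hle)
  have hCM₀ := isCohenMacaulayModule_quotient_ofList S S hCM ys hysm hreg
  have hdepth0 : LocCoh.idealDepth J (S ⧸ Ideal.ofList ys • (⊤ : Submodule S S)) = 0 := by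
    have h1 := idealDepth_quotient_ofList_add_length J ys S hreg hmem
    rw [← hg, hlen] at h1
    have h2 : LocCoh.idealDepth J (S ⧸ Ideal.ofList ys • (⊤ : Submodule S S)) + (g : ℕ∞) =
        0 + (g : ℕ∞) := by rw [h1, zero_add]
    exact (ENat.add_left_injective_of_ne_top (ENat.natCast_ne_top g)) h2
  obtain ⟨d', hd'⟩ := ENat.ne_top_iff_exists.mp
    (depth_ne_top S (S ⧸ Ideal.ofList ys • (⊤ : Submodule S S)))
  have hdim' : Module.supportDim S (S ⧸ Ideal.ofList ys • (⊤ : Submodule S S)) = d' := by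
    unfold LocCoh.IsCohenMacaulayModule at hCM₀
    rw [hCM₀, ← hd']
    rfl
  -- a nonzero map `S/J → M₀`
  have hJM₀ : J • (⊤ : Submodule S (S ⧸ Ideal.ofList ys • (⊤ : Submodule S S))) ≠ ⊤ := by
    intro h
    exact maximalIdeal_smul_top_ne_top S _
      (top_le_iff.mp (h.symm.le.trans (Submodule.smul_mono_left hJm)))
  have hnot : ¬ ((1 : ℕ) : ℕ∞) ≤ LocCoh.idealDepth J (S ⧸ Ideal.ofList ys • (⊤ : Submodule S S)) := by
    rw [hdepth0]
    simp
  rw [le_idealDepth_iff_ext J _ hJM₀ 1] at hnot
  push Not at hnot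
  obtain ⟨i, hi, hns⟩ := hnot
  obtain rfl : i = 0 := by omega
  have hns' : Nontrivial (ModuleCat.of S (S ⧸ J) ⟶
      ModuleCat.of S (S ⧸ Ideal.ofList ys • (⊤ : Submodule S S))) :=
    (Ext.addEquiv₀ (X := ModuleCat.of S (S ⧸ J))
      (Y := ModuleCat.of S (S ⧸ Ideal.ofList ys • (⊤ : Submodule S S)))).symm.toEquiv.nontrivial
  obtain ⟨φ, hφ⟩ := exists_ne (0 : ModuleCat.of S (S ⧸ J) ⟶
      ModuleCat.of S (S ⧸ Ideal.ofList ys • (⊤ : Submodule S S)))
  obtain ⟨s, hsz⟩ := Submodule.Quotient.mk_surjective _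
    (φ.hom (Submodule.Quotient.mk (1 : S) : S ⧸ J))
  let π : ModuleCat.of S (S ⧸ Ideal.ofList ys • (⊤ : Submodule S S)) ⟶ ModuleCat.of S (S ⧸ J) :=
    ModuleCat.ofHom (Submodule.mapQ _ (J : Submodule S S) LinearMap.id hle)
  have hcomp : π ≫ φ = s • 𝟙 (ModuleCat.of S (S ⧸ Ideal.ofList ys • (⊤ : Submodule S S))) := by
    apply ModuleCat.hom_ext
    apply LinearMap.ext
    intro y
    obtain ⟨x, rfl⟩ := Submodule.Quotient.mk_surjective _ y
    show φ.hom (Submodule.Quotient.mk x : S ⧸ J) = s • (Submodule.Quotient.mk x)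
    have h1 : (Submodule.Quotient.mk x : S ⧸ J) = x • (Submodule.Quotient.mk (1 : S) : S ⧸ J) := by
      rw [← Submodule.Quotient.mk_smul, smul_eq_mul, mul_one]
    rw [h1, map_smul, ← hsz, ← Submodule.Quotient.mk_smul, ← Submodule.Quotient.mk_smul]
    congr 1
    simp only [smul_eq_mul]
    ring
  -- non-vanishing in degree `d'`
  have hnv : Nontrivial ((localCohomology (maximalIdeal S) d').obj (ModuleCat.of S (S ⧸ J))) := by
    by_contra hcon
    rw [not_nontrivial_iff_subsingleton] at hcon
    have hs : ∀ h : (localCohomology (maximalIdeal S) d').obj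
        (ModuleCat.of S (S ⧸ Ideal.ofList ys • (⊤ : Submodule S S))), s • h = 0 := by
      intro h
      rw [← lcMap_smul_id, ← hcomp, Functor.map_comp, ModuleCat.hom_comp, LinearMap.comp_apply,
        Subsingleton.elim (((localCohomology (maximalIdeal S) d').map π).hom h) 0, map_zero]
    have h1 := smul_eq_zero_of_smul_lc_top_eq_zero _ d' hd'.symm hdim' s hs
      (Submodule.Quotient.mk (1 : S))
    apply hφ
    apply quotObj_hom_ext
    rw [← hsz]
    have h2 : (Submodule.Quotient.mk s : S ⧸ Ideal.ofList ys • (⊤ : Submodule S S)) =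
        s • Submodule.Quotient.mk (1 : S) := by
      rw [← Submodule.Quotient.mk_smul]
      congr 1
      simp
    rw [h2, h1]
    rfl
  -- `d' = d`
  have h1 : Module.supportDim S (S ⧸ J) ≤
      Module.supportDim S (S ⧸ Ideal.ofList ys • (⊤ : Submodule S S)) :=
    Module.supportDim_le_of_surjective π.hom (by
      intro y
      obtain ⟨x, rfl⟩ := Submodule.Quotient.mk_surjective _ y
      exact ⟨Submodule.Quotient.mk x, rfl⟩)
  rw [hd, hdim'] at h1
  have h2 : d ≤ d' := by exact_mod_cast h1
  have h3 : d' ≤ d := by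
    by_contra hlt
    push Not at hlt
    have := lc_subsingleton_of_supportDim_lt (maximalIdeal S) d' (S ⧸ J) (by
      rw [hd]
      exact_mod_cast hlt)
    exact not_subsingleton _ this
  obtain rfl : d = d' := le_antisymm h2 h3
  exact hnv

end claimC

end Groth.Agent.Lib.Helper60
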