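import Groth.Agent.Lib.Helper60.Cech3
import Groth.Agent.Lib.Helper60.FlatBC2
import Groth.Agent.Lib.Helper47.ExtCechInjective

/-!
# Čech cohomology computes local cohomology (helper60)
-/

set_option autoImplicit false
universe u

open CategoryTheory CategoryTheory.Limits CochainComplex HomComplex
open Groth.Agent.Lib.Helper47

namespace Groth.Agent.Lib.Helper60

variable {R : Type u} [CommRing R]

section theta

variable (fs : List R) (M : ModuleCat.{u} R)

/-- `Ȟ^0(fs; M) ≃ H^0_I(M)`. -/
noncomputable def cechTheta :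
    DerCA.extCechH fs M 0 ≃ₗ[R] (localCohomology (Ideal.span {x | x ∈ fs}) 0).obj M :=
  (LinearEquiv.ofBijective
    ((cechEps M fs).codRestrict (DRing.torsionSub (Ideal.span {x | x ∈ fs}) M) (fun x => by
      rw [← powTorsionList_eq_torsionSub, ← (cechEps_injective_range M fs).2]
      exact ⟨x, rfl⟩))
    ⟨fun a b h => (cechEps_injective_range M fs).1 (congrArg Subtype.val h), by
      rintro ⟨m, hm⟩
      rw [← powTorsionList_eq_torsionSub, ← (cechEps_injective_range M fs).2] at hm
      obtain ⟨x, rfl⟩ := hm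
      exact ⟨x, rfl⟩⟩) ≪≫ₗ (lcH0Equiv (Ideal.span {x | x ∈ fs}) M).symm

lemma lcH0Map_cechTheta (x : DerCA.extCechH fs M 0) :
    lcH0Map (Ideal.span {x | x ∈ fs}) M (cechTheta fs M x) = cechEps M fs x := by
  unfold cechTheta
  rw [LinearEquiv.trans_apply, ← lcH0Equiv_coe, LinearEquiv.apply_symm_apply]
  rfl

variable {M} in
lemma cechTheta_naturality {N : ModuleCat.{u} R} (g : M ⟶ N) (x : DerCA.extCechH fs M 0) :
    cechTheta fs N ((HomologicalComplex.homologyMap (extCechMap g fs) 0).hom x) =
      ((localCohomology (Ideal.span {x | x ∈ fs}) 0).map g).hom (cechTheta fs M x) := by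
  apply lcH0Map_injective
  rw [lcH0Map_cechTheta, lcH0Map_naturality, lcH0Map_cechTheta, cechEps_naturality]

end theta

section main

variable [IsNoetherianRing R] (fs : List R)

/-- **Čech cohomology computes local cohomology.** -/
theorem nonempty_extCechH_linearEquiv_lc (i : ℕ) :
    ∀ (M : Type u) [AddCommGroup M] [Module R M],
      Nonempty (DerCA.extCechH fs (ModuleCat.of R M) (i : ℤ) ≃ₗ[R]
        (localCohomology (Ideal.span {x | x ∈ fs}) i).obj (ModuleCat.of R M)) := by
  induction i with
  | zero =>
    intro M _ _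
    exact ⟨cechTheta fs (ModuleCat.of R M)⟩
  | succ i ih =>
    intro M _ _
    let E := Injective.under (ModuleCat.of R M)
    let ι : ModuleCat.of R M ⟶ E := Injective.ι _
    have hι : Function.Injective ι.hom := (ModuleCat.mono_iff_injective ι).mp inferInstance
    have hS := sesOfInjective_shortExact ι.hom hι
    have hE : Injective (ModuleCat.of R E) := (inferInstance : Injective E)
    have : Injective (sesOfInjective ι.hom).X₂ := hE
    have hEm : Module.Injective R E := Module.injective_module_of_injective_object R E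
    have hEm' : Module.Injective R (sesOfInjective ι.hom).X₂ := hEm
    have hC := cechSC_shortExact hS fs
    have h1 : Subsingleton ((localCohomology (Ideal.span {x | x ∈ fs}) (i + 1)).obj
        (sesOfInjective ι.hom).X₂) :=
      lc_subsingleton_of_injective _ _ (i + 1) (Nat.succ_pos i)
    have hc1 : IsZero ((cechSC hS fs).X₂.homology ((i + 1 : ℕ) : ℤ)) :=
      isZero_extCechH_of_injective (sesOfInjective ι.hom).X₂ fs _ (by push_cast; omega)
    have hrel : (ComplexShape.up ℤ).Rel (i : ℤ) ((i + 1 : ℕ) : ℤ) := by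
      show (i : ℤ) + 1 = ((i + 1 : ℕ) : ℤ)
      push_cast; rfl
    rcases Nat.eq_zero_or_pos i with rfl | hi
    · -- from `H^0` to `H^1`
      have hδC : Function.Surjective (hC.δ ((0 : ℕ) : ℤ) ((0 + 1 : ℕ) : ℤ) hrel).hom :=
        (ModuleCat.epi_iff_surjective _).mp (hC.epi_δ _ _ hrel hc1)
      have hexC := (ShortComplex.ShortExact.moduleCat_exact_iff_function_exact _).mp
        (hC.homology_exact₃ ((0 : ℕ) : ℤ) ((0 + 1 : ℕ) : ℤ) hrel)
      have hδL : Function.Surjective (lcDelta (Ideal.span {x | x ∈ fs}) hS 0) := fun y =>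
        lc_exact₁ _ hS 0 y (Subsingleton.elim _ _)
      refine nonempty_linearEquiv_of_surjective
        (hC.δ ((0 : ℕ) : ℤ) ((0 + 1 : ℕ) : ℤ) hrel).hom
        (lcDelta (Ideal.span {x | x ∈ fs}) hS 0) hδC hδL
        (cechTheta fs (sesOfInjective ι.hom).X₃) ?_
      intro b
      constructor
      · intro hb
        obtain ⟨a, rfl⟩ := (hexC b).mp hb
        have := cechTheta_naturality fs (sesOfInjective ι.hom).g a
        erw [this]
        exact lcDelta_comp_map _ hS 0 _
      · intro hb
        obtain ⟨a', ha'⟩ := lc_exact₃ _ hS 0 _ hb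
        obtain ⟨a, rfl⟩ := (cechTheta fs (sesOfInjective ι.hom).X₂).surjective a'
        have hnat := cechTheta_naturality fs (sesOfInjective ι.hom).g a
        have hb' : b = (HomologicalComplex.homologyMap
            (extCechMap (sesOfInjective ι.hom).g fs) 0).hom a :=
          (cechTheta fs (sesOfInjective ι.hom).X₃).injective (ha'.symm.trans hnat.symm)
        rw [hb']
        exact (hexC _).mpr ⟨a, rfl⟩
    · have h0 : Subsingleton ((localCohomology (Ideal.span {x | x ∈ fs}) i).obj
          (sesOfInjective ι.hom).X₂) :=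
        lc_subsingleton_of_injective _ _ i hi
      have hc0 : IsZero ((cechSC hS fs).X₂.homology (i : ℤ)) :=
        isZero_extCechH_of_injective (sesOfInjective ι.hom).X₂ fs _ (by omega)
      obtain ⟨e⟩ := ih (E ⧸ LinearMap.range ι.hom)
      have hiso := hC.isIso_δ _ _ hrel hc0 hc1
      have hbij := (ConcreteCategory.isIso_iff_bijective _).mp hiso
      exact ⟨(LinearEquiv.ofBijective (hC.δ (i : ℤ) ((i + 1 : ℕ) : ℤ) hrel).hom hbij).symm ≪≫ₗ
        e ≪≫ₗ LinearEquiv.ofBijective (lcDelta (Ideal.span {x | x ∈ fs}) hS i)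
          (lcDelta_bijective _ hS i)⟩

end main

end Groth.Agent.Lib.Helper60
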