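import Groth.Agent.Lib.Helper60.DTExact2

/-!
# An algebraic criterion for `cd(I) ≤ 1` (helper60)

If `ρ : A → B` is a ring map such that, for `a ∈ I`, `A_a → B_{ρ a}` is bijective, and `I B = B`,
then `cd(I) ≤ 1`.
-/

set_option autoImplicit false
universe u
open CategoryTheory CategoryTheory.Limits Opposite Abelian
open LocCoh

namespace Groth.Agent.Lib.Helper60

section crit

variable {A : Type u} [CommRing A] {B : Type*} [CommRing B] (ρ : A →+* B) (I : Ideal A)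

/-- the ideal of `x` with `ρ x * b ∈ range ρ`. -/
def conductorIdeal (b : B) : Ideal A where
  carrier := {x | ρ x * b ∈ ρ.range}
  add_mem' := by
    intro x y hx hy
    simp only [Set.mem_setOf_eq, map_add, add_mul]
    exact add_mem hx hy
  zero_mem' := by
    simp only [Set.mem_setOf_eq, map_zero, zero_mul]
    exact zero_mem _
  smul_mem' := by
    intro c x hx
    simp only [smul_eq_mul, map_mul, mul_assoc, Set.mem_setOf_eq]
    exact mul_mem ⟨c, rfl⟩ hx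

lemma mem_conductorIdeal (b : B) (x : A) : x ∈ conductorIdeal ρ b ↔ ρ x * b ∈ ρ.range := Iff.rfl

variable [IsNoetherianRing A]

lemma exists_pow_le_conductorIdeal
    (h2 : ∀ a ∈ I, ∀ b : B, ∃ (m : ℕ) (c : A), ρ a ^ m * b = ρ c) (b : B) :
    ∃ N : ℕ, I ^ N ≤ conductorIdeal ρ b := by
  apply Ideal.exists_pow_le_of_le_radical_of_fg _ (IsNoetherian.noetherian I)
  intro a ha
  obtain ⟨m, c, hc⟩ := h2 a ha b
  refine ⟨m, ?_⟩
  rw [mem_conductorIdeal, map_pow, hc]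
  exact ⟨c, rfl⟩

lemma exists_pow_inf_ker_eq_bot
    (h1 : ∀ a ∈ I, ∀ x : A, ρ x = 0 → ∃ m : ℕ, a ^ m * x = 0) :
    ∃ N : ℕ, I ^ N ⊓ RingHom.ker ρ = ⊥ := by
  have htor : ∀ x ∈ RingHom.ker ρ, ∃ n : ℕ, ∀ a ∈ I ^ n, a • x = 0 := by
    intro x hx
    have hle : I ≤ (Ideal.torsionOf A A x).radical := by
      intro a ha
      obtain ⟨m, hm⟩ := h1 a ha x hx
      exact ⟨m, (Ideal.mem_torsionOf_iff _ _).mpr hm⟩
    obtain ⟨n, hn⟩ := Ideal.exists_pow_le_of_le_radical_of_fg hle (IsNoetherian.noetherian I)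
    exact ⟨n, fun a ha => (Ideal.mem_torsionOf_iff _ _).mp (hn ha)⟩
  obtain ⟨p, hp⟩ := exists_pow_smul_eq_zero_of_fg I (RingHom.ker ρ)
    (IsNoetherian.noetherian _) htor
  obtain ⟨k, hk⟩ := Ideal.exists_pow_inf_eq_pow_smul I (RingHom.ker ρ : Submodule A A)
  refine ⟨k + p, ?_⟩
  have h := hk (k + p) (Nat.le_add_right k p)
  rw [Nat.add_sub_cancel_left] at h
  have e1 : ∀ n : ℕ, I ^ n • (⊤ : Submodule A A) = I ^ n := fun n => by
    rw [smul_eq_mul, Ideal.mul_top]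
  rw [e1] at h
  rw [h, eq_bot_iff]
  refine Submodule.smul_le.mpr ?_
  intro a ha x hx
  rw [Submodule.mem_bot]
  exact hp a ha x hx.2

/-- **Criterion for `cd(I) ≤ 1`.** -/
theorem cdLE_one_of_ringHom
    (h1 : ∀ a ∈ I, ∀ x : A, ρ x = 0 → ∃ m : ℕ, a ^ m * x = 0)
    (h2 : ∀ a ∈ I, ∀ b : B, ∃ (m : ℕ) (c : A), ρ a ^ m * b = ρ c)
    (h3 : I.map ρ = ⊤) : LocCoh.CdLE A I 1 := by
  classical
  -- `1 = Σ ρ(a_k) b_k`
  have h1mem : (1 : B) ∈ Submodule.span B (ρ '' (I : Set A)) := by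
    have : (1 : B) ∈ I.map ρ := by rw [h3]; exact Submodule.mem_top
    exact this
  obtain ⟨l, hl, hsum⟩ := (Finsupp.mem_span_image_iff_linearCombination B).mp h1mem
  rw [Finsupp.linearCombination_apply, Finsupp.sum] at hsum
  -- injectivity exponent
  obtain ⟨N0, hN0⟩ := exists_pow_inf_ker_eq_bot ρ I h1
  -- conductor exponent
  have hcond : ∃ N' : ℕ, ∀ k ∈ l.support, I ^ N' ≤ conductorIdeal ρ (l k) := by
    choose n hn using exists_pow_le_conductorIdeal ρ I h2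
    refine ⟨l.support.sup (fun k => n (l k)), fun k hk => ?_⟩
    exact (Ideal.pow_le_pow_right (Finset.le_sup (f := fun k => n (l k)) hk)).trans (hn (l k))
  obtain ⟨N', hN'⟩ := hcond
  -- existence of lifts
  have hex : ∀ k ∈ l.support, ∀ x ∈ I ^ N0 * I ^ N', ∃ y ∈ I ^ N0, ρ y = ρ x * l k := by
    intro k hk x hx
    induction hx using Submodule.mul_induction_on' with
    | mem_mul_mem u hu v hv =>
      obtain ⟨w, hw⟩ := hN' k hk hv
      refine ⟨u * w, Ideal.mul_mem_right _ _ hu, ?_⟩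
      rw [map_mul, map_mul, hw, mul_assoc]
    | add x hx y hy ihx ihy =>
      obtain ⟨x', hx', hx''⟩ := ihx
      obtain ⟨y', hy', hy''⟩ := ihy
      exact ⟨x' + y', add_mem hx' hy', by rw [map_add, map_add, add_mul, hx'', hy'']⟩
  have huniq : ∀ y ∈ I ^ N0, ∀ y' ∈ I ^ N0, ρ y = ρ y' → y = y' := by
    intro y hy y' hy' h
    have : y - y' ∈ I ^ N0 ⊓ RingHom.ker ρ :=
      ⟨sub_mem hy hy', by
        show y - y' ∈ RingHom.ker ρ
        rw [RingHom.mem_ker, map_sub, h, sub_self]⟩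
    rw [hN0, Submodule.mem_bot] at this
    exact sub_eq_zero.mp this
  -- the maps `φ_k`
  have hφ : ∀ k : {k // k ∈ l.support}, ∃ φ : ↥(I ^ (N0 + N')) →ₗ[A] A,
      ∀ x, φ x ∈ I ^ N0 ∧ ρ (φ x) = ρ x.1 * l k.1 := by
    intro k
    have hx : ∀ x : ↥(I ^ (N0 + N')), ∃ y ∈ I ^ N0, ρ y = ρ x.1 * l k.1 := fun x =>
      hex k.1 k.2 x.1 (by rw [← pow_add]; exact x.2)
    choose f hf hf' using hx
    refine ⟨{ toFun := f, map_add' := ?_, map_smul' := ?_ }, fun x => ⟨hf x, hf' x⟩⟩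
    · intro x y
      apply huniq _ (hf _) _ (add_mem (hf x) (hf y))
      rw [hf', map_add, hf', hf']
      show ρ (x.1 + y.1) * _ = _
      rw [map_add, add_mul]
    · intro c x
      apply huniq _ (hf _) _ (Ideal.mul_mem_left _ _ (hf x))
      rw [hf', RingHom.id_apply, map_mul, hf']
      show ρ (c * x.1) * _ = _
      rw [map_mul, mul_assoc]
  choose φ hφ1 hφ2 using hφ
  refine cdLE_one_of_lift I (fun k : {k // k ∈ l.support} => k.1)
    (fun k => hl k.2) φ ?_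
  intro x
  have hxN0 : x.1 ∈ I ^ N0 := Ideal.pow_le_pow_right (Nat.le_add_right N0 N') x.2
  apply huniq _ hxN0 _ (Ideal.sum_mem _ (fun k _ => Ideal.mul_mem_left _ _ (hφ1 k x)))
  rw [map_sum]
  simp only [map_mul, hφ2]
  have : ∀ k : {k // k ∈ l.support}, ρ k.1 * (ρ x.1 * l k.1) = ρ x.1 * (l k.1 • ρ k.1) := by
    intro k
    rw [smul_eq_mul]
    ring
  simp only [this]
  rw [← Finset.mul_sum, Finset.sum_coe_sort l.support (fun k => l k • ρ k), hsum, mul_one]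

end crit

end Groth.Agent.Lib.Helper60
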