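import Groth.Agent.Lib.Helper60.NV9
import Groth.Agent.Lib.Helper60.LocalCohHeightOne

set_option autoImplicit false
universe u
open CategoryTheory CategoryTheory.Limits Opposite Abelian RingTheory.Sequence IsLocalRing
open Groth.Agent.Lib.Helper29
open scoped TensorProduct

namespace Groth.Agent.Lib.Helper60

section height

variable (R : Type u) [CommRing R] [IsNoetherianRing R]

/-- `H^h_I(R) ≠ 0` for `h = ht p`, `p` a minimal prime over `I`. -/
theorem lc_minimalPrime_nontrivial (I : Ideal R) (p : Ideal R) (hp : p ∈ I.minimalPrimes)
    (h : ℕ) (hph : p.height = h) :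
    Nontrivial (LocCoh.H I h R) := by
  have hpp : p.IsPrime := hp.1.1
  have hdim : ringKrullDim (Localization.AtPrime p) = h := by
    rw [IsLocalization.AtPrime.ringKrullDim_eq_height p (Localization.AtPrime p), hph]
    rfl
  have h1 := lc_top_nontrivial (Localization.AtPrime p) h hdim
  have hmin' : maximalIdeal (Localization.AtPrime p) ∈
      (I.map (algebraMap R (Localization.AtPrime p))).minimalPrimes := by
    rwa [IsLocalization.minimalPrimes_map p.primeCompl (Localization.AtPrime p) I,
      Set.mem_preimage, Localization.AtPrime.under_maximalIdeal]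
  have hrad := radical_eq_maximalIdeal_of_mem_minimalPrimes _ hmin'
  obtain ⟨φ⟩ := nonempty_lc_flatBaseChange (R' := Localization.AtPrime p) I h R
  by_contra hcon
  rw [not_nontrivial_iff_subsingleton] at hcon
  have h2 : Subsingleton ((Localization.AtPrime p) ⊗[R] LocCoh.H I h R) := by
    refine ⟨fun a b => ?_⟩
    have key : ∀ c : (Localization.AtPrime p) ⊗[R] LocCoh.H I h R, c = 0 := by
      intro c
      induction c using TensorProduct.induction_on with
      | zero => rfl
      | tmul x y => rw [Subsingleton.elim y 0, TensorProduct.tmul_zero]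
      | add x y hx hy => rw [hx, hy, add_zero]
    rw [key a, key b]
  have h3 : Subsingleton (LocCoh.H (I.map (algebraMap R (Localization.AtPrime p))) h
      ((Localization.AtPrime p) ⊗[R] R)) := φ.symm.toEquiv.subsingleton
  let r := TensorProduct.AlgebraTensorModule.rid R (Localization.AtPrime p)
    (Localization.AtPrime p)
  have h4 : Subsingleton (LocCoh.H (I.map (algebraMap R (Localization.AtPrime p))) h
      (Localization.AtPrime p)) :=
    ((localCohomology (I.map (algebraMap R (Localization.AtPrime p))) h).mapIso
      r.toModuleIso).toLinearEquiv.symm.toEquiv.subsingleton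
  have h5 : Subsingleton (LocCoh.H (maximalIdeal (Localization.AtPrime p)) h
      (Localization.AtPrime p)) :=
    (((localCohomology.isoOfSameRadical
      (hrad.trans (Ideal.IsPrime.radical inferInstance).symm) h).app
      (ModuleCat.of (Localization.AtPrime p)
        (Localization.AtPrime p))).toLinearEquiv).symm.toEquiv.subsingleton
  exact not_subsingleton _ h5

/-- `H^h_I(R) ≠ 0` for `h = ht I`. -/
theorem lc_height_nontrivial (I : Ideal R) (hI : I ≠ ⊤) (h : ℕ) (hh : I.height = h) :
    Nontrivial (LocCoh.H I h R) := by
  have hne : Nonempty I.minimalPrimes := Ideal.nonempty_minimalPrimes hI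
  obtain ⟨⟨p, hp⟩, hpe⟩ := ENat.exists_eq_iInf (fun q : I.minimalPrimes => q.1.height)
  have hIh : I.height = ⨅ q : I.minimalPrimes, q.1.height := by
    rw [Ideal.height_eq_inf_minimalPrimes, iInf_subtype']
  have hph : p.height = h := by
    rw [← hh, hIh]
    exact hpe
  exact lc_minimalPrime_nontrivial R I p hp h hph

end height

end Groth.Agent.Lib.Helper60
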