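import Groth.Agent.Lib.Helper60.AC1
import Groth.Agent.Lib.Helper60.NV10
import Mathlib.AlgebraicGeometry.AffineScheme

/-!
# Affine open complements have codimension ≤ 1 (helper60)
-/

set_option autoImplicit false
universe u
open CategoryTheory CategoryTheory.Limits Opposite AlgebraicGeometry
open LocCoh

namespace Groth.Agent.Lib.Helper60

section sch

variable {X : Scheme.{u}} [IsAffine X] {U : X.Opens} (hU : IsAffineOpen U)

/-- restriction `Γ(X, ⊤) → Γ(X, U)`. -/
noncomputable def resTop (U : X.Opens) : Γ(X, ⊤) →+* Γ(X, U) :=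
  (X.presheaf.map (homOfLE (le_top : U ≤ ⊤)).op).hom

omit [IsAffine X] in
lemma basicOpen_resTop (a : Γ(X, ⊤)) : X.basicOpen (resTop U a) = U ⊓ X.basicOpen a :=
  Scheme.basicOpen_res X a (homOfLE (le_top : U ≤ ⊤)).op

omit [IsAffine X] in
lemma res_comp_resTop {V : X.Opens} (hVU : V ≤ U) (x : Γ(X, ⊤)) :
    (X.presheaf.map (homOfLE hVU).op).hom (resTop U x) =
      (X.presheaf.map (homOfLE (le_top : V ≤ ⊤)).op).hom x := by
  unfold resTop
  rw [← CommRingCat.comp_apply, ← Functor.map_comp]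
  rfl

lemma exists_pow_mul_eq_zero_of_resTop_eq_zero (a : Γ(X, ⊤)) (haU : X.basicOpen a ≤ U)
    (x : Γ(X, ⊤)) (hx : resTop U x = 0) : ∃ m : ℕ, a ^ m * x = 0 := by
  let _ : Algebra Γ(X, ⊤) Γ(X, X.basicOpen a) :=
    (X.presheaf.map (homOfLE (le_top : X.basicOpen a ≤ ⊤)).op).hom.toAlgebra
  have hloc : IsLocalization.Away a Γ(X, X.basicOpen a) :=
    (isAffineOpen_top X).isLocalization_of_eq_basicOpen a (homOfLE le_top) rfl
  have h0 : algebraMap Γ(X, ⊤) Γ(X, X.basicOpen a) x = 0 := by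
    show (X.presheaf.map (homOfLE (le_top : X.basicOpen a ≤ ⊤)).op).hom x = 0
    rw [← res_comp_resTop haU, hx, map_zero]
  obtain ⟨⟨_, m, rfl⟩, hm⟩ := (IsLocalization.map_eq_zero_iff (Submonoid.powers a) _ x).mp h0
  exact ⟨m, hm⟩

include hU in
lemma exists_pow_mul_eq_resTop (a : Γ(X, ⊤)) (haU : X.basicOpen a ≤ U) (b : Γ(X, U)) :
    ∃ (m : ℕ) (c : Γ(X, ⊤)), resTop U a ^ m * b = resTop U c := by
  have hV : X.basicOpen a = X.basicOpen (resTop U a) := by
    rw [basicOpen_resTop, inf_eq_right.mpr haU]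
  -- localization of `Γ(X, ⊤)`
  obtain ⟨k, c, hc⟩ : ∃ (k : ℕ) (c : Γ(X, ⊤)),
      (X.presheaf.map (homOfLE haU).op).hom b *
        (X.presheaf.map (homOfLE (le_top : X.basicOpen a ≤ ⊤)).op).hom a ^ k =
      (X.presheaf.map (homOfLE (le_top : X.basicOpen a ≤ ⊤)).op).hom c := by
    let _ : Algebra Γ(X, ⊤) Γ(X, X.basicOpen a) :=
      (X.presheaf.map (homOfLE (le_top : X.basicOpen a ≤ ⊤)).op).hom.toAlgebra
    have hloc : IsLocalization.Away a Γ(X, X.basicOpen a) :=
      (isAffineOpen_top X).isLocalization_of_eq_basicOpen a (homOfLE le_top) rfl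
    exact IsLocalization.Away.surj a ((X.presheaf.map (homOfLE haU).op).hom b)
  -- localization of `Γ(X, U)`
  let _ : Algebra Γ(X, U) Γ(X, X.basicOpen a) := (X.presheaf.map (homOfLE haU).op).hom.toAlgebra
  have hloc : IsLocalization.Away (resTop U a) Γ(X, X.basicOpen a) :=
    hU.isLocalization_of_eq_basicOpen (resTop U a) (homOfLE haU) hV
  have h0 : algebraMap Γ(X, U) Γ(X, X.basicOpen a) (b * resTop U a ^ k - resTop U c) = 0 := by
    show (X.presheaf.map (homOfLE haU).op).hom (b * resTop U a ^ k - resTop U c) = 0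
    rw [map_sub, map_mul, map_pow, res_comp_resTop, res_comp_resTop, hc, sub_self]
  obtain ⟨⟨_, l, rfl⟩, hl⟩ := (IsLocalization.map_eq_zero_iff
    (Submonoid.powers (resTop U a)) _ _).mp h0
  refine ⟨l + k, a ^ l * c, ?_⟩
  have hl' : resTop U a ^ l * (b * resTop U a ^ k - resTop U c) = 0 := hl
  rw [map_mul, map_pow]
  linear_combination hl'

include hU in
/-- if `U` is an affine open of the affine scheme `X` then the ideal of functions whose
non-vanishing locus is in `U` has cohomological dimension `≤ 1`. -/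
theorem cdLE_one_of_isAffineOpen [IsNoetherianRing Γ(X, ⊤)] (I : Ideal Γ(X, ⊤))
    (hI : ∀ a ∈ I, X.basicOpen a ≤ U) (hcov : U ≤ ⨆ a : I, X.basicOpen a.1) :
    LocCoh.CdLE Γ(X, ⊤) I 1 := by
  refine cdLE_one_of_ringHom (resTop U) I ?_ ?_ ?_
  · intro a ha x hx
    exact exists_pow_mul_eq_zero_of_resTop_eq_zero a (hI a ha) x hx
  · intro a ha b
    exact exists_pow_mul_eq_resTop hU a (hI a ha) b
  · have : Ideal.span ((resTop U) '' (I : Set Γ(X, ⊤))) = ⊤ := by
      rw [← hU.self_le_iSup_basicOpen_iff]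
      refine hcov.trans ?_
      rw [iSup_le_iff]
      rintro ⟨a, ha⟩
      refine le_trans ?_ (le_iSup _ ⟨resTop U a, ⟨a, ha, rfl⟩⟩)
      show X.basicOpen a ≤ X.basicOpen (resTop U a)
      rw [basicOpen_resTop, inf_eq_right.mpr (hI a ha)]
    exact this

end sch

section spec

variable (A : Type u) [CommRing A] [IsNoetherianRing A]

/-- **Complements of affine opens have codimension `≤ 1`.** -/
theorem height_le_one_of_isAffineOpen_compl (U : (Spec (CommRingCat.of A)).Opens)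
    (hU : IsAffineOpen U) (p : PrimeSpectrum A)
    (hpU : (p : (Spec (CommRingCat.of A) : Type u)) ∉
      (U : Set (Spec (CommRingCat.of A) : Type u)))
    (hmin : ∀ q : PrimeSpectrum A, q.asIdeal ≤ p.asIdeal →
      (q : (Spec (CommRingCat.of A) : Type u)) ∉ (U : Set (Spec (CommRingCat.of A) : Type u)) →
      q = p) : p.asIdeal.height ≤ 1 := by
  let X := Spec (CommRingCat.of A)
  let e : A ≃+* Γ(X, ⊤) := (Scheme.ΓSpecIso (CommRingCat.of A)).symm.commRingCatIsoToRingEquiv
  have he : ∀ a' : Γ(X, ⊤), e.symm a' = (Scheme.ΓSpecIso (CommRingCat.of A)).hom a' := fun _ => rfl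
  have hN : IsNoetherianRing Γ(X, ⊤) := isNoetherianRing_of_ringEquiv A e
  let Z : Set (PrimeSpectrum A) :=
    show Set (PrimeSpectrum A) from ((U : Set (Spec (CommRingCat.of A) : Type u)))ᶜ
  have hZcl : IsClosed Z := U.isOpen.isClosed_compl
  let I : Ideal A := PrimeSpectrum.vanishingIdeal Z
  have hzl : PrimeSpectrum.zeroLocus (I : Set A) = Z := by
    rw [PrimeSpectrum.zeroLocus_vanishingIdeal_eq_closure, hZcl.closure_eq]
  have hmemZ : ∀ q : PrimeSpectrum A, I ≤ q.asIdeal ↔ q ∈ Z := by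
    intro q
    rw [← hzl, PrimeSpectrum.mem_zeroLocus]
    rfl
  let I' : Ideal Γ(X, ⊤) := Ideal.comap (e.symm : Γ(X, ⊤) →+* A) I
  let p' : Ideal Γ(X, ⊤) := Ideal.comap (e.symm : Γ(X, ⊤) →+* A) p.asIdeal
  have hp'prime : p'.IsPrime := Ideal.comap_isPrime _ _
  -- (1)
  have h1 : ∀ a' ∈ I', X.basicOpen a' ≤ U := by
    intro a' ha' x hx
    rw [basicOpen_eq_of_affine'] at hx
    by_contra hxU
    have hxZ : (x : PrimeSpectrum A) ∈ Z := hxU
    have : e.symm a' ∈ (x : PrimeSpectrum A).asIdeal :=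
      (PrimeSpectrum.mem_vanishingIdeal Z (e.symm a')).mp ha' x hxZ
    exact hx this
  -- (2)
  have h2 : U ≤ ⨆ a' : I', X.basicOpen a'.1 := by
    intro x hx
    have hxZ : ¬ I ≤ (x : PrimeSpectrum A).asIdeal := fun h => ((hmemZ x).mp h) hx
    obtain ⟨a, haI, hax⟩ := SetLike.not_le_iff_exists.mp hxZ
    have haI' : e a ∈ I' := by
      show e.symm (e a) ∈ I
      rw [e.symm_apply_apply]
      exact haI
    refine TopologicalSpace.Opens.mem_iSup.mpr ⟨⟨e a, haI'⟩, ?_⟩
    show x ∈ X.basicOpen (e a)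
    rw [basicOpen_eq_of_affine']
    show (Scheme.ΓSpecIso (CommRingCat.of A)).hom (e a) ∉ (x : PrimeSpectrum A).asIdeal
    rw [← he, e.symm_apply_apply]
    exact hax
  have hcd := cdLE_one_of_isAffineOpen hU I' h1 h2
  -- (3)
  have hp' : p' ∈ I'.minimalPrimes := by
    refine ⟨⟨hp'prime, Ideal.comap_mono ((hmemZ p).mpr hpU)⟩, ?_⟩
    rintro q' ⟨hq'prime, hIq'⟩ hq'p'
    let q : PrimeSpectrum A := ⟨Ideal.comap (e : A →+* Γ(X, ⊤)) q', Ideal.comap_isPrime _ _⟩
    have hqI : I ≤ q.asIdeal := by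
      intro a ha
      show e a ∈ q'
      apply hIq'
      show e.symm (e a) ∈ I
      rw [e.symm_apply_apply]
      exact ha
    have hqp : q.asIdeal ≤ p.asIdeal := by
      intro a ha
      have : e a ∈ p' := hq'p' ha
      have h' : e.symm (e a) ∈ p.asIdeal := this
      rwa [e.symm_apply_apply] at h'
    have hqe := hmin q hqp ((hmemZ q).mp hqI)
    intro a' ha'
    have h' : e.symm a' ∈ q.asIdeal := by rw [hqe]; exact ha'
    have h'' : e (e.symm a') ∈ q' := h'
    rwa [e.apply_symm_apply] at h''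
  have hht : p'.height = p.asIdeal.height := by
    rw [← RingEquiv.height_comap e p']
    congr 1
    ext a
    show e.symm (e a) ∈ p.asIdeal ↔ _
    rw [e.symm_apply_apply]
  rw [← hht]
  -- conclude via non-vanishing
  have hfin : p'.height ≠ ⊤ := Ideal.height_ne_top hp'prime.ne_top
  obtain ⟨h, hh⟩ := ENat.ne_top_iff_exists.mp hfin
  rw [← hh]
  by_contra hcon
  push Not at hcon
  have hlt : 1 < h := by exact_mod_cast hcon
  have hnt := lc_minimalPrime_nontrivial Γ(X, ⊤) I' p' hp' h hh.symm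
  have := hcd Γ(X, ⊤) h hlt
  exact not_subsingleton _ this

end spec

end Groth.Agent.Lib.Helper60
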