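import Groth.Agent.Lib.Helper35.RHomKInj

/-! # The evaluation map `K ⟶ Hom•(Hom•(K, I), I)` (helper60) -/

set_option autoImplicit false
universe u

open CategoryTheory Limits CochainComplex HomComplex

namespace Groth.Agent.Lib.Helper60.BiDual

open Groth.Agent.Lib.Helper35.RHomKInj

variable {A : Type u} [CommRing A]

/-- evaluation at `x ∈ K^p`, as a degree `p` cochain `Hom•(K, I) ⟶ I` (with the Koszul sign). -/
noncomputable def evCochain (K I : DRing.Cx A) (p : ℤ) (x : K.X p) :
    Cochain (DRing.homCx K I) I p :=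
  Cochain.mk (fun m q hmq => ModuleCat.ofHom
    { toFun := fun (z : Cochain K I m) => (p * m).negOnePow • (z.v p q (by omega)).hom x
      map_add' := fun z z' => by
        simp only [Cochain.add_v, ModuleCat.hom_add, LinearMap.add_apply, smul_add]
      map_smul' := fun a z => by
        simp only [Cochain.smul_v, ModuleCat.hom_smul, LinearMap.smul_apply, RingHom.id_apply]
        rw [smul_comm] })

lemma evCochain_v_apply (K I : DRing.Cx A) (p : ℤ) (x : K.X p) (m q : ℤ) (hmq : m + p = q)
    (z : Cochain K I m) :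
    ((evCochain K I p x).v m q hmq).hom z = (p * m).negOnePow • (z.v p q (by omega)).hom x := rfl

/-- `evCochain` as a linear map. -/
noncomputable def evLin (K I : DRing.Cx A) (p : ℤ) :
    K.X p →ₗ[A] Cochain (DRing.homCx K I) I p where
  toFun x := evCochain K I p x
  map_add' x y := by
    refine Cochain.ext _ _ (fun m q hmq => ModuleCat.hom_ext (LinearMap.ext fun z => ?_))
    rw [Cochain.add_v, ModuleCat.hom_add, LinearMap.add_apply]
    erw [evCochain_v_apply, evCochain_v_apply, evCochain_v_apply]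
    rw [map_add, smul_add]
  map_smul' a x := by
    refine Cochain.ext _ _ (fun m q hmq => ModuleCat.hom_ext (LinearMap.ext fun z => ?_))
    rw [RingHom.id_apply, Cochain.smul_v, ModuleCat.hom_smul, LinearMap.smul_apply]
    erw [evCochain_v_apply, evCochain_v_apply]
    rw [map_smul, smul_comm]

lemma evLin_apply (K I : DRing.Cx A) (p : ℤ) (x : K.X p) : evLin K I p x = evCochain K I p x := rfl

/-- the evaluation morphism `K ⟶ Hom•(Hom•(K, I), I)`. -/
noncomputable def evCx (K I : DRing.Cx A) : K ⟶ DRing.homCx (DRing.homCx K I) I where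
  f p := ModuleCat.ofHom (evLin K I p)
  comm' p p' hpp' := by
    have hp : p + 1 = p' := hpp'
    subst hp
    refine ModuleCat.hom_ext (LinearMap.ext fun x => ?_)
    change δ p (p + 1) (evCochain K I p x) = evCochain K I (p + 1) ((K.d p (p + 1)).hom x)
    refine Cochain.ext _ _ (fun m q hmq => ModuleCat.hom_ext (LinearMap.ext fun z => ?_))
    rw [δ_v p (p + 1) rfl _ m q hmq (m + p) (m + 1) (by omega) (by omega)]
    rw [ModuleCat.hom_add, LinearMap.add_apply, ModuleCat.hom_comp, LinearMap.comp_apply,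
      ModuleCat.hom_smul, LinearMap.smul_apply, ModuleCat.hom_comp, LinearMap.comp_apply]
    erw [evCochain_v_apply, evCochain_v_apply, evCochain_v_apply]
    have hd : ((DRing.homCx K I).d m (m + 1)).hom z = δ m (m + 1) z := rfl
    rw [hd, δ_v m (m + 1) rfl z p q (by omega) (m + p) (p + 1) (by omega) (by omega)]
    have h1 : (p + 1).negOnePow * (p * (m + 1)).negOnePow = -(p * m).negOnePow := by
      rw [← Int.negOnePow_add, show (p + 1) + p * (m + 1) = p * m + (2 * p + 1) by ring,
        Int.negOnePow_add, Int.negOnePow_odd (2 * p + 1) ⟨p, rfl⟩, mul_neg, mul_one]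
    have h2 : (p + 1).negOnePow * (p * (m + 1)).negOnePow * (m + 1).negOnePow =
        ((p + 1) * m).negOnePow := by
      rw [← Int.negOnePow_add, ← Int.negOnePow_add,
        show (p + 1) + p * (m + 1) + (m + 1) = (p + 1) * m + 2 * (p + 1) by ring,
        Int.negOnePow_add, Int.negOnePow_even (2 * (p + 1)) ⟨p + 1, by ring⟩, mul_one]
    rw [ModuleCat.hom_add, LinearMap.add_apply, ModuleCat.hom_comp, LinearMap.comp_apply,
      ModuleCat.hom_smul, LinearMap.smul_apply, ModuleCat.hom_comp, LinearMap.comp_apply,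
      smul_add, smul_add, smul_smul, smul_smul, smul_smul, h2, h1, Units.neg_smul]
    have h3 : ∀ (s : ℤˣ) (a : I.X (m + p)), (I.d (m + p) q).hom (s • a) = s • (I.d (m + p) q).hom a := by
      intro s a
      rw [Units.smul_def, Units.smul_def, map_zsmul]
    rw [h3]
    abel

lemma evCx_f_apply (K I : DRing.Cx A) (p : ℤ) (x : K.X p) :
    ((evCx K I).f p).hom x = evCochain K I p x := rfl

/-- the double dual on morphisms. -/
noncomputable abbrev ddMap {K K' : DRing.Cx A} (f : K ⟶ K') (I : DRing.Cx A) :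
    DRing.homCx (DRing.homCx K I) I ⟶ DRing.homCx (DRing.homCx K' I) I :=
  homCxPre (homCxPre f I) I

/-- naturality of the evaluation map. -/
lemma evCx_naturality {K K' : DRing.Cx A} (f : K ⟶ K') (I : DRing.Cx A) :
    f ≫ evCx K' I = evCx K I ≫ ddMap f I := by
  refine HomologicalComplex.hom_ext _ _ (fun p => ModuleCat.hom_ext (LinearMap.ext fun x => ?_))
  change evCochain K' I p ((f.f p).hom x) =
    (Cochain.ofHom (homCxPre f I)).comp (evCochain K I p x) (zero_add p)
  refine Cochain.ext _ _ (fun m q hmq => ModuleCat.hom_ext (LinearMap.ext fun z => ?_))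
  rw [Cochain.zero_cochain_comp_v, Cochain.ofHom_v, ModuleCat.hom_comp, LinearMap.comp_apply]
  erw [evCochain_v_apply, evCochain_v_apply]
  congr 1
  have h : ((homCxPre f I).f m).hom z = (Cochain.ofHom f).comp z (zero_add m) := rfl
  rw [h, Cochain.zero_cochain_comp_v, Cochain.ofHom_v, ModuleCat.hom_comp, LinearMap.comp_apply]

lemma homCxPre_f_apply {E E' : DRing.Cx A} (φ : E' ⟶ E) (L : DRing.Cx A) (i : ℤ)
    (z : Cochain E L i) :
    ((homCxPre φ L).f i).hom z = (Cochain.ofHom φ).comp z (zero_add i) := rfl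

lemma homCxPre_id (E L : DRing.Cx A) : homCxPre (𝟙 E) L = 𝟙 _ := by
  refine HomologicalComplex.hom_ext _ _ (fun i => ModuleCat.hom_ext (LinearMap.ext fun z => ?_))
  erw [homCxPre_f_apply]
  rw [Cochain.id_comp]
  rfl

lemma homCxPre_comp {E E' E'' : DRing.Cx A} (φ : E' ⟶ E) (ψ : E'' ⟶ E') (L : DRing.Cx A) :
    homCxPre (ψ ≫ φ) L = homCxPre φ L ≫ homCxPre ψ L := by
  refine HomologicalComplex.hom_ext _ _ (fun i => ModuleCat.hom_ext (LinearMap.ext fun z => ?_))
  rw [HomologicalComplex.comp_f, ModuleCat.hom_comp, LinearMap.comp_apply]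
  erw [homCxPre_f_apply, homCxPre_f_apply, homCxPre_f_apply]
  rw [Cochain.ofHom_comp, Cochain.comp_assoc_of_first_is_zero_cochain]

lemma homCxPre_zero (E E' L : DRing.Cx A) : homCxPre (0 : E' ⟶ E) L = 0 := by
  refine HomologicalComplex.hom_ext _ _ (fun i => ModuleCat.hom_ext (LinearMap.ext fun z => ?_))
  erw [homCxPre_f_apply]
  rw [Cochain.ofHom_zero, Cochain.zero_comp]
  rfl

/-- `Hom•(-, L)` on isomorphisms. -/
noncomputable def homCxPreIso {E E' : DRing.Cx A} (e : E' ≅ E) (L : DRing.Cx A) :
    DRing.homCx E L ≅ DRing.homCx E' L where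
  hom := homCxPre e.hom L
  inv := homCxPre e.inv L
  hom_inv_id := by rw [← homCxPre_comp, e.inv_hom_id, homCxPre_id]
  inv_hom_id := by rw [← homCxPre_comp, e.hom_inv_id, homCxPre_id]

end Groth.Agent.Lib.Helper60.BiDual
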