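import Groth.Agent.Lib.Helper60.BiDualA
import Groth.Agent.Lib.Helper6.HomCxH

/-! # Exactness and boundedness of `Hom•(-, I)` (helper60) -/

set_option autoImplicit false
universe u

open CategoryTheory Limits CochainComplex HomComplex ZeroObject

namespace Groth.Agent.Lib.Helper60.BiDual

open Groth.Agent.Lib.Helper35.RHomKInj

attribute [local instance] HasDerivedCategory.standard

variable {A : Type u} [CommRing A]

/-- `Hom•(-, I)` applied to a short complex of complexes. -/
noncomputable def GSC (S : ShortComplex (DRing.Cx A)) (I : DRing.Cx A) :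
    ShortComplex (DRing.Cx A) :=
  ShortComplex.mk (homCxPre S.g I) (homCxPre S.f I) (by
    rw [← homCxPre_comp, S.zero, homCxPre_zero])

lemma GSC_shortExact (S : ShortComplex (DRing.Cx A)) (hS : S.ShortExact) (I : DRing.Cx A)
    (hI : ∀ i : ℤ, Injective (I.X i)) : (GSC S I).ShortExact := by
  have hSi := (HomologicalComplex.shortExact_iff_degreewise_shortExact S).mp hS
  apply HomologicalComplex.shortExact_of_degreewise_shortExact
  intro n
  refine ShortComplex.ShortExact.mk' ?_ ?_ ?_
  · rw [ShortComplex.moduleCat_exact_iff]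
    intro (z : Cochain S.X₂ I n) hz
    have hz' : (Cochain.ofHom S.f).comp z (zero_add n) = 0 := hz
    have hzv : ∀ p q (hpq : p + n = q), S.f.f p ≫ z.v p q hpq = 0 := by
      intro p q hpq
      have := congrArg (fun c => c.v p q hpq) hz'
      simpa using this
    have hepi : ∀ p, Epi (S.map (HomologicalComplex.eval (ModuleCat.{u} A) (ComplexShape.up ℤ) p)).g :=
      fun p => (hSi p).epi_g
    refine ⟨Cochain.mk (fun p q hpq => (hSi p).exact.desc (z.v p q hpq) (hzv p q hpq)), ?_⟩
    change (Cochain.ofHom S.g).comp _ (zero_add n) = z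
    refine Cochain.ext _ _ (fun p q hpq => ?_)
    rw [Cochain.zero_cochain_comp_v, Cochain.ofHom_v, Cochain.mk_v]
    exact (hSi p).exact.g_desc (z.v p q hpq) (hzv p q hpq)
  · rw [ModuleCat.mono_iff_injective]
    intro (z : Cochain S.X₃ I n) (z' : Cochain S.X₃ I n) hzz'
    have h : (Cochain.ofHom S.g).comp z (zero_add n) = (Cochain.ofHom S.g).comp z' (zero_add n) :=
      hzz'
    refine Cochain.ext _ _ (fun p q hpq => ?_)
    have := congrArg (fun c => c.v p q hpq) h
    simp only [Cochain.zero_cochain_comp_v, Cochain.ofHom_v] at this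
    have hepi : Epi (S.g.f p) := (hSi p).epi_g
    exact (cancel_epi (S.g.f p)).1 this
  · rw [ModuleCat.epi_iff_surjective]
    intro (y : Cochain S.X₁ I n)
    have hmono : ∀ p, Mono (S.f.f p) := fun p => (hSi p).mono_f
    have := hI
    refine ⟨Cochain.mk (fun p q hpq => Injective.factorThru (y.v p q hpq) (S.f.f p)), ?_⟩
    change (Cochain.ofHom S.f).comp _ (zero_add n) = y
    refine Cochain.ext _ _ (fun p q hpq => ?_)
    rw [Cochain.zero_cochain_comp_v, Cochain.ofHom_v, Cochain.mk_v]
    exact Injective.comp_factorThru (y.v p q hpq) (S.f.f p)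

/-- the double dual of a short complex of complexes. -/
noncomputable def FSC (S : ShortComplex (DRing.Cx A)) (I : DRing.Cx A) :
    ShortComplex (DRing.Cx A) := GSC (GSC S I) I

lemma FSC_shortExact (S : ShortComplex (DRing.Cx A)) (hS : S.ShortExact) (I : DRing.Cx A)
    (hI : ∀ i : ℤ, Injective (I.X i)) : (FSC S I).ShortExact :=
  GSC_shortExact _ (GSC_shortExact S hS I hI) I hI

/-- the evaluation map as a morphism of short complexes. -/
noncomputable def evSC (S : ShortComplex (DRing.Cx A)) (I : DRing.Cx A) : S ⟶ FSC S I :=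
  ShortComplex.homMk (evCx S.X₁ I) (evCx S.X₂ I) (evCx S.X₃ I)
    (evCx_naturality S.f I).symm (evCx_naturality S.g I).symm

section twoOfThree

variable {S₁ S₂ : ShortComplex (DRing.Cx A)} (h₁ : S₁.ShortExact) (h₂ : S₂.ShortExact)
  (φ : S₁ ⟶ S₂)

include h₁ h₂

lemma quasiIso_τ₂_of (q₁ : QuasiIso φ.τ₁) (q₃ : QuasiIso φ.τ₃) : QuasiIso φ.τ₂ := by
  rw [← DerivedCategory.isIso_Q_map_iff_quasiIso] at q₁ q₃ ⊢
  exact Pretriangulated.isIso₂_of_isIso₁₃ (DerivedCategory.triangleOfSES.map h₁ h₂ φ)
    (DerivedCategory.triangleOfSES_distinguished h₁)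
    (DerivedCategory.triangleOfSES_distinguished h₂) q₁ q₃

lemma quasiIso_τ₁_of (q₂ : QuasiIso φ.τ₂) (q₃ : QuasiIso φ.τ₃) : QuasiIso φ.τ₁ := by
  rw [← DerivedCategory.isIso_Q_map_iff_quasiIso] at q₂ q₃ ⊢
  exact Pretriangulated.isIso₁_of_isIso₂₃ (DerivedCategory.triangleOfSES.map h₁ h₂ φ)
    (DerivedCategory.triangleOfSES_distinguished h₁)
    (DerivedCategory.triangleOfSES_distinguished h₂) q₂ q₃

lemma quasiIso_τ₃_of (q₁ : QuasiIso φ.τ₁) (q₂ : QuasiIso φ.τ₂) : QuasiIso φ.τ₃ := by
  rw [← DerivedCategory.isIso_Q_map_iff_quasiIso] at q₁ q₂ ⊢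
  exact Pretriangulated.isIso₃_of_isIso₁₂ (DerivedCategory.triangleOfSES.map h₁ h₂ φ)
    (DerivedCategory.triangleOfSES_distinguished h₁)
    (DerivedCategory.triangleOfSES_distinguished h₂) q₁ q₂

end twoOfThree

section bounds

variable (K I : DRing.Cx A)

lemma isZero_homCx_X (n : ℤ) (h : ∀ p q : ℤ, p + n = q → IsZero (K.X p) ∨ IsZero (I.X q)) :
    IsZero ((DRing.homCx K I).X n) := by
  have hs : Subsingleton (Cochain K I n) := by
    refine ⟨fun z z' => Cochain.ext _ _ (fun p q hpq => ?_)⟩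
    rcases h p q hpq with h | h
    · exact h.eq_of_src _ _
    · exact h.eq_of_tgt _ _
  exact ModuleCat.isZero_of_subsingleton (ModuleCat.of A (Cochain K I n))

lemma isStrictlyLE_homCx (t b : ℤ) [K.IsStrictlyGE t] [I.IsStrictlyLE b] :
    (DRing.homCx K I).IsStrictlyLE (b - t) := by
  rw [CochainComplex.isStrictlyLE_iff]
  intro n hn
  refine isZero_homCx_X K I n (fun p q hpq => ?_)
  by_cases hp : p < t
  · exact Or.inl (K.isZero_of_isStrictlyGE t p hp)
  · exact Or.inr (I.isZero_of_isStrictlyLE b q (by omega))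

lemma isStrictlyGE_homCx (s a : ℤ) [K.IsStrictlyLE s] [I.IsStrictlyGE a] :
    (DRing.homCx K I).IsStrictlyGE (a - s) := by
  rw [CochainComplex.isStrictlyGE_iff]
  intro n hn
  refine isZero_homCx_X K I n (fun p q hpq => ?_)
  by_cases hp : s < p
  · exact Or.inl (K.isZero_of_isStrictlyLE s p hp)
  · exact Or.inr (I.isZero_of_isStrictlyGE a q (by omega))

/-- the double dual is strictly `≥ t - (b - a)` if `K` is strictly `≥ t`. -/
lemma isStrictlyGE_dd (t a b : ℤ) [K.IsStrictlyGE t] [I.IsStrictlyGE a] [I.IsStrictlyLE b] :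
    (DRing.homCx (DRing.homCx K I) I).IsStrictlyGE (a - (b - t)) := by
  have := isStrictlyLE_homCx K I t b
  exact isStrictlyGE_homCx (DRing.homCx K I) I (b - t) a

/-- the double dual is strictly `≤ s + (b - a)` if `K` is strictly `≤ s`. -/
lemma isStrictlyLE_dd (s a b : ℤ) [K.IsStrictlyLE s] [I.IsStrictlyGE a] [I.IsStrictlyLE b] :
    (DRing.homCx (DRing.homCx K I) I).IsStrictlyLE (b - (a - s)) := by
  have := isStrictlyGE_homCx K I s a
  exact isStrictlyLE_homCx (DRing.homCx K I) I (a - s) b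

end bounds

section qi

lemma isZero_Q_obj_of_acyclic (K : DRing.Cx A) (hK : K.Acyclic) :
    IsZero (DerivedCategory.Q.obj K : Dual.D A) := by
  have h0 : (0 : DRing.Cx A).Acyclic := fun i => by
    rw [HomologicalComplex.exactAt_iff_isZero_homology]
    exact Functor.map_isZero (HomologicalComplex.homologyFunctor _ (ComplexShape.up ℤ) i)
      (isZero_zero _)
  have : QuasiIso (0 : K ⟶ 0) := by
    rw [quasiIso_iff]
    intro i
    rw [quasiIsoAt_iff_isIso_homologyMap]
    have h1 : IsZero (K.homology i) := (hK i).isZero_homology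
    have h2 : IsZero ((0 : DRing.Cx A).homology i) := (h0 i).isZero_homology
    exact ⟨0, h1.eq_of_src _ _, h2.eq_of_src _ _⟩
  exact IsZero.of_iso (Functor.map_isZero _ (isZero_zero _))
    (asIso (DerivedCategory.Q.map (0 : K ⟶ 0)))

lemma acyclic_of_isZero_Q_obj (K : DRing.Cx A)
    (hK : IsZero (DerivedCategory.Q.obj K : Dual.D A)) : K.Acyclic := by
  intro i
  rw [HomologicalComplex.exactAt_iff_isZero_homology]
  exact IsZero.of_iso (Functor.map_isZero (DerivedCategory.homologyFunctor _ i) hK)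
    ((DerivedCategory.homologyFunctorFactors (ModuleCat.{u} A) i).app K).symm

lemma quasiIso_of_acyclic {K L : DRing.Cx A} (f : K ⟶ L) (hK : K.Acyclic) (hL : L.Acyclic) :
    QuasiIso f := by
  rw [quasiIso_iff]
  intro i
  rw [quasiIsoAt_iff_exactAt f i (hK i)]
  exact hL i

variable (I : DRing.Cx A) [I.IsKInjective]

instance quasiIso_ddMap {K K' : DRing.Cx A} (f : K ⟶ K') [QuasiIso f] : QuasiIso (ddMap f I) := by
  have := quasiIso_homCxPre f I
  exact quasiIso_homCxPre (homCxPre f I) I

lemma acyclic_homCx (K : DRing.Cx A) (hK : K.Acyclic) : (DRing.homCx K I).Acyclic := by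
  intro n
  rw [HomologicalComplex.exactAt_iff_isZero_homology]
  have hz : IsZero (DerivedCategory.Q.obj K : Dual.D A) := isZero_Q_obj_of_acyclic K hK
  have hs : Subsingleton ((DerivedCategory.Q.obj K : Dual.D A) ⟶
      (DerivedCategory.Q.obj I : Dual.D A)⟦n⟧) := ⟨fun f g => hz.eq_of_src f g⟩
  have := (Groth.Agent.Lib.Helper6.HomCxH.homologyEquiv K I n).toEquiv.subsingleton
  exact ModuleCat.isZero_of_subsingleton _

end qi

end Groth.Agent.Lib.Helper60.BiDual
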