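import Groth.Agent.Lib.Helper60.BiDualB
import Groth.Agent.Lib.Helper32.RDPlus
import Groth.Agent.Lib.Helper35.IndRep

/-! # The property "`ev_K` is a quasi-isomorphism" and its dévissage (helper60) -/

set_option autoImplicit false
set_option linter.unusedSectionVars false
universe u

open CategoryTheory Limits CochainComplex HomComplex ZeroObject

namespace Groth.Agent.Lib.Helper60.BiDual

open Groth.Agent.Lib.Helper35.RHomKInj DerivedCategory

attribute [local instance] HasDerivedCategory.standard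

variable {A : Type u} [CommRing A] (I : DRing.Cx A)

/-- the evaluation map of `K` is a quasi-isomorphism. -/
def P (K : DRing.Cx A) : Prop := QuasiIso (evCx K I)

variable {I}

lemma P_iff_of_quasiIso [I.IsKInjective] {K K' : DRing.Cx A} (f : K ⟶ K') [QuasiIso f] :
    P I K ↔ P I K' := by
  have hn := evCx_naturality f I
  constructor
  · intro (h : QuasiIso (evCx K I))
    have h1 : QuasiIso (f ≫ evCx K' I) := by rw [hn]; infer_instance
    exact quasiIso_of_comp_left f (evCx K' I)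
  · intro (h : QuasiIso (evCx K' I))
    have h1 : QuasiIso (evCx K I ≫ ddMap f I) := by rw [← hn]; infer_instance
    exact quasiIso_of_comp_right (evCx K I) (ddMap f I)

lemma P_iff_of_iso [I.IsKInjective] {K K' : DRing.Cx A} (e : K ≅ K') : P I K ↔ P I K' :=
  P_iff_of_quasiIso e.hom

lemma P_iff_of_iso_Q [I.IsKInjective] {K K' : DRing.Cx A}
    (e : (Q.obj K : Dual.D A) ≅ Q.obj K') : P I K ↔ P I K' := by
  obtain ⟨Y, g, s, hs, hfac⟩ := DerivedCategory.left_fac e.hom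
  have hg : IsIso (Q.map g) := by
    have : Q.map g = e.hom ≫ Q.map s := by rw [hfac, Category.assoc, IsIso.inv_hom_id,
      Category.comp_id]
    rw [this]
    infer_instance
  rw [isIso_Q_map_iff_quasiIso] at hs hg
  exact (P_iff_of_quasiIso g).trans (P_iff_of_quasiIso s).symm

lemma P_of_acyclic [I.IsKInjective] (K : DRing.Cx A) (hK : K.Acyclic) : P I K :=
  quasiIso_of_acyclic _ hK (acyclic_homCx I _ (acyclic_homCx I K hK))

section SES

variable [I.IsKInjective] (hI : ∀ i : ℤ, Injective (I.X i))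
  (S : ShortComplex (DRing.Cx A)) (hS : S.ShortExact)

include hI hS

lemma P_X₂ (h₁ : P I S.X₁) (h₃ : P I S.X₃) : P I S.X₂ :=
  quasiIso_τ₂_of hS (FSC_shortExact S hS I hI) (evSC S I) h₁ h₃

lemma P_X₁ (h₂ : P I S.X₂) (h₃ : P I S.X₃) : P I S.X₁ :=
  quasiIso_τ₁_of hS (FSC_shortExact S hS I hI) (evSC S I) h₂ h₃

lemma P_X₃ (h₁ : P I S.X₁) (h₂ : P I S.X₂) : P I S.X₃ :=
  quasiIso_τ₃_of hS (FSC_shortExact S hS I hI) (evSC S I) h₁ h₂

end SES

lemma triangleRotateShortComplex_shortExact {K L : DRing.Cx A} (φ : K ⟶ L) :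
    (mappingCone.triangleRotateShortComplex φ).ShortExact :=
  HomologicalComplex.shortExact_of_degreewise_shortExact _
    (fun n => (mappingCone.triangleRotateShortComplexSplitting φ n).shortExact)

section shift

variable [I.IsKInjective] (hI : ∀ i : ℤ, Injective (I.X i))

include hI

lemma P_shift_one_iff (K : DRing.Cx A) : P I (K⟦(1 : ℤ)⟧) ↔ P I K := by
  have hS := triangleRotateShortComplex_shortExact (𝟙 K)
  have hc : P I (mappingCone (𝟙 K)) := P_of_acyclic _
    ((Groth.Agent.Lib.Helper32.ConeAcyclic.quasiIso_iff_acyclic_mappingCone (𝟙 K)).1 inferInstance)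
  constructor
  · intro h
    exact P_X₁ hI _ hS hc h
  · intro h
    exact P_X₃ hI _ hS h hc

lemma P_shift_iff (n : ℤ) : ∀ K : DRing.Cx A, P I (K⟦n⟧) ↔ P I K := by
  induction n using Int.induction_on with
  | zero =>
    intro K
    exact P_iff_of_iso ((shiftFunctorZero (DRing.Cx A) ℤ).app K)
  | succ n ih =>
    intro K
    have e : K⟦(n : ℤ) + 1⟧ ≅ (K⟦(n : ℤ)⟧)⟦(1 : ℤ)⟧ :=
      (CategoryTheory.shiftFunctorAdd' (DRing.Cx A) (n : ℤ) 1 (n + 1) rfl).app K
    exact (P_iff_of_iso e).trans ((P_shift_one_iff hI _).trans (ih K))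
  | pred n ih =>
    intro K
    have e : K⟦-(n : ℤ)⟧ ≅ (K⟦-(n : ℤ) - 1⟧)⟦(1 : ℤ)⟧ :=
      (CategoryTheory.shiftFunctorAdd' (DRing.Cx A) (-(n : ℤ) - 1) 1 (-(n : ℤ)) (by omega)).app K
    exact ((P_shift_one_iff hI _).symm.trans (P_iff_of_iso e).symm).trans (ih K)

end shift

/-- the property on objects of `D(A)`: every representative has `ev` a quasi-isomorphism. -/
def Pr (I : DRing.Cx A) (X : Dual.D A) : Prop :=
  ∀ K : DRing.Cx A, Nonempty ((Q.obj K : Dual.D A) ≅ X) → P I K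

lemma Pr_Q_iff [I.IsKInjective] (K : DRing.Cx A) : Pr I (Q.obj K) ↔ P I K := by
  constructor
  · intro h
    exact h K ⟨Iso.refl _⟩
  · intro h K' ⟨e⟩
    exact (P_iff_of_iso_Q e).2 h

open Groth.Agent.Lib.Helper35.KL Pretriangulated in
theorem devissage_Pr [I.IsKInjective] (hI : ∀ i : ℤ, Injective (I.X i)) :
    Devissage (R := A) (Pr I) where
  iso e h K := fun ⟨e'⟩ => h K ⟨e' ≪≫ e.symm⟩
  shift X n h K := fun ⟨e⟩ => by
    have e1 : (Q.obj (K⟦-n⟧) : Dual.D A) ≅ X :=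
      (Q.commShiftIso (-n)).app K ≪≫ (CategoryTheory.shiftFunctor (Dual.D A) (-n)).mapIso e ≪≫
        (shiftEquiv (Dual.D A) n).unitIso.symm.app X
    have h1 : P I (K⟦-n⟧) := h _ ⟨e1⟩
    have h2 : P I ((K⟦-n⟧)⟦n⟧) := (P_shift_iff hI n _).2 h1
    have e2 : (K⟦-n⟧)⟦n⟧ ≅ K := (shiftEquiv (DRing.Cx A) n).counitIso.app K
    exact (P_iff_of_iso e2).1 h2
  mid T hT h₁ h₃ K₂ := fun ⟨e₂⟩ => by
    rw [DerivedCategory.mem_distTriang_iff] at hT
    obtain ⟨X, Y, f, ⟨e⟩⟩ := hT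
    have e1 : T.obj₁ ≅ Q.obj X := Triangle.π₁.mapIso e
    have e2 : T.obj₂ ≅ Q.obj Y := Triangle.π₂.mapIso e
    have e3 : T.obj₃ ≅ Q.obj (mappingCone f) := Triangle.π₃.mapIso e
    have hX : P I X := h₁ X ⟨e1.symm⟩
    have hc : P I (mappingCone f) := h₃ _ ⟨e3.symm⟩
    have hX1 : P I (X⟦(1 : ℤ)⟧) := (P_shift_one_iff hI X).2 hX
    have hY : P I Y := P_X₁ hI _ (triangleRotateShortComplex_shortExact f) hc hX1
    exact (P_iff_of_iso_Q (e₂ ≪≫ e2)).2 hY
  zero X hX K := fun ⟨e⟩ =>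
    P_of_acyclic K (acyclic_of_isZero_Q_obj K (IsZero.of_iso hX e))

end Groth.Agent.Lib.Helper60.BiDual
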