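import Groth.Agent.Lib.Helper60.BiDualC
import Groth.Agent.Lib.Helper6.Bidual3
import Groth.Agent.Lib.Helper6.QisCrit

/-! # Biduality: the base case of a finite module in degree `0` (helper60) -/

set_option autoImplicit false
set_option linter.unusedSectionVars false
universe u

open CategoryTheory Limits CochainComplex HomComplex ZeroObject Opposite

namespace Groth.Agent.Lib.Helper60.BiDual

open Groth.Agent.Lib.Helper35.RHomKInj DerivedCategory Groth.Agent.Lib.Helper6

attribute [local instance] HasDerivedCategory.standard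

variable {A : Type u} [CommRing A] (M : ModuleCat.{u} A) (I : DRing.Cx A)

/-- the module `M` as a complex in degree `0`. -/
noncomputable abbrev SM : DRing.Cx A := (CochainComplex.singleFunctor (ModuleCat.{u} A) 0).obj M

/-- cochains from `M[0]` are morphisms from `M`. -/
noncomputable def sEquiv (n : ℤ) : Cochain (SM M) I n ≃ₗ[A] (M ⟶ I.X n) where
  toFun := Cochain.fromSingleEquiv (zero_add n)
  invFun := (Cochain.fromSingleEquiv (zero_add n)).symm
  left_inv := (Cochain.fromSingleEquiv (zero_add n)).left_inv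
  right_inv := (Cochain.fromSingleEquiv (zero_add n)).right_inv
  map_add' := (Cochain.fromSingleEquiv (zero_add n)).map_add
  map_smul' a z := by
    change (HomologicalComplex.singleObjXSelf (.up ℤ) 0 M).inv ≫ (a • z).v 0 n (zero_add n) =
      a • ((HomologicalComplex.singleObjXSelf (.up ℤ) 0 M).inv ≫ z.v 0 n (zero_add n))
    rw [Cochain.smul_v]
    exact Linear.comp_smul (C := ModuleCat.{u} A) (R := A) _ _ _
      (HomologicalComplex.singleObjXSelf (.up ℤ) 0 M).inv a (z.v 0 n (zero_add n))

lemma sEquiv_apply (n : ℤ) (z : Cochain (SM M) I n) :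
    sEquiv M I n z = (HomologicalComplex.singleObjXSelf (.up ℤ) 0 M).inv ≫ z.v 0 n (zero_add n) :=
  rfl

/-- `Hom•(M[0], I) ≅ Hom_A(M, I•)`. -/
noncomputable def phi : DRing.homCx (SM M) I ≅ (Bidual.Dc I).obj (op M) :=
  HomologicalComplex.Hom.isoOfComponents (fun n => (sEquiv M I n).toModuleIso) (by
    intro n n' hnn'
    have hn : n + 1 = n' := hnn'
    subst hn
    refine ModuleCat.hom_ext (LinearMap.ext fun (z : Cochain (SM M) I n) => ?_)
    obtain ⟨f, rfl⟩ := Cochain.fromSingleMk_surjective z n (zero_add n)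
    change sEquiv M I n (Cochain.fromSingleMk f (zero_add n)) ≫ I.d n (n + 1) =
      sEquiv M I (n + 1) (δ n (n + 1) (Cochain.fromSingleMk f (zero_add n)))
    rw [Cochain.δ_fromSingleMk f (zero_add n) (n + 1) (n + 1) (zero_add _)]
    change Cochain.fromSingleEquiv (zero_add n) (Cochain.fromSingleMk f (zero_add n)) ≫ _ =
      Cochain.fromSingleEquiv (zero_add (n + 1)) _
    rw [Cochain.fromSingleEquiv_fromSingleMk, Cochain.fromSingleEquiv_fromSingleMk])

lemma phi_hom_f_apply (n : ℤ) (z : Cochain (SM M) I n) :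
    ((phi M I).hom.f n).hom z = sEquiv M I n z := rfl

/-- the element of `M[0]^0` attached to `m : M`. -/
noncomputable def toSM (m : M) : (SM M).X 0 :=
  (HomologicalComplex.singleObjXSelf (.up ℤ) 0 M).inv.hom m

lemma toSM_surjective (x : (SM M).X 0) : ∃ m : M, toSM M m = x :=
  ⟨(HomologicalComplex.singleObjXSelf (.up ℤ) 0 M).hom.hom x, by
    change ((HomologicalComplex.singleObjXSelf (.up ℤ) 0 M).hom ≫
      (HomologicalComplex.singleObjXSelf (.up ℤ) 0 M).inv).hom x = x
    rw [Iso.hom_inv_id]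
    rfl⟩

/-- compatibility of the two evaluation maps. -/
lemma ofHom_phi_ev (m : M) :
    Cochain.ofHom ((phi M I).hom ≫ Bidual.ev I M m) = evCochain (SM M) I 0 (toSM M m) := by
  refine Cochain.ext _ _ (fun k q hkq => ?_)
  obtain rfl : k = q := by omega
  rw [Cochain.ofHom_v]
  refine ModuleCat.hom_ext (LinearMap.ext fun (z : Cochain (SM M) I k) => ?_)
  erw [evCochain_v_apply]
  rw [zero_mul, Int.negOnePow_zero, one_smul]
  rfl

/-- a morphism to a K-injective complex vanishes in `D(A)` iff it is a coboundary. -/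
lemma Q_map_eq_zero_iff_coboundary {F L : DRing.Cx A} [L.IsKInjective] (ψ : F ⟶ L) :
    (Q.map ψ : (Q.obj F : Dual.D A) ⟶ Q.obj L) = 0 ↔
      ∃ w : Cochain F L (-1), Cochain.ofHom ψ = δ (-1) 0 w := by
  rw [map_eq_zero_iff_inj]
  constructor
  · intro h
    have h' : (HomotopyCategory.quotient _ _).map ψ =
        (HomotopyCategory.quotient (ModuleCat.{u} A) (ComplexShape.up ℤ)).map 0 := by
      rw [h, Functor.map_zero]
    obtain ⟨w, hw⟩ := Cochain.equivHomotopy ψ 0 (HomotopyCategory.homotopyOfEq _ _ h')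
    exact ⟨w, by rw [hw, Cochain.ofHom_zero, add_zero]⟩
  · rintro ⟨w, hw⟩
    have ho : Homotopy ψ 0 := (Cochain.equivHomotopy ψ 0).symm
      ⟨w, by rw [hw, Cochain.ofHom_zero, add_zero]⟩
    rw [HomotopyCategory.eq_of_homotopy _ _ ho, Functor.map_zero]

section base

variable {I} [IsNoetherianRing A] [I.IsKInjective] (a b : ℤ) (hv : DRing.VanishesOutside I a b)
  (hinj : ∀ i : ℤ, Injective (I.X i))
  (hend : Function.Bijective (fun x : A => x • 𝟙 (Q.obj I : Dual.D A)))
  (hext : ∀ j : ℤ, j ≠ 0 → Subsingleton ((Q.obj I : Dual.D A) ⟶ (Q.obj I)⟦j⟧))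

include hv hinj hend hext

/-- **Base case**: the evaluation map of a finite module in degree `0` is a
quasi-isomorphism. -/
theorem P_single (N : Type u) [AddCommGroup N] [Module A N] [Module.Finite A N] :
    P I (SM (ModuleCat.of A N)) := by
  set M : ModuleCat.{u} A := ModuleCat.of A N with hM
  obtain ⟨hvan, hbij⟩ := (Bidual.wayOutData I a b hv hinj hend hext).main N
  have hiso : IsIso (Q.map (phi M I).hom : (Q.obj _ : Dual.D A) ⟶ _) := inferInstance
  apply QisCrit.quasiIso_of_elementwise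
  · intro n z' hz'
    have hz'' : δ n (n + 1) (show Cochain (DRing.homCx (SM M) I) I n from z') = 0 := hz'
    by_cases hn : n = 0
    · subst hn
      -- the chain map attached to `z'`
      let c' : Cocycle (DRing.homCx (SM M) I) I 0 := Cocycle.mk z' 1 rfl hz''
      let ψ : DRing.homCx (SM M) I ⟶ I := Cocycle.homOf c'
      have hψ : Cochain.ofHom ψ = z' := congrArg Subtype.val (Cocycle.ofHom_homOf_eq_self c')
      obtain ⟨m, hm⟩ := hbij.2 (Q.map ((phi M I).inv ≫ ψ))
      have hm' : (Q.map ((phi M I).hom ≫ Bidual.ev I M m - ψ) :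
          (Q.obj _ : Dual.D A) ⟶ _) = 0 := by
        have hm2 : Q.map (Bidual.ev I M m) = Q.map ((phi M I).inv ≫ ψ) := hm
        rw [Functor.map_sub, Functor.map_comp, hm2, ← Functor.map_comp, Iso.hom_inv_id_assoc,
          sub_self]
      rw [Q_map_eq_zero_iff_coboundary] at hm'
      obtain ⟨w, hw⟩ := hm'
      rw [Cochain.ofHom_sub, ofHom_phi_ev, hψ] at hw
      refine ⟨toSM M m, ?_, w, ?_⟩
      · have hd : (SM M).d 0 (0 + 1) = 0 :=
          (HomologicalComplex.isZero_single_obj_X (ComplexShape.up ℤ) 0 M (0 + 1)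
            (by omega)).eq_of_tgt _ _
        rw [hd]
        rfl
      · exact hw
    · have hs : Subsingleton ((Q.obj (DRing.homCx (SM M) I) : Dual.D A) ⟶ (Q.obj I)⟦n⟧) := by
        have hv' : Subsingleton ((Q.obj ((Bidual.Dc I).obj (op M)) : Dual.D A) ⟶
            (Q.obj I : Dual.D A)⟦n⟧) := hvan n hn
        exact (Iso.homCongr (Q.mapIso (phi M I)) (Iso.refl ((Q.obj I : Dual.D A)⟦n⟧))).subsingleton
      let c' : Cocycle (DRing.homCx (SM M) I) I n := Cocycle.mk z' (n + 1) rfl hz''
      have h0 : Groth.Agent.Lib.Helper6.ExtCocycle.ext1 _ I n c' = 0 := hs.elim _ _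
      rw [ext1_eq_zero_iff_inj, mem_coboundaries_iff _ (n - 1) (by omega)] at h0
      obtain ⟨β, hβ⟩ := h0
      refine ⟨0, by rw [map_zero], -β, ?_⟩
      rw [map_zero, zero_sub]
      change -z' = δ (n - 1) n (-β)
      rw [δ_neg, hβ]
      rfl
  · intro n z hz h
    by_cases hn : n = 0
    · subst hn
      obtain ⟨m, rfl⟩ := toSM_surjective M z
      obtain ⟨w', hw'⟩ := h
      let w'' : Cochain (DRing.homCx (SM M) I) I (-1) := w'
      have h1 : Cochain.ofHom ((phi M I).hom ≫ Bidual.ev I M m) = δ (-1) 0 w'' := by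
        rw [ofHom_phi_ev]
        exact hw'
      have h2 : (Q.map ((phi M I).hom ≫ Bidual.ev I M m) : (Q.obj _ : Dual.D A) ⟶ _) = 0 :=
        (Q_map_eq_zero_iff_coboundary _).2 ⟨w'', h1⟩
      rw [Functor.map_comp] at h2
      have h3 : (Q.map (Bidual.ev I M m) : (Q.obj _ : Dual.D A) ⟶ _) = 0 := by
        rw [← cancel_epi (Q.map (phi M I).hom), h2, comp_zero]
      have h4 : m = 0 := hbij.1 (h3.trans (map_zero (Bidual.etaLin I M)).symm)
      refine ⟨0, ?_⟩
      rw [h4, map_zero]
      exact (map_zero _)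
    · have hz0 : IsZero ((SM M).X n) :=
        HomologicalComplex.isZero_single_obj_X (ComplexShape.up ℤ) 0 M n hn
      refine ⟨0, ?_⟩
      rw [map_zero]
      exact (ModuleCat.subsingleton_of_isZero hz0).elim _ _

open Groth.Agent.Lib.Helper35.KL in
/-- **Bounded case**: `ev_K` is a quasi-isomorphism for `K` with bounded, finite cohomology. -/
theorem P_of_bounded (K : DRing.Cx A)
    (hb : ∃ s t : ℤ, ∀ i : ℤ, (i < s ∨ t < i) →
      Subsingleton ((DerivedCategory.homologyFunctor (ModuleCat.{u} A) i).obj (Q.obj K)))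
    (hfin : ∀ i : ℤ, Module.Finite A
      ((DerivedCategory.homologyFunctor (ModuleCat.{u} A) i).obj (Q.obj K))) : P I K := by
  rw [← Pr_Q_iff]
  refine (devissage_Pr hinj).of_bounded_homology (Q.obj K) hb (fun i => ?_)
  have := hfin i
  have h1 := P_single a b hv hinj hend hext
    ((DerivedCategory.homologyFunctor (ModuleCat.{u} A) i).obj (Q.obj K))
  rw [← Pr_Q_iff] at h1
  exact (devissage_Pr hinj).iso
    ((DerivedCategory.singleFunctorIsoCompQ (ModuleCat.{u} A) 0).app _).symm h1

end base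

end Groth.Agent.Lib.Helper60.BiDual
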