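import Groth.Agent.Lib.Helper60.BiDualD

/-! # Biduality: the way-out argument for unbounded complexes (helper60) -/

set_option autoImplicit false
set_option linter.unusedSectionVars false
universe u

open CategoryTheory Limits CochainComplex HomComplex ZeroObject Opposite HomologicalComplex

namespace Groth.Agent.Lib.Helper60.BiDual

open Groth.Agent.Lib.Helper35.RHomKInj DerivedCategory

attribute [local instance] HasDerivedCategory.standard

variable {A : Type u} [CommRing A]

section LES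

variable {S : ShortComplex (DRing.Cx A)} (hS : S.ShortExact)

include hS

lemma quasiIsoAt_f_of_exactAt (m : ℤ) (h : S.X₃.ExactAt (m - 1)) (h' : S.X₃.ExactAt m) :
    QuasiIsoAt S.f m := by
  rw [quasiIsoAt_iff_isIso_homologyMap]
  have hmono : Mono (homologyMap S.f m) :=
    (hS.homology_exact₁ (m - 1) m (by simp)).mono_g (h.isZero_homology.eq_of_src _ _)
  have hepi : Epi (homologyMap S.f m) :=
    (hS.homology_exact₂ m).epi_f (h'.isZero_homology.eq_of_tgt _ _)
  exact isIso_of_mono_of_epi _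

lemma quasiIsoAt_g_of_exactAt (m : ℤ) (h : S.X₁.ExactAt m) (h' : S.X₁.ExactAt (m + 1)) :
    QuasiIsoAt S.g m := by
  rw [quasiIsoAt_iff_isIso_homologyMap]
  have hmono : Mono (homologyMap S.g m) :=
    (hS.homology_exact₂ m).mono_g (h.isZero_homology.eq_of_src _ _)
  have hepi : Epi (homologyMap S.g m) :=
    (hS.homology_exact₃ m (m + 1) (by simp)).epi_f (h'.isZero_homology.eq_of_tgt _ _)
  exact isIso_of_mono_of_epi _

end LES

lemma exactAt_of_isZero_X (K : DRing.Cx A) (i : ℤ) (h : IsZero (K.X i)) : K.ExactAt i :=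
  ShortComplex.exact_of_isZero_X₂ _ h

section wayOut

variable (I : DRing.Cx A) (a b : ℤ) [I.IsStrictlyGE a] [I.IsStrictlyLE b] [I.IsKInjective]
  (hinj : ∀ i : ℤ, Injective (I.X i))
  (S : ShortComplex (DRing.Cx A)) (hS : S.ShortExact)

include hinj hS

/-- way-out, first half: if the cokernel is (quasi-isomorphic to a complex) concentrated in
high degrees, the evaluation maps of `S.X₁` and `S.X₂` agree in low degrees. -/
lemma quasiIsoAt_ev_X₂_of_X₁ (T : DRing.Cx A) (g : S.X₃ ⟶ T) [QuasiIso g] (n : ℤ)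
    [T.IsStrictlyGE n] (m : ℤ) (hm : m < n) (hm' : m < a - (b - n))
    (h : QuasiIsoAt (evCx S.X₁ I) m) : QuasiIsoAt (evCx S.X₂ I) m := by
  have e1 : ∀ i : ℤ, i < n → S.X₃.ExactAt i := fun i hi => by
    rw [exactAt_iff_of_quasiIsoAt g i]
    exact exactAt_of_isZero_X _ _ (T.isZero_of_isStrictlyGE n i hi)
  have hF := isStrictlyGE_dd T I n a b
  have e2 : ∀ i : ℤ, i < a - (b - n) → (FSC S I).X₃.ExactAt i := fun i hi => by
    have : QuasiIso (ddMap g I) := inferInstance
    change (DRing.homCx (DRing.homCx S.X₃ I) I).ExactAt i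
    rw [exactAt_iff_of_quasiIsoAt (ddMap g I) i]
    exact exactAt_of_isZero_X _ _ (isZero_of_isStrictlyGE _ (a - (b - n)) i hi)
  have q1 : QuasiIsoAt S.f m := quasiIsoAt_f_of_exactAt hS m (e1 _ (by omega)) (e1 _ hm)
  have q2 : QuasiIsoAt (ddMap S.f I) m :=
    quasiIsoAt_f_of_exactAt (FSC_shortExact S hS I hinj) m (e2 _ (by omega)) (e2 _ hm')
  have q3 : QuasiIsoAt (S.f ≫ evCx S.X₂ I) m := by
    rw [evCx_naturality]
    infer_instance
  exact quasiIsoAt_of_comp_left S.f (evCx S.X₂ I) m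

/-- way-out, second half. -/
lemma quasiIsoAt_ev_X₂_of_X₃ (n : ℤ) [S.X₁.IsStrictlyLE n] (m : ℤ) (hm : n < m)
    (hm' : b - (a - n) < m)
    (h : QuasiIsoAt (evCx S.X₃ I) m) : QuasiIsoAt (evCx S.X₂ I) m := by
  have e1 : ∀ i : ℤ, n < i → S.X₁.ExactAt i := fun i hi =>
    exactAt_of_isZero_X _ _ (S.X₁.isZero_of_isStrictlyLE n i hi)
  have hF : (FSC S I).X₁.IsStrictlyLE (b - (a - n)) := isStrictlyLE_dd S.X₁ I n a b
  have e2 : ∀ i : ℤ, b - (a - n) < i → (FSC S I).X₁.ExactAt i := fun i hi =>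
    exactAt_of_isZero_X _ _ (isZero_of_isStrictlyLE _ (b - (a - n)) i hi)
  have q1 : QuasiIsoAt S.g m := quasiIsoAt_g_of_exactAt hS m (e1 _ hm) (e1 _ (by omega))
  have q2 : QuasiIsoAt (ddMap S.g I) m :=
    quasiIsoAt_g_of_exactAt (FSC_shortExact S hS I hinj) m (e2 _ hm') (e2 _ (by omega))
  have q3 : QuasiIsoAt (evCx S.X₂ I ≫ ddMap S.g I) m := by
    rw [← evCx_naturality]
    infer_instance
  exact quasiIsoAt_of_comp_right (evCx S.X₂ I) (ddMap S.g I) m

end wayOut

section trunc

variable (K : DRing.Cx A) (n : ℤ)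

lemma exactAt_truncLE (i : ℤ) (hi : n < i) : (K.truncLE n).ExactAt i :=
  exactAt_of_isZero_X _ _ ((K.truncLE n).isZero_of_isStrictlyLE n i hi)

/-- `H^i(τ_{≤ n} K) ≅ H^i(K)` for `i ≤ n`. -/
noncomputable def homologyTruncLEIso (i : ℤ) (hi : i ≤ n) :
    (K.truncLE n).homology i ≅ K.homology i :=
  have := K.quasiIsoAt_ιTruncLE n i hi
  asIso (homologyMap (K.ιTruncLE n) i)

lemma exactAt_X₃ (i : ℤ) (hi : i ≤ n) : (K.shortComplexTruncLE n).X₃.ExactAt i := by
  have h := (HomologicalComplex.shortComplexTruncLE_X₃_isSupportedOutside K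
    (ComplexShape.embeddingUpIntLE n)).exactAt (n - i).toNat
  have e : (ComplexShape.embeddingUpIntLE n).f (n - i).toNat = i := by
    rw [ComplexShape.embeddingUpIntLE_f, Int.toNat_of_nonneg (by omega)]
    omega
  rw [e] at h
  exact h

/-- `H^i(K / τ_{≤ n} K) ≅ H^i(K)` for `n < i`. -/
noncomputable def homologyX₃Iso (i : ℤ) (hi : n < i) :
    K.homology i ≅ (K.shortComplexTruncLE n).X₃.homology i :=
  @asIso _ _ _ _ _ (HomologicalComplex.isIso_homologyMap_shortComplexTruncLE_g K
    (ComplexShape.embeddingUpIntLE n) i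
    ((ComplexShape.notMem_range_embeddingUpIntLE_iff n i).2 hi))

end trunc

section main

variable {I : DRing.Cx A} [IsNoetherianRing A] [I.IsKInjective] (a b : ℤ)
  (hv : DRing.VanishesOutside I a b)
  (hinj : ∀ i : ℤ, Injective (I.X i))
  (hend : Function.Bijective (fun x : A => x • 𝟙 (Q.obj I : Dual.D A)))
  (hext : ∀ j : ℤ, j ≠ 0 → Subsingleton ((Q.obj I : Dual.D A) ⟶ (Q.obj I)⟦j⟧))

/-- the cohomology of `Q K` in terms of the homology of `K`. -/
noncomputable def hQIso (K : DRing.Cx A) (i : ℤ) :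
    (DerivedCategory.homologyFunctor (ModuleCat.{u} A) i).obj (Q.obj K) ≅ K.homology i :=
  (DerivedCategory.homologyFunctorFactors (ModuleCat.{u} A) i).app K

include hv hinj hend hext

/-- **Biduality**: the evaluation map `K ⟶ Hom•(Hom•(K, I), I)` is a quasi-isomorphism for every
complex `K` with finite cohomology modules, when `I` is a bounded complex of injectives
representing a dualizing complex. -/
theorem P_of_finite (K : DRing.Cx A)
    (hfin : ∀ i : ℤ, Module.Finite A
      ((DerivedCategory.homologyFunctor (ModuleCat.{u} A) i).obj (Q.obj K))) : P I K := by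
  have hGE : I.IsStrictlyGE a := by
    rw [CochainComplex.isStrictlyGE_iff]
    intro i hi
    exact hv i (Or.inl hi)
  have hLE : I.IsStrictlyLE b := by
    rw [CochainComplex.isStrictlyLE_iff]
    intro i hi
    exact hv i (Or.inr hi)
  have hfinK : ∀ i : ℤ, Module.Finite A (K.homology i) := fun i => by
    have := hfin i
    exact Module.Finite.equiv (hQIso K i).toLinearEquiv
  change QuasiIso (evCx K I)
  rw [quasiIso_iff]
  intro m
  -- first truncation
  let n₁ : ℤ := max m (m + (b - a)) + 1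
  have hn₁ : m < n₁ + 1 := by
    have := le_max_left m (m + (b - a))
    omega
  have hn₁' : m < a - (b - (n₁ + 1)) := by
    have := le_max_right m (m + (b - a))
    omega
  let K₁ := K.truncLE n₁
  refine quasiIsoAt_ev_X₂_of_X₁ I a b hinj (K.shortComplexTruncLE n₁)
    (K.shortComplexTruncLE_shortExact n₁) (K.truncGE (n₁ + 1))
    (K.shortComplexTruncLEX₃ToTruncGE n₁ (n₁ + 1) rfl) (n₁ + 1) m hn₁ hn₁' ?_
  change QuasiIsoAt (evCx K₁ I) m
  -- second truncation
  let n₂ : ℤ := min m (m - (b - a)) - 1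
  have hn₂ : n₂ < m := by
    have := min_le_left m (m - (b - a))
    omega
  have hn₂' : b - (a - n₂) < m := by
    have := min_le_right m (m - (b - a))
    omega
  have hle : n₂ ≤ n₁ := by omega
  have : (K₁.shortComplexTruncLE n₂).X₁.IsStrictlyLE n₂ :=
    inferInstanceAs ((K₁.truncLE n₂).IsStrictlyLE n₂)
  refine quasiIsoAt_ev_X₂_of_X₃ I a b hinj (K₁.shortComplexTruncLE n₂)
    (K₁.shortComplexTruncLE_shortExact n₂) n₂ m hn₂ hn₂' ?_
  -- the bounded case
  set Y := (K₁.shortComplexTruncLE n₂).X₃ with hY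
  have hYzero : ∀ i : ℤ, (i ≤ n₂ ∨ n₁ < i) → IsZero (Y.homology i) := by
    intro i hi
    by_cases h1 : i ≤ n₂
    · exact (exactAt_X₃ K₁ n₂ i h1).isZero_homology
    · have h2 : n₁ < i := by omega
      exact IsZero.of_iso (exactAt_truncLE K n₁ i h2).isZero_homology
        (homologyX₃Iso K₁ n₂ i (by omega)).symm
  have hYfin : ∀ i : ℤ, Module.Finite A (Y.homology i) := by
    intro i
    by_cases h1 : n₂ < i ∧ i ≤ n₁
    · have := hfinK i
      exact Module.Finite.equiv
        ((homologyTruncLEIso K n₁ i h1.2).symm ≪≫ homologyX₃Iso K₁ n₂ i h1.1).toLinearEquiv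
    · have : Subsingleton (Y.homology i) :=
        ModuleCat.subsingleton_of_isZero (hYzero i (by omega))
      infer_instance
  have hP : P I Y := by
    refine P_of_bounded a b hv hinj hend hext Y ⟨n₂ + 1, n₁, fun i hi => ?_⟩ (fun i => ?_)
    · exact ModuleCat.subsingleton_of_isZero
        (IsZero.of_iso (hYzero i (by omega)) (hQIso Y i))
    · have := hYfin i
      exact Module.Finite.equiv (hQIso Y i).symm.toLinearEquiv
  have hq : QuasiIso (evCx Y I) := hP
  infer_instance

end main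

end Groth.Agent.Lib.Helper60.BiDual
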