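import Mathlib

/-! # `Hom_A(E, J)` is flat for injective modules `E`, `J` over a Noetherian ring, and
`Hom_A(P, J)` is injective for `P` flat, `J` injective (helper60) -/

set_option autoImplicit false
universe u

namespace Groth.Agent.Lib.Helper60.HomInjFlat

variable {A : Type u} [CommRing A]

section factor

variable {X Y Q : Type u} [AddCommGroup X] [Module A X] [AddCommGroup Y] [Module A Y]
  [AddCommGroup Q] [Module A Q]

/-- a map into an injective module factors through any map with smaller kernel. -/
lemma exists_factor [Module.Injective A Q] (α : X →ₗ[A] Y) (β : X →ₗ[A] Q)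
    (h : LinearMap.ker α ≤ LinearMap.ker β) : ∃ γ : Y →ₗ[A] Q, ∀ x, γ (α x) = β x := by
  let ι : (X ⧸ LinearMap.ker α) →ₗ[A] Y := (LinearMap.ker α).liftQ α le_rfl
  have hι : Function.Injective ι := by
    rw [← LinearMap.ker_eq_bot]
    exact Submodule.ker_liftQ_eq_bot _ _ _ le_rfl
  obtain ⟨γ, hγ⟩ := Module.Injective.extension_property A Q _ _ ι hι ((LinearMap.ker α).liftQ β h)
  refine ⟨γ, fun x => ?_⟩
  have := LinearMap.congr_fun hγ (Submodule.Quotient.mk x)
  simpa [ι] using this

end factor

section flat

variable [IsNoetherianRing A] (E J : Type u) [AddCommGroup E] [Module A E] [AddCommGroup J]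
  [Module A J] [Module.Injective A E] [Module.Injective A J]

/-- **`Hom_A(E, J)` is flat** when `E` and `J` are injective modules over a Noetherian ring. -/
theorem flat_linearMap : Module.Flat A (E →ₗ[A] J) := by
  apply Module.Flat.of_forall_isTrivialRelation
  intro l f φ hφ
  -- the relations module
  let F : (Fin l → A) →ₗ[A] A := ∑ i, f i • LinearMap.proj i
  have hF : ∀ a : Fin l → A, F a = ∑ i, f i * a i := fun a => by
    simp [F, LinearMap.sum_apply]
  have hfg : (LinearMap.ker F).FG := IsNoetherian.noetherian _
  obtain ⟨k, g, hg⟩ := Submodule.fg_iff_exists_fin_generating_family.1 hfg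
  have hgker : ∀ j, F (g j) = 0 := fun j => by
    have : g j ∈ LinearMap.ker F := by
      rw [← hg]
      exact Submodule.subset_span ⟨j, rfl⟩
    exact this
  -- the maps on powers of `E`
  let aT : (Fin l → E) →ₗ[A] (Fin k → E) := LinearMap.pi (fun j => ∑ i, g j i • LinearMap.proj i)
  have haT : ∀ (e : Fin l → E) (j : Fin k), aT e j = ∑ i, g j i • e i := fun e j => by
    simp [aT, LinearMap.sum_apply]
  let Φ : (Fin l → E) →ₗ[A] J := ∑ i, (φ i).comp (LinearMap.proj i)
  have hΦ : ∀ e : Fin l → E, Φ e = ∑ i, φ i (e i) := fun e => by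
    simp [Φ, LinearMap.sum_apply]
  have hker : LinearMap.ker aT ≤ LinearMap.ker Φ := by
    intro e he
    rw [LinearMap.mem_ker] at he ⊢
    let ε : (Fin l → A) →ₗ[A] E := ∑ i, (LinearMap.toSpanSingleton A E (e i)).comp (LinearMap.proj i)
    have hε : ∀ a : Fin l → A, ε a = ∑ i, a i • e i := fun a => by
      simp [ε, LinearMap.sum_apply]
    have hεg : ∀ j, ε (g j) = 0 := fun j => by
      rw [hε, ← haT e j, he]
      rfl
    have hkerε : LinearMap.ker F ≤ LinearMap.ker ε := by
      rw [← hg, Submodule.span_le]
      rintro _ ⟨j, rfl⟩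
      exact hεg j
    obtain ⟨g', hg'⟩ := exists_factor F ε hkerε
    have hei : ∀ i, e i = f i • g' 1 := fun i => by
      have h1 : F (Pi.single i 1) = f i := by
        rw [hF, Finset.sum_eq_single i]
        · simp
        · intro b _ hb
          simp [hb]
        · intro h
          exact absurd (Finset.mem_univ i) h
      have h2 : ε (Pi.single i 1) = e i := by
        rw [hε, Finset.sum_eq_single i]
        · simp
        · intro b _ hb
          simp [hb]
        · intro h
          exact absurd (Finset.mem_univ i) h
      have h3 := hg' (Pi.single i 1)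
      rw [h1, h2] at h3
      rw [← h3]
      conv_lhs => rw [← mul_one (f i), ← smul_eq_mul, map_smul]
    rw [hΦ]
    calc ∑ i, φ i (e i) = ∑ i, (f i • φ i) (g' 1) := by
          refine Finset.sum_congr rfl (fun i _ => ?_)
          rw [hei i, map_smul, LinearMap.smul_apply]
      _ = (∑ i, f i • φ i) (g' 1) := by rw [LinearMap.sum_apply]
      _ = 0 := by rw [hφ, LinearMap.zero_apply]
  obtain ⟨Ψ, hΨ⟩ := exists_factor aT Φ hker
  refine ⟨k, fun i j => g j i, fun j => Ψ.comp (LinearMap.single A (fun _ : Fin k => E) j),
    fun i => ?_, fun j => ?_⟩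
  · refine LinearMap.ext (fun e => ?_)
    have h1 : Φ (Pi.single i e) = φ i e := by
      rw [hΦ, Finset.sum_eq_single i]
      · simp
      · intro b _ hb
        simp [hb]
      · intro h
        exact absurd (Finset.mem_univ i) h
    have h2 : aT (Pi.single i e) = ∑ j, Pi.single j (g j i • e) := by
      rw [Finset.univ_sum_single]
      funext j
      rw [haT, Finset.sum_eq_single i]
      · simp
      · intro b _ hb
        simp [hb]
      · intro h
        exact absurd (Finset.mem_univ i) h
    rw [← h1, ← hΨ, h2, map_sum, LinearMap.sum_apply]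
    refine Finset.sum_congr rfl (fun j _ => ?_)
    rw [LinearMap.smul_apply, LinearMap.comp_apply, LinearMap.single_apply, ← map_smul,
      ← Pi.single_smul]
  · have := hgker j
    rw [hF] at this
    exact this

end flat

section inj

variable (P J : Type u) [AddCommGroup P] [Module A P] [AddCommGroup J] [Module A J]
  [Module.Flat A P] [Module.Injective A J]

open TensorProduct in
/-- **`Hom_A(P, J)` is injective** when `P` is flat and `J` is injective. -/
theorem injective_linearMap : Module.Injective A (P →ₗ[A] J) := by
  apply Module.Baer.injective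
  intro 𝔞 g
  let β : 𝔞 ⊗[A] P →ₗ[A] J := TensorProduct.lift g
  let ι : 𝔞 ⊗[A] P →ₗ[A] A ⊗[A] P := LinearMap.rTensor P 𝔞.subtype
  have hι : Function.Injective ι :=
    Module.Flat.rTensor_preserves_injective_linearMap _ Subtype.val_injective
  obtain ⟨γ, hγ⟩ := Module.Injective.extension_property A J _ _ ι hι β
  refine ⟨TensorProduct.curry γ, fun x mem => ?_⟩
  refine LinearMap.ext (fun p => ?_)
  have := LinearMap.congr_fun hγ ((⟨x, mem⟩ : 𝔞) ⊗ₜ[A] p)
  simpa [ι, β] using this

end inj

end Groth.Agent.Lib.Helper60.HomInjFlat
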