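import Groth.Agent.Lib.Helper60.BiDualE
import Groth.Agent.Lib.Helper60.HomInjFlat

/-! # Terms of `Hom•(K, I)`: injective / flat (helper60) -/

set_option autoImplicit false
set_option linter.unusedSectionVars false
universe u

open CategoryTheory Limits CochainComplex HomComplex

namespace Groth.Agent.Lib.Helper60.BiDual

variable {A : Type u} [CommRing A]

/-- transport of injectivity along a linear equivalence. -/
lemma injective_of_linearEquiv {Q Q' : Type u} [AddCommGroup Q] [Module A Q] [AddCommGroup Q']
    [Module A Q'] (e : Q ≃ₗ[A] Q') [Module.Injective A Q] : Module.Injective A Q' where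
  out X Y _ _ _ _ f hf g := by
    obtain ⟨h, hh⟩ := Module.Injective.out f hf (e.symm.toLinearMap ∘ₗ g)
    refine ⟨e.toLinearMap ∘ₗ h, fun x => ?_⟩
    simp [hh x]

/-- a product of modules almost all of which vanish is flat if the factors are. -/
lemma flat_pi_of_finite_support {ι : Type} [DecidableEq ι] (M : ι → Type u)
    [∀ i, AddCommGroup (M i)] [∀ i, Module A (M i)] [∀ i, Module.Flat A (M i)]
    (S : Finset ι) (hS : ∀ i, i ∉ S → Subsingleton (M i)) : Module.Flat A (∀ i, M i) := by
  let φ : (Π₀ i, M i) →ₗ[A] (∀ i, M i) := DFinsupp.coeFnLinearMap A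
  have hφ : Function.Bijective φ := by
    constructor
    · exact DFunLike.coe_injective
    · intro v
      refine ⟨DFinsupp.mk S (fun i => v i), ?_⟩
      funext i
      change (DFinsupp.mk S (fun i => v i)) i = v i
      rw [DFinsupp.mk_apply]
      split_ifs with h
      · rfl
      · exact (hS i h).elim _ _
  exact Module.Flat.of_linearEquiv (LinearEquiv.ofBijective φ hφ).symm

section terms

variable (K I : DRing.Cx A)

lemma injective_homCx_X (hK : ∀ p : ℤ, Module.Flat A (K.X p))
    (hI : ∀ q : ℤ, Module.Injective A (I.X q)) (n : ℤ) :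
    Module.Injective A ((DRing.homCx K I).X n) := by
  have : ∀ T : Triplet n, Module.Injective A (K.X T.p ⟶ I.X T.q) := fun T => by
    have := hK T.p
    have := hI T.q
    have := HomInjFlat.injective_linearMap (A := A) (K.X T.p) (I.X T.q)
    exact injective_of_linearEquiv (ModuleCat.homLinearEquiv (S := A)).symm
  exact inferInstanceAs (Module.Injective A (∀ T : Triplet n, K.X T.p ⟶ I.X T.q))

lemma flat_homCx_X [IsNoetherianRing A] (hK : ∀ p : ℤ, Module.Injective A (K.X p))
    (hI : ∀ q : ℤ, Module.Injective A (I.X q)) (a b : ℤ) (hKb : DRing.VanishesOutside K a b)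
    (n : ℤ) : Module.Flat A ((DRing.homCx K I).X n) := by
  have hflat : ∀ T : Triplet n, Module.Flat A (K.X T.p ⟶ I.X T.q) := fun T => by
    have := hK T.p
    have := hI T.q
    have := HomInjFlat.flat_linearMap (A := A) (K.X T.p) (I.X T.q)
    exact Module.Flat.of_linearEquiv (ModuleCat.homLinearEquiv (S := A))
  classical
  let S : Finset (Triplet n) := (Finset.Icc a b).image (fun p => ⟨p, p + n, rfl⟩)
  have hS : ∀ T : Triplet n, T ∉ S → Subsingleton (K.X T.p ⟶ I.X T.q) := by
    intro T hT
    have hp : T.p < a ∨ b < T.p := by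
      by_contra hcon
      apply hT
      rw [Finset.mem_image]
      refine ⟨T.p, Finset.mem_Icc.2 ⟨by omega, by omega⟩, ?_⟩
      obtain ⟨p, q, hpq⟩ := T
      subst hpq
      rfl
    exact ⟨fun f g => (hKb T.p hp).eq_of_src f g⟩
  exact flat_pi_of_finite_support (fun T : Triplet n => (K.X T.p ⟶ I.X T.q)) S hS

lemma vanishesOutside_homCx (s t a b : ℤ) (hK : DRing.VanishesOutside K s t)
    (hI : DRing.VanishesOutside I a b) : DRing.VanishesOutside (DRing.homCx K I) (a - t) (b - s) := by
  intro n hn
  refine isZero_homCx_X K I n (fun p q hpq => ?_)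
  by_cases hp : p < s ∨ t < p
  · exact Or.inl (hK p hp)
  · exact Or.inr (hI q (by omega))

end terms

section zigzag

open DerivedCategory Groth.Agent.Lib.Helper35.RHomKInj

attribute [local instance] HasDerivedCategory.standard

/-- `Hom•(-, I)` respects isomorphisms in the derived category when `I` is K-injective. -/
lemma nonempty_iso_homCx_of_iso_Q (I : DRing.Cx A) [I.IsKInjective] {K K' : DRing.Cx A}
    (e : (Q.obj K : Dual.D A) ≅ Q.obj K') :
    Nonempty ((Q.obj (DRing.homCx K I) : Dual.D A) ≅ Q.obj (DRing.homCx K' I)) := by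
  obtain ⟨Y, g, s, hs, hfac⟩ := DerivedCategory.left_fac e.hom
  have hg : IsIso (Q.map g) := by
    have : Q.map g = e.hom ≫ Q.map s := by
      rw [hfac, Category.assoc, IsIso.inv_hom_id, Category.comp_id]
    rw [this]
    infer_instance
  rw [isIso_Q_map_iff_quasiIso] at hs hg
  have q1 : IsIso (Q.map (homCxPre g I) : (Q.obj _ : Dual.D A) ⟶ _) := by
    rw [isIso_Q_map_iff_quasiIso]
    exact quasiIso_homCxPre g I
  have q2 : IsIso (Q.map (homCxPre s I) : (Q.obj _ : Dual.D A) ⟶ _) := by
    rw [isIso_Q_map_iff_quasiIso]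
    exact quasiIso_homCxPre s I
  exact ⟨(asIso (Q.map (homCxPre g I))).symm ≪≫ asIso (Q.map (homCxPre s I))⟩

end zigzag

end Groth.Agent.Lib.Helper60.BiDual
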