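import Groth.Agent.Lib.Helper47.HTLES
import Groth.Agent.Lib.Helper60.LocalCohOf

/-!
# `H^i_T` for a closed subset `T = V(I)` is the usual local cohomology `H^i_I` (helper60)
-/

set_option autoImplicit false
set_option linter.unusedSectionVars false
universe u
open CategoryTheory CategoryTheory.Limits Opposite Abelian

namespace Groth.Agent.Lib.Helper60.HTClosed

open Groth.Agent.Lib.Helper60 Groth.Agent.Lib.Helper47.HTLib localCohomology

variable {R : Type u} [CommRing R] [IsNoetherianRing R] (I : Ideal R)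

lemma exists_pow_le (a : Dual2.IdealsIn (PrimeSpectrum.zeroLocus (I : Set R))) :
    ∃ n : ℕ, I ^ n ≤ a.obj := by
  have h1 : I ≤ a.obj.radical := by
    have := a.property
    rw [PrimeSpectrum.zeroLocus_subset_zeroLocus_iff] at this
    exact this
  exact Ideal.exists_pow_le_of_le_radical_of_fg h1
    ((isNoetherianRing_iff_ideal_fg R).mp inferInstance I)

/-- a chosen exponent. -/
noncomputable def expo (a : Dual2.IdealsIn (PrimeSpectrum.zeroLocus (I : Set R))) : ℕ :=
  (exists_pow_le I a).choose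

lemma expo_spec (a : Dual2.IdealsIn (PrimeSpectrum.zeroLocus (I : Set R))) :
    I ^ expo I a ≤ a.obj := (exists_pow_le I a).choose_spec

/-- the power `I^n` as an object of `IdealsIn V(I)`. -/
def powIdl (n : ℕ) : Dual2.IdealsIn (PrimeSpectrum.zeroLocus (I : Set R)) :=
  idl _ (I ^ n) (zeroLocus_pow_subset' I n)
where
  zeroLocus_pow_subset' (I : Ideal R) (n : ℕ) :
      PrimeSpectrum.zeroLocus ((I ^ n : Ideal R) : Set R) ⊆ PrimeSpectrum.zeroLocus (I : Set R) := by
    intro q hq
    rw [PrimeSpectrum.mem_zeroLocus] at hq ⊢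
    intro x hx
    exact q.isPrime.mem_of_pow_mem n (hq (Ideal.pow_mem_pow hx n))

variable (i : ℕ) (M : ModuleCat.{u} R)

/-- the comparison map `H^i_{V(I)}(M) → H^i_I(M)`. -/
noncomputable def toLc :
    (HTf (PrimeSpectrum.zeroLocus (I : Set R)) i).obj M →ₗ[R] (localCohomology I i).obj M :=
  tDescₗ _ i M
    (fun a =>
      { toFun := fun x => lcOf I i M (expo_spec I a) x
        map_add' := fun x y => lcOf_add I i M _ x y
        map_smul' := fun r x => lcOf_smul I i M _ r x })
    (by
      intro a b h x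
      change lcOf I i M (expo_spec I a) (qres h x) = lcOf I i M (expo_spec I b) x
      rw [lcOf_qres]
      exact lcOf_indep I i M _ _ x)

lemma toLc_tMk (a : Dual2.IdealsIn (PrimeSpectrum.zeroLocus (I : Set R)))
    (x : Abelian.Ext (quotObj a.obj) M i) {n : ℕ} (hn : I ^ n ≤ a.obj) :
    toLc I i M (tMk _ i M a x) = lcOf I i M hn x := by
  unfold toLc
  rw [tDescₗ_tMk]
  exact lcOf_indep I i M _ _ x

lemma toLc_bijective : Function.Bijective (toLc I i M) := by
  constructor
  · rw [injective_iff_map_eq_zero]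
    intro y hy
    obtain ⟨a, x, rfl⟩ := tMk_surj _ i M y
    rw [toLc_tMk I i M a x (expo_spec I a), lcOf_eq_zero_iff] at hy
    obtain ⟨m, hm, h0⟩ := hy
    rw [tMk_eq_zero_iff]
    exact ⟨powIdl I m, hm, h0⟩
  · intro y
    obtain ⟨n, x, rfl⟩ := lcOf_surj I i M y
    refine ⟨tMk _ i M (powIdl I n) x, ?_⟩
    rw [toLc_tMk I i M (powIdl I n) x (le_refl _)]
    rfl

/-- `H^i_{V(I)}(M) ≃ H^i_I(M)`. -/
noncomputable def equivLc :
    (HTf (PrimeSpectrum.zeroLocus (I : Set R)) i).obj M ≃ₗ[R] (localCohomology I i).obj M :=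
  LinearEquiv.ofBijective (toLc I i M) (toLc_bijective I i M)

end Groth.Agent.Lib.Helper60.HTClosed
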