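import Groth.Agent.Lib.Helper60.LocalCohAddGen
import Groth.Agent.Lib.Helper60.LocalCohLocalize
import Groth.Agent.Lib.Helper60.LocalCohHeightOne
import Groth.Agent.Lib.Helper60.FlatBC2

/-!
# The comparison map `H^i_{I'}(M) → H^i_I(M)` for `I ≤ I'` (helper60)

For a Noetherian ring `R`, ideals `I ≤ I'` and any module `M`:

* `HmapOfLE_surjective_of_forall_subsingleton` : if `H^i_{pR_p}(M_p) = 0` for all primes
  `p ∈ V(I) ∖ V(I')` then `H^i_{I'}(M) → H^i_I(M)` is surjective;
* `HmapOfLE_injective_of_forall_subsingleton` : if `H^{i-1}_{pR_p}(M_p) = 0` for all such `p`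
  then it is injective.

The proof is the Noetherian-induction argument on ideals `I ≤ J ≤ I'`: enlarge `J` one generator
at a time, using `mem_range_cmp_iff`, `nonempty_ker_cmp_equiv` and an explicit analysis of
`ker (H^{j+1}_{J+(f)} → H^{j+1}_J)` (`ker_cmp_one_data`, `ker_cmp_step`).
-/

set_option autoImplicit false
universe u
open CategoryTheory CategoryTheory.Limits Opposite Abelian IsLocalRing TensorProduct

namespace Groth.Agent.Lib.Helper60

variable {R : Type u} [CommRing R]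


section transRefl

variable {J J' J'' : Ideal R}

lemma HmapOfLE_refl_apply (i : ℕ) (M : ModuleCat.{u} R) (y : (localCohomology J i).obj M) :
    ((Dual2.HmapOfLE (le_refl J) i).app M).hom y = y := by
  obtain ⟨n, x, rfl⟩ := lcMk_surj J i M y
  rw [HmapOfLE_lcMk]
  congr 1
  exact qres_refl x

lemma HmapOfLE_trans_apply (h : J ≤ J') (h' : J' ≤ J'') (i : ℕ) (M : ModuleCat.{u} R)
    (y : (localCohomology J'' i).obj M) :
    ((Dual2.HmapOfLE h i).app M).hom (((Dual2.HmapOfLE h' i).app M).hom y) =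
      ((Dual2.HmapOfLE (h.trans h') i).app M).hom y := by
  obtain ⟨n, x, rfl⟩ := lcMk_surj J'' i M y
  rw [HmapOfLE_lcMk, HmapOfLE_lcMk, HmapOfLE_lcMk, qres_qres]

end transRefl

section K1

variable [IsNoetherianRing R]

/-- if `p` is a minimal prime of `J` and `H^i_{pR_p}(M_p) = 0`, every element of `H^i_J(M)` is
killed by an element outside `p`. -/
lemma exists_smul_eq_zero_of_mem_minimalPrimes (J p : Ideal R) [hp : p.IsPrime]
    (hmin : p ∈ J.minimalPrimes) (M : Type u) [AddCommGroup M] [Module R M] (i : ℕ)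
    (hvan : Subsingleton (LocCoh.H (maximalIdeal (Localization.AtPrime p)) i
      (LocalizedModule p.primeCompl M)))
    (ξ : LocCoh.H J i M) : ∃ g : R, g ∉ p ∧ g • ξ = 0 := by
  have hmin' : maximalIdeal (Localization.AtPrime p) ∈
      (J.map (algebraMap R (Localization.AtPrime p))).minimalPrimes := by
    rwa [IsLocalization.minimalPrimes_map p.primeCompl (Localization.AtPrime p) J,
      Set.mem_preimage, Localization.AtPrime.under_maximalIdeal]
  have hrad := radical_eq_maximalIdeal_of_mem_minimalPrimes _ hmin'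
  obtain ⟨φ⟩ := nonempty_lc_flatBaseChange (R' := Localization.AtPrime p) J i M
  let e : (Localization.AtPrime p) ⊗[R] M ≃ₗ[Localization.AtPrime p]
      LocalizedModule p.primeCompl M :=
    (IsLocalizedModule.isBaseChange p.primeCompl (Localization.AtPrime p)
      (LocalizedModule.mkLinearMap p.primeCompl M)).equiv
  have h1 : Subsingleton (LocCoh.H (J.map (algebraMap R (Localization.AtPrime p))) i
      (LocalizedModule p.primeCompl M)) :=
    (((localCohomology.isoOfSameRadical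
      (hrad.trans (Ideal.IsPrime.radical inferInstance).symm) i).app
      (ModuleCat.of (Localization.AtPrime p) (LocalizedModule p.primeCompl M))).toLinearEquiv).toEquiv.subsingleton
  have h2 : Subsingleton (LocCoh.H (J.map (algebraMap R (Localization.AtPrime p))) i
      ((Localization.AtPrime p) ⊗[R] M)) :=
    ((localCohomology (J.map (algebraMap R (Localization.AtPrime p))) i).mapIso
      e.toModuleIso).toLinearEquiv.toEquiv.subsingleton
  have h3 : Subsingleton ((Localization.AtPrime p) ⊗[R] LocCoh.H J i M) :=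
    φ.toEquiv.subsingleton
  have h4 : Subsingleton (LocalizedModule p.primeCompl (LocCoh.H J i M)) :=
    (IsLocalizedModule.isBaseChange p.primeCompl (Localization.AtPrime p)
      (LocalizedModule.mkLinearMap p.primeCompl (LocCoh.H J i M))).equiv.symm.toEquiv.subsingleton
  have h5 : LocalizedModule.mk ξ (1 : p.primeCompl) = 0 := Subsingleton.elim _ _
  rw [← LocalizedModule.zero_mk (1 : p.primeCompl), LocalizedModule.mk_eq] at h5
  obtain ⟨u, hu⟩ := h5
  refine ⟨u, u.2, ?_⟩
  rw [one_smul, one_smul, smul_zero] at hu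
  exact hu

end K1

section surj

variable [IsNoetherianRing R]

/-- one step of the Noetherian induction for surjectivity. -/
lemma exists_lift_step (I I' J : Ideal R) (hIJ : I ≤ J) (hJI' : J ≤ I') (hne : J ≠ I')
    (M : Type u) [AddCommGroup M] [Module R M] (i : ℕ)
    (H1 : ∀ p : PrimeSpectrum R, I ≤ p.asIdeal → ¬ I' ≤ p.asIdeal →
      Subsingleton (LocCoh.H (maximalIdeal (Localization.AtPrime p.asIdeal)) i
        (LocalizedModule p.asIdeal.primeCompl M)))
    (ξ : (localCohomology J i).obj (ModuleCat.of R M)) :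
    ∃ f : R, f ∈ I' ∧ f ∉ J ∧ ∃ ξ' : (localCohomology (J ⊔ Ideal.span {f}) i).obj (ModuleCat.of R M),
      cmp J f i (ModuleCat.of R M) ξ' = ξ := by
  have hnle : ¬ I' ≤ J := fun hle => hne (le_antisymm hJI' hle)
  by_cases hrad : I' ≤ J.radical
  · obtain ⟨f, hfI', hfJ⟩ := SetLike.not_le_iff_exists.mp hnle
    obtain ⟨n, hn⟩ := hrad hfI'
    obtain ⟨k, hk⟩ := lc_isPowerTorsion J i (ModuleCat.of R M) ξ
    refine ⟨f, hfI', hfJ, ?_⟩
    have hmem := (mem_range_cmp_iff J f i M ξ).mpr ⟨n * k, by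
      rw [pow_mul]
      exact hk _ (Ideal.pow_mem_pow hn k)⟩
    exact hmem
  · rw [Ideal.radical_eq_sInf, le_sInf_iff] at hrad
    push Not at hrad
    obtain ⟨q, ⟨hJq, hqprime⟩, hI'q⟩ := hrad
    obtain ⟨p, hpmin, hpq⟩ := Ideal.exists_minimalPrimes_le hJq
    have hpprime : p.IsPrime := hpmin.1.1
    have hJp : J ≤ p := hpmin.1.2
    have hI'p : ¬ I' ≤ p := fun hle => hI'q (hle.trans hpq)
    have hvan := H1 ⟨p, hpprime⟩ (hIJ.trans hJp) hI'p
    obtain ⟨g, hgp, hgξ⟩ := exists_smul_eq_zero_of_mem_minimalPrimes J p hpmin M i hvan ξ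
    obtain ⟨f₀, hf₀I', hf₀p⟩ := SetLike.not_le_iff_exists.mp hI'p
    have hfp : f₀ * g ∉ p := fun hmem =>
      (hpprime.mem_or_mem hmem).elim hf₀p hgp
    refine ⟨f₀ * g, I'.mul_mem_right g hf₀I', fun hmem => hfp (hJp hmem), ?_⟩
    have hmem := (mem_range_cmp_iff J (f₀ * g) i M ξ).mpr ⟨1, by
      rw [pow_one, mul_smul, hgξ, smul_zero]⟩
    exact hmem

/-- **Surjectivity** of the comparison map `H^i_{I'}(M) → H^i_I(M)` when `H^i_{pR_p}(M_p) = 0` for
all `p ∈ V(I) ∖ V(I')`. -/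
theorem HmapOfLE_surjective_of_forall_subsingleton (I I' : Ideal R) (h : I ≤ I')
    (M : Type u) [AddCommGroup M] [Module R M] (i : ℕ)
    (H1 : ∀ p : PrimeSpectrum R, I ≤ p.asIdeal → ¬ I' ≤ p.asIdeal →
      Subsingleton (LocCoh.H (maximalIdeal (Localization.AtPrime p.asIdeal)) i
        (LocalizedModule p.asIdeal.primeCompl M))) :
    Function.Surjective ((Dual2.HmapOfLE h i).app (ModuleCat.of R M)).hom := by
  intro ξ
  let S : Set (Ideal R) := {J | ∃ (h₁ : I ≤ J) (_ : J ≤ I'),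
    ξ ∈ LinearMap.range ((Dual2.HmapOfLE h₁ i).app (ModuleCat.of R M)).hom}
  have hI : I ∈ S := ⟨le_rfl, h, ξ, HmapOfLE_refl_apply i _ ξ⟩
  obtain ⟨J, hJS, hJmax⟩ := set_has_maximal_iff_noetherian.mpr
    (inferInstance : IsNoetherian R R) S ⟨I, hI⟩
  obtain ⟨h₁, h₂, ξJ, hξJ⟩ := hJS
  by_cases hJ : J = I'
  · subst hJ
    exact ⟨ξJ, hξJ⟩
  · exfalso
    obtain ⟨f, hfI', hfJ, ξ', hξ'⟩ := exists_lift_step I I' J h₁ h₂ hJ M i H1 ξJ
    have hle : J ⊔ Ideal.span {f} ≤ I' := by
      apply sup_le h₂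
      rw [Ideal.span_le, Set.singleton_subset_iff]
      exact hfI'
    have hlt : J < J ⊔ Ideal.span {f} := by
      apply lt_of_le_of_ne le_sup_left
      intro heq
      apply hfJ
      rw [heq]
      exact Ideal.mem_sup_right (Ideal.mem_span_singleton_self f)
    refine hJmax (J ⊔ Ideal.span {f}) ⟨h₁.trans le_sup_left, hle, ξ', ?_⟩ hlt
    rw [← HmapOfLE_trans_apply h₁ le_sup_left]
    exact (congrArg _ hξ').trans hξJ

end surj



section kerData

variable [IsNoetherianRing R]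

lemma sup_span_mul_le (J : Ideal R) (f g : R) :
    J ⊔ Ideal.span {f * g} ≤ J ⊔ Ideal.span {f} := by
  apply sup_le le_sup_left
  rw [Ideal.span_le, Set.singleton_subset_iff]
  exact Ideal.mem_sup_right (Ideal.mul_mem_right g _ (Ideal.mem_span_singleton_self f))

/-- a torsion element for `J` and `b`-power torsion is torsion for `J ⊔ (b)`. -/
lemma smul_eq_zero_of_mem_sup_pow (J : Ideal R) (b : R) {N : Type u} [AddCommGroup N] [Module R N]
    (e : N) (k m : ℕ) (hk : ∀ a ∈ J ^ k, a • e = 0) (hm : b ^ m • e = 0) :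
    ∀ r ∈ (J ⊔ Ideal.span {b}) ^ (k + m), r • e = 0 := by
  intro r hr
  have hr' := sup_pow_add_le J (Ideal.span {b}) k m hr
  obtain ⟨r₁, hr₁, r₂, hr₂, rfl⟩ := Submodule.mem_sup.mp hr'
  rw [add_smul, hk r₁ hr₁, zero_add]
  exact smul_eq_zero_of_mem_span_pow b hm r₂ hr₂

/-- Data attached to a class in `ker (H^1_{J+(f)}(N) → H^1_J(N))`. -/
theorem ker_cmp_one_data (J : Ideal R) (f : R) (N : Type u) [AddCommGroup N] [Module R N]
    (η : (localCohomology (J ⊔ Ideal.span {f}) 1).obj (ModuleCat.of R N))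
    (hη : cmp J f 1 (ModuleCat.of R N) η = 0) :
    ∃ (x : N) (n k : ℕ), (∀ a ∈ J ^ k, a • x = 0) ∧
      ∀ (g : R) (y : N) (c ky : ℕ), (∀ a ∈ J ^ ky, a • y = 0) →
        (f * g) ^ (n + c) • y = (f * g) ^ c • g ^ n • x →
        ((Dual2.HmapOfLE (sup_span_mul_le J f g) 1).app (ModuleCat.of R N)).hom η = 0 := by
  obtain ⟨E, _, _, _, ι, hι⟩ := exists_injective_embedding (R := R) N
  have hS := sesOfInjective_shortExact ι hι
  have hE : Injective (sesOfInjective ι).X₂ := Module.injective_object_of_injective_module R E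
  have h1 := lc_subsingleton_of_injective (J ⊔ Ideal.span {f}) (sesOfInjective ι).X₂ 1 one_pos
  obtain ⟨y₀, hy₀⟩ := lc_exact₁ (J ⊔ Ideal.span {f}) hS 0 η (Subsingleton.elim _ _)
  have hcmp : lcDelta J hS 0 (cmp J f 0 (sesOfInjective ι).X₃ y₀) = 0 := by
    rw [← cmp_delta, hy₀]
    exact hη
  obtain ⟨z, hz⟩ := lc_exact₃ J hS 0 (cmp J f 0 (sesOfInjective ι).X₃ y₀) hcmp
  obtain ⟨e, he⟩ : ∃ e : E, e = lcH0Map J (sesOfInjective ι).X₂ z := ⟨_, rfl⟩
  obtain ⟨q, hq⟩ : ∃ q : E ⧸ LinearMap.range ι,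
      q = lcH0Map (J ⊔ Ideal.span {f}) (sesOfInjective ι).X₃ y₀ := ⟨_, rfl⟩
  have hπe : (LinearMap.range ι).mkQ e = q := by
    have h2 := lcH0Map_naturality J (sesOfInjective ι).g z
    rw [hz] at h2
    have h3 := lcH0Map_HmapOfLE (le_sup_left : J ≤ J ⊔ Ideal.span {f}) (sesOfInjective ι).X₃ y₀
    rw [he, hq]
    exact h2.symm.trans h3
  obtain ⟨n, hn⟩ := exists_pow_smul_eq_zero_sup J f 0 (sesOfInjective ι).X₃ y₀
  have hfq : f ^ n • q = 0 := by
    rw [hq]
    exact (map_smul (lcH0Map (J ⊔ Ideal.span {f}) (sesOfInjective ι).X₃) (f ^ n) y₀).symm.trans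
      ((congrArg _ hn).trans (map_zero _))
  have hmem : f ^ n • e ∈ LinearMap.range ι := by
    rw [← Submodule.Quotient.mk_eq_zero, ← Submodule.mkQ_apply, map_smul, hπe, hfq]
  obtain ⟨x, hx⟩ := hmem
  obtain ⟨k, hk⟩ : ∃ k : ℕ, ∀ a ∈ J ^ k, a • e = 0 := by
    rw [he]
    exact lcH0Map_mem_torsionSub J (sesOfInjective ι).X₂ z
  have hxk : ∀ a ∈ J ^ k, a • x = 0 := by
    intro a ha
    apply hι
    rw [map_smul, hx, map_zero, smul_comm, hk a ha, smul_zero]
  refine ⟨x, n, k, hxk, ?_⟩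
  intro g y c ky hy hyx
  obtain ⟨e'', he''⟩ : ∃ e'' : E, e'' = e - ι y := ⟨_, rfl⟩
  have hpow : (f * g) ^ (n + c) • e'' = 0 := by
    rw [he'', smul_sub, ← map_smul, hyx, map_smul, map_smul, hx, smul_smul, smul_smul, ← sub_smul]
    have hring : (f * g) ^ (n + c) - (f * g) ^ c * g ^ n * f ^ n = 0 := by ring
    rw [hring, zero_smul]
  have hJ'' : ∀ a ∈ J ^ (k + ky), a • e'' = 0 := by
    intro a ha
    rw [he'', smul_sub, hk a (Ideal.pow_le_pow_right (Nat.le_add_right k ky) ha), ← map_smul,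
      hy a (Ideal.pow_le_pow_right (Nat.le_add_left ky k) ha), map_zero, sub_zero]
  have hkill := smul_eq_zero_of_mem_sup_pow J (f * g) e'' (k + ky) (n + c) hJ'' hpow
  obtain ⟨z', hz'⟩ := exists_lcH0Map_eq (J ⊔ Ideal.span {f * g}) (sesOfInjective ι).X₂ e'' _ hkill
  have hy' : ((localCohomology (J ⊔ Ideal.span {f * g}) 0).map (sesOfInjective ι).g).hom z' =
      ((Dual2.HmapOfLE (sup_span_mul_le J f g) 0).app (sesOfInjective ι).X₃).hom y₀ := by
    apply lcH0Map_injective
    rw [lcH0Map_naturality, hz', lcH0Map_HmapOfLE, ← hq, ← hπe, he'']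
    change (LinearMap.range ι).mkQ (e - ι y) = _
    rw [map_sub, sub_eq_self, Submodule.mkQ_apply, Submodule.Quotient.mk_eq_zero]
    exact ⟨y, rfl⟩
  have h4 := HmapOfLE_lcDelta (sup_span_mul_le J f g) hS 0 y₀
  rw [hy₀] at h4
  exact h4.trans ((congrArg _ hy'.symm).trans
    (lcDelta_comp_map (J ⊔ Ideal.span {f * g}) hS 0 z'))

end kerData



section inj

variable [IsNoetherianRing R]

/-- In an injective module every element is, up to `b`-power torsion, divisible by `b`. -/
lemma exists_smul_sub_torsion (W : Type u) [AddCommGroup W] [Module R W] [Module.Injective R W]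
    (b : R) (w : W) : ∃ (w₂ : W) (m : ℕ), b ^ m • (w - b • w₂) = 0 := by
  let f : W →ₗ[R] W := LinearMap.lsmul R W b
  let g : W →ₗ[R] W ⧸ LinearMap.range f := (LinearMap.range f).mkQ
  have hg : Function.Surjective g := Submodule.mkQ_surjective _
  have hfg : Function.Exact f g := by
    intro x
    rw [Submodule.mkQ_apply, Submodule.Quotient.mk_eq_zero]
    rfl
  have hh : ∃ n : ℕ, b ^ n • g w = 0 := by
    refine ⟨1, ?_⟩
    rw [pow_one, ← map_smul, Submodule.mkQ_apply, Submodule.Quotient.mk_eq_zero]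
    exact ⟨w, rfl⟩
  obtain ⟨c, hc, m, hm⟩ := exists_torsion_lift b f g hg hfg (g w) hh
  have h1 : g (w - c) = 0 := by rw [map_sub, hc, sub_self]
  rw [Submodule.mkQ_apply, Submodule.Quotient.mk_eq_zero] at h1
  obtain ⟨w₂, hw₂⟩ := h1
  refine ⟨w₂, m, ?_⟩
  have h2 : b • w₂ = w - c := hw₂
  rw [h2, sub_sub_cancel, hm]

/-- step `B(0)`. -/
lemma ker_cmp_step_zero (J p : Ideal R) (f : R) (N : Type u) [AddCommGroup N] [Module R N]
    (Hloc : ∀ θ : (localCohomology J 0).obj (ModuleCat.of R N), ∃ g : R, g ∉ p ∧ g • θ = 0)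
    (η : (localCohomology (J ⊔ Ideal.span {f}) 1).obj (ModuleCat.of R N))
    (hη : cmp J f 1 (ModuleCat.of R N) η = 0) :
    ∃ g : R, g ∉ p ∧
      ((Dual2.HmapOfLE (sup_span_mul_le J f g) 1).app (ModuleCat.of R N)).hom η = 0 := by
  obtain ⟨x, n, k, hk, H⟩ := ker_cmp_one_data J f N η hη
  obtain ⟨θ, hθ⟩ := exists_lcH0Map_eq J (ModuleCat.of R N) x k hk
  obtain ⟨g, hgp, hg⟩ := Hloc θ
  have hgx : g • x = 0 := by
    rw [← hθ, ← map_smul, hg, map_zero]
  refine ⟨g, hgp, H g 0 1 0 (fun a _ => smul_zero a) ?_⟩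
  rw [smul_zero, pow_one, smul_comm, mul_smul, hgx, smul_zero, smul_zero]

/-- step `B(1)`. -/
lemma ker_cmp_step_one (J p : Ideal R) (f : R) (N : Type u) [AddCommGroup N] [Module R N]
    (Hloc : ∀ θ : (localCohomology J 1).obj (ModuleCat.of R N), ∃ g : R, g ∉ p ∧ g • θ = 0)
    (η : (localCohomology (J ⊔ Ideal.span {f}) 2).obj (ModuleCat.of R N))
    (hη : cmp J f 2 (ModuleCat.of R N) η = 0) :
    ∃ g : R, g ∉ p ∧
      ((Dual2.HmapOfLE (sup_span_mul_le J f g) 2).app (ModuleCat.of R N)).hom η = 0 := by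
  obtain ⟨E, _, _, _, ι, hι⟩ := exists_injective_embedding (R := R) N
  have hS := sesOfInjective_shortExact ι hι
  have hE : Injective (sesOfInjective ι).X₂ := Module.injective_object_of_injective_module R E
  have h1 := lc_subsingleton_of_injective (J ⊔ Ideal.span {f}) (sesOfInjective ι).X₂ 1 one_pos
  have h2 := lc_subsingleton_of_injective (J ⊔ Ideal.span {f}) (sesOfInjective ι).X₂ (1 + 1)
    (Nat.succ_pos _)
  have h3 := lc_subsingleton_of_injective J (sesOfInjective ι).X₂ 1 one_pos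
  have h4 := lc_subsingleton_of_injective J (sesOfInjective ι).X₂ (1 + 1) (Nat.succ_pos _)
  have hδ' := lcDelta_bijective (J ⊔ Ideal.span {f}) hS 1
  have hδ := lcDelta_bijective J hS 1
  obtain ⟨ηQ, rfl⟩ := hδ'.2 η
  have hηQ : cmp J f 1 (sesOfInjective ι).X₃ ηQ = 0 := by
    apply hδ.1
    rw [← cmp_delta, map_zero]
    exact hη
  obtain ⟨x, n, k, hk, H⟩ := ker_cmp_one_data J f (E ⧸ LinearMap.range ι) ηQ hηQ
  obtain ⟨θQ, hθQ⟩ := exists_lcH0Map_eq J (sesOfInjective ι).X₃ x k hk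
  obtain ⟨g, hgp, hg⟩ := Hloc (lcDelta J hS 0 θQ)
  have hg' : lcDelta J hS 0 (g • θQ) = 0 := (map_smul (lcDelta J hS 0) g θQ).trans hg
  obtain ⟨z, hz⟩ := lc_exact₃ J hS 0 (g • θQ) hg'
  have hW : Module.Injective R ((localCohomology J 0).obj (sesOfInjective ι).X₂) :=
    lc_module_injective J E 0
  obtain ⟨z₂, m, hm⟩ := exists_smul_sub_torsion ((localCohomology J 0).obj (sesOfInjective ι).X₂)
    ((f * g) ^ (n + 1)) ((f * g ^ n) • z)
  obtain ⟨e, he⟩ : ∃ e : E, e = lcH0Map J (sesOfInjective ι).X₂ z := ⟨_, rfl⟩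
  obtain ⟨e₂, he₂⟩ : ∃ e₂ : E, e₂ = lcH0Map J (sesOfInjective ι).X₂ z₂ := ⟨_, rfl⟩
  have hπe : (LinearMap.range ι).mkQ e = g • x := by
    have h5 := lcH0Map_naturality J (sesOfInjective ι).g z
    rw [hz, map_smul, hθQ] at h5
    rw [he]
    exact h5.symm
  obtain ⟨ky, hky⟩ : ∃ ky : ℕ, ∀ a ∈ J ^ ky, a • e₂ = 0 := by
    rw [he₂]
    exact lcH0Map_mem_torsionSub J (sesOfInjective ι).X₂ z₂
  have hE₂ : ((f * g) ^ (n + 1)) ^ m • ((f * g ^ n) • e - (f * g) ^ (n + 1) • e₂) = 0 := by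
    have h := congrArg (lcH0Map J (sesOfInjective ι).X₂) hm
    rw [map_zero, map_smul, map_sub, map_smul, map_smul] at h
    rw [he, he₂]
    exact h
  refine ⟨g, hgp, ?_⟩
  have hfinal := H g ((LinearMap.range ι).mkQ e₂) ((n + 1) * m + 1) ky ?_ ?_
  · have h6 := HmapOfLE_lcDelta (sup_span_mul_le J f g) hS 1 ηQ
    exact h6.trans ((congrArg _ hfinal).trans (map_zero _))
  · intro a ha
    rw [← map_smul, hky a ha, map_zero]
  · have h7 := congrArg (LinearMap.range ι).mkQ hE₂
    rw [map_zero, map_smul, map_sub, map_smul, map_smul, hπe, smul_sub, sub_eq_zero] at h7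
    have hL : (f * g) ^ (n + ((n + 1) * m + 1)) =
        ((f * g) ^ (n + 1)) ^ m * (f * g) ^ (n + 1) := by ring
    have hR : (f * g) ^ ((n + 1) * m + 1) * g ^ n =
        ((f * g) ^ (n + 1)) ^ m * ((f * g ^ n) * g) := by ring
    rw [smul_smul ((f * g) ^ ((n + 1) * m + 1)), hL, hR, mul_smul, mul_smul, mul_smul]
    exact h7.symm

/-- step `B(j)` for all `j`: a class in `ker (H^{j+1}_{J+(f)}(N) → H^{j+1}_J(N))` dies in
`H^{j+1}_{J+(fg)}(N)` for some `g ∉ p`, provided every element of `H^j_J(N)` is killed by an element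
outside `p`. -/
theorem ker_cmp_step (J p : Ideal R) (f : R) (j : ℕ) :
    ∀ (N : Type u) [AddCommGroup N] [Module R N]
      (_ : ∀ θ : (localCohomology J j).obj (ModuleCat.of R N), ∃ g : R, g ∉ p ∧ g • θ = 0)
      (η : (localCohomology (J ⊔ Ideal.span {f}) (j + 1)).obj (ModuleCat.of R N))
      (_ : cmp J f (j + 1) (ModuleCat.of R N) η = 0),
      ∃ g : R, g ∉ p ∧
        ((Dual2.HmapOfLE (sup_span_mul_le J f g) (j + 1)).app (ModuleCat.of R N)).hom η = 0 := by
  induction j with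
  | zero => exact fun N _ _ Hloc η hη => ker_cmp_step_zero J p f N Hloc η hη
  | succ j ih =>
    rcases Nat.eq_zero_or_pos j with rfl | hj
    · exact fun N _ _ Hloc η hη => ker_cmp_step_one J p f N Hloc η hη
    · intro N _ _ Hloc η hη
      obtain ⟨E, _, _, _, ι, hι⟩ := exists_injective_embedding (R := R) N
      have hS := sesOfInjective_shortExact ι hι
      have hE : Injective (sesOfInjective ι).X₂ := Module.injective_object_of_injective_module R E
      have h1 := lc_subsingleton_of_injective (J ⊔ Ideal.span {f}) (sesOfInjective ι).X₂ (j + 1)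
        (Nat.succ_pos _)
      have h2 := lc_subsingleton_of_injective (J ⊔ Ideal.span {f}) (sesOfInjective ι).X₂
        (j + 1 + 1) (Nat.succ_pos _)
      have h3 := lc_subsingleton_of_injective J (sesOfInjective ι).X₂ (j + 1) (Nat.succ_pos _)
      have h4 := lc_subsingleton_of_injective J (sesOfInjective ι).X₂ (j + 1 + 1) (Nat.succ_pos _)
      have h5 := lc_subsingleton_of_injective J (sesOfInjective ι).X₂ j hj
      have hδ' := lcDelta_bijective (J ⊔ Ideal.span {f}) hS (j + 1)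
      have hδ := lcDelta_bijective J hS (j + 1)
      have hδ₀ := lcDelta_bijective J hS j
      obtain ⟨ηQ, rfl⟩ := hδ'.2 η
      have hηQ : cmp J f (j + 1) (sesOfInjective ι).X₃ ηQ = 0 := by
        apply hδ.1
        rw [← cmp_delta, map_zero]
        exact hη
      have HlocQ : ∀ θ : (localCohomology J j).obj (ModuleCat.of R (E ⧸ LinearMap.range ι)),
          ∃ g : R, g ∉ p ∧ g • θ = 0 := by
        intro θ
        obtain ⟨g, hgp, hg⟩ := Hloc (lcDelta J hS j θ)
        refine ⟨g, hgp, hδ₀.1 ?_⟩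
        exact (map_smul (lcDelta J hS j) g θ).trans (hg.trans (map_zero _).symm)
      obtain ⟨g, hgp, hg⟩ := ih (E ⧸ LinearMap.range ι) HlocQ ηQ hηQ
      refine ⟨g, hgp, ?_⟩
      have h6 := HmapOfLE_lcDelta (sup_span_mul_le J f g) hS (j + 1) ηQ
      exact h6.trans ((congrArg _ hg).trans (map_zero _))

/-- **Injectivity** of the comparison map `H^i_{I'}(M) → H^i_I(M)` when `H^{i-1}_{pR_p}(M_p) = 0`
for all `p ∈ V(I) ∖ V(I')`. -/
theorem HmapOfLE_injective_of_forall_subsingleton (I I' : Ideal R) (h : I ≤ I')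
    (M : Type u) [AddCommGroup M] [Module R M] (i : ℕ)
    (H2 : ∀ p : PrimeSpectrum R, I ≤ p.asIdeal → ¬ I' ≤ p.asIdeal → ∀ j : ℕ, j + 1 = i →
      Subsingleton (LocCoh.H (maximalIdeal (Localization.AtPrime p.asIdeal)) j
        (LocalizedModule p.asIdeal.primeCompl M))) :
    Function.Injective ((Dual2.HmapOfLE h i).app (ModuleCat.of R M)).hom := by
  rw [injective_iff_map_eq_zero]
  intro η hη
  rcases Nat.eq_zero_or_pos i with rfl | hi
  · apply lcH0Map_injective I' (ModuleCat.of R M)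
    rw [← lcH0Map_HmapOfLE h, hη, map_zero, map_zero]
  · obtain ⟨j, rfl⟩ := Nat.exists_eq_succ_of_ne_zero hi.ne'
    let S : Set (Ideal R) := {J | ∃ (_ : I ≤ J) (h₂ : J ≤ I'),
      ((Dual2.HmapOfLE h₂ (j + 1)).app (ModuleCat.of R M)).hom η = 0}
    have hI : I ∈ S := ⟨le_rfl, h, hη⟩
    obtain ⟨J, hJS, hJmax⟩ := set_has_maximal_iff_noetherian.mpr
      (inferInstance : IsNoetherian R R) S ⟨I, hI⟩
    obtain ⟨h₁, h₂, hηJ⟩ := hJS
    by_cases hJ : J = I'
    · subst hJ
      rw [HmapOfLE_refl_apply] at hηJ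
      exact hηJ
    · exfalso
      have hnle : ¬ I' ≤ J := fun hle => hJ (le_antisymm h₂ hle)
      have hsup : ∀ f ∈ I', J ⊔ Ideal.span {f} ≤ I' := by
        intro f hf
        apply sup_le h₂
        rw [Ideal.span_le, Set.singleton_subset_iff]
        exact hf
      have hlt : ∀ f, f ∉ J → J < J ⊔ Ideal.span {f} := by
        intro f hfJ
        apply lt_of_le_of_ne le_sup_left
        intro heq
        apply hfJ
        rw [heq]
        exact Ideal.mem_sup_right (Ideal.mem_span_singleton_self f)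
      by_cases hrad : I' ≤ Ideal.radical J
      · obtain ⟨f, hfI', hfJ⟩ := SetLike.not_le_iff_exists.mp hnle
        obtain ⟨n, hn⟩ := hrad hfI'
        obtain ⟨e⟩ := nonempty_ker_cmp_equiv J f j M
        have hsub : Subsingleton ((localCohomology (Ideal.span {f}) 1).obj
            (ModuleCat.of R ((localCohomology J j).obj (ModuleCat.of R M)))) := by
          apply lc_subsingleton_of_torsion (Ideal.span {f}) 1 one_pos
          intro x
          obtain ⟨k, hk⟩ := lc_isPowerTorsion J j (ModuleCat.of R M) x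
          refine ⟨n * k, smul_eq_zero_of_mem_span_pow f ?_⟩
          rw [pow_mul]
          exact hk _ (Ideal.pow_mem_pow hn k)
        have hker : Subsingleton (LinearMap.ker (cmp J f (j + 1) (ModuleCat.of R M))) :=
          e.toEquiv.subsingleton
        obtain ⟨η', hη'def⟩ : ∃ η' : (localCohomology (J ⊔ Ideal.span {f}) (j + 1)).obj
            (ModuleCat.of R M),
            η' = ((Dual2.HmapOfLE (hsup f hfI') (j + 1)).app (ModuleCat.of R M)).hom η := ⟨_, rfl⟩
        have hη' : cmp J f (j + 1) (ModuleCat.of R M) η' = 0 := by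
          rw [hη'def]
          exact (HmapOfLE_trans_apply le_sup_left (hsup f hfI') (j + 1) _ η).trans hηJ
        have hzero : η' = 0 :=
          congrArg Subtype.val (Subsingleton.elim
            (⟨η', hη'⟩ : LinearMap.ker (cmp J f (j + 1) (ModuleCat.of R M))) 0)
        exact hJmax (J ⊔ Ideal.span {f}) ⟨h₁.trans le_sup_left, hsup f hfI',
          hη'def.symm.trans hzero⟩ (hlt f hfJ)
      · rw [Ideal.radical_eq_sInf, le_sInf_iff] at hrad
        push Not at hrad
        obtain ⟨q, ⟨hJq, hqprime⟩, hI'q⟩ := hrad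
        obtain ⟨p, hpmin, hpq⟩ := Ideal.exists_minimalPrimes_le hJq
        have hpprime : p.IsPrime := hpmin.1.1
        have hJp : J ≤ p := hpmin.1.2
        have hI'p : ¬ I' ≤ p := fun hle => hI'q (hle.trans hpq)
        have hvan := H2 ⟨p, hpprime⟩ (h₁.trans hJp) hI'p j rfl
        have Hloc : ∀ θ : (localCohomology J j).obj (ModuleCat.of R M),
            ∃ g : R, g ∉ p ∧ g • θ = 0 :=
          fun θ => exists_smul_eq_zero_of_mem_minimalPrimes J p hpmin M j hvan θ
        obtain ⟨f₀, hf₀I', hf₀p⟩ := SetLike.not_le_iff_exists.mp hI'p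
        obtain ⟨η', hη'def⟩ : ∃ η' : (localCohomology (J ⊔ Ideal.span {f₀}) (j + 1)).obj
            (ModuleCat.of R M),
            η' = ((Dual2.HmapOfLE (hsup f₀ hf₀I') (j + 1)).app (ModuleCat.of R M)).hom η := ⟨_, rfl⟩
        have hη' : cmp J f₀ (j + 1) (ModuleCat.of R M) η' = 0 := by
          rw [hη'def]
          exact (HmapOfLE_trans_apply le_sup_left (hsup f₀ hf₀I') (j + 1) _ η).trans hηJ
        obtain ⟨g, hgp, hg⟩ := ker_cmp_step J p f₀ j M Hloc η' hη'
        have hfp : f₀ * g ∉ p := fun hmem => (hpprime.mem_or_mem hmem).elim hf₀p hgp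
        have hfgI' : f₀ * g ∈ I' := I'.mul_mem_right g hf₀I'
        refine hJmax (J ⊔ Ideal.span {f₀ * g}) ⟨h₁.trans le_sup_left, hsup _ hfgI', ?_⟩
          (hlt _ (fun hmem => hfp (hJp hmem)))
        rw [hη'def] at hg
        exact (HmapOfLE_trans_apply (sup_span_mul_le J f₀ g) (hsup f₀ hf₀I') (j + 1) _ η).symm.trans
          hg

end inj

end Groth.Agent.Lib.Helper60
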