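import Groth.Agent.Lib.Helper60.FaltHT
import Groth.Agent.Lib.Helper60.HTClosed
import Groth.Agent.Lib.Helper60.HmapCompare
import Groth.Agent.Lib.Helper60.LocalCohDepth
import Groth.Agent.Lib.Helper31.DimBetween

/-!
# Stabilisation of `H^i_{J'}(M)` over ideals `J'` with `V(J') ∩ V(I) = V(J) ∩ V(I)` (helper60)

Stacks 52.10 (bootstrap): `A` Noetherian with a dualizing complex, `I`, `J` ideals, `M` finite.
Under depth conditions there is `J₀ ⊆ J` with `V(J₀) ∩ V(I) = V(J) ∩ V(I)` such that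
`H^i_{J₀}(M) → H^i_{J'}(M)` is bijective for all smaller such `J'` and `i ≤ s`, and
`H^i_{J₀}(M)` is killed by a power of `J₀ I`.
-/

set_option autoImplicit false
set_option linter.unusedSectionVars false
universe u
open CategoryTheory CategoryTheory.Limits DerivedCategory Pretriangulated
attribute [local instance] HasDerivedCategory.standard

namespace Groth.Agent.Lib.Helper60.BootJ0

open Groth.Agent.Lib.Helper60 Groth.Agent.Lib.Helper47.HTLib localCohomology
  Groth.Agent.Lib.Helper60.HTDelta Groth.Agent.Lib.Helper60.HTLoc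
  Groth.Agent.Lib.Helper60.HTCousin Groth.Agent.Lib.Helper60.HTComp
  Groth.Agent.Lib.Helper60.FaltDual Groth.Agent.Lib.Helper60.DimFunIcc
  Groth.Agent.Lib.Helper60.FaltHT Groth.Agent.Lib.Helper60.HTClosed

section general

variable {A : Type u} [CommRing A] [IsNoetherianRing A]

/-- if `𝔞` kills `H^i_T(N)` for `i ≤ s`, then `H^i_{pA_p}(N_p) = 0` for `i ≤ s` at every point
`p ∈ T` not containing `𝔞`. -/
lemma subsingleton_lc_of_kill {T : Set (PrimeSpectrum A)} (hT : StableUnderSpecialization T)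
    (s : ℕ) (𝔞 : Ideal A) (N : ModuleCat.{u} A)
    (h𝔞 : ∀ i ≤ s, ∀ a ∈ 𝔞, ∀ x : (HTf T i).obj N, a • x = 0)
    (p : PrimeSpectrum A) (hp : p ∈ T) (hap : ¬ 𝔞 ≤ p.asIdeal) (i : ℕ) (hi : i ≤ s) :
    Subsingleton ((localCohomology (IsLocalRing.maximalIdeal (Localization.AtPrime p.asIdeal))
      i).obj ((locF p.asIdeal.primeCompl).obj N)) := by
  let Z : Set (PrimeSpectrum A) := {q' | p ≤ q'}
  have hZT : Z ⊆ T := fun q' hq' => hT ((PrimeSpectrum.le_iff_specializes p q').mp hq') hp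
  have hZ : StableUnderSpecialization Z := fun q' q'' h hq' =>
    le_trans hq' ((PrimeSpectrum.le_iff_specializes q' q'').mpr h)
  have hpZ : p ∈ Z := le_refl p
  have hmin : ∀ q' ∈ Z, q' ≤ p → q' = p := fun q' hq' h => le_antisymm h hq'
  have hkill := kills_of_subset hZT 𝔞 s N h𝔞 i hi
  obtain ⟨φ⟩ := nonempty_natIso hZ hpZ hmin i
  obtain ⟨a₀, ha₀, ha₀p⟩ := Set.not_subset.mp hap
  have haJ : a₀ ^ (s + 1) ∈ 𝔞 ^ (s + 1) := Ideal.pow_mem_pow ha₀ (s + 1)
  have hap' : a₀ ^ (s + 1) ∈ p.asIdeal.primeCompl :=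
    fun h => ha₀p (p.isPrime.mem_of_pow_mem _ h)
  have hz : ∀ z : LocalizedModule p.asIdeal.primeCompl ((HTf Z i).obj N), z = 0 := by
    intro z
    induction z using LocalizedModule.induction_on with
    | h x t =>
      rw [← LocalizedModule.mk_cancel_common_left (⟨a₀ ^ (s + 1), hap'⟩ : p.asIdeal.primeCompl)
        t x]
      have : (⟨a₀ ^ (s + 1), hap'⟩ : p.asIdeal.primeCompl) • x = a₀ ^ (s + 1) • x := rfl
      rw [this, hkill _ haJ x, LocalizedModule.zero_mk]
  let e := (φ.app N).toLinearEquiv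
  refine ⟨fun y₁ y₂ => ?_⟩
  have h1 : ∀ y, y = (0 : (localCohomology
      (IsLocalRing.maximalIdeal (Localization.AtPrime p.asIdeal)) i).obj
        ((locF p.asIdeal.primeCompl).obj N)) := by
    intro y
    have := hz (e.symm y)
    have h2 := congrArg e this
    rw [e.apply_symm_apply] at h2
    exact h2.trans (map_zero e)
  rw [h1 y₁, h1 y₂]

end general

section depth

variable {B : Type u} [CommRing B] [IsLocalRing B] [IsNoetherianRing B]

/-- vanishing of `H^i_m(N)` for `i ≤ s` gives `depth N > s`. -/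
lemma lt_depth_of_lc_subsingleton (N : Type u) [AddCommGroup N] [Module B N] [Module.Finite B N]
    (s : ℕ)
    (h : ∀ i ≤ s, Subsingleton ((localCohomology (IsLocalRing.maximalIdeal B) i).obj
      (ModuleCat.of B N))) : (s : ℕ∞) < LocCoh.depth B N := by
  unfold LocCoh.depth
  by_cases hIM : (IsLocalRing.maximalIdeal B) • (⊤ : Submodule B N) = ⊤
  · unfold LocCoh.idealDepth
    rw [if_pos hIM]
    exact ENat.natCast_lt_top s
  · have := le_idealDepth_of_lc_subsingleton (IsLocalRing.maximalIdeal B) (s + 1) N hIM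
      (fun i hi => h i (by omega))
    refine lt_of_lt_of_le ?_ this
    exact_mod_cast Nat.lt_succ_self s

/-- `depth N > s` gives vanishing of `H^i_m(N)` for `i ≤ s`. -/
lemma lc_subsingleton_of_lt_depth (N : Type u) [AddCommGroup N] [Module B N] [Module.Finite B N]
    (s : ℕ) (h : (s : ℕ∞) < LocCoh.depth B N) (i : ℕ) (hi : i ≤ s) :
    Subsingleton ((localCohomology (IsLocalRing.maximalIdeal B) i).obj (ModuleCat.of B N)) := by
  unfold LocCoh.depth at h
  have h1 : ((s + 1 : ℕ) : ℕ∞) ≤ LocCoh.idealDepth (IsLocalRing.maximalIdeal B) N := by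
    have := Order.add_one_le_of_lt h
    exact_mod_cast this
  rw [Groth.Agent.Lib.Helper29.le_idealDepth_iff] at h1
  rcases h1 with h1 | ⟨rs, hlen, hmem, hreg⟩
  · have hbot : (⊤ : Submodule B N) = ⊥ :=
      Submodule.eq_bot_of_le_smul_of_le_jacobson_bot (IsLocalRing.maximalIdeal B) ⊤
        Module.Finite.fg_top (le_of_eq h1.symm) (IsLocalRing.maximalIdeal_le_jacobson ⊥)
    have hsub : Subsingleton N := by
      refine ⟨fun a b => ?_⟩
      have ha : a ∈ (⊤ : Submodule B N) := Submodule.mem_top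
      have hb : b ∈ (⊤ : Submodule B N) := Submodule.mem_top
      rw [hbot, Submodule.mem_bot] at ha hb
      rw [ha, hb]
    have hz : IsZero (ModuleCat.of B N) := ModuleCat.isZero_of_subsingleton _
    have := Groth.Agent.Lib.Helper60.HTDelta.lc_additive (IsLocalRing.maximalIdeal B) i
    exact ModuleCat.subsingleton_of_isZero
      ((localCohomology (IsLocalRing.maximalIdeal B) i).map_isZero hz)
  · exact Groth.Agent.Lib.Helper60.lc_subsingleton_of_isWeaklyRegular
      (IsLocalRing.maximalIdeal B) rs N hreg hmem i (by omega)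

end depth


section Main

lemma stable_union {X : Type*} [TopologicalSpace X] {S₁ S₂ : Set X}
    (h₁ : StableUnderSpecialization S₁) (h₂ : StableUnderSpecialization S₂) :
    StableUnderSpecialization (S₁ ∪ S₂) := fun _ _ hxy hx =>
  hx.elim (fun h => Or.inl (h₁ hxy h)) (fun h => Or.inr (h₂ hxy h))

variable {A : Type u} [CommRing A] [IsNoetherianRing A]
  (ω : Dual.D A) (hω : Dual.IsDualizing A ω)
  (δ : PrimeSpectrum A → ℤ)
  (hδ1 : ∀ (p : PrimeSpectrum A) (i : ℤ), Nontrivial (LocalizedModule p.asIdeal.primeCompl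
    (Dual.inD A (A ⧸ p.asIdeal) ⟶ ω⟦i⟧)) ↔ i = -δ p)
  (hδ2 : ∀ p q : PrimeSpectrum A, p ⋖ q → δ p = δ q + 1)
  (M : Type u) [AddCommGroup M] [Module A M] [Module.Finite A M]
  (I J : Ideal A) (s d : ℕ) (T : Set (PrimeSpectrum A))
  (hT : ∀ p : PrimeSpectrum A, p ∈ T ↔
    ∀ q : PrimeSpectrum A, p ≤ q → I ≤ q.asIdeal → J ≤ q.asIdeal)
  (h3 : ∀ p : PrimeSpectrum A, ¬ I ≤ p.asIdeal → p ∈ T → ∃ q : PrimeSpectrum A,
    p ≤ q ∧ J ≤ q.asIdeal ∧ I ≤ q.asIdeal ∧
      Formal2.dimBetween A p.asIdeal q.asIdeal ≤ ((d : ℕ∞) : WithBot ℕ∞))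
  (h4 : ∀ p : PrimeSpectrum A, ¬ I ≤ p.asIdeal → p ∉ T → ∀ q : PrimeSpectrum A, p ≤ q →
    J ≤ q.asIdeal → I ≤ q.asIdeal →
    (s : ℕ∞) ≤ LocCoh.depth (Localization.AtPrime p.asIdeal)
      (LocalizedModule p.asIdeal.primeCompl M) ∨
    (((d + s : ℕ) : ℕ∞) : WithBot ℕ∞) <
      ((LocCoh.depth (Localization.AtPrime p.asIdeal)
        (LocalizedModule p.asIdeal.primeCompl M) : ℕ∞) : WithBot ℕ∞) +
        Formal2.dimBetween A p.asIdeal q.asIdeal)

include hT in
lemma T_stable : StableUnderSpecialization T := by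
  intro p p' hpp' hp
  rw [hT] at hp ⊢
  intro q hq hI
  exact hp q (le_trans ((PrimeSpectrum.le_iff_specializes p p').mpr hpp') hq) hI

include hT in
lemma le_of_mem {p : PrimeSpectrum A} (hp : p ∈ T) (hI : I ≤ p.asIdeal) : J ≤ p.asIdeal :=
  (hT p).mp hp p le_rfl hI

include hT in
lemma mem_of_le {p : PrimeSpectrum A} (hJ : J ≤ p.asIdeal) : p ∈ T := by
  rw [hT]
  intro q hq _
  exact hJ.trans hq

include hT in
lemma zeroLocus_subset (J' : Ideal A)
    (h : PrimeSpectrum.zeroLocus ((J' : Ideal A) : Set A) ∩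
      PrimeSpectrum.zeroLocus ((I : Ideal A) : Set A) =
      PrimeSpectrum.zeroLocus ((J : Ideal A) : Set A) ∩
        PrimeSpectrum.zeroLocus ((I : Ideal A) : Set A)) :
    PrimeSpectrum.zeroLocus ((J' : Ideal A) : Set A) ⊆ T := by
  intro p hp
  rw [hT]
  intro q hpq hIq
  have hq : q ∈ PrimeSpectrum.zeroLocus ((J' : Ideal A) : Set A) ∩
      PrimeSpectrum.zeroLocus ((I : Ideal A) : Set A) := by
    refine ⟨?_, ?_⟩
    · rw [PrimeSpectrum.mem_zeroLocus] at hp ⊢
      exact hp.trans hpq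
    · rw [PrimeSpectrum.mem_zeroLocus]
      exact hIq
  rw [h] at hq
  have := hq.1
  rw [PrimeSpectrum.mem_zeroLocus] at this
  exact this

include hT in
lemma inter_eq (J₀ : Ideal A) (hJ₀J : J₀ ≤ J)
    (hJ₀T : PrimeSpectrum.zeroLocus ((J₀ : Ideal A) : Set A) ⊆ T) :
    PrimeSpectrum.zeroLocus ((J₀ : Ideal A) : Set A) ∩
      PrimeSpectrum.zeroLocus ((I : Ideal A) : Set A) =
      PrimeSpectrum.zeroLocus ((J : Ideal A) : Set A) ∩
        PrimeSpectrum.zeroLocus ((I : Ideal A) : Set A) := by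
  ext p
  constructor
  · rintro ⟨hp0, hpI⟩
    refine ⟨?_, hpI⟩
    rw [PrimeSpectrum.mem_zeroLocus] at hpI ⊢
    exact le_of_mem I J T hT (hJ₀T hp0) hpI
  · rintro ⟨hpJ, hpI⟩
    refine ⟨?_, hpI⟩
    rw [PrimeSpectrum.mem_zeroLocus] at hpJ ⊢
    exact (SetLike.coe_subset_coe.mpr hJ₀J).trans hpJ

include hδ2 hT h3 h4 in
/-- the condition of Faltings' annihilator theorem for `(T, T ∪ V(I))`. -/
lemma falt_cond (p q : PrimeSpectrum A) (hp : p ∉ T) (hIp : ¬ I ≤ p.asIdeal) (hq : q ∈ T)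
    (hpq : p ≤ q) :
    (s : WithBot ℕ∞) < ((LocCoh.depth (Localization.AtPrime p.asIdeal)
      (LocalizedModule p.asIdeal.primeCompl M) : ℕ∞) : WithBot ℕ∞) +
        Order.krullDim (Set.Icc p q) := by
  rw [spec_krullDim_Icc_eq δ hδ2 p q hpq]
  have hne : p ≠ q := fun h => hp (h ▸ hq)
  have hlt : p < q := lt_of_le_of_ne hpq hne
  have := Groth.Agent.Lib.Helper6.DimFun.wellFoundedGT_primeSpectrum (A := A)
  have h1 := Groth.Agent.Lib.Helper6.DimFun.add_one_le_of_lt'
    Groth.Agent.Lib.Helper6.DimFun.height_lt_top δ hδ2 p q hlt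
  rcases eq_or_ne (LocCoh.depth (Localization.AtPrime p.asIdeal)
      (LocalizedModule p.asIdeal.primeCompl M)) ⊤ with htop | hne'
  · rw [htop]
    rw [← WithBot.coe_natCast, ← WithBot.coe_natCast, ← WithBot.coe_add, top_add,
      WithBot.coe_lt_coe]
    exact ENat.natCast_lt_top s
  · obtain ⟨k, hk⟩ := ENat.ne_top_iff_exists.1 hne'
    rw [← hk]
    suffices h : s < k + (δ p - δ q).toNat by exact_mod_cast h
    by_cases hIq : I ≤ q.asIdeal
    · have hJq := le_of_mem I J T hT hq hIq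
      have h5 := h4 p hIp hp q hpq hJq hIq
      rw [← hk, Groth.Agent.Lib.Helper31.DimBetween.dimBetween_eq_krullDim_Icc p q hpq,
        spec_krullDim_Icc_eq δ hδ2 p q hpq] at h5
      rcases h5 with h5 | h5
      · have h6 : s ≤ k := by exact_mod_cast h5
        omega
      · have h6 : d + s < k + (δ p - δ q).toNat := by exact_mod_cast h5
        omega
    · obtain ⟨q', hqq', hJq', hIq', hdim⟩ := h3 q hIq hq
      rw [Groth.Agent.Lib.Helper31.DimBetween.dimBetween_eq_krullDim_Icc q q' hqq',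
        spec_krullDim_Icc_eq δ hδ2 q q' hqq'] at hdim
      have hdim' : (δ q - δ q').toNat ≤ d := by exact_mod_cast hdim
      have hle' := spec_le_of_le δ hδ2 q q' hqq'
      have h5 := h4 p hIp hp q' (hpq.trans hqq') hJq' hIq'
      rw [← hk, Groth.Agent.Lib.Helper31.DimBetween.dimBetween_eq_krullDim_Icc p q'
        (hpq.trans hqq'), spec_krullDim_Icc_eq δ hδ2 p q' (hpq.trans hqq')] at h5
      rcases h5 with h5 | h5
      · have h6 : s ≤ k := by exact_mod_cast h5
        omega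
      · have h6 : d + s < k + (δ p - δ q').toNat := by exact_mod_cast h5
        omega

include hω hδ1 hδ2 hT h3 h4 in
/-- **the ideal `J₀`.** -/
theorem exists_J0 : ∃ J₀ : Ideal A, J₀ ≤ J ∧
    PrimeSpectrum.zeroLocus ((J₀ : Ideal A) : Set A) ⊆ T ∧
    ∀ p : PrimeSpectrum A, p ∈ T → ¬ J₀ ≤ p.asIdeal → ∀ i : ℕ, i ≤ s →
      Subsingleton (LocCoh.H (IsLocalRing.maximalIdeal (Localization.AtPrime p.asIdeal)) i
        (LocalizedModule p.asIdeal.primeCompl M)) := by
  classical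
  have hTs := T_stable I J T hT
  have hT' : StableUnderSpecialization (T ∪ PrimeSpectrum.zeroLocus ((I : Ideal A) : Set A)) :=
    stable_union hTs (PrimeSpectrum.isClosed_zeroLocus _).stableUnderSpecialization
  obtain ⟨𝔞, h𝔞V, h𝔞⟩ := exists_kill_of_cond ω hω δ hδ1 hδ2 M T
    (T ∪ PrimeSpectrum.zeroLocus ((I : Ideal A) : Set A)) hTs hT' s
    (fun p q hp hq hpq => falt_cond δ hδ2 M I J s d T hT h3 h4 p q
      (fun h => hp (Or.inl h))
      (fun h => hp (Or.inr ((PrimeSpectrum.mem_zeroLocus _ _).mpr h))) hq hpq)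
  let P : Finset (Ideal A) := (Ideal.finite_minimalPrimes_of_isNoetherianRing A 𝔞).toFinset
  let P₁ : Finset (Ideal A) := P.filter (fun 𝔭 => ∃ h : 𝔭.IsPrime, (⟨𝔭, h⟩ : PrimeSpectrum A) ∈ T)
  refine ⟨J * ∏ 𝔭 ∈ P₁, 𝔭, Ideal.mul_le_left, ?_, ?_⟩
  · intro p hp
    rw [PrimeSpectrum.mem_zeroLocus, SetLike.coe_subset_coe] at hp
    rcases (p.isPrime.mul_le).mp hp with h | h
    · exact mem_of_le I J T hT h
    · obtain ⟨𝔭, h𝔭, hle⟩ := (p.isPrime.prod_le).mp h
      obtain ⟨h𝔭prime, h𝔭T⟩ := (Finset.mem_filter.mp h𝔭).2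
      exact hTs ((PrimeSpectrum.le_iff_specializes ⟨𝔭, h𝔭prime⟩ p).mp hle) h𝔭T
  · intro p hp hJ₀p i hi
    have hap : ¬ 𝔞 ≤ p.asIdeal := by
      intro hle
      obtain ⟨𝔭, h𝔭min, h𝔭p⟩ := Ideal.exists_minimalPrimes_le hle
      have h𝔭prime : 𝔭.IsPrime := h𝔭min.1.1
      have h𝔞𝔭 : 𝔞 ≤ 𝔭 := h𝔭min.1.2
      have hmem : (⟨𝔭, h𝔭prime⟩ : PrimeSpectrum A) ∈
          T ∪ PrimeSpectrum.zeroLocus ((I : Ideal A) : Set A) :=
        h𝔞V ((PrimeSpectrum.mem_zeroLocus _ _).mpr h𝔞𝔭)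
      rcases hmem with hmem | hmem
      · have h𝔭P₁ : 𝔭 ∈ P₁ := by
          refine Finset.mem_filter.mpr ⟨?_, h𝔭prime, hmem⟩
          exact (Set.Finite.mem_toFinset _).mpr h𝔭min
        apply hJ₀p
        refine Ideal.mul_le_right.trans ?_
        exact (Ideal.prod_le_inf.trans (Finset.inf_le h𝔭P₁)).trans h𝔭p
      · rw [PrimeSpectrum.mem_zeroLocus, SetLike.coe_subset_coe] at hmem
        have hIp : I ≤ p.asIdeal := hmem.trans h𝔭p
        exact hJ₀p (Ideal.mul_le_left.trans (le_of_mem I J T hT hp hIp))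
    exact subsingleton_lc_of_kill hTs s 𝔞 (ModuleCat.of A M) h𝔞 p hp hap i hi

section withJ0

variable (J₀ : Ideal A) (hJ₀J : J₀ ≤ J)
  (hJ₀T : PrimeSpectrum.zeroLocus ((J₀ : Ideal A) : Set A) ⊆ T)
  (hvan : ∀ p : PrimeSpectrum A, p ∈ T → ¬ J₀ ≤ p.asIdeal → ∀ i : ℕ, i ≤ s →
      Subsingleton (LocCoh.H (IsLocalRing.maximalIdeal (Localization.AtPrime p.asIdeal)) i
        (LocalizedModule p.asIdeal.primeCompl M)))

include hT hvan in
/-- the comparison maps below `J₀` are bijective in degrees `≤ s`. -/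
theorem bijective_of_J0 (J' : Ideal A) (hJ' : J' ≤ J₀)
    (hJ'V : PrimeSpectrum.zeroLocus ((J' : Ideal A) : Set A) ∩
      PrimeSpectrum.zeroLocus ((I : Ideal A) : Set A) =
      PrimeSpectrum.zeroLocus ((J : Ideal A) : Set A) ∩
        PrimeSpectrum.zeroLocus ((I : Ideal A) : Set A)) (i : ℕ) (hi : i ≤ s) :
    Function.Bijective ((Dual2.HmapOfLE hJ' i).app (ModuleCat.of A M)).hom := by
  have hsub := zeroLocus_subset I J T hT J' hJ'V
  constructor
  · exact HmapOfLE_injective_of_forall_subsingleton J' J₀ hJ' M i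
      (fun p hp hp0 j hj => hvan p (hsub ((PrimeSpectrum.mem_zeroLocus _ _).mpr hp)) hp0 j
        (by omega))
  · exact HmapOfLE_surjective_of_forall_subsingleton J' J₀ hJ' M i
      (fun p hp hp0 => hvan p (hsub ((PrimeSpectrum.mem_zeroLocus _ _).mpr hp)) hp0 i hi)

include hω hδ1 hδ2 hT h3 h4 hJ₀T hvan in
/-- `H^i_{J₀}(M)` is killed by a power of `J₀ I` for `i ≤ s`. -/
theorem exists_pow_kill : ∃ n : ℕ, ∀ a ∈ (J₀ * I) ^ n, ∀ i : ℕ, i ≤ s →
    ∀ x : LocCoh.H J₀ i M, a • x = 0 := by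
  have hTs := T_stable I J T hT
  have hZ : StableUnderSpecialization (PrimeSpectrum.zeroLocus ((J₀ : Ideal A) : Set A)) :=
    (PrimeSpectrum.isClosed_zeroLocus _).stableUnderSpecialization
  have hZ' : StableUnderSpecialization (PrimeSpectrum.zeroLocus ((J₀ : Ideal A) : Set A) ∪
      PrimeSpectrum.zeroLocus ((I : Ideal A) : Set A)) :=
    stable_union hZ (PrimeSpectrum.isClosed_zeroLocus _).stableUnderSpecialization
  obtain ⟨𝔟, h𝔟V, h𝔟⟩ := exists_kill_of_cond ω hω δ hδ1 hδ2 M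
    (PrimeSpectrum.zeroLocus ((J₀ : Ideal A) : Set A))
    (PrimeSpectrum.zeroLocus ((J₀ : Ideal A) : Set A) ∪
      PrimeSpectrum.zeroLocus ((I : Ideal A) : Set A)) hZ hZ' s
    (fun p q hp hq hpq => by
      have hp0 : ¬ J₀ ≤ p.asIdeal := fun h => hp (Or.inl ((PrimeSpectrum.mem_zeroLocus _ _).mpr h))
      have hpI : ¬ I ≤ p.asIdeal := fun h => hp (Or.inr ((PrimeSpectrum.mem_zeroLocus _ _).mpr h))
      by_cases hpT : p ∈ T
      · have hNB : IsNoetherianRing (Localization.AtPrime p.asIdeal) :=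
          IsLocalization.isNoetherianRing p.asIdeal.primeCompl _ inferInstance
        have h1 := lt_depth_of_lc_subsingleton (B := Localization.AtPrime p.asIdeal)
          (LocalizedModule p.asIdeal.primeCompl M) s (fun i hi => hvan p hpT hp0 i hi)
        have h2 : (0 : WithBot ℕ∞) ≤ Order.krullDim (Set.Icc p q) := by
          have : Nonempty (Set.Icc p q) := ⟨⟨p, le_rfl, hpq⟩⟩
          exact Order.krullDim_nonneg
        calc (s : WithBot ℕ∞) < ((LocCoh.depth (Localization.AtPrime p.asIdeal)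
              (LocalizedModule p.asIdeal.primeCompl M) : ℕ∞) : WithBot ℕ∞) := by
                exact_mod_cast h1
          _ ≤ _ := le_add_of_nonneg_right h2
      · exact falt_cond δ hδ2 M I J s d T hT h3 h4 p q hpT hpI (hJ₀T hq) hpq)
  have hrad : J₀ * I ≤ 𝔟.radical := by
    rw [← PrimeSpectrum.zeroLocus_subset_zeroLocus_iff, PrimeSpectrum.zeroLocus_mul]
    exact h𝔟V
  obtain ⟨n, hn⟩ := Ideal.exists_pow_le_of_le_radical_of_fg hrad
    ((isNoetherianRing_iff_ideal_fg A).mp inferInstance _)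
  refine ⟨n, fun a ha i hi x => ?_⟩
  let e := equivLc J₀ i (ModuleCat.of A M)
  have h1 : a • e.symm x = 0 := h𝔟 i hi a (hn ha) (e.symm x)
  have h2 := congrArg e h1
  rw [map_smul, e.apply_symm_apply, map_zero] at h2
  exact h2

include hδ2 hT h3 h4 hJ₀J hJ₀T hvan in
/-- the finiteness condition for `T = V(J₀)`. -/
theorem cond_J0
    (h2 : ∀ p : PrimeSpectrum A, I ≤ p.asIdeal → ¬ J ≤ p.asIdeal → ∀ q : PrimeSpectrum A,
      p ≤ q → J ≤ q.asIdeal → I ≤ q.asIdeal →
      ((s : ℕ∞) : WithBot ℕ∞) < ((LocCoh.depth (Localization.AtPrime p.asIdeal)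
        (LocalizedModule p.asIdeal.primeCompl M) : ℕ∞) : WithBot ℕ∞) +
          Formal2.dimBetween A p.asIdeal q.asIdeal)
    (p q : PrimeSpectrum A)
    (hp : p ∉ PrimeSpectrum.zeroLocus ((J₀ : Ideal A) : Set A))
    (hq : q ∈ PrimeSpectrum.zeroLocus ((J₀ : Ideal A) : Set A)) (hpq : p ≤ q) :
    (s : WithBot ℕ∞) < ((LocCoh.depth (Localization.AtPrime p.asIdeal)
      (LocalizedModule p.asIdeal.primeCompl M) : ℕ∞) : WithBot ℕ∞) +
        Order.krullDim (Set.Icc p q) := by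
  have hp0 : ¬ J₀ ≤ p.asIdeal := fun h => hp ((PrimeSpectrum.mem_zeroLocus _ _).mpr h)
  by_cases hIp : I ≤ p.asIdeal
  · have hJp : ¬ J ≤ p.asIdeal := fun h => hp0 (hJ₀J.trans h)
    have hIq : I ≤ q.asIdeal := hIp.trans hpq
    have hJq : J ≤ q.asIdeal := le_of_mem I J T hT (hJ₀T hq) hIq
    have := h2 p hIp hJp q hpq hJq hIq
    rw [Groth.Agent.Lib.Helper31.DimBetween.dimBetween_eq_krullDim_Icc p q hpq] at this
    exact this
  · by_cases hpT : p ∈ T
    · have hNB : IsNoetherianRing (Localization.AtPrime p.asIdeal) :=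
        IsLocalization.isNoetherianRing p.asIdeal.primeCompl _ inferInstance
      have h1 := lt_depth_of_lc_subsingleton (B := Localization.AtPrime p.asIdeal)
        (LocalizedModule p.asIdeal.primeCompl M) s (fun i hi => hvan p hpT hp0 i hi)
      have h2' : (0 : WithBot ℕ∞) ≤ Order.krullDim (Set.Icc p q) := by
        have : Nonempty (Set.Icc p q) := ⟨⟨p, le_rfl, hpq⟩⟩
        exact Order.krullDim_nonneg
      calc (s : WithBot ℕ∞) < ((LocCoh.depth (Localization.AtPrime p.asIdeal)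
            (LocalizedModule p.asIdeal.primeCompl M) : ℕ∞) : WithBot ℕ∞) := by
              exact_mod_cast h1
        _ ≤ _ := le_add_of_nonneg_right h2'
    · exact falt_cond δ hδ2 M I J s d T hT h3 h4 p q hpT hIp (hJ₀T hq) hpq

/-- transfer of finiteness along `H^i_{V(J₀)} ≃ H^i_{J₀}`. -/
lemma finite_lc_of_finite_ht (i : ℕ)
    (h : Module.Finite A (Dual2.HT (PrimeSpectrum.zeroLocus ((J₀ : Ideal A) : Set A)) i M)) :
    Module.Finite A (LocCoh.H J₀ i M) :=
  Module.Finite.equiv (equivLc J₀ i (ModuleCat.of A M))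

end withJ0

section withH6

variable (h6 : ∀ p : PrimeSpectrum A, ¬ I ≤ p.asIdeal → p ∈ T →
    (s : ℕ∞) < LocCoh.depth (Localization.AtPrime p.asIdeal)
      (LocalizedModule p.asIdeal.primeCompl M))

include hT h6 in
theorem bijective_of_depth (J₁ J₂ : Ideal A) (h12 : J₁ ≤ J₂)
    (hJ₁T : PrimeSpectrum.zeroLocus ((J₁ : Ideal A) : Set A) ⊆ T)
    (hJ₂ : ∀ p : PrimeSpectrum A, J ≤ p.asIdeal → I ≤ p.asIdeal → J₂ ≤ p.asIdeal)
    (i : ℕ) (hi : i ≤ s) :
    Function.Bijective ((Dual2.HmapOfLE h12 i).app (ModuleCat.of A M)).hom := by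
  have key : ∀ p : PrimeSpectrum A, J₁ ≤ p.asIdeal → ¬ J₂ ≤ p.asIdeal → ∀ j : ℕ, j ≤ s →
      Subsingleton (LocCoh.H (IsLocalRing.maximalIdeal (Localization.AtPrime p.asIdeal)) j
        (LocalizedModule p.asIdeal.primeCompl M)) := by
    intro p hp1 hp2 j hj
    have hpT : p ∈ T := hJ₁T ((PrimeSpectrum.mem_zeroLocus _ _).mpr hp1)
    have hIp : ¬ I ≤ p.asIdeal := fun hI => hp2 (hJ₂ p (le_of_mem I J T hT hpT hI) hI)
    have hNB : IsNoetherianRing (Localization.AtPrime p.asIdeal) :=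
      IsLocalization.isNoetherianRing p.asIdeal.primeCompl _ inferInstance
    exact lc_subsingleton_of_lt_depth (B := Localization.AtPrime p.asIdeal)
      (LocalizedModule p.asIdeal.primeCompl M) s (h6 p hIp hpT) j hj
  constructor
  · exact HmapOfLE_injective_of_forall_subsingleton J₁ J₂ h12 M i
      (fun p hp hp0 j hj => key p hp hp0 j (by omega))
  · exact HmapOfLE_surjective_of_forall_subsingleton J₁ J₂ h12 M i
      (fun p hp hp0 => key p hp hp0 i hi)

include hω hδ1 hδ2 hT h3 h4 h6 in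
/-- `H^i_J(M)` is killed by a power of `I` for `i ≤ s`. -/
theorem exists_pow_kill_I : ∃ n : ℕ, ∀ a ∈ I ^ n, ∀ i : ℕ, i ≤ s →
    ∀ x : LocCoh.H J i M, a • x = 0 := by
  have hZ : StableUnderSpecialization (PrimeSpectrum.zeroLocus ((J : Ideal A) : Set A)) :=
    (PrimeSpectrum.isClosed_zeroLocus _).stableUnderSpecialization
  have hZ' : StableUnderSpecialization (PrimeSpectrum.zeroLocus ((I : Ideal A) : Set A)) :=
    (PrimeSpectrum.isClosed_zeroLocus _).stableUnderSpecialization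
  obtain ⟨𝔟, h𝔟V, h𝔟⟩ := exists_kill_of_cond ω hω δ hδ1 hδ2 M
    (PrimeSpectrum.zeroLocus ((J : Ideal A) : Set A))
    (PrimeSpectrum.zeroLocus ((I : Ideal A) : Set A)) hZ hZ' s
    (fun p q hp hq hpq => by
      have hpI : ¬ I ≤ p.asIdeal := fun h => hp ((PrimeSpectrum.mem_zeroLocus _ _).mpr h)
      have hqT : q ∈ T := mem_of_le I J T hT ((PrimeSpectrum.mem_zeroLocus _ _).mp hq)
      by_cases hpT : p ∈ T
      · have h1 := h6 p hpI hpT
        have h2 : (0 : WithBot ℕ∞) ≤ Order.krullDim (Set.Icc p q) := by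
          have : Nonempty (Set.Icc p q) := ⟨⟨p, le_rfl, hpq⟩⟩
          exact Order.krullDim_nonneg
        calc (s : WithBot ℕ∞) < ((LocCoh.depth (Localization.AtPrime p.asIdeal)
              (LocalizedModule p.asIdeal.primeCompl M) : ℕ∞) : WithBot ℕ∞) := by
                exact_mod_cast h1
          _ ≤ _ := le_add_of_nonneg_right h2
      · exact falt_cond δ hδ2 M I J s d T hT h3 h4 p q hpT hpI hqT hpq)
  have hrad : I ≤ 𝔟.radical := by
    rw [← PrimeSpectrum.zeroLocus_subset_zeroLocus_iff]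
    exact h𝔟V
  obtain ⟨n, hn⟩ := Ideal.exists_pow_le_of_le_radical_of_fg hrad
    ((isNoetherianRing_iff_ideal_fg A).mp inferInstance _)
  refine ⟨n, fun a ha i hi x => ?_⟩
  let e := equivLc J i (ModuleCat.of A M)
  have h1 : a • e.symm x = 0 := h𝔟 i hi a (hn ha) (e.symm x)
  have h2 := congrArg e h1
  rw [map_smul, e.apply_symm_apply, map_zero] at h2
  exact h2

end withH6

end Main

end Groth.Agent.Lib.Helper60.BootJ0
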