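import Groth.Agent.Lib.Helper29.FormalFibreCMModule
import Groth.Agent.Lib.Helper29.AdicLocal

/-!
# Depth on the completion of a localization (helper60)

For a Noetherian ring `A`, ideal `I`, prime `q ⊇ I`, write `B = A_q`, `A' = (A_q)^` (the
`IA_q`-adic completion) and `M' = (M_q)^`.

* `cplEquiv` : `M' ≃ₗ[A'] A' ⊗[A] M` for finite `M`;
* `depth_cpl_localized` : `depth (M')_{p'} = depth ((A' ⊗ M)_{p'})`;
* `comap_eq_of_mem_minimalPrimes_map` : minimal primes over `pA'` contract to `p` (flat going-down);
* `depth_fibre_eq_zero` : the fibre ring `A'_{p'}/pA'_{p'}` has depth `0` for `p'` minimal over `pA'`.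
-/

set_option autoImplicit false
universe u
open IsLocalRing TensorProduct

namespace Groth.Agent.Lib.Helper60.Bootstrap

section Equiv

variable (A : Type u) [CommRing A] [IsNoetherianRing A] (I : Ideal A) (q : Ideal A) [q.IsPrime]
  (M : Type u) [AddCommGroup M] [Module A M] [Module.Finite A M]

/-- `M_q ≅ A_q ⊗ M`. -/
noncomputable def locEquiv :
    (Localization.AtPrime q) ⊗[A] M ≃ₗ[Localization.AtPrime q] LocalizedModule q.primeCompl M :=
  ((isLocalizedModule_iff_isBaseChange q.primeCompl (Localization.AtPrime q)
    (LocalizedModule.mkLinearMap q.primeCompl M)).mp inferInstance).equiv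

/-- `(M_q)^ ≅ (A_q)^ ⊗_A M` as modules over the completion. -/
noncomputable def cplEquiv :
    AdicCompletion (I.map (algebraMap A (Localization.AtPrime q)))
        (LocalizedModule q.primeCompl M) ≃ₗ[AdicCompletion (I.map (algebraMap A
          (Localization.AtPrime q))) (Localization.AtPrime q)]
      (AdicCompletion (I.map (algebraMap A (Localization.AtPrime q)))
        (Localization.AtPrime q)) ⊗[A] M :=
  (AdicCompletion.ofTensorProductEquivOfFiniteNoetherian
      (I.map (algebraMap A (Localization.AtPrime q))) (LocalizedModule q.primeCompl M)).symm ≪≫ₗ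
    (TensorProduct.AlgebraTensorModule.congr
      (LinearEquiv.refl _ _) (locEquiv A q M).symm) ≪≫ₗ
    (TensorProduct.AlgebraTensorModule.cancelBaseChange A (Localization.AtPrime q) _ _ M)

end Equiv

section DepthCongr

variable {R : Type u} [CommRing R] (P : Ideal R) [P.IsPrime]

/-- depth of localizations is invariant under linear equivalence. -/
theorem depth_localizedModule_congr {X Y : Type u} [AddCommGroup X] [Module R X]
    [AddCommGroup Y] [Module R Y] (e : X ≃ₗ[R] Y) :
    LocCoh.depth (Localization.AtPrime P) (LocalizedModule P.primeCompl X) =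
      LocCoh.depth (Localization.AtPrime P) (LocalizedModule P.primeCompl Y) := by
  unfold LocCoh.depth
  exact Groth.Agent.Lib.Helper29.idealDepth_congr _
    (IsLocalizedModule.mapEquiv P.primeCompl (LocalizedModule.mkLinearMap P.primeCompl X)
      (LocalizedModule.mkLinearMap P.primeCompl Y) (Localization.AtPrime P) e)

end DepthCongr

section GoingDown

variable {R S : Type u} [CommRing R] [CommRing S] [Algebra R S] [Module.Flat R S]

/-- a minimal prime over `pS` contracts to `p` when `R → S` is flat. -/
theorem comap_eq_of_mem_minimalPrimes_map (p : Ideal R) [p.IsPrime] {P : Ideal S}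
    (hP : P ∈ (p.map (algebraMap R S)).minimalPrimes) : P.comap (algebraMap R S) = p := by
  have hPprime : P.IsPrime := hP.1.1
  have hle : p ≤ P.under R := Ideal.map_le_iff_le_comap.mp hP.1.2
  have hlo : P.LiesOver (P.under R) := ⟨rfl⟩
  obtain ⟨P₀, hP₀le, hP₀prime, hP₀lo⟩ := Ideal.exists_ideal_le_liesOver_of_le P hle
  have hP₀ : p = P₀.under R := P₀.over_def p
  have h1 : p.map (algebraMap R S) ≤ P₀ := by
    rw [Ideal.map_le_iff_le_comap]
    exact hP₀.le
  have h2 : P ≤ P₀ := hP.2 ⟨hP₀prime, h1⟩ hP₀le
  have h3 : P = P₀ := le_antisymm h2 hP₀le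
  rw [h3]
  exact hP₀.symm

end GoingDown

section Fibre

variable {R S : Type u} [CommRing R] [CommRing S] [Algebra R S] [IsNoetherianRing S]

/-- the fibre ring `S_P / pS_P` has depth zero when `P` is minimal over `pS`. -/
theorem depth_fibre_eq_zero (p : Ideal R) {P : Ideal S} [P.IsPrime]
    (hP : P ∈ (p.map (algebraMap R S)).minimalPrimes)
    [IsLocalRing (Localization.AtPrime P ⧸ p.map (algebraMap R (Localization.AtPrime P)))] :
    LocCoh.depth (Localization.AtPrime P ⧸ p.map (algebraMap R (Localization.AtPrime P)))
      (Localization.AtPrime P ⧸ p.map (algebraMap R (Localization.AtPrime P))) = 0 := by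
  set C := Localization.AtPrime P ⧸ p.map (algebraMap R (Localization.AtPrime P)) with hC
  have hN : IsNoetherianRing (Localization.AtPrime P) :=
    IsLocalization.isNoetherianRing P.primeCompl _ inferInstance
  have hNC : IsNoetherianRing C := inferInstance
  rw [Groth.Agent.Lib.Helper29.depth_eq_zero_iff]
  obtain ⟨Q, hQ⟩ := associatedPrimes.nonempty C C
  have hQprime : Q.IsPrime := IsAssociatedPrime.isPrime hQ
  suffices h : Q = maximalIdeal C by rwa [h] at hQ
  -- the prime `Q` pulls back to `P`
  let π : Localization.AtPrime P →+* C := Ideal.Quotient.mk _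
  have hQ' : (Q.comap π).IsPrime := Ideal.comap_isPrime _ _
  have hQ'' : ((Q.comap π).comap (algebraMap S (Localization.AtPrime P))).IsPrime :=
    Ideal.comap_isPrime _ _
  have hle : (Q.comap π).comap (algebraMap S (Localization.AtPrime P)) ≤ P := by
    have h1 : Q.comap π ≤ maximalIdeal (Localization.AtPrime P) :=
      IsLocalRing.le_maximalIdeal hQ'.ne_top
    have h2 := Ideal.comap_mono (f := algebraMap S (Localization.AtPrime P)) h1
    have h3 : (maximalIdeal (Localization.AtPrime P)).comap
        (algebraMap S (Localization.AtPrime P)) = P := Localization.AtPrime.under_maximalIdeal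
    rwa [h3] at h2
  have hge : p.map (algebraMap R S) ≤ (Q.comap π).comap (algebraMap S (Localization.AtPrime P)) := by
    rw [Ideal.map_le_iff_le_comap, Ideal.comap_comap, Ideal.comap_comap]
    intro x hx
    rw [Ideal.mem_comap]
    have : (π.comp ((algebraMap S (Localization.AtPrime P)).comp (algebraMap R S))) x = 0 := by
      rw [RingHom.comp_apply, ← IsScalarTower.algebraMap_eq]
      exact Ideal.Quotient.eq_zero_iff_mem.mpr (Ideal.mem_map_of_mem _ hx)
    rw [this]
    exact Q.zero_mem
  have heq : P ≤ (Q.comap π).comap (algebraMap S (Localization.AtPrime P)) :=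
    hP.2 ⟨hQ'', hge⟩ hle
  have hmax : maximalIdeal (Localization.AtPrime P) ≤ Q.comap π := by
    rw [← Localization.AtPrime.map_eq_maximalIdeal, Ideal.map_le_iff_le_comap]
    exact heq
  have hmax' : maximalIdeal (Localization.AtPrime P) = Q.comap π :=
    (maximalIdeal.isMaximal _).eq_of_le hQ'.ne_top hmax
  have hQmax : Q.IsMaximal := by
    have hπ : Function.Surjective π := Ideal.Quotient.mk_surjective
    have : (Q.comap π).IsMaximal := hmax' ▸ maximalIdeal.isMaximal _
    have h3 := Ideal.map_eq_top_or_isMaximal_of_surjective π hπ this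
    rw [Ideal.map_comap_of_surjective π hπ] at h3
    exact h3.resolve_left hQprime.ne_top
  exact IsLocalRing.eq_maximalIdeal hQmax

end Fibre

end Groth.Agent.Lib.Helper60.Bootstrap
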