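import Groth.Agent.Lib.Helper60.Bootstrap1

/-!
# The bootstrap depth estimate (helper60)

`depth_gt_of_cpl`: if `V(p) ∩ V(I) ∩ Spec A_q = {q}` and the completion condition (6) holds at `q`,
then `depth M_p > s`.
-/

set_option autoImplicit false
universe u
open IsLocalRing TensorProduct

namespace Groth.Agent.Lib.Helper60.Bootstrap

variable (A : Type u) [CommRing A] [IsNoetherianRing A] (I : Ideal A)
  (M : Type u) [AddCommGroup M] [Module A M] [Module.Finite A M]

theorem depth_gt_of_cpl (s : ℕ) (q : PrimeSpectrum A) (hIq : I ≤ q.asIdeal)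
    (h6q : ∀ p' : PrimeSpectrum (AdicCompletion (I.map (algebraMap A
        (Localization.AtPrime q.asIdeal))) (Localization.AtPrime q.asIdeal)),
      ¬ (I.map (algebraMap A (AdicCompletion (I.map (algebraMap A
        (Localization.AtPrime q.asIdeal))) (Localization.AtPrime q.asIdeal)))) ≤ p'.asIdeal →
      (∀ q' : PrimeSpectrum (AdicCompletion (I.map (algebraMap A
        (Localization.AtPrime q.asIdeal))) (Localization.AtPrime q.asIdeal)), p' ≤ q' →
        (I.map (algebraMap A (AdicCompletion (I.map (algebraMap A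
          (Localization.AtPrime q.asIdeal))) (Localization.AtPrime q.asIdeal)))) ≤ q'.asIdeal →
        q'.asIdeal.IsMaximal) →
      (s : ℕ∞) < LocCoh.depth (Localization.AtPrime p'.asIdeal)
        (LocalizedModule p'.asIdeal.primeCompl (AdicCompletion (I.map (algebraMap A
          (Localization.AtPrime q.asIdeal))) (LocalizedModule q.asIdeal.primeCompl M))))
    (p : PrimeSpectrum A) (hpq : p ≤ q) (hp : ¬ I ≤ p.asIdeal)
    (hstar : ∀ r : PrimeSpectrum A, p ≤ r → r ≤ q → I ≤ r.asIdeal → r = q) :
    (s : ℕ∞) < LocCoh.depth (Localization.AtPrime p.asIdeal)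
      (LocalizedModule p.asIdeal.primeCompl M) := by
  set B := Localization.AtPrime q.asIdeal with hB
  set IB := I.map (algebraMap A B) with hIB
  set A' := AdicCompletion IB B with hA'
  have hNB : IsNoetherianRing B := IsLocalization.isNoetherianRing q.asIdeal.primeCompl _ inferInstance
  have hNA' : IsNoetherianRing A' := Groth.Agent.S0543.result B IB
  have hflatBA' : Module.Flat B A' := AdicCompletion.flat_of_isNoetherian IB
  have hflat : Module.Flat A A' := Module.Flat.trans A B A'
  have hqB : (maximalIdeal B).comap (algebraMap A B) = q.asIdeal :=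
    Localization.AtPrime.under_maximalIdeal
  have hIBle : IB ≤ maximalIdeal B := by
    rw [hIB, Ideal.map_le_iff_le_comap, hqB]
    exact hIq
  have hmax : ((maximalIdeal B).map (algebraMap B A')).IsMaximal :=
    AdicCompletion.isMaximal_map_of_le IB (maximalIdeal B) hIBle (Ideal.fg_of_isNoetherianRing IB)
  have hqmap : q.asIdeal.map (algebraMap A A') = (maximalIdeal B).map (algebraMap B A') := by
    rw [← Localization.AtPrime.map_eq_maximalIdeal, Ideal.map_map, ← IsScalarTower.algebraMap_eq]
  have hpne : p.asIdeal.map (algebraMap A A') ≠ ⊤ := by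
    intro h
    apply hmax.ne_top
    rw [← hqmap]
    exact top_le_iff.mp (h.symm.le.trans (Ideal.map_mono hpq))
  obtain ⟨P, hP⟩ := Ideal.nonempty_minimalPrimes hpne
  have hPprime : P.IsPrime := hP.1.1
  have hPcomap : P.comap (algebraMap A A') = p.asIdeal :=
    comap_eq_of_mem_minimalPrimes_map p.asIdeal hP
  let p' : PrimeSpectrum A' := ⟨P, hPprime⟩
  have ha : ¬ I.map (algebraMap A A') ≤ p'.asIdeal := fun h =>
    hp (by rw [← hPcomap]; exact Ideal.map_le_iff_le_comap.mp h)
  have hb : ∀ q' : PrimeSpectrum A', p' ≤ q' → I.map (algebraMap A A') ≤ q'.asIdeal →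
      q'.asIdeal.IsMaximal := by
    intro q' hq' hIq'
    let r : PrimeSpectrum A := ⟨q'.asIdeal.comap (algebraMap A A'), inferInstance⟩
    have hpr : p ≤ r := by
      show p.asIdeal ≤ q'.asIdeal.comap (algebraMap A A')
      rw [← hPcomap]
      exact Ideal.comap_mono hq'
    have hIr : I ≤ r.asIdeal := Ideal.map_le_iff_le_comap.mp hIq'
    have hrq : r ≤ q := by
      have hpr' : (q'.asIdeal.comap (algebraMap B A')).IsPrime := Ideal.comap_isPrime _ _
      have h1 : q'.asIdeal.comap (algebraMap B A') ≤ maximalIdeal B :=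
        IsLocalRing.le_maximalIdeal hpr'.ne_top
      have h2 := Ideal.comap_mono (f := algebraMap A B) h1
      rw [Ideal.comap_comap, ← IsScalarTower.algebraMap_eq, hqB] at h2
      exact h2
    have hr := hstar r hpr hrq hIr
    have hle : q.asIdeal.map (algebraMap A A') ≤ q'.asIdeal := by
      rw [Ideal.map_le_iff_le_comap]
      exact (congrArg PrimeSpectrum.asIdeal hr).ge
    rw [hqmap] at hle
    have h3 := hmax.eq_of_le q'.2.ne_top hle
    rw [← h3]
    exact hmax
  have h6 := h6q p' ha hb
  -- depth comparison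
  have hlo : P.LiesOver p.asIdeal := ⟨hPcomap.symm⟩
  have hne : p.asIdeal.map (algebraMap A (Localization.AtPrime P)) ≠ ⊤ := by
    intro h
    have h1 : p.asIdeal.map (algebraMap A (Localization.AtPrime P)) ≤
        maximalIdeal (Localization.AtPrime P) := by
      rw [IsScalarTower.algebraMap_eq A A' (Localization.AtPrime P), ← Ideal.map_map,
        ← Localization.AtPrime.map_eq_maximalIdeal]
      exact Ideal.map_mono hP.1.2
    rw [h] at h1
    exact (maximalIdeal.isMaximal (Localization.AtPrime P)).ne_top (top_le_iff.mp h1)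
  have hnt : Nontrivial (Localization.AtPrime P ⧸
      p.asIdeal.map (algebraMap A (Localization.AtPrime P))) :=
    Ideal.Quotient.nontrivial_iff.mpr hne
  have hloc : IsLocalRing (Localization.AtPrime P ⧸
      p.asIdeal.map (algebraMap A (Localization.AtPrime P))) :=
    IsLocalRing.of_surjective' (Ideal.Quotient.mk _) Ideal.Quotient.mk_surjective
  have h7 := Groth.Agent.Lib.Helper29.depth_localizedModule_tensor_of_flat (R := A) (S := A')
    p.asIdeal P M
  have h8 := depth_fibre_eq_zero (R := A) (S := A') p.asIdeal hP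
  have h9 := depth_localizedModule_congr P (cplEquiv A I q.asIdeal M)
  rw [h8, add_zero] at h7
  rw [← h7, ← h9]
  exact h6

end Groth.Agent.Lib.Helper60.Bootstrap
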