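import Mathlib
import Groth.Agent.Lib.Helper60.CB6
import Groth.Agent.Lib.Helper60.CB7

/-!
# Connectedness bound with cohomological dimension; connectedness of `V(I) ∖ Z` (helper60)
-/

set_option autoImplicit false
set_option linter.unusedSectionVars false
universe u
open CategoryTheory CategoryTheory.Limits Opposite Abelian IsLocalRing Order PrimeSpectrum
open Groth.Agent.Lib.Helper29

namespace Groth.Agent.Lib.Helper60

section main

variable (R : Type u) [CommRing R] [IsNoetherianRing R] [IsLocalRing R]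
  [IsAdicComplete (maximalIdeal R) R]

/-- **Connectedness bound**, cohomological dimension version:
`c(R/a) ≥ min(c(R), sdim R - 1) - cd(a)` over a complete local ring. -/
theorem connDim_quotient_bound_cd (a : Ideal R) (ha : a ≠ ⊤) (k : ℕ)
    (hk : LocCoh.CdLE R a k) :
    min (LocCoh.connDim (PrimeSpectrum R) + 1) (LocCoh.subdim (PrimeSpectrum R)) ≤
      LocCoh.connDim (PrimeSpectrum (R ⧸ a)) + (k : WithBot ℕ∞) + 1 := by
  have hloc : IsLocalRing (R ⧸ a) := isLocalRing_quotient' R a ha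
  have hcd : ∀ J : Ideal R, J.radical = a.radical → LocCoh.CdLE R J k :=
    fun J hJ => cdLE_of_radical_eq hJ.symm hk
  obtain ⟨A, B, hc, hγ⟩ := exists_isMinCover_connDim_eq (R := R ⧸ a)
  rw [hγ]
  by_cases hnt : (minimalPrimes (R ⧸ a)).Nontrivial
  · obtain ⟨A', B', hc', hdisj, hA, hB⟩ := hc.exists_disjoint hnt
    have hγ' : ringKrullDim ((R ⧸ a) ⧸ (sInf A' ⊔ sInf B')) ≤
        ringKrullDim ((R ⧸ a) ⧸ (sInf A ⊔ sInf B)) :=
      ringKrullDim_quotient_anti (sup_le_sup hA hB)
    have h𝔞top : (sInf A').comap (Ideal.Quotient.mk a) ≠ ⊤ :=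
      Ideal.comap_ne_top _ hc'.sInf_ne_top_left
    have h𝔟top : (sInf B').comap (Ideal.Quotient.mk a) ≠ ⊤ :=
      Ideal.comap_ne_top _ hc'.symm.sInf_ne_top_left
    have hdim_sup : ringKrullDim (R ⧸ ((sInf A').comap (Ideal.Quotient.mk a) ⊔
        (sInf B').comap (Ideal.Quotient.mk a))) =
        ringKrullDim ((R ⧸ a) ⧸ (sInf A' ⊔ sInf B')) := by
      rw [← comap_mk_sup, ← ringKrullDim_quotient_quotient]
    have hdim𝔞 := ringKrullDim_quotient_quotient a (sInf A')
    have hdim𝔟 := ringKrullDim_quotient_quotient a (sInf B')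
    have hab : ringKrullDim (R ⧸ ((sInf A').comap (Ideal.Quotient.mk a) ⊔
        (sInf B').comap (Ideal.Quotient.mk a))) <
        min (ringKrullDim (R ⧸ (sInf A').comap (Ideal.Quotient.mk a)))
          (ringKrullDim (R ⧸ (sInf B').comap (Ideal.Quotient.mk a))) := by
      rw [hdim_sup, ← hdim𝔞, ← hdim𝔟]
      refine lt_min (hc'.dim_sup_lt hdisj) ?_
      rw [sup_comm]
      exact hc'.symm.dim_sup_lt hdisj.symm
    have hrad : ((sInf A').comap (Ideal.Quotient.mk a) ⊓
        (sInf B').comap (Ideal.Quotient.mk a)).radical = a.radical := by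
      have h1 : sInf A' ⊓ sInf B' = sInf (minimalPrimes (R ⧸ a)) := by
        rw [← sInf_union, hc'.2.2.2.2]
      have h2 : sInf (minimalPrimes (R ⧸ a)) = (⊥ : Ideal (R ⧸ a)).radical :=
        Ideal.sInf_minimalPrimes
      rw [← Ideal.comap_inf, h1, h2, comap_mk_radical_bot, Ideal.radical_idem]
    have := connectedness_bound_complete R _ _ h𝔞top h𝔟top hab k (hcd _ hrad)
    refine this.trans ?_
    rw [hdim_sup]
    exact add_le_add_left (add_le_add_left hγ' _) _
  · rw [Set.not_nontrivial_iff] at hnt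
    have hA : A = minimalPrimes (R ⧸ a) := by
      apply Set.Subset.antisymm hc.1
      intro x hx
      obtain ⟨y, hy⟩ := hc.2.2.1
      rwa [hnt hx (hc.1 hy)]
    have hB : B = minimalPrimes (R ⧸ a) := by
      apply Set.Subset.antisymm hc.2.1
      intro x hx
      obtain ⟨y, hy⟩ := hc.2.2.2.1
      rwa [hnt hx (hc.2.1 hy)]
    have h1 : sInf A ⊔ sInf B = (⊥ : Ideal (R ⧸ a)).radical := by
      rw [hA, hB, sup_idem]
      exact Ideal.sInf_minimalPrimes
    rw [h1, ringKrullDim_quotient_radical, ringKrullDim_quotient_quotient,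
      ← RingHom.ker_eq_comap_bot, Ideal.mk_ker]
    apply min_le_of_right_le
    obtain ⟨p0, hp0, -⟩ := Ideal.exists_minimalPrimes_le
      (bot_le : (⊥ : Ideal R) ≤ maximalIdeal R)
    have hp0p : p0.IsPrime := hp0.1.1
    have hlocD : IsLocalRing (R ⧸ p0) := isLocalRing_quotient' R p0 hp0p.ne_top
    obtain ⟨eD, heD⟩ := exists_nat_ringKrullDim_quotient_local R p0 hp0p.ne_top
    have hne : p0 ⊔ a ≠ ⊤ := sup_ne_top_of_le_maximalIdeal R hp0p.ne_top ha
    obtain ⟨e, he⟩ := exists_nat_ringKrullDim_quotient_local R _ hne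
    obtain ⟨ea, hea⟩ := exists_nat_ringKrullDim_quotient_local R a ha
    have hele : e ≤ ea := by
      have := ringKrullDim_quotient_anti (le_sup_right : a ≤ p0 ⊔ a)
      rw [he, hea] at this
      exact_mod_cast this
    have hdimJ : ringKrullDim ((R ⧸ p0) ⧸ a.map (algebraMap R (R ⧸ p0))) = e := by
      rw [← he]
      exact ringKrullDim_doubleQuot p0 a
    have hJtop := ne_top_of_ringKrullDim_quotient_eq_nat hdimJ
    have hbd := ringKrullDim_le_cd_add_dim_quotient (R ⧸ p0) eD heD e _ k hJtop hdimJ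
      (cdLE_map_quotient p0 a (hcd a rfl))
    refine (subdim_le_of_mem_minimalPrimes hp0).trans ?_
    rw [heD, hea]
    exact_mod_cast (by omega : eD ≤ ea + k + 1)

end main

section conn

/-- the spectrum-closed subset `V(I)` of a local ring is connected (`I` proper). -/
lemma isConnected_zeroLocus_of_isLocalRing (A : Type u) [CommRing A] [IsLocalRing A]
    (I : Ideal A) (hI : I ≠ ⊤) : _root_.IsConnected (zeroLocus (I : Set A)) := by
  let m : PrimeSpectrum A := closedPoint A
  have hm : m ∈ zeroLocus (I : Set A) := by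
    rw [mem_zeroLocus]
    exact le_maximalIdeal hI
  refine ⟨⟨m, hm⟩, ?_⟩
  apply isPreconnected_of_forall m
  intro y hy
  refine ⟨{y, m}, ?_, by simp, by simp, ?_⟩
  · intro x hx
    rcases hx with rfl | rfl
    · exact hy
    · exact hm
  · apply IsPreconnected.subset_closure (s := {y}) isPreconnected_singleton
    · intro x hx; rw [Set.mem_singleton_iff.mp hx]; simp
    · intro x hx
      rcases hx with rfl | rfl
      · exact subset_closure rfl
      · rw [← specializes_iff_mem_closure, ← le_iff_specializes]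
        exact le_maximalIdeal y.2.ne_top

variable (A : Type u) [CommRing A] [IsNoetherianRing A] [IsLocalRing A]
  [IsAdicComplete (maximalIdeal A) A]

/-- a nonempty subset of the spectrum of a Noetherian local ring has finite natural dimension. -/
lemma exists_nat_topologicalKrullDim_of_nonempty (Z : Set (PrimeSpectrum A)) (hZ : Z.Nonempty) :
    ∃ z : ℕ, topologicalKrullDim Z = z := by
  have h1 : topologicalKrullDim Z ≤ ringKrullDim A :=
    (topologicalKrullDim_subspace_le _ Z).trans (PrimeSpectrum.topologicalKrullDim_eq_ringKrullDim A).le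
  have h2 : ringKrullDim A ≠ ⊤ := ringKrullDim_ne_top
  have h3 : topologicalKrullDim Z ≠ ⊤ := fun h => h2 (top_le_iff.mp (h ▸ h1))
  have h4 : topologicalKrullDim Z ≠ ⊥ := by
    obtain ⟨x, hx⟩ := hZ
    have : Nonempty (TopologicalSpace.IrreducibleCloseds Z) :=
      ⟨⟨closure {⟨x, hx⟩}, isIrreducible_singleton.closure, isClosed_closure⟩⟩
    unfold topologicalKrullDim
    exact Order.krullDim_ne_bot_iff.mpr this
  obtain ⟨w, hw⟩ := WithBot.ne_bot_iff_exists.mp h4
  have hw' : w ≠ ⊤ := by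
    intro h
    apply h3
    rw [← hw, h]
    rfl
  obtain ⟨z, hz⟩ := ENat.ne_top_iff_exists.mp hw'
  exact ⟨z, by rw [← hw, ← hz]; rfl⟩

theorem isConnected_zeroLocus_diff (I : Ideal A) (hI : I ≠ ⊤) (e : ℕ)
    (he : LocCoh.CdLE A I e) (Z : Set (PrimeSpectrum A)) (hZ : IsClosed Z)
    (hZI : Z ⊆ zeroLocus (I : Set A))
    (hdim : ∀ p ∈ minimalPrimes A,
      topologicalKrullDim Z + ((e + 1 : ℕ) : WithBot ℕ∞) < ringKrullDim (A ⧸ p))
    (hc : ∀ Z' : Set (PrimeSpectrum A), IsClosed Z' → ¬ _root_.IsConnected Z'ᶜ →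
      topologicalKrullDim Z + ((e : ℕ) : WithBot ℕ∞) < topologicalKrullDim Z') :
    _root_.IsConnected (zeroLocus (I : Set A) \ Z) := by
  rcases Z.eq_empty_or_nonempty with rfl | hZne
  · rw [Set.sdiff_empty]
    exact isConnected_zeroLocus_of_isLocalRing A I hI
  obtain ⟨z, hz⟩ := exists_nat_topologicalKrullDim_of_nonempty A Z hZne
  rw [hz] at hdim hc
  -- the closed embedding `Spec (A/I) → Spec A`
  let φ : PrimeSpectrum (A ⧸ I) → PrimeSpectrum A := comap (Ideal.Quotient.mk I)
  have hφ : Topology.IsClosedEmbedding φ :=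
    isClosedEmbedding_comap_of_surjective (A ⧸ I) (Ideal.Quotient.mk I)
      Ideal.Quotient.mk_surjective
  have hrange : Set.range φ = zeroLocus (I : Set A) := by
    rw [range_comap_of_surjective _ _ Ideal.Quotient.mk_surjective, Ideal.mk_ker]
  let Z₁ : Set (PrimeSpectrum (A ⧸ I)) := φ ⁻¹' Z
  have hZ₁ : IsClosed Z₁ := hZ.preimage hφ.continuous
  have himg : φ '' Z₁ᶜ = zeroLocus (I : Set A) \ Z := by
    rw [Set.image_compl_preimage, hrange]
  have hdimZ₁ : topologicalKrullDim Z₁ ≤ (z : WithBot ℕ∞) := by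
    rw [← hz]
    exact (hφ.isInducing.restrictPreimage Z).topologicalKrullDim_le
  rw [← himg]
  by_contra hcon
  have hcon' : ¬ _root_.IsConnected Z₁ᶜ := by
    intro h
    exact hcon (h.image φ hφ.continuous.continuousOn)
  -- `c(A/I) ≤ z`
  have hcT : LocCoh.connDim (PrimeSpectrum (A ⧸ I)) ≤ (z : WithBot ℕ∞) := by
    unfold LocCoh.connDim
    exact (iInf₂_le Z₁ ⟨hZ₁, hcon'⟩).trans hdimZ₁
  have hbound := connDim_quotient_bound_cd A I hI e he
  -- lower bounds
  have h1 : (((z + e + 1 : ℕ) : WithBot ℕ∞)) ≤ LocCoh.connDim (PrimeSpectrum A) := by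
    unfold LocCoh.connDim
    refine le_iInf₂ fun Z' hZ' => ?_
    have := hc Z' hZ'.1 hZ'.2
    have h' : ((z + e : ℕ) : WithBot ℕ∞) < topologicalKrullDim Z' := by
      rw [Nat.cast_add]; exact this
    exact nat_add_one_le_of_lt h'
  have h2 : (((z + e + 2 : ℕ) : WithBot ℕ∞)) ≤ LocCoh.subdim (PrimeSpectrum A) := by
    unfold LocCoh.subdim
    refine le_iInf₂ fun C hC => ?_
    rw [← zeroLocus_minimalPrimes] at hC
    obtain ⟨p, hp, rfl⟩ := hC
    have := hdim p hp
    show _ ≤ topologicalKrullDim ↥(zeroLocus (p : Set A))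
    rw [Groth.Agent.Lib.Helper2.topologicalKrullDim_zeroLocus]
    have h' : ((z + e + 1 : ℕ) : WithBot ℕ∞) < ringKrullDim (A ⧸ p) := by
      have h'' : ((z + e + 1 : ℕ) : WithBot ℕ∞) = (z : WithBot ℕ∞) + ((e + 1 : ℕ) : WithBot ℕ∞) := by
        push_cast; ring
      rw [h'']; exact this
    exact nat_add_one_le_of_lt h'
  have h3 : (((z + e + 2 : ℕ) : WithBot ℕ∞)) ≤
      min (LocCoh.connDim (PrimeSpectrum A) + 1) (LocCoh.subdim (PrimeSpectrum A)) := by
    refine le_min ?_ h2
    have : (((z + e + 2 : ℕ) : WithBot ℕ∞)) = ((z + e + 1 : ℕ) : WithBot ℕ∞) + 1 := by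
      push_cast; ring
    rw [this]
    exact add_le_add_left h1 1
  have h4 : LocCoh.connDim (PrimeSpectrum (A ⧸ I)) + (e : WithBot ℕ∞) + 1 ≤
      (z : WithBot ℕ∞) + (e : WithBot ℕ∞) + 1 :=
    add_le_add_left (add_le_add_left hcT _) _
  have h5 := (h3.trans hbound).trans h4
  have h6 : z + e + 2 ≤ z + e + 1 := by exact_mod_cast h5
  omega

end conn

end Groth.Agent.Lib.Helper60
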