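import Mathlib
import Groth.Agent.Lib.Helper60.AC2
import Groth.Agent.Lib.Helper60.DTExact2
import Groth.Agent.Lib.Helper60.LocalCohAra
import Groth.Agent.Lib.Helper60.CB1

/-!
# `cd(A, I) ≤ 1` implies `Spec A ∖ V(I)` is affine (helper60)

* `exists_sections_of_lift` : gluing sections `h_j` on `U = ⋃ D(a_i)` with `Σ a_j h_j = 1`.
* `isAffineOpen_of_sections`
* `isAffine_puncturedOpen_of_cdLE_one`, `nonempty_puncturedOpen_of_not_cdLE_zero`
-/

set_option autoImplicit false
universe u
open CategoryTheory AlgebraicGeometry Opposite TopologicalSpace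

namespace Groth.Agent.Lib.Helper60

section glue

variable {X : Scheme.{u}}

/-- restriction of `a` to an open inside its basic open is a unit. -/
lemma isUnit_resTop_of_le_basicOpen (a : Γ(X, ⊤)) {W : X.Opens} (hW : W ≤ X.basicOpen a) :
    IsUnit (resTop W a) := by
  have h1 : IsUnit ((X.presheaf.map (homOfLE (le_top : X.basicOpen a ≤ ⊤)).op).hom a) :=
    RingedSpace.isUnit_res_basicOpen X.toRingedSpace a
  have h2 : resTop W a =
      (X.presheaf.map (homOfLE hW).op).hom
        ((X.presheaf.map (homOfLE (le_top : X.basicOpen a ≤ ⊤)).op).hom a) := by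
    unfold resTop
    rw [← CommRingCat.comp_apply, ← Functor.map_comp]
    rfl
  rw [h2]
  exact h1.map _

/-- restriction as a ring hom. -/
noncomputable def resLE {W W' : X.Opens} (h : W ≤ W') : Γ(X, W') →+* Γ(X, W) :=
  (X.presheaf.map (homOfLE h).op).hom

lemma resLE_resTop {W W' : X.Opens} (h : W ≤ W') (x : Γ(X, ⊤)) :
    resLE h (resTop W' x) = resTop W x := res_comp_resTop h x

theorem exists_sections_of_lift {r : ℕ} (a : Fin r → Γ(X, ⊤)) (N : ℕ)
    (ψ : Fin r → Fin r → Γ(X, ⊤))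
    (ha : ∀ j i k, a k ^ N * ψ j i = a i ^ N * ψ j k)
    (hb : ∀ i, ∑ j, a j * ψ j i = a i ^ N)
    (U : X.Opens) (hU : U = ⨆ i, X.basicOpen (a i)) :
    ∃ h : Fin r → Γ(X, U), ∑ j, resTop U (a j) * h j = 1 := by
  let V : Fin r → X.Opens := fun i => X.basicOpen (a i)
  have hVU : ∀ i, V i ≤ U := fun i => by rw [hU]; exact le_iSup V i
  let iVU : ∀ i, V i ⟶ U := fun i => homOfLE (hVU i)
  have hcover : U ≤ iSup V := hU.le
  have hloc : ∀ j i, ∃ s : Γ(X, V i), s * (resTop (V i) (a i)) ^ N = resTop (V i) (ψ j i) := by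
    intro j i
    obtain ⟨u, hu⟩ := isUnit_resTop_of_le_basicOpen (a i) (le_refl (V i))
    refine ⟨resTop (V i) (ψ j i) * ((u⁻¹ : (Γ(X, V i))ˣ) : Γ(X, V i)) ^ N, ?_⟩
    rw [← hu, mul_assoc, ← mul_pow, Units.inv_mul, one_pow, mul_one]
  choose s hs using hloc
  have hcompat : ∀ j, TopCat.Presheaf.IsCompatible X.presheaf V (s j) := by
    intro j i k
    change resLE (inf_le_left : V i ⊓ V k ≤ V i) (s j i) =
      resLE (inf_le_right : V i ⊓ V k ≤ V k) (s j k)
    have hui : IsUnit (resTop (V i ⊓ V k) (a i)) := isUnit_resTop_of_le_basicOpen (a i) inf_le_left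
    have huk : IsUnit (resTop (V i ⊓ V k) (a k)) := isUnit_resTop_of_le_basicOpen (a k) inf_le_right
    have h1 := congrArg (resLE (inf_le_left : V i ⊓ V k ≤ V i)) (hs j i)
    have h2 := congrArg (resLE (inf_le_right : V i ⊓ V k ≤ V k)) (hs j k)
    rw [map_mul, map_pow, resLE_resTop, resLE_resTop] at h1 h2
    have h3 := congrArg (resTop (V i ⊓ V k)) (ha j i k)
    rw [map_mul, map_mul, map_pow, map_pow] at h3
    apply (hui.pow N).mul_left_injective
    apply (huk.pow N).mul_left_injective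
    simp only
    rw [h1, mul_comm, h3, ← h2]
    ring
  have hglue : ∀ j, ∃ g : Γ(X, U), ∀ i, resLE (hVU i) g = s j i := by
    intro j
    obtain ⟨g, hg, -⟩ := X.sheaf.existsUnique_gluing' V U iVU hcover (s j) (hcompat j)
    exact ⟨g, hg⟩
  choose h hh using hglue
  refine ⟨h, ?_⟩
  apply X.sheaf.eq_of_locally_eq' V U iVU hcover
  intro i
  change resLE (hVU i) (∑ j, resTop U (a j) * h j) = resLE (hVU i) 1
  rw [map_one, map_sum]
  have hu : IsUnit (resTop (V i) (a i)) := isUnit_resTop_of_le_basicOpen (a i) (le_refl (V i))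
  apply (hu.pow N).mul_left_injective
  simp only
  rw [one_mul, Finset.sum_mul]
  have h3 := congrArg (resTop (V i)) (hb i)
  rw [map_sum, map_pow] at h3
  conv_rhs => rw [← h3]
  refine Finset.sum_congr rfl fun j _ => ?_
  rw [map_mul, resLE_resTop, hh, mul_assoc, hs, map_mul]

theorem isAffineOpen_of_sections [IsAffine X] {r : ℕ} (a : Fin r → Γ(X, ⊤)) (U : X.Opens)
    (hU : U = ⨆ i, X.basicOpen (a i)) (h : Fin r → Γ(X, U))
    (hsum : ∑ j, resTop U (a j) * h j = 1) : IsAffineOpen U := by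
  apply isAffineOpen_of_isAffineOpen_basicOpen U (Set.range fun j => resTop U (a j))
  · rw [Ideal.eq_top_iff_one, ← hsum]
    exact Ideal.sum_mem _ fun j _ => Ideal.mul_mem_right _ _ (Ideal.subset_span ⟨j, rfl⟩)
  · rintro _ ⟨j, rfl⟩
    have hle : X.basicOpen (a j) ≤ U := by
      rw [hU]; exact le_iSup (fun i => X.basicOpen (a i)) j
    rw [basicOpen_resTop, inf_eq_right.mpr hle]
    exact (isAffineOpen_top X).basicOpen (a j)

end glue

section spec

variable (A : Type u) [CommRing A] [IsNoetherianRing A]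

theorem isAffine_puncturedOpen_of_cdLE_one (I : Ideal A) (h1 : LocCoh.CdLE A I 1) :
    IsAffine (↑(LocCoh.puncturedOpen A I) : Scheme.{u}) := by
  obtain ⟨r, f, hf⟩ := Submodule.fg_iff_exists_fin_generating_family.mp
    ((isNoetherianRing_iff_ideal_fg A).mp inferInstance I)
  have hf' : Ideal.span (Set.range f) = I := hf
  subst hf'
  obtain ⟨c, φ, hφ⟩ := exists_lift_of_cdLE_one r f h1
  let X := Spec (CommRingCat.of A)
  let e : A →+* Γ(X, ⊤) := (Scheme.ΓSpecIso (CommRingCat.of A)).inv.hom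
  have hmem : ∀ i, f i ^ (c + 1) ∈ Ideal.span (Set.range f) ^ (c + 1) := fun i =>
    Ideal.pow_mem_pow (Ideal.subset_span (Set.mem_range_self i)) (c + 1)
  let x : Fin r → ↥(Ideal.span (Set.range f) ^ (c + 1)) := fun i => ⟨f i ^ (c + 1), hmem i⟩
  have ha : ∀ j i k, (e (f k)) ^ (c + 1) * e (φ j (x i)) =
      (e (f i)) ^ (c + 1) * e (φ j (x k)) := by
    intro j i k
    rw [← map_pow, ← map_pow, ← map_mul, ← map_mul]
    congr 1
    rw [← smul_eq_mul, ← smul_eq_mul, ← map_smul, ← map_smul]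
    congr 1
    apply Subtype.ext
    show f k ^ (c + 1) * f i ^ (c + 1) = f i ^ (c + 1) * f k ^ (c + 1)
    ring
  have hb : ∀ i, ∑ j, e (f j) * e (φ j (x i)) = (e (f i)) ^ (c + 1) := by
    intro i
    rw [← map_pow]
    simp_rw [← map_mul]
    rw [← map_sum]
    congr 1
    exact (hφ (x i)).symm
  have hbo : ∀ (i : Fin r) (p : (Spec (CommRingCat.of A) : Type u)),
      p ∈ X.basicOpen (e (f i)) ↔ f i ∉ (p : PrimeSpectrum A).asIdeal := by
    intro i p
    have h2 : X.basicOpen (e (f i)) = PrimeSpectrum.basicOpen (f i) :=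
      basicOpen_eq_of_affine (R := CommRingCat.of A) (f i)
    rw [h2]
    rfl
  have hpo : ∀ p : (Spec (CommRingCat.of A) : Type u),
      p ∈ LocCoh.puncturedOpen A (Ideal.span (Set.range f)) ↔
        ∃ i, f i ∉ (p : PrimeSpectrum A).asIdeal := by
    intro p
    have h3 : p ∈ LocCoh.puncturedOpen A (Ideal.span (Set.range f)) ↔
        ¬ ((Ideal.span (Set.range f) : Set A) ⊆ ((p : PrimeSpectrum A).asIdeal : Set A)) :=
      Iff.rfl
    rw [h3, SetLike.coe_subset_coe, Ideal.span_le, Set.range_subset_iff, not_forall]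
    rfl
  have hU : LocCoh.puncturedOpen A (Ideal.span (Set.range f)) = ⨆ i, X.basicOpen (e (f i)) := by
    apply le_antisymm
    · intro p hp
      obtain ⟨i, hi⟩ := (hpo p).mp hp
      exact Opens.mem_iSup.mpr ⟨i, (hbo i p).mpr hi⟩
    · intro p hp
      obtain ⟨i, hi⟩ := Opens.mem_iSup.mp hp
      exact (hpo p).mpr ⟨i, (hbo i p).mp hi⟩
  obtain ⟨h, hsum⟩ := exists_sections_of_lift (fun j => e (f j)) (c + 1)
    (fun j i => e (φ j (x i))) ha hb _ hU
  exact isAffineOpen_of_sections (fun j => e (f j)) _ hU h hsum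

theorem nonempty_puncturedOpen_of_not_cdLE_zero (I : Ideal A) (h0 : ¬ LocCoh.CdLE A I 0) :
    Nonempty (↑(LocCoh.puncturedOpen A I) : Scheme.{u}) := by
  rw [Scheme.Opens.nonempty_iff]
  by_contra hcon
  rw [Set.not_nonempty_iff_eq_empty] at hcon
  apply h0
  have hle : I ≤ (⊥ : Ideal A).radical := by
    rw [Ideal.radical_eq_sInf, le_sInf_iff]
    rintro p ⟨-, hp⟩
    by_contra hIp
    let P : (Spec (CommRingCat.of A) : Type u) := (⟨p, hp⟩ : PrimeSpectrum A)
    have hP : P ∈ ((LocCoh.puncturedOpen A I : (Spec (CommRingCat.of A)).Opens) :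
        Set (Spec (CommRingCat.of A) : Type u)) := by
      show ¬ ((I : Set A) ⊆ (p : Set A))
      exact hIp
    rw [hcon] at hP
    exact hP
  have hrad : (⊥ : Ideal A).radical = I.radical :=
    le_antisymm (Ideal.radical_mono bot_le) (Ideal.radical_le_radical_iff.mpr hle)
  apply cdLE_of_radical_eq hrad
  intro M _ _ i hi
  have := lc_subsingleton_of_card_lt M (∅ : Finset A) i (by simpa using hi)
  rwa [Finset.coe_empty, Ideal.span_empty] at this

end spec

end Groth.Agent.Lib.Helper60
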