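import Groth.Prelude.Def_DerCA
import Mathlib.Algebra.Homology.HomotopyCategory.MappingCocone
import Mathlib.Algebra.Homology.HomotopyCategory.Pretriangulated
import Mathlib.Algebra.Homology.HomologicalComplexAbelian
import Mathlib.Algebra.Homology.ShortComplex.ModuleCat

/-!
# Functoriality of the extended Čech complex in the module (helper60)
-/

set_option autoImplicit false
universe u

open CategoryTheory CategoryTheory.Limits CochainComplex HomComplex

namespace Groth.Agent.Lib.Helper60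

section general

variable {C : Type*} [Category C] [Preadditive C] [HasBinaryBiproducts C]
  {K₁ L₁ K₂ L₂ : CochainComplex C ℤ} (φ₁ : K₁ ⟶ L₁) (φ₂ : K₂ ⟶ L₂)
  (a : K₁ ⟶ K₂) (b : L₁ ⟶ L₂) (comm : φ₁ ≫ b = a ≫ φ₂)

/-- the map of mapping cocones induced by a commutative square. -/
noncomputable def coconeMap : mappingCocone φ₁ ⟶ mappingCocone φ₂ :=
  (mappingCone.map φ₁ φ₂ a b comm)⟦(-1 : ℤ)⟧'

lemma coconeMap_f (p : ℤ) :
    (coconeMap φ₁ φ₂ a b comm).f p = (mappingCone.map φ₁ φ₂ a b comm).f (p + -1) := rfl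

lemma map_f_fst_v (q p : ℤ) (hpq : q + 1 = p) :
    (mappingCone.map φ₁ φ₂ a b comm).f q ≫ (mappingCone.fst φ₂).1.v q p hpq =
      (mappingCone.fst φ₁).1.v q p hpq ≫ a.f p := by
  apply mappingCone.ext_from _ p q hpq
  · simp [mappingCone.map]
  · simp [mappingCone.map]

lemma map_f_snd_v (q : ℤ) :
    (mappingCone.map φ₁ φ₂ a b comm).f q ≫ (mappingCone.snd φ₂).v q q (add_zero q) =
      (mappingCone.snd φ₁).v q q (add_zero q) ≫ b.f q := by
  apply mappingCone.ext_from _ (q + 1) q rfl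
  · simp [mappingCone.map]
  · simp [mappingCone.map]

/-- the cone-level version of `mappingCocone.fst`. -/
noncomputable def coneFst {K L : CochainComplex C ℤ} (φ : K ⟶ L) (p : ℤ) :
    (mappingCone φ).X (p + -1) ⟶ K.X p :=
  (mappingCone.fst φ).1.v (p + -1) p (by lia)

lemma mappingCocone_fst_f {K L : CochainComplex C ℤ} (φ : K ⟶ L) (p : ℤ) :
    (mappingCocone.fst φ).f p = coneFst φ p := by
  simp [mappingCocone.fst, mappingCocone, coneFst,
    Cochain.leftShift_v (n := 1) _ _ _ _ _ p _ (p + -1) (by lia)]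
  erw [Category.id_comp]
  exact neg_neg _

lemma coconeMap_fst :
    coconeMap φ₁ φ₂ a b comm ≫ mappingCocone.fst φ₂ = mappingCocone.fst φ₁ ≫ a := by
  ext p
  rw [HomologicalComplex.comp_f, HomologicalComplex.comp_f, mappingCocone_fst_f φ₁ p,
    mappingCocone_fst_f φ₂ p]
  change (mappingCone.map φ₁ φ₂ a b comm).f (p + -1) ≫ coneFst φ₂ p = coneFst φ₁ p ≫ a.f p
  unfold coneFst
  rw [map_f_fst_v]

end general

section modules

variable {R : Type u} [CommRing R]

variable {K L : CochainComplex (ModuleCat.{u} R) ℤ} (φ : K ⟶ L)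

/-- first coordinate on the mapping cone. -/
noncomputable def coneFstL (q : ℤ) : (mappingCone φ).X q →ₗ[R] K.X (q + 1) :=
  ((mappingCone.fst φ).1.v q (q + 1) rfl).hom

/-- second coordinate on the mapping cone. -/
noncomputable def coneSndL (q : ℤ) : (mappingCone φ).X q →ₗ[R] L.X q :=
  ((mappingCone.snd φ).v q q (add_zero q)).hom

/-- first inclusion. -/
noncomputable def coneInlL (q : ℤ) : K.X (q + 1) →ₗ[R] (mappingCone φ).X q :=
  ((mappingCone.inl φ).v (q + 1) q (by lia)).hom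

/-- second inclusion. -/
noncomputable def coneInrL (q : ℤ) : L.X q →ₗ[R] (mappingCone φ).X q :=
  ((mappingCone.inr φ).f q).hom

lemma cone_decomp (q : ℤ) (x : (mappingCone φ).X q) :
    x = coneInlL φ q (coneFstL φ q x) + coneInrL φ q (coneSndL φ q x) := by
  have h := mappingCone.id_X φ q (q + 1) rfl
  have h' := congrArg (fun f => f.hom x) h
  simp only [ModuleCat.hom_add, ModuleCat.hom_comp, LinearMap.add_apply, LinearMap.comp_apply,
    ModuleCat.hom_id, LinearMap.id_apply] at h'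
  exact h'.symm

lemma coneFstL_inl (q : ℤ) (k : K.X (q + 1)) : coneFstL φ q (coneInlL φ q k) = k := by
  have h := mappingCone.inl_v_fst_v φ (q + 1) q (by lia)
  exact congrArg (fun f => f.hom k) h

lemma coneSndL_inl (q : ℤ) (k : K.X (q + 1)) : coneSndL φ q (coneInlL φ q k) = 0 := by
  have h := mappingCone.inl_v_snd_v φ (q + 1) q (by lia)
  exact congrArg (fun f => f.hom k) h

lemma coneFstL_inr (q : ℤ) (l : L.X q) : coneFstL φ q (coneInrL φ q l) = 0 := by
  have h := mappingCone.inr_f_fst_v φ q (q + 1) rfl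
  exact congrArg (fun f => f.hom l) h

lemma coneSndL_inr (q : ℤ) (l : L.X q) : coneSndL φ q (coneInrL φ q l) = l := by
  have h := mappingCone.inr_f_snd_v φ q
  exact congrArg (fun f => f.hom l) h

lemma cone_ext (q : ℤ) {x y : (mappingCone φ).X q} (h1 : coneFstL φ q x = coneFstL φ q y)
    (h2 : coneSndL φ q x = coneSndL φ q y) : x = y := by
  rw [cone_decomp φ q x, cone_decomp φ q y, h1, h2]

lemma cone_exists (q : ℤ) (k : K.X (q + 1)) (l : L.X q) :
    ∃ x : (mappingCone φ).X q, coneFstL φ q x = k ∧ coneSndL φ q x = l := by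
  refine ⟨coneInlL φ q k + coneInrL φ q l, ?_, ?_⟩
  · rw [map_add, coneFstL_inl, coneFstL_inr, add_zero]
  · rw [map_add, coneSndL_inl, coneSndL_inr, zero_add]

variable {K₁ L₁ K₂ L₂ K₃ L₃ : CochainComplex (ModuleCat.{u} R) ℤ} (φ₁ : K₁ ⟶ L₁) (φ₂ : K₂ ⟶ L₂)
  (φ₃ : K₃ ⟶ L₃) (a : K₁ ⟶ K₂) (b : L₁ ⟶ L₂) (comm : φ₁ ≫ b = a ≫ φ₂)
  (a' : K₂ ⟶ K₃) (b' : L₂ ⟶ L₃) (comm' : φ₂ ≫ b' = a' ≫ φ₃)

lemma coneFstL_map (q : ℤ) (x : (mappingCone φ₁).X q) :
    coneFstL φ₂ q (((mappingCone.map φ₁ φ₂ a b comm).f q).hom x) =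
      (a.f (q + 1)).hom (coneFstL φ₁ q x) := by
  have h := map_f_fst_v φ₁ φ₂ a b comm q (q + 1) rfl
  exact congrArg (fun f => f.hom x) h

lemma coneSndL_map (q : ℤ) (x : (mappingCone φ₁).X q) :
    coneSndL φ₂ q (((mappingCone.map φ₁ φ₂ a b comm).f q).hom x) =
      (b.f q).hom (coneSndL φ₁ q x) := by
  have h := map_f_snd_v φ₁ φ₂ a b comm q
  exact congrArg (fun f => f.hom x) h

include comm in
lemma coneMap_injective (q : ℤ) (ha : Function.Injective (a.f (q + 1)).hom)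
    (hb : Function.Injective (b.f q).hom) :
    Function.Injective ((mappingCone.map φ₁ φ₂ a b comm).f q).hom := by
  intro x y hxy
  apply cone_ext φ₁ q
  · apply ha
    rw [← coneFstL_map φ₁ φ₂ a b comm, ← coneFstL_map φ₁ φ₂ a b comm, hxy]
  · apply hb
    rw [← coneSndL_map φ₁ φ₂ a b comm, ← coneSndL_map φ₁ φ₂ a b comm, hxy]

include comm in
lemma coneMap_surjective (q : ℤ) (ha : Function.Surjective (a.f (q + 1)).hom)
    (hb : Function.Surjective (b.f q).hom) :
    Function.Surjective ((mappingCone.map φ₁ φ₂ a b comm).f q).hom := by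
  intro z
  obtain ⟨k, hk⟩ := ha (coneFstL φ₂ q z)
  obtain ⟨l, hl⟩ := hb (coneSndL φ₂ q z)
  obtain ⟨x, hx1, hx2⟩ := cone_exists φ₁ q k l
  refine ⟨x, ?_⟩
  apply cone_ext φ₂ q
  · rw [coneFstL_map, hx1, hk]
  · rw [coneSndL_map, hx2, hl]

include comm comm' in
lemma coneMap_exact (q : ℤ)
    (ha : Function.Exact (a.f (q + 1)).hom (a'.f (q + 1)).hom)
    (hb : Function.Exact (b.f q).hom (b'.f q).hom) :
    Function.Exact ((mappingCone.map φ₁ φ₂ a b comm).f q).hom
      ((mappingCone.map φ₂ φ₃ a' b' comm').f q).hom := by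
  intro y
  constructor
  · intro hy
    have h1 : (a'.f (q + 1)).hom (coneFstL φ₂ q y) = 0 := by
      rw [← coneFstL_map φ₂ φ₃ a' b' comm', hy, map_zero]
    have h2 : (b'.f q).hom (coneSndL φ₂ q y) = 0 := by
      rw [← coneSndL_map φ₂ φ₃ a' b' comm', hy, map_zero]
    obtain ⟨k, hk⟩ := (ha _).mp h1
    obtain ⟨l, hl⟩ := (hb _).mp h2
    obtain ⟨x, hx1, hx2⟩ := cone_exists φ₁ q k l
    refine ⟨x, ?_⟩
    apply cone_ext φ₂ q
    · rw [coneFstL_map, hx1, hk]
    · rw [coneSndL_map, hx2, hl]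
  · rintro ⟨x, rfl⟩
    apply cone_ext φ₃ q
    · rw [coneFstL_map, coneFstL_map, map_zero]
      exact (ha _).mpr ⟨_, rfl⟩
    · rw [coneSndL_map, coneSndL_map, map_zero]
      exact (hb _).mpr ⟨_, rfl⟩

end modules

end Groth.Agent.Lib.Helper60
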