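import Groth.Agent.Lib.Helper60.Cech1

/-!
# The extended Čech complex is an exact functor of the module (helper60)
-/

set_option autoImplicit false
universe u

open CategoryTheory CategoryTheory.Limits CochainComplex HomComplex

namespace Groth.Agent.Lib.Helper60

variable {R : Type u} [CommRing R]

lemma locCxUnit_naturality (S : Submonoid R) {K K' : DRing.Cx R} (a : K ⟶ K') :
    DerCA.locCxUnit S K ≫ (DerCA.locCx S).map a = a ≫ DerCA.locCxUnit S K' := by
  refine HomologicalComplex.hom_ext _ _ (fun i => ?_)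
  exact ((DerCA.locUnit S).naturality (a.f i)).symm

/-- the map of extended Čech complexes induced by a map of modules. -/
noncomputable def extCechMap {M N : ModuleCat.{u} R} (g : M ⟶ N) :
    (fs : List R) → (DerCA.extCech M fs ⟶ DerCA.extCech N fs)
  | [] => (HomologicalComplex.single (ModuleCat.{u} R) (ComplexShape.up ℤ) 0).map g
  | f :: fs => coconeMap (DerCA.locCxUnit (Submonoid.powers f) (DerCA.extCech M fs))
      (DerCA.locCxUnit (Submonoid.powers f) (DerCA.extCech N fs)) (extCechMap g fs)
      ((DerCA.locCx (Submonoid.powers f)).map (extCechMap g fs)) (locCxUnit_naturality _ _)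

lemma extCechMap_cons {M N : ModuleCat.{u} R} (g : M ⟶ N) (f : R) (fs : List R) :
    extCechMap g (f :: fs) =
      coconeMap (DerCA.locCxUnit (Submonoid.powers f) (DerCA.extCech M fs))
      (DerCA.locCxUnit (Submonoid.powers f) (DerCA.extCech N fs)) (extCechMap g fs)
      ((DerCA.locCx (Submonoid.powers f)).map (extCechMap g fs)) (locCxUnit_naturality _ _) := rfl

lemma locFunctor_map_hom (S : Submonoid R) {M N : ModuleCat.{u} R} (g : M ⟶ N) :
    ((DerCA.locFunctor S).map g).hom =
      IsLocalizedModule.map S (LocalizedModule.mkLinearMap S M) (LocalizedModule.mkLinearMap S N)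
        g.hom := rfl

lemma conj_degreewise {A₁ A₂ A₃ B₁ B₂ B₃ : ModuleCat.{u} R} (e₁ : B₁ ≅ A₁) (e₂ : B₂ ≅ A₂)
    (e₃ : B₃ ≅ A₃) (f : A₁ ⟶ A₂) (g : A₂ ⟶ A₃) (hinj : Function.Injective f.hom)
    (hex : Function.Exact f.hom g.hom) (hsurj : Function.Surjective g.hom) :
    Function.Injective (e₁.hom ≫ f ≫ e₂.inv).hom ∧
    Function.Exact (e₁.hom ≫ f ≫ e₂.inv).hom (e₂.hom ≫ g ≫ e₃.inv).hom ∧
    Function.Surjective (e₂.hom ≫ g ≫ e₃.inv).hom := by
  have b1 := (ConcreteCategory.isIso_iff_bijective e₁.hom).mp inferInstance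
  have b2 := (ConcreteCategory.isIso_iff_bijective e₂.hom).mp inferInstance
  have b2' := (ConcreteCategory.isIso_iff_bijective e₂.inv).mp inferInstance
  have b3' := (ConcreteCategory.isIso_iff_bijective e₃.inv).mp inferInstance
  have h22 : ∀ y, e₂.hom.hom (e₂.inv.hom y) = y := fun y =>
    congrArg (fun f => f.hom y) e₂.inv_hom_id
  have h22' : ∀ y, e₂.inv.hom (e₂.hom.hom y) = y := fun y =>
    congrArg (fun f => f.hom y) e₂.hom_inv_id
  refine ⟨?_, ?_, ?_⟩
  · intro x y hxy
    simp only [ModuleCat.hom_comp, LinearMap.comp_apply] at hxy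
    exact b1.1 (hinj (b2'.1 hxy))
  · intro y
    simp only [ModuleCat.hom_comp, LinearMap.comp_apply]
    constructor
    · intro hy
      have hy' : g.hom (e₂.hom.hom y) = 0 := b3'.1 (by rw [hy, map_zero])
      obtain ⟨x, hx⟩ := (hex _).mp hy'
      obtain ⟨x', rfl⟩ := b1.2 x
      refine ⟨x', ?_⟩
      simp only [LinearMap.comp_apply]
      rw [hx, h22']
    · rintro ⟨x, rfl⟩
      simp only [LinearMap.comp_apply]
      rw [h22, (hex _).mpr ⟨_, rfl⟩, map_zero]
  · intro z
    obtain ⟨z', rfl⟩ := b3'.2 z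
    obtain ⟨y, rfl⟩ := hsurj z'
    obtain ⟨y', rfl⟩ := b2.2 y
    exact ⟨y', by simp only [ModuleCat.hom_comp, LinearMap.comp_apply]⟩

lemma locCx_map_f_injective (S : Submonoid R) {K K' : DRing.Cx R} (a : K ⟶ K') (q : ℤ)
    (h : Function.Injective (a.f q).hom) :
    Function.Injective (((DerCA.locCx S).map a).f q).hom :=
  IsLocalizedModule.map_injective S (LocalizedModule.mkLinearMap S (K.X q))
    (LocalizedModule.mkLinearMap S (K'.X q)) (a.f q).hom h

lemma locCx_map_f_surjective (S : Submonoid R) {K K' : DRing.Cx R} (a : K ⟶ K') (q : ℤ)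
    (h : Function.Surjective (a.f q).hom) :
    Function.Surjective (((DerCA.locCx S).map a).f q).hom :=
  IsLocalizedModule.map_surjective S (LocalizedModule.mkLinearMap S (K.X q))
    (LocalizedModule.mkLinearMap S (K'.X q)) (a.f q).hom h

lemma locCx_map_f_exact (S : Submonoid R) {K K' K'' : DRing.Cx R} (a : K ⟶ K') (a' : K' ⟶ K'')
    (q : ℤ) (h : Function.Exact (a.f q).hom (a'.f q).hom) :
    Function.Exact (((DerCA.locCx S).map a).f q).hom (((DerCA.locCx S).map a').f q).hom :=
  IsLocalizedModule.map_exact S (LocalizedModule.mkLinearMap S (K.X q))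
    (LocalizedModule.mkLinearMap S (K'.X q)) (LocalizedModule.mkLinearMap S (K''.X q))
    (a.f q).hom (a'.f q).hom h

theorem extCechMap_degreewise {S : ShortComplex (ModuleCat.{u} R)} (hS : S.ShortExact)
    (fs : List R) : ∀ p : ℤ,
    Function.Injective ((extCechMap S.f fs).f p).hom ∧
    Function.Exact ((extCechMap S.f fs).f p).hom ((extCechMap S.g fs).f p).hom ∧
    Function.Surjective ((extCechMap S.g fs).f p).hom := by
  have hinj := hS.moduleCat_injective_f
  have hsurj := hS.moduleCat_surjective_g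
  have hex := (ShortComplex.ShortExact.moduleCat_exact_iff_function_exact S).mp hS.exact
  induction fs with
  | nil =>
    intro p
    by_cases hp : p = 0
    · subst hp
      show Function.Injective ((((HomologicalComplex.single (ModuleCat.{u} R)
          (ComplexShape.up ℤ) 0).map S.f).f 0).hom) ∧
        Function.Exact ((((HomologicalComplex.single (ModuleCat.{u} R)
          (ComplexShape.up ℤ) 0).map S.f).f 0).hom)
          ((((HomologicalComplex.single (ModuleCat.{u} R)
          (ComplexShape.up ℤ) 0).map S.g).f 0).hom) ∧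
        Function.Surjective ((((HomologicalComplex.single (ModuleCat.{u} R)
          (ComplexShape.up ℤ) 0).map S.g).f 0).hom)
      rw [HomologicalComplex.single_map_f_self, HomologicalComplex.single_map_f_self]
      exact conj_degreewise _ _ _ S.f S.g hinj hex hsurj
    · have hz : ∀ A : ModuleCat.{u} R, Subsingleton
          (((HomologicalComplex.single (ModuleCat.{u} R) (ComplexShape.up ℤ) 0).obj A).X p) :=
        fun A => ModuleCat.subsingleton_of_isZero
          (HomologicalComplex.isZero_single_obj_X (ComplexShape.up ℤ) 0 A p hp)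
      have h1 : Subsingleton ((DerCA.extCech S.X₁ []).X p) := hz _
      have h2 : Subsingleton ((DerCA.extCech S.X₂ []).X p) := hz _
      have h3 : Subsingleton ((DerCA.extCech S.X₃ []).X p) := hz _
      refine ⟨fun x y _ => Subsingleton.elim _ _, fun y => ⟨fun _ => ⟨0, Subsingleton.elim _ _⟩,
        fun _ => Subsingleton.elim _ _⟩, fun z => ⟨0, Subsingleton.elim _ _⟩⟩
  | cons f fs ih =>
    intro p
    obtain ⟨i1, e1, s1⟩ := ih (p + -1 + 1)
    obtain ⟨i2, e2, s2⟩ := ih (p + -1)
    rw [extCechMap_cons, extCechMap_cons, coconeMap_f, coconeMap_f]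
    refine ⟨coneMap_injective _ _ _ _ _ (p + -1) i1 ?_,
      coneMap_exact _ _ _ _ _ _ _ _ _ (p + -1) e1 ?_,
      coneMap_surjective _ _ _ _ _ (p + -1) s1 ?_⟩
    · exact locCx_map_f_injective _ _ _ i2
    · exact locCx_map_f_exact _ _ _ _ e2
    · exact locCx_map_f_surjective _ _ _ s2

end Groth.Agent.Lib.Helper60
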