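import Groth.Agent.Lib.Helper60.Cech2
import Groth.Agent.Lib.Helper47.ExtCechH0
import Mathlib.Algebra.Homology.HomologySequence

/-!
# The long exact sequence of Čech cohomology and `H^0` (helper60)
-/

set_option autoImplicit false
universe u

open CategoryTheory CategoryTheory.Limits CochainComplex HomComplex
open Groth.Agent.Lib.Helper47

namespace Groth.Agent.Lib.Helper60

variable {R : Type u} [CommRing R]

section ses

variable {S : ShortComplex (ModuleCat.{u} R)} (hS : S.ShortExact) (fs : List R)

/-- the short complex of Čech complexes attached to a short exact sequence of modules. -/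
noncomputable def cechSC : ShortComplex (DRing.Cx R) :=
  ShortComplex.mk (extCechMap S.f fs) (extCechMap S.g fs) (by
    refine HomologicalComplex.hom_ext _ _ (fun p => ?_)
    ext x
    exact ((extCechMap_degreewise hS fs p).2.1 _).mpr ⟨x, rfl⟩)

lemma cechSC_shortExact : (cechSC hS fs).ShortExact := by
  apply HomologicalComplex.shortExact_of_degreewise_shortExact
  intro p
  obtain ⟨h1, h2, h3⟩ := extCechMap_degreewise hS fs p
  exact ModuleCat.shortComplex_shortExact _ h2 h1 h3

end ses

section aug

lemma aug_nat_aux {C : Type*} [Category C] [Preadditive C] [HasBinaryBiproducts C]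
    {K₁ L₁ K₂ L₂ X Y : CochainComplex C ℤ} (φ₁ : K₁ ⟶ L₁) (φ₂ : K₂ ⟶ L₂)
    (a : K₁ ⟶ K₂) (b : L₁ ⟶ L₂) (comm : φ₁ ≫ b = a ≫ φ₂) (α₁ : K₁ ⟶ X) (α₂ : K₂ ⟶ Y)
    (s : X ⟶ Y) (h : a ≫ α₂ = α₁ ≫ s) :
    coconeMap φ₁ φ₂ a b comm ≫ (mappingCocone.fst φ₂ ≫ α₂) =
      (mappingCocone.fst φ₁ ≫ α₁) ≫ s := by
  rw [← Category.assoc, coconeMap_fst, Category.assoc, h, Category.assoc]

lemma eps_nil_aux {K : CochainComplex (ModuleCat.{u} R) ℤ} {M : ModuleCat.{u} R}
    (e : K.homology 0 ⟶ M) [IsIso e] :
    Function.Bijective (HomologicalComplex.homologyMap (𝟙 K) 0 ≫ e).hom := by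
  rw [HomologicalComplex.homologyMap_id, Category.id_comp]
  exact (ConcreteCategory.isIso_iff_bijective e).mp inferInstance

lemma eps_cons_aux {K' K X : CochainComplex (ModuleCat.{u} R) ℤ} (π : K' ⟶ K) (α : K ⟶ X)
    {M : ModuleCat.{u} R} (e : X.homology 0 ⟶ M) :
    (HomologicalComplex.homologyMap (π ≫ α) 0 ≫ e).hom =
      (HomologicalComplex.homologyMap α 0 ≫ e).hom ∘ₗ (HomologicalComplex.homologyMap π 0).hom := by
  rw [HomologicalComplex.homologyMap_comp, Category.assoc]
  rfl

/-- the augmentation `extCech M fs ⟶ M[0]`. -/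
noncomputable def cechAug (M : ModuleCat.{u} R) :
    (fs : List R) → (DerCA.extCech M fs ⟶
      (HomologicalComplex.single (ModuleCat.{u} R) (ComplexShape.up ℤ) 0).obj M)
  | [] => 𝟙 _
  | f :: fs => mappingCocone.fst
      (DerCA.locCxUnit (Submonoid.powers f) (DerCA.extCech M fs)) ≫ cechAug M fs

lemma cechAug_cons (M : ModuleCat.{u} R) (f : R) (fs : List R) :
    cechAug M (f :: fs) = mappingCocone.fst
      (DerCA.locCxUnit (Submonoid.powers f) (DerCA.extCech M fs)) ≫ cechAug M fs := rfl

lemma cechAug_naturality {M N : ModuleCat.{u} R} (g : M ⟶ N) (fs : List R) :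
    extCechMap g fs ≫ cechAug N fs = cechAug M fs ≫
      (HomologicalComplex.single (ModuleCat.{u} R) (ComplexShape.up ℤ) 0).map g := by
  induction fs with
  | nil =>
    show (HomologicalComplex.single (ModuleCat.{u} R) (ComplexShape.up ℤ) 0).map g ≫ 𝟙 _ =
      𝟙 _ ≫ (HomologicalComplex.single (ModuleCat.{u} R) (ComplexShape.up ℤ) 0).map g
    rw [Category.comp_id, Category.id_comp]
  | cons f fs ih =>
    exact aug_nat_aux _ _ _ _ _ _ _ _ ih

/-- the canonical map `Ȟ^0(fs; M) → M`. -/
noncomputable def cechEps (M : ModuleCat.{u} R) (fs : List R) : DerCA.extCechH fs M 0 →ₗ[R] M :=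
  (HomologicalComplex.homologyMap (cechAug M fs) 0 ≫
    (HomologicalComplex.singleObjHomologySelfIso (ComplexShape.up ℤ) 0 M).hom).hom

lemma cechEps_cons (M : ModuleCat.{u} R) (f : R) (fs : List R) :
    cechEps M (f :: fs) = cechEps M fs ∘ₗ
      (HomologicalComplex.homologyMap (mappingCocone.fst
        (DerCA.locCxUnit (Submonoid.powers f) (DerCA.extCech M fs))) 0).hom := by
  exact eps_cons_aux _ _ _

lemma cechEps_naturality {M N : ModuleCat.{u} R} (g : M ⟶ N) (fs : List R)
    (x : DerCA.extCechH fs M 0) :
    cechEps N fs ((HomologicalComplex.homologyMap (extCechMap g fs) 0).hom x) =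
      g.hom (cechEps M fs x) := by
  have h : HomologicalComplex.homologyMap (extCechMap g fs) 0 ≫
      (HomologicalComplex.homologyMap (cechAug N fs) 0 ≫
        (HomologicalComplex.singleObjHomologySelfIso (ComplexShape.up ℤ) 0 N).hom) =
      (HomologicalComplex.homologyMap (cechAug M fs) 0 ≫
        (HomologicalComplex.singleObjHomologySelfIso (ComplexShape.up ℤ) 0 M).hom) ≫ g := by
    rw [← Category.assoc, ← HomologicalComplex.homologyMap_comp, cechAug_naturality,
      HomologicalComplex.homologyMap_comp, Category.assoc,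
      HomologicalComplex.singleObjHomologySelfIso_hom_naturality, Category.assoc]
  exact congrArg (fun f => f.hom x) h

attribute [local instance] HasDerivedCategory.standard

/-- `Ȟ^0(fs; M)` is identified by `cechEps` with the `fs`-power-torsion of `M`. -/
theorem cechEps_injective_range (M : ModuleCat.{u} R) (fs : List R) :
    Function.Injective (cechEps M fs) ∧
      LinearMap.range (cechEps M fs) = powTorsionList fs M := by
  induction fs with
  | nil =>
    have hb : Function.Bijective (cechEps M []) :=
      eps_nil_aux (HomologicalComplex.singleObjHomologySelfIso (ComplexShape.up ℤ) 0 M).hom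
    refine ⟨hb.1, ?_⟩
    rw [LinearMap.range_eq_top.mpr hb.2]
    ext m
    simp [mem_powTorsionList]
  | cons g fs ih =>
    obtain ⟨hι, hr⟩ := ih
    set ι := cechEps M fs with hιdef
    have hL : IsZero (((DerCA.locCx (Submonoid.powers g)).obj (DerCA.extCech M fs)).homology
        (-1)) := by
      apply HomologicalComplex.ExactAt.isZero_homology
      apply HomologicalComplex.ExactAt.of_isZero
      exact (DerCA.locFunctor (Submonoid.powers g)).map_isZero
        (isZero_extCech_X M fs (-1) (Or.inl (by norm_num)))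
    have hinj := mappingCocone_fst_injective
      (DerCA.locCxUnit (Submonoid.powers g) (DerCA.extCech M fs)) (-1) 0 (by norm_num) hL
    rw [cechEps_cons]
    refine ⟨hι.comp hinj, ?_⟩
    ext m
    rw [mem_powTorsionList]
    constructor
    · rintro ⟨y, rfl⟩
      intro f hf
      have key : ∀ x : DerCA.extCechH fs M 0,
          x = (HomologicalComplex.homologyMap (CochainComplex.mappingCocone.fst
            (DerCA.locCxUnit (Submonoid.powers g) (DerCA.extCech M fs))) 0).hom y →
          ∃ n : ℕ, f ^ n • ι x = 0 := by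
        intro x hx
        rcases List.mem_cons.mp hf with rfl | hf
        · have h0 := mappingCocone_fst_comp
            (DerCA.locCxUnit (Submonoid.powers f) (DerCA.extCech M fs)) 0 y
          have h0' : (HomologicalComplex.homologyMap
              (DerCA.locCxUnit (Submonoid.powers f) (DerCA.extCech M fs)) 0).hom x = 0 := by
            rw [hx]; exact h0
          rw [homologyMap_locCxUnit_apply_eq_zero_iff] at h0'
          obtain ⟨⟨_, n, rfl⟩, hs⟩ := h0'
          refine ⟨n, ?_⟩
          have hs' : f ^ n • x = 0 := hs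
          rw [← map_smul, hs', map_zero]
        · have hm : ι x ∈ powTorsionList fs M := by
            rw [← hr]; exact ⟨x, rfl⟩
          exact hm f hf
      exact key _ rfl
    · intro hm
      have hm' : m ∈ LinearMap.range ι := by
        rw [hr, mem_powTorsionList]
        intro f hf
        exact hm f (List.mem_cons_of_mem _ hf)
      obtain ⟨x, rfl⟩ := hm'
      obtain ⟨n, hn⟩ := hm g List.mem_cons_self
      have hx : g ^ n • x = 0 := by
        apply hι
        rw [map_smul, hn, map_zero]
      have h0 : (HomologicalComplex.homologyMap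
          (DerCA.locCxUnit (Submonoid.powers g) (DerCA.extCech M fs)) 0).hom x = 0 := by
        rw [homologyMap_locCxUnit_apply_eq_zero_iff]
        exact ⟨⟨g ^ n, n, rfl⟩, hx⟩
      obtain ⟨y, hy⟩ := mappingCocone_exact₂ _ 0 x h0
      exact ⟨y, congrArg ι hy⟩

end aug

end Groth.Agent.Lib.Helper60
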