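import Groth.Agent.Lib.Helper60.NV8

set_option autoImplicit false
universe u
open CategoryTheory CategoryTheory.Limits Opposite Abelian RingTheory.Sequence IsLocalRing
open Groth.Agent.Lib.Helper29

namespace Groth.Agent.Lib.Helper60

section hl

variable (R : Type u) [CommRing R] [IsLocalRing R] [IsNoetherianRing R]

/-- if `p + I` is `m`-primary and `dim R/p = d` then `H^d_I(R/p) ≠ 0`. -/
theorem lc_quotient_prime_nontrivial (I : Ideal R) (hI : I ≠ ⊤) (p : Ideal R) [hp : p.IsPrime]
    (hpI : (p ⊔ I).radical = maximalIdeal R) (d : ℕ) (hd : ringKrullDim (R ⧸ p) = d) :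
    Nontrivial (LocCoh.H I d (R ⧸ p)) := by
  have hloc : IsLocalRing (R ⧸ p) := IsLocalRing.of_surjective' _ Ideal.Quotient.mk_surjective
  have h1 := lc_top_nontrivial (R ⧸ p) d hd
  have hmB : (maximalIdeal R).map (algebraMap R (R ⧸ p)) = maximalIdeal (R ⧸ p) :=
    map_maximalIdeal_of_surjective (Ideal.Quotient.mk p) Ideal.Quotient.mk_surjective
  have hrad : (I.map (algebraMap R (R ⧸ p))).radical = maximalIdeal (R ⧸ p) := by
    have hle : maximalIdeal (R ⧸ p) ≤ (I.map (algebraMap R (R ⧸ p))).radical := by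
      rw [← hmB, Ideal.map_le_iff_le_comap]
      intro x hx
      rw [← hpI] at hx
      obtain ⟨k, hk⟩ := hx
      rw [Ideal.mem_comap]
      refine ⟨k, ?_⟩
      rw [← map_pow]
      obtain ⟨a, ha, b, hb, hab⟩ := Submodule.mem_sup.mp hk
      rw [← hab, map_add]
      have h2 : algebraMap R (R ⧸ p) a = 0 := Ideal.Quotient.eq_zero_iff_mem.mpr ha
      rw [h2, zero_add]
      exact Ideal.mem_map_of_mem _ hb
    have hne : (I.map (algebraMap R (R ⧸ p))).radical ≠ ⊤ := by
      rw [Ne, Ideal.radical_eq_top]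
      intro h
      have h3 : I.map (algebraMap R (R ⧸ p)) ≤ maximalIdeal (R ⧸ p) := by
        rw [← hmB]
        exact Ideal.map_mono (le_maximalIdeal hI)
      rw [h] at h3
      exact (maximalIdeal.isMaximal (R ⧸ p)).ne_top (top_le_iff.mp h3)
    exact ((maximalIdeal.isMaximal (R ⧸ p)).eq_of_le hne hle).symm
  have hrad' : (I.map (algebraMap R (R ⧸ p))).radical = (maximalIdeal (R ⧸ p)).radical := by
    rw [hrad, (Ideal.IsPrime.radical inferInstance)]
  have h2 : Nontrivial (LocCoh.H (I.map (algebraMap R (R ⧸ p))) d (R ⧸ p)) :=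
    ((localCohomology.isoOfSameRadical hrad' d).app
      (ModuleCat.of (R ⧸ p) (R ⧸ p))).toLinearEquiv.toEquiv.nontrivial
  obtain ⟨φ, -⟩ := exists_lc_baseChange (R := R) (R' := R ⧸ p) I d (R ⧸ p)
  exact φ.symm.toEquiv.nontrivial

end hl

end Groth.Agent.Lib.Helper60
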