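import Groth.Agent.Lib.Helper79.AdjDepthLoc
import Groth.Agent.Lib.Helper29.DepthFiniteAlg
import Groth.Agent.Lib.Helper29.DepthLoc2

/-!
# Depth of localizations along a finite ring map (helper60)

For `A → B` finite (`A` Noetherian), a finite `B`-module `M` and a prime `p` of `A`:
`depth_{A_p} M_p = min over primes P of B over p of depth_{B_P} M_P`.

* `depth_localization_eq_iInf` : the formula with an infimum over the primes of `B_p` over `pB_p`;
* `depth_localization_le_of_comap_eq` (D1);
* `exists_comap_eq_depth_localization_eq` (D2).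
-/

set_option autoImplicit false
universe u
open IsLocalRing

namespace Groth.Agent.Lib.Helper60.Cutoff

variable (A B : Type u) [CommRing A] [CommRing B] [Algebra A B] [Module.Finite A B]
  [IsNoetherianRing A] (p : Ideal A) [p.IsPrime]
  (M : Type u) [AddCommGroup M] [Module B M] [Module A M] [IsScalarTower A B M]
  [Module.Finite B M]

/-- the ideal of `B_p` generated by `p`. -/
noncomputable abbrev Jp : Ideal (Localization (Algebra.algebraMapSubmonoid B p.primeCompl)) :=
  (maximalIdeal (Localization.AtPrime p)).map
    (algebraMap (Localization.AtPrime p) (Localization (Algebra.algebraMapSubmonoid B p.primeCompl)))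

theorem depth_localization_eq_iInf :
    LocCoh.depth (Localization.AtPrime p) (LocalizedModule p.primeCompl M) =
      ⨅ (𝔓 : PrimeSpectrum (Localization (Algebra.algebraMapSubmonoid B p.primeCompl)))
        (_ : Jp A B p ≤ 𝔓.asIdeal),
        LocCoh.depth (Localization.AtPrime (𝔓.asIdeal.comap (algebraMap B
            (Localization (Algebra.algebraMapSubmonoid B p.primeCompl)))))
          (LocalizedModule (𝔓.asIdeal.comap (algebraMap B
            (Localization (Algebra.algebraMapSubmonoid B p.primeCompl)))).primeCompl M) := by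
  have hNB : IsNoetherianRing B := IsNoetherianRing.of_finite A B
  set S := Algebra.algebraMapSubmonoid B p.primeCompl with hS
  set Ap := Localization.AtPrime p with hAp
  set Bp := Localization S with hBp
  set N := LocalizedModule S M with hN
  have hNAp : IsNoetherianRing Ap := IsLocalization.isNoetherianRing p.primeCompl _ inferInstance
  have hNBp : IsNoetherianRing Bp := IsLocalization.isNoetherianRing S _ inferInstance
  letI modAp : Module Ap N := Module.compHom N (algebraMap Ap Bp)
  haveI tower1 : IsScalarTower Ap Bp N := ⟨fun r b n => by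
    change (algebraMap Ap Bp r * b) • n = algebraMap Ap Bp r • b • n
    rw [mul_smul]⟩
  haveI tower2 : IsScalarTower A Ap N := ⟨fun a r n => by
    change algebraMap Ap Bp (a • r) • n = a • (algebraMap Ap Bp r • n)
    rw [Algebra.smul_def, map_mul, ← IsScalarTower.algebraMap_apply A Ap Bp, mul_smul,
      algebraMap_smul]⟩
  let f : M →ₗ[A] N := (LocalizedModule.mkLinearMap S M).restrictScalars A
  haveI hf : IsLocalizedModule p.primeCompl f :=
    IsLocalizedModule.restrictScalars p.primeCompl (LocalizedModule.mkLinearMap S M)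
  let e : LocalizedModule p.primeCompl M ≃ₗ[Ap] N :=
    (IsLocalizedModule.linearEquiv p.primeCompl
      (LocalizedModule.mkLinearMap p.primeCompl M) f).extendScalarsOfIsLocalization
        p.primeCompl Ap
  have h1 : LocCoh.depth Ap (LocalizedModule p.primeCompl M) =
      LocCoh.idealDepth (maximalIdeal Ap) N := by
    unfold LocCoh.depth
    exact Groth.Agent.Lib.Helper29.idealDepth_congr _ e
  have h2 : LocCoh.idealDepth (maximalIdeal Ap) N = LocCoh.idealDepth (Jp A B p) N :=
    Groth.Agent.Lib.Helper29.idealDepth_map_eq (A := Ap) (B := Bp) (maximalIdeal Ap) N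
  have h3 := Groth.Agent.Lib.Helper29.idealDepth_eq_iInf_depth_localization Bp (Jp A B p) N
  rw [h1, h2, h3]
  refine iInf_congr fun 𝔓 => iInf_congr fun _ => ?_
  exact Groth.Agent.Lib.Helper79.AdjDepthLoc.depth_eq S M 𝔓.asIdeal

omit [Module.Finite A B] [IsNoetherianRing A] [Module A M] [IsScalarTower A B M]
  [Module.Finite B M] [Algebra A B] in
theorem depth_congr_ideal {P₁ P₂ : Ideal B} [h1 : P₁.IsPrime] [h2 : P₂.IsPrime] (h : P₁ = P₂) :
    LocCoh.depth (Localization.AtPrime P₁) (LocalizedModule P₁.primeCompl M) =
      LocCoh.depth (Localization.AtPrime P₂) (LocalizedModule P₂.primeCompl M) := by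
  subst h
  rfl

omit [Module.Finite A B] [IsNoetherianRing A] in
theorem disjoint_of_comap_eq (P : Ideal B) (hP : P.comap (algebraMap A B) = p) :
    Disjoint (Algebra.algebraMapSubmonoid B p.primeCompl : Set B) (P : Set B) := by
  rw [Set.disjoint_left]
  rintro b ⟨a, ha, rfl⟩ hb
  apply ha
  rw [← hP]
  exact hb

omit [Module.Finite A B] [IsNoetherianRing A] in
theorem Jp_eq : Jp A B p = (p.map (algebraMap A B)).map (algebraMap B
    (Localization (Algebra.algebraMapSubmonoid B p.primeCompl))) := by
  unfold Jp
  rw [← Localization.AtPrime.map_eq_maximalIdeal, Ideal.map_map, Ideal.map_map,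
    ← IsScalarTower.algebraMap_eq, ← IsScalarTower.algebraMap_eq]

/-- (D1) -/
theorem depth_localization_le_of_comap_eq (P : Ideal B) [hPp : P.IsPrime]
    (hP : P.comap (algebraMap A B) = p) :
    LocCoh.depth (Localization.AtPrime p) (LocalizedModule p.primeCompl M) ≤
      LocCoh.depth (Localization.AtPrime P) (LocalizedModule P.primeCompl M) := by
  rw [depth_localization_eq_iInf A B p M]
  set S := Algebra.algebraMapSubmonoid B p.primeCompl with hS
  set Bp := Localization S with hBp
  have hdisj := disjoint_of_comap_eq A B p P hP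
  have hprime : (P.map (algebraMap B Bp)).IsPrime :=
    IsLocalization.isPrime_of_isPrime_disjoint S Bp P hPp hdisj
  have hcomap : (P.map (algebraMap B Bp)).comap (algebraMap B Bp) = P :=
    IsLocalization.comap_map_of_isPrime_disjoint S Bp hPp hdisj
  have hJ : Jp A B p ≤ P.map (algebraMap B Bp) := by
    rw [Jp_eq]
    apply Ideal.map_mono
    rw [Ideal.map_le_iff_le_comap, hP]
  refine (iInf₂_le (⟨P.map (algebraMap B Bp), hprime⟩ : PrimeSpectrum Bp) hJ).trans ?_
  exact (depth_congr_ideal B M hcomap).le

/-- (D2) -/
theorem exists_comap_eq_depth_localization_eq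
    (hne : LocCoh.depth (Localization.AtPrime p) (LocalizedModule p.primeCompl M) ≠ ⊤) :
    ∃ (P : Ideal B) (_ : P.IsPrime), P.comap (algebraMap A B) = p ∧
      LocCoh.depth (Localization.AtPrime P) (LocalizedModule P.primeCompl M) =
        LocCoh.depth (Localization.AtPrime p) (LocalizedModule p.primeCompl M) := by
  have key := depth_localization_eq_iInf A B p M
  set S := Algebra.algebraMapSubmonoid B p.primeCompl with hS
  set Bp := Localization S with hBp
  rw [iInf_subtype'] at key
  have hnonempty : Nonempty {𝔓 : PrimeSpectrum Bp // Jp A B p ≤ 𝔓.asIdeal} := by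
    by_contra hcon
    rw [not_nonempty_iff] at hcon
    rw [iInf_of_empty] at key
    exact hne key
  obtain ⟨⟨𝔓, h𝔓⟩, h⟩ := ENat.exists_eq_iInf (fun x : {𝔓 : PrimeSpectrum Bp // Jp A B p ≤ 𝔓.asIdeal} =>
    LocCoh.depth (Localization.AtPrime (x.1.asIdeal.comap (algebraMap B Bp)))
      (LocalizedModule (x.1.asIdeal.comap (algebraMap B Bp)).primeCompl M))
  refine ⟨𝔓.asIdeal.comap (algebraMap B Bp), inferInstance, ?_, ?_⟩
  · -- contraction to `A` is `p`
    apply le_antisymm
    · intro a ha
      by_contra hap
      have hmem : algebraMap A B a ∈ S := ⟨a, hap, rfl⟩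
      have hunit : IsUnit (algebraMap B Bp (algebraMap A B a)) :=
        IsLocalization.map_units Bp ⟨_, hmem⟩
      exact 𝔓.2.ne_top (Ideal.eq_top_of_isUnit_mem _ ha hunit)
    · rw [Jp_eq, Ideal.map_le_iff_le_comap, Ideal.map_le_iff_le_comap] at h𝔓
      exact h𝔓
  · rw [key]
    exact h

end Groth.Agent.Lib.Helper60.Cutoff
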