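import Groth.Agent.Lib.Helper60.Cutoff1
import Groth.Agent.Lib.Helper93.HeightQuot2
import Groth.Agent.S0555
import Groth.Prelude.Def_DualLC

/-!
# Heights along a finite ring map and the cutoff invariant (helper60)

* `height_Ici_le_comap` : incomparability: `ht(Q/P) ≤ ht(q/p)` for an integral ring map;
* `isUniversallyCatenary_quotient`;
* `height_Ici_comap_eq` : the dimension formula for finite maps from a universally catenary ring:
  `ht(Q/P) = ht(q/p)`;
* `cutoff_eq_of_finite`.
-/

set_option autoImplicit false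
universe u
open IsLocalRing

namespace Groth.Agent.Lib.Helper60.Cutoff

section Congr

variable {R : Type u} [CommRing R]

theorem height_Ici_congr {p p' q q' : PrimeSpectrum R} (hp : p = p') (hq : q = q')
    (h : p ≤ q) (h' : p' ≤ q') :
    Order.height (⟨q, h⟩ : Set.Ici p) = Order.height (⟨q', h'⟩ : Set.Ici p') := by
  subst hp
  subst hq
  rfl

end Congr

section Mono

variable (A B : Type u) [CommRing A] [CommRing B] [Algebra A B]

theorem comap_le_comap {P Q : PrimeSpectrum B} (hPQ : P ≤ Q) :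
    PrimeSpectrum.comap (algebraMap A B) P ≤ PrimeSpectrum.comap (algebraMap A B) Q :=
  Ideal.comap_mono (f := algebraMap A B) hPQ

end Mono

section INC

variable (A B : Type u) [CommRing A] [CommRing B] [Algebra A B] [Algebra.IsIntegral A B]

theorem height_Ici_le_comap (P Q : PrimeSpectrum B) (hPQ : P ≤ Q) :
    Order.height (⟨Q, hPQ⟩ : Set.Ici P) ≤
      Order.height (⟨PrimeSpectrum.comap (algebraMap A B) Q,
        comap_le_comap A B hPQ⟩ :
          Set.Ici (PrimeSpectrum.comap (algebraMap A B) P)) := by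
  let f : Set.Ici P → Set.Ici (PrimeSpectrum.comap (algebraMap A B) P) := fun Q' =>
    ⟨PrimeSpectrum.comap (algebraMap A B) Q'.1,
      comap_le_comap A B Q'.2⟩
  have hf : StrictMono f := by
    intro Q₁ Q₂ h12
    have hlt : Q₁.1.asIdeal < Q₂.1.asIdeal := h12
    obtain ⟨x, hx2, hx1⟩ := SetLike.exists_of_lt hlt
    have := Ideal.comap_lt_comap_of_integral_mem_sdiff (R := A) hlt.le
      (⟨hx2, hx1⟩ : x ∈ (Q₂.1.asIdeal : Set B) \ Q₁.1.asIdeal) (Algebra.IsIntegral.isIntegral x)
    exact this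
  exact Order.height_le_height_apply_of_strictMono f hf ⟨Q, hPQ⟩

end INC

section UC

theorem isUniversallyCatenary_quotient {A : Type u} [CommRing A]
    (hA : CAlg.IsUniversallyCatenary A) (I : Ideal A) : CAlg.IsUniversallyCatenary (A ⧸ I) := by
  have := hA.1
  refine ⟨inferInstance, fun T _ _ hT => ?_⟩
  letI : Algebra A T := ((algebraMap (A ⧸ I) T).comp (Ideal.Quotient.mk I)).toAlgebra
  haveI : IsScalarTower A (A ⧸ I) T := IsScalarTower.of_algebraMap_eq (fun a => rfl)
  have hft : Algebra.FiniteType A T :=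
    Algebra.FiniteType.trans (inferInstance : Algebra.FiniteType A (A ⧸ I)) hT
  exact hA.2 T hft

end UC

section DimFormula

variable (A B : Type u) [CommRing A] [CommRing B] [Algebra A B] [Module.Finite A B]

theorem height_map_eq_of_finite (hA : CAlg.IsUniversallyCatenary A) (p q : Ideal A) [p.IsPrime]
    [q.IsPrime] (P Q : Ideal B) [P.IsPrime] [Q.IsPrime] [P.LiesOver p] [hQq : Q.LiesOver q]
    (hpq : p ≤ q) (hPQ : P ≤ Q) :
    (Q.map (Ideal.Quotient.mk P)).height = (q.map (Ideal.Quotient.mk p)).height := by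
  have hqb : (q.map (Ideal.Quotient.mk p)).IsPrime :=
    Ideal.map_isPrime_of_surjective Ideal.Quotient.mk_surjective (by rwa [Ideal.mk_ker])
  have hQb : (Q.map (Ideal.Quotient.mk P)).IsPrime :=
    Ideal.map_isPrime_of_surjective Ideal.Quotient.mk_surjective (by rwa [Ideal.mk_ker])
  have hlo : (Q.map (Ideal.Quotient.mk P)).LiesOver (q.map (Ideal.Quotient.mk p)) := by
    refine ⟨?_⟩
    ext r
    obtain ⟨a, rfl⟩ := Ideal.Quotient.mk_surjective r
    rw [Ideal.under, Ideal.mem_comap, Ideal.Quotient.algebraMap_mk_of_liesOver,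
      Ideal.mem_quotient_iff_mem hpq, Ideal.mem_quotient_iff_mem hPQ, hQq.over,
      Ideal.under, Ideal.mem_comap]
  have hUC := isUniversallyCatenary_quotient hA p
  have key := Groth.Agent.S0555.result (A ⧸ p) hUC (B ⧸ P) (q.map (Ideal.Quotient.mk p))
    (Q.map (Ideal.Quotient.mk P))
  have hfin : Module.Finite ((A ⧸ p) ⧸ q.map (Ideal.Quotient.mk p))
      ((B ⧸ P) ⧸ Q.map (Ideal.Quotient.mk P)) := inferInstance
  have halg1 : Algebra.IsAlgebraic ((A ⧸ p) ⧸ q.map (Ideal.Quotient.mk p))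
      ((B ⧸ P) ⧸ Q.map (Ideal.Quotient.mk P)) := Algebra.IsAlgebraic.of_finite _ _
  have halg2 : Algebra.IsAlgebraic (A ⧸ p) (B ⧸ P) := Algebra.IsAlgebraic.of_finite _ _
  have h1 : Algebra.trdeg ((A ⧸ p) ⧸ q.map (Ideal.Quotient.mk p))
      ((B ⧸ P) ⧸ Q.map (Ideal.Quotient.mk P)) = 0 := trdeg_eq_zero
  have h2 : Algebra.trdeg (A ⧸ p) (B ⧸ P) = 0 := trdeg_eq_zero
  rw [h1, h2, add_zero, add_zero] at key
  exact Cardinal.ofENat_inj.mp key

theorem height_Ici_comap_eq (hA : CAlg.IsUniversallyCatenary A) (P Q : PrimeSpectrum B)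
    (hPQ : P ≤ Q) :
    Order.height (⟨PrimeSpectrum.comap (algebraMap A B) Q,
        comap_le_comap A B hPQ⟩ :
          Set.Ici (PrimeSpectrum.comap (algebraMap A B) P)) =
      Order.height (⟨Q, hPQ⟩ : Set.Ici P) := by
  rw [← Groth.Agent.Lib.Helper93.HeightQuot.height_map_eq_height_Ici,
    ← Groth.Agent.Lib.Helper93.HeightQuot.height_map_eq_height_Ici]
  have h1 : P.asIdeal.LiesOver (PrimeSpectrum.comap (algebraMap A B) P).asIdeal := ⟨rfl⟩
  have h2 : Q.asIdeal.LiesOver (PrimeSpectrum.comap (algebraMap A B) Q).asIdeal := ⟨rfl⟩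
  exact (height_map_eq_of_finite A B hA _ _ P.asIdeal Q.asIdeal
    (comap_le_comap A B hPQ) hPQ).symm

end DimFormula

end Groth.Agent.Lib.Helper60.Cutoff
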