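import Groth.Agent.Lib.Helper60.Cutoff2

/-!
# The cutoff invariant `s_{A,I}(M)` along a finite ring map (helper60)
-/

set_option autoImplicit false
universe u
open IsLocalRing

namespace Groth.Agent.Lib.Helper60.Cutoff

variable (A B : Type u) [CommRing A] [CommRing B] [Algebra A B] [IsNoetherianRing A]
  [Module.Finite A B] (I : Ideal A)
  (M : Type u) [AddCommGroup M] [Module B M] [Module A M] [IsScalarTower A B M]
  [Module.Finite B M]

theorem cutoff_le_of_finite :
    Dual2.cutoff B (I.map (algebraMap A B)) M ≤ Dual2.cutoff A I M := by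
  unfold Dual2.cutoff
  refine le_iInf fun p => le_iInf fun q => le_iInf fun h => le_iInf fun hIp => le_iInf fun hIq => ?_
  by_cases htop : LocCoh.depth (Localization.AtPrime p.asIdeal)
      (LocalizedModule p.asIdeal.primeCompl M) = ⊤
  · rw [htop, top_add]
    exact le_top
  obtain ⟨P, hPprime, hPp, hPd⟩ := exists_comap_eq_depth_localization_eq A B p.asIdeal M htop
  have hle : P.comap (algebraMap A B) ≤ q.asIdeal := hPp.le.trans h
  obtain ⟨Q, hPQ, hQprime, hQq⟩ :=
    Ideal.exists_ideal_over_prime_of_isIntegral_of_isPrime q.asIdeal P hle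
  let P' : PrimeSpectrum B := ⟨P, hPprime⟩
  let Q' : PrimeSpectrum B := ⟨Q, hQprime⟩
  have hPQ' : P' ≤ Q' := hPQ
  have hIP : ¬ I.map (algebraMap A B) ≤ P'.asIdeal := by
    intro hcon
    apply hIp
    rw [← hPp]
    exact Ideal.map_le_iff_le_comap.mp hcon
  have hIQ : I.map (algebraMap A B) ≤ Q'.asIdeal := by
    rw [Ideal.map_le_iff_le_comap]
    show I ≤ Q.comap (algebraMap A B)
    rw [hQq]
    exact hIq
  refine (iInf_le_of_le P' (iInf_le_of_le Q' (iInf_le_of_le hPQ' (iInf_le_of_le hIP
    (iInf_le_of_le hIQ le_rfl))))).trans ?_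
  have hd : LocCoh.depth (Localization.AtPrime P'.asIdeal)
      (LocalizedModule P'.asIdeal.primeCompl M) =
      LocCoh.depth (Localization.AtPrime p.asIdeal) (LocalizedModule p.asIdeal.primeCompl M) := hPd
  rw [hd]
  gcongr
  have hint : Algebra.IsIntegral A B := inferInstance
  refine (height_Ici_le_comap A B P' Q' hPQ').trans (le_of_eq ?_)
  exact height_Ici_congr (PrimeSpectrum.ext hPp) (PrimeSpectrum.ext hQq) _ _

theorem le_cutoff_of_finite (hA : CAlg.IsUniversallyCatenary A) :
    Dual2.cutoff A I M ≤ Dual2.cutoff B (I.map (algebraMap A B)) M := by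
  unfold Dual2.cutoff
  refine le_iInf fun P => le_iInf fun Q => le_iInf fun h => le_iInf fun hIP => le_iInf fun hIQ => ?_
  let p : PrimeSpectrum A := PrimeSpectrum.comap (algebraMap A B) P
  let q : PrimeSpectrum A := PrimeSpectrum.comap (algebraMap A B) Q
  have hpq : p ≤ q := comap_le_comap A B h
  have hIp : ¬ I ≤ p.asIdeal := fun hcon => hIP (Ideal.map_le_iff_le_comap.mpr hcon)
  have hIq : I ≤ q.asIdeal := Ideal.map_le_iff_le_comap.mp hIQ
  refine (iInf_le_of_le p (iInf_le_of_le q (iInf_le_of_le hpq (iInf_le_of_le hIp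
    (iInf_le_of_le hIq le_rfl))))).trans ?_
  have hd := depth_localization_le_of_comap_eq A B p.asIdeal M P.asIdeal rfl
  have hh := height_Ici_comap_eq A B hA P Q h
  rw [← hh]
  gcongr

theorem cutoff_eq_of_finite (hA : CAlg.IsUniversallyCatenary A) :
    Dual2.cutoff B (I.map (algebraMap A B)) M = Dual2.cutoff A I M :=
  le_antisymm (cutoff_le_of_finite A B I M) (le_cutoff_of_finite A B I M hA)

end Groth.Agent.Lib.Helper60.Cutoff
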