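import Groth.Agent.Lib.Helper60.HTCousin

/-!
# Annihilators of `H^i_Z(M)` from annihilators of `H^i_T(M)`, `Z ⊆ T` (helper60)

If `J` kills `H^b_T(M)` for `b ≤ s` and `Z ⊆ T` then `J^(s+1)` kills `H^i_Z(M)` for `i ≤ s`
(the composite functor `Γ_Z = Γ_Z ∘ Γ_T`, done by dimension shifting).
-/

set_option autoImplicit false
set_option linter.unusedSectionVars false
universe u
open CategoryTheory CategoryTheory.Limits Opposite Abelian

namespace Groth.Agent.Lib.Helper60.HTComp

open Groth.Agent.Lib.Helper60 Groth.Agent.Lib.Helper47.HTLib localCohomology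
  Groth.Agent.Lib.Helper60.HTDelta Groth.Agent.Lib.Helper60.HTLoc
  Groth.Agent.Lib.Helper60.HTCousin

variable {R : Type u} [CommRing R]

section Retract

/-- a retract of an injective module is injective. -/
lemma injective_of_retract {I Q : Type u} [AddCommGroup I] [Module R I] [AddCommGroup Q]
    [Module R Q] [Module.Injective R I] (σ : Q →ₗ[R] I) (π : I →ₗ[R] Q)
    (h : ∀ x, π (σ x) = x) : Module.Injective R Q := by
  refine ⟨fun X Y _ _ _ _ f hf g => ?_⟩
  obtain ⟨h₀, hh₀⟩ := Module.Injective.out (R := R) (Q := I) f hf (σ ∘ₗ g)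
  refine ⟨π ∘ₗ h₀, fun x => ?_⟩
  rw [LinearMap.comp_apply, hh₀, LinearMap.comp_apply, h]

variable [IsNoetherianRing R] (T : Set (PrimeSpectrum R))

/-- for `I` injective over a Noetherian ring, `I/Γ_T(I)` is injective. -/
theorem injective_quotient_torsT (I : Type u) [AddCommGroup I] [Module R I]
    [Module.Injective R I] : Module.Injective R (I ⧸ torsT T I) := by
  have hΓ : Module.Injective R (torsT T I) := injective_torsT T I
  obtain ⟨r, hr⟩ := Module.Injective.extension_property R (torsT T I) (torsT T I) I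
    (torsT T I).subtype (torsT T I).injective_subtype LinearMap.id
  let σ : (I ⧸ torsT T I) →ₗ[R] I :=
    (torsT T I).liftQ (LinearMap.id - (torsT T I).subtype ∘ₗ r) (by
      intro x hx
      rw [LinearMap.mem_ker, LinearMap.sub_apply, LinearMap.id_apply, LinearMap.comp_apply]
      have := LinearMap.congr_fun hr ⟨x, hx⟩
      rw [LinearMap.comp_apply, LinearMap.id_apply, Submodule.subtype_apply] at this
      rw [Submodule.subtype_apply]
      have h2 : ((r x : torsT T I) : I) = x := congrArg Subtype.val this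
      rw [h2, sub_self])
  refine injective_of_retract σ (torsT T I).mkQ (fun x => ?_)
  obtain ⟨i, rfl⟩ := Submodule.Quotient.mk_surjective _ x
  have hσ : σ (Submodule.Quotient.mk i) = i - ((r i : torsT T I) : I) := by
    change (torsT T I).liftQ _ _ (Submodule.Quotient.mk i) = _
    rw [Submodule.liftQ_apply, LinearMap.sub_apply, LinearMap.id_apply,
      LinearMap.comp_apply, Submodule.subtype_apply]
  rw [hσ, map_sub]
  have : (torsT T I).mkQ ((r i : torsT T I) : I) = 0 := by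
    rw [Submodule.mkQ_apply, Submodule.Quotient.mk_eq_zero]
    exact (r i).2
  rw [this, sub_zero]
  rfl

end Retract

section Aux

variable (T : Set (PrimeSpectrum R))

lemma tIncl_injective_zero {Z : Set (PrimeSpectrum R)} (hZT : Z ⊆ T) (M : ModuleCat.{u} R) :
    Function.Injective (tIncl hZT 0 M) := by
  intro x y hxy
  apply tH0Map_injective Z M
  rw [← tH0Map_tIncl hZT, ← tH0Map_tIncl hZT, hxy]

lemma t_subsingleton_zero_of_torsT_eq_bot (M : ModuleCat.{u} R) (h : torsT T M = ⊥) :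
    Subsingleton ((HTf T 0).obj M) := by
  refine ⟨fun x y => tH0Map_injective T M ?_⟩
  have hx := tH0Map_mem_torsT T M x
  have hy := tH0Map_mem_torsT T M y
  rw [h, Submodule.mem_bot] at hx hy
  rw [hx, hy]

lemma tDelta_bijective_of_vanish {S : ShortComplex (ModuleCat.{u} R)} (hS : S.ShortExact)
    (i : ℕ) (h1 : Subsingleton ((HTf T i).obj S.X₂))
    (h2 : Subsingleton ((HTf T (i + 1)).obj S.X₂)) :
    Function.Bijective (tDelta T hS i) := by
  constructor
  · rw [injective_iff_map_eq_zero]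
    intro y hy
    obtain ⟨y₂, rfl⟩ := t_exact₃ T hS i y hy
    rw [@Subsingleton.elim _ h1 y₂ 0, map_zero]
  · intro y
    exact t_exact₁ T hS i y (@Subsingleton.elim _ h2 _ _)

lemma smul_eq_zero_of_forall (i : ℕ) (N : ModuleCat.{u} R) (a : R)
    (h : ∀ n : N, a • n = 0) (x : (HTf T i).obj N) : a • x = 0 := by
  rw [← tMap_smul_id T i N a x]
  have h0 : a • 𝟙 N = 0 := by
    apply ModuleCat.hom_ext
    apply LinearMap.ext
    intro n
    exact h n
  rw [h0, Functor.map_zero]
  rfl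

lemma torsT_mono {Z : Set (PrimeSpectrum R)} (hZT : Z ⊆ T) (M : Type u) [AddCommGroup M]
    [Module R M] : torsT Z M ≤ torsT T M := by
  rintro x ⟨𝔞, h𝔞, hk⟩
  exact ⟨𝔞, h𝔞.trans hZT, hk⟩

end Aux

section Main

variable [IsNoetherianRing R] {Z T : Set (PrimeSpectrum R)} (hZT : Z ⊆ T) (J : Ideal R)

/-- dimension shifting along a short exact sequence whose middle term is acyclic for both `T`
and `Z`. -/
lemma kills_shift (s : ℕ) (S : ShortComplex (ModuleCat.{u} R)) (hS : S.ShortExact)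
    (hvanT : ∀ b, Subsingleton ((HTf T b).obj S.X₂))
    (hvanZ : ∀ b, Subsingleton ((HTf Z b).obj S.X₂))
    (ih : (∀ b ≤ s, ∀ a ∈ J, ∀ x : (HTf T b).obj S.X₃, a • x = 0) →
      ∀ i ≤ s, ∀ a ∈ J ^ (s + 1), ∀ x : (HTf Z i).obj S.X₃, a • x = 0)
    (hM' : ∀ b, 0 < b → b ≤ s + 1 → ∀ a ∈ J, ∀ x : (HTf T b).obj S.X₁, a • x = 0)
    (j : ℕ) (hj : j ≤ s) (a : R) (ha : a ∈ J ^ (s + 1)) (x : (HTf Z (j + 1)).obj S.X₁) :
    a • x = 0 := by
  have hN : ∀ b ≤ s, ∀ a ∈ J, ∀ x : (HTf T b).obj S.X₃, a • x = 0 := by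
    intro b hb a ha x
    apply (tDelta_bijective_of_vanish T hS b (hvanT b) (hvanT (b + 1))).1
    rw [map_smul, map_zero]
    exact hM' (b + 1) (Nat.succ_pos b) (by omega) a ha _
  have hNZ := ih hN j hj a ha
  obtain ⟨y, rfl⟩ := (tDelta_bijective_of_vanish Z hS j (hvanZ j) (hvanZ (j + 1))).2 x
  rw [← map_smul, hNZ y, map_zero]

include hZT in
/-- the case of a module without `T`-torsion: dimension shifting. -/
lemma kills_step (s : ℕ)
    (ih : ∀ (M : ModuleCat.{u} R),
      (∀ b ≤ s, ∀ a ∈ J, ∀ x : (HTf T b).obj M, a • x = 0) →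
      ∀ i ≤ s, ∀ a ∈ J ^ (s + 1), ∀ x : (HTf Z i).obj M, a • x = 0)
    (M' : Type u) [AddCommGroup M'] [Module R M'] (htors : torsT T M' = ⊥)
    (hM' : ∀ b, 0 < b → b ≤ s + 1 → ∀ a ∈ J, ∀ x : (HTf T b).obj (ModuleCat.of R M'), a • x = 0) :
    ∀ i ≤ s + 1, ∀ a ∈ J ^ (s + 1), ∀ x : (HTf Z i).obj (ModuleCat.of R M'), a • x = 0 := by
  have htorsZ : torsT Z M' = ⊥ := by
    rw [eq_bot_iff, ← htors]
    exact torsT_mono T hZT M'
  intro i hi a ha x
  rcases Nat.eq_zero_or_pos i with rfl | hipos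
  · have := t_subsingleton_zero_of_torsT_eq_bot Z (ModuleCat.of R M') htorsZ
    rw [Subsingleton.elim x 0, smul_zero]
  obtain ⟨j, rfl⟩ : ∃ j, i = j + 1 := ⟨i - 1, by omega⟩
  have hj : j ≤ s := by omega
  -- embed into an injective without `T`-torsion
  let I := Injective.under (ModuleCat.of R M')
  let ι : ModuleCat.of R M' ⟶ I := Injective.ι _
  have hι : Function.Injective ι.hom := (ModuleCat.mono_iff_injective ι).mp inferInstance
  have hI0 : Injective (ModuleCat.of R I) := (inferInstance : Injective I)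
  have hIm : Module.Injective R I := Module.injective_module_of_injective_object R I
  have hEm : Module.Injective R (I ⧸ torsT T I) := injective_quotient_torsT T I
  let ι' : M' →ₗ[R] (I ⧸ torsT T I) := (torsT T I).mkQ ∘ₗ ι.hom
  have hι' : Function.Injective ι' := by
    rw [← LinearMap.ker_eq_bot, eq_bot_iff]
    intro m hm
    rw [LinearMap.mem_ker, LinearMap.comp_apply, Submodule.mkQ_apply,
      Submodule.Quotient.mk_eq_zero] at hm
    obtain ⟨𝔞, h𝔞, hk⟩ := hm
    have hm' : m ∈ torsT T M' := ⟨𝔞, h𝔞, fun a ha => hι (by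
      rw [map_smul, hk a ha, map_zero])⟩
    rw [htors] at hm'
    exact hm'
  have hS := sesOfInjective_shortExact ι' hι'
  have hE : Injective (sesOfInjective ι').X₂ :=
    Module.injective_object_of_injective_module R (I ⧸ torsT T I)
  have hEtors : torsT T (I ⧸ torsT T I) = ⊥ := torsT_quotient_eq_bot T I
  have hEtorsZ : torsT Z (I ⧸ torsT T I) = ⊥ := by
    rw [eq_bot_iff, ← hEtors]
    exact torsT_mono T hZT _
  have hvanT : ∀ b, Subsingleton ((HTf T b).obj (sesOfInjective ι').X₂) := by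
    intro b
    rcases Nat.eq_zero_or_pos b with rfl | hb
    · exact t_subsingleton_zero_of_torsT_eq_bot T _ hEtors
    · exact t_subsingleton_of_injective T _ b hb
  have hvanZ : ∀ b, Subsingleton ((HTf Z b).obj (sesOfInjective ι').X₂) := by
    intro b
    rcases Nat.eq_zero_or_pos b with rfl | hb
    · exact t_subsingleton_zero_of_torsT_eq_bot Z _ hEtorsZ
    · exact t_subsingleton_of_injective Z _ b hb
  exact kills_shift J s (sesOfInjective ι') hS hvanT hvanZ (ih _) hM' j hj a ha x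

/-- the extension step. -/
lemma kills_ext (s : ℕ) (S : ShortComplex (ModuleCat.{u} R)) (hS : S.ShortExact)
    (hΓ : ∀ a ∈ J, ∀ n : S.X₁, a • n = 0) (i : ℕ)
    (hquot : ∀ a ∈ J ^ (s + 1), ∀ x : (HTf Z i).obj S.X₃, a • x = 0)
    (c : R) (hc : c ∈ J ^ (s + 1 + 1)) (x : (HTf Z i).obj S.X₂) : c • x = 0 := by
  rw [pow_succ] at hc
  refine Submodule.mul_induction_on hc ?_ ?_
  · intro a ha b hb
    have h1 : ((HTf Z i).map S.g).hom (a • x) = 0 := by
      rw [map_smul]
      exact hquot a ha _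
    obtain ⟨y, hy⟩ := t_exact₂ Z hS i (a • x) h1
    rw [mul_comm, mul_smul, ← hy, ← map_smul,
      smul_eq_zero_of_forall Z i _ b (hΓ b hb) y, map_zero]
  · intro a b ha hb
    rw [add_smul, ha, hb, add_zero]

include hZT in
/-- **`Γ_Z = Γ_Z ∘ Γ_T`, annihilator form**: if `J` kills `H^b_T(M)` for `b ≤ s` and `Z ⊆ T` then
`J^(s+1)` kills `H^i_Z(M)` for `i ≤ s`. -/
theorem kills_of_subset (s : ℕ) : ∀ (M : ModuleCat.{u} R),
    (∀ b ≤ s, ∀ a ∈ J, ∀ x : (HTf T b).obj M, a • x = 0) →
    ∀ i ≤ s, ∀ a ∈ J ^ (s + 1), ∀ x : (HTf Z i).obj M, a • x = 0 := by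
  induction s with
  | zero =>
    intro M hM i hi a ha x
    obtain rfl : i = 0 := by omega
    rw [zero_add, pow_one] at ha
    apply tIncl_injective_zero T hZT M
    rw [map_smul, map_zero]
    exact hM 0 le_rfl a ha _
  | succ s ih =>
    intro M hM i hi c hc x
    -- the torsion sequence
    have hS₁ := sesOfSubmodule_shortExact (torsT T M)
    -- `J` kills `Γ_T(M)`
    have hΓ : ∀ a ∈ J, ∀ n : (sesOfSubmodule (torsT T M)).X₁, a • n = 0 := by
      rintro a ha ⟨m, 𝔞, h𝔞, hk⟩
      obtain ⟨y, hy⟩ := exists_tH0Map_eq T M m 𝔞 h𝔞 hk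
      apply Subtype.ext
      change a • m = 0
      rw [← hy, ← map_smul, hM 0 (Nat.zero_le _) a ha y, map_zero]
    -- `J^(s+1)` kills `H^i_Z(M/Γ)`
    have hquot : ∀ i ≤ s + 1, ∀ a ∈ J ^ (s + 1),
        ∀ x : (HTf Z i).obj (sesOfSubmodule (torsT T M)).X₃, a • x = 0 := by
      refine kills_step hZT J s ih (M ⧸ torsT T M) (torsT_quotient_eq_bot T M) ?_
      intro b hb hbs a ha x
      obtain ⟨u, rfl⟩ := (tMap_mkQ_torsT_bijective T M b hb).2 x
      rw [← map_smul, hM b hbs a ha u, map_zero]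
    exact kills_ext J s (sesOfSubmodule (torsT T M)) hS₁ hΓ i (hquot i hi) c hc x

end Main

end Groth.Agent.Lib.Helper60.HTComp
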