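import Groth.Agent.Lib.Helper60.CxModel
import Groth.Agent.Lib.Helper60.HTComp

/-!
# The Cousin-type exactness for complexes of injectives (helper60)

`T' ⊆ T` stable under specialization, every point of `T ∖ T'` minimal in `T`, `L` a complex of
injective modules.  A `T`-torsion cocycle which is locally (at the points of `T ∖ T'`) the
boundary of a `T`-torsion cochain is, up to such a boundary, `T'`-torsion.
-/

set_option autoImplicit false
set_option linter.unusedSectionVars false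
universe u
open CategoryTheory CategoryTheory.Limits

namespace Groth.Agent.Lib.Helper60.CxCousin

open Groth.Agent.Lib.Helper60.HTCousin Groth.Agent.Lib.Helper60.CxModel
  Groth.Agent.Lib.Helper47.HTLib Groth.Agent.Lib.Helper60.HTComp

variable {A : Type u} [CommRing A] [IsNoetherianRing A] {T T' : Set (PrimeSpectrum A)}
  (hT : StableUnderSpecialization T) (hTT' : T' ⊆ T)
  (hmin : ∀ p ∈ T, p ∉ T' → ∀ q ∈ T, q ≤ p → q = p)
  (L : DRing.Cx A) (hinj : ∀ k : ℤ, Injective (L.X k))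

include hTT' in
lemma BT_mono (i : ℤ) : BT T' L i ≤ BT T L i := by
  intro x hx
  rw [mem_BT] at hx ⊢
  obtain ⟨y, hy, hd⟩ := hx
  exact ⟨y, torsT_mono T hTT' _ hy, hd⟩

lemma smul_mem_BT (T : Set (PrimeSpectrum A)) (i : ℤ) (c : A) (w : L.X (i - 1))
    (hw : w ∈ torsT T (L.X (i - 1))) : c • (L.d (i - 1) i).hom w ∈ BT T L i := by
  rw [mem_BT]
  exact ⟨c • w, Submodule.smul_mem _ _ hw, map_smul _ _ _⟩

lemma map_mem_torsT' (T : Set (PrimeSpectrum A)) {N N' : Type u} [AddCommGroup N] [Module A N]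
    [AddCommGroup N'] [Module A N'] (g : N →ₗ[A] N') {x : N} (hx : x ∈ torsT T N) :
    g x ∈ torsT T N' := by
  obtain ⟨𝔞, h𝔞, hk⟩ := hx
  exact ⟨𝔞, h𝔞, fun a ha => by rw [← map_smul, hk a ha, map_zero]⟩

include hT hmin hinj in
/-- **Cousin exactness on a complex of injectives.** -/
theorem cousin (i : ℤ) (x : L.X i) (hx : x ∈ ZT T L i)
    (h : ∀ p : PrimeSpectrum A, p ∈ T → p ∉ T' →
      ∃ s ∈ p.asIdeal.primeCompl, s • x ∈ BT T L i) :
    ∃ w ∈ torsT T (L.X (i - 1)), x - (L.d (i - 1) i).hom w ∈ ZT T' L i := by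
  rw [mem_ZT] at hx
  obtain ⟨hxt, hxd⟩ := hx
  have h0 : Injective (ModuleCat.of A (L.X (i - 1))) := hinj (i - 1)
  have hE : Module.Injective A (L.X (i - 1)) :=
    Module.injective_module_of_injective_object A (L.X (i - 1))
  obtain ⟨w, hw, hloc⟩ := exists_global_lift hT hmin (L.X (i - 1)) (L.X i)
    (L.d (i - 1) i).hom x hxt (fun p hp hp' => by
      obtain ⟨s, hs, hsB⟩ := h p hp hp'
      rw [mem_BT] at hsB
      obtain ⟨w, hw, hdw⟩ := hsB
      exact ⟨w, hw, s, hs, hdw⟩)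
  refine ⟨w, hw, ?_⟩
  rw [mem_ZT]
  constructor
  · refine mem_torsT_of_locKer (L.X i) _ ?_ hloc
    exact Submodule.sub_mem _ hxt (map_mem_torsT' T _ hw)
  · rw [map_sub, hxd, zero_sub, neg_eq_zero]
    have := L.d_comp_d (i - 1) i (i + 1)
    exact congrArg (fun φ => φ.hom w) this

include hT hTT' hmin hinj in
/-- the annihilator consequence of `cousin`. -/
theorem kills_step (i : ℤ) (a' b' : A)
    (hloc : ∀ x ∈ ZT T L i, ∀ p : PrimeSpectrum A, p ∈ T → p ∉ T' →
      ∃ s ∈ p.asIdeal.primeCompl, s • a' • x ∈ BT T L i)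
    (hT' : ∀ z ∈ ZT T' L i, b' • z ∈ BT T' L i) :
    ∀ x ∈ ZT T L i, (b' * a') • x ∈ BT T L i := by
  intro x hx
  have hax : a' • x ∈ ZT T L i := Submodule.smul_mem _ _ hx
  obtain ⟨w, hw, hz⟩ := cousin hT hmin L hinj i (a' • x) hax (hloc x hx)
  have h1 := BT_mono hTT' L i (hT' _ hz)
  have h2 := smul_mem_BT L T i b' w hw
  have h3 : (b' * a') • x = b' • (a' • x - (L.d (i - 1) i).hom w) +
      b' • (L.d (i - 1) i).hom w := by
    rw [mul_smul, smul_sub, sub_add_cancel]
  rw [h3]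
  exact Submodule.add_mem _ h1 h2

end Groth.Agent.Lib.Helper60.CxCousin
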