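import Groth.Agent.Lib.Helper60.HTLoc
import Groth.Agent.Lib.Helper6.HomBC6

/-!
# Termwise localization of complexes and derived base change (helper60)

`locF S ≅ ext A (S⁻¹A)` and `LBaseChange (Q L) ≅ Q (S⁻¹ L)`.
-/

set_option autoImplicit false
set_option linter.unusedSectionVars false
universe u
open CategoryTheory CategoryTheory.Limits DerivedCategory
attribute [local instance] HasDerivedCategory.standard

namespace Groth.Agent.Lib.Helper60.CxLocA

open Groth.Agent.Lib.Helper60.HTLoc Groth.Agent.Lib.Helper35.FlatBC Groth.Agent.Lib.Helper6.HomBC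

variable {A : Type u} [CommRing A] (S : Submonoid A)

/-- the comparison `S⁻¹A ⊗_A M ≃ S⁻¹M` as an isomorphism of modules. -/
noncomputable def extLocIso (M : ModuleCat.{u} A) :
    (ext A (Localization S)).obj M ≅ (locF S).obj M :=
  ((extLinearEquiv (Localization S) M).trans
    (LocalizedModule.equivTensorProduct S M).symm).toModuleIso

lemma extLocIso_hom_one_tmul (M : ModuleCat.{u} A) (m : M) :
    (extLocIso S M).hom.hom ((1 : Localization S) ⊗ₜ[A] m) = LocalizedModule.mk m 1 := by
  change (LocalizedModule.equivTensorProduct S M).symm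
    (extLinearEquivA (Localization S) M ((1 : Localization S) ⊗ₜ[A] m)) = _
  have h1 : extLinearEquivA (Localization S) M ((1 : Localization S) ⊗ₜ[A] m) =
      (1 : Localization S) ⊗ₜ[A] m := by
    simp only [extLinearEquivA, TensorProduct.congr_tmul, LinearEquiv.refl_apply]
    rfl
  rw [h1, LocalizedModule.equivTensorProduct_symm_apply_tmul_one]

/-- `ext A (S⁻¹A) ≅ locF S`. -/
noncomputable def extLocNatIso : ext A (Localization S) ≅ locF S :=
  NatIso.ofComponents (extLocIso S) (by
    intro M N f
    ext m
    have h1 : (ConcreteCategory.hom ((ext A (Localization S)).map f ≫ (extLocIso S N).hom))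
        ((1 : Localization S) ⊗ₜ[A] m) =
        (extLocIso S N).hom.hom ((1 : Localization S) ⊗ₜ[A] f.hom m) := rfl
    have h2 : (ConcreteCategory.hom ((extLocIso S M).hom ≫ (locF S).map f))
        ((1 : Localization S) ⊗ₜ[A] m) =
        LocalizedModule.map S f.hom ((extLocIso S M).hom.hom ((1 : Localization S) ⊗ₜ[A] m)) := rfl
    rw [h1, h2, extLocIso_hom_one_tmul, extLocIso_hom_one_tmul, LocalizedModule.map_mk])

/-- the termwise localization of a complex. -/
noncomputable abbrev locCx (L : DRing.Cx A) : DRing.Cx (Localization S) :=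
  ((locF S).mapHomologicalComplex (ComplexShape.up ℤ)).obj L

/-- `S⁻¹A ⊗_A L ≅ S⁻¹L` as complexes. -/
noncomputable def extCxLocIso (L : DRing.Cx A) :
    (extCx A (Localization S)).obj L ≅ locCx S L :=
  (NatIso.mapHomologicalComplex (extLocNatIso S) (ComplexShape.up ℤ)).app L

/-- `LBaseChange (Q L) ≅ Q (S⁻¹L)`. -/
noncomputable def lbcQIso [DRing.HasLBaseChange (algebraMap A (Localization S))]
    (L : DRing.Cx A) :
    (DRing.LBaseChange (algebraMap A (Localization S))).obj (Q.obj L) ≅
      (Q.obj (locCx S L) : Dual.D (Localization S)) :=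
  (lbcIsoG A (Localization S)).app (Q.obj L) ≪≫ GQIso (Localization S) L ≪≫
    Q.mapIso (extCxLocIso S L)

end Groth.Agent.Lib.Helper60.CxLocA
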