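import Groth.Agent.Lib.Helper60.CxLocA
import Groth.Agent.Lib.Helper6.LD4
import Groth.Agent.Lib.Helper32.ModCxElem
import Groth.Agent.S1812

/-!
# `HDI` of a K-injective complex, elementwise (helper60)
-/

set_option autoImplicit false
set_option linter.unusedSectionVars false
universe u
open CategoryTheory CategoryTheory.Limits DerivedCategory
attribute [local instance] HasDerivedCategory.standard

namespace Groth.Agent.Lib.Helper60.CxLocB

open Groth.Agent.Lib.Helper32 Groth.Agent.Lib.Helper32.GammaNoethD Groth.Agent.Lib.Helper6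
  Groth.Agent.Lib.Helper6.LD Groth.Agent.Lib.Helper32.ModCxElem

variable {B : Type u} [CommRing B]

/-- annihilation of the homology of a complex of modules, elementwise. -/
lemma kills_homology_iff (C : DRing.Cx B) (i : ℤ) (c : B) :
    (∀ h : C.homology i, c • h = 0) ↔
      ∀ z : C.X i, (C.d i (i + 1)).hom z = 0 →
        ∃ w : C.X (i - 1), (C.d (i - 1) i).hom w = c • z := by
  constructor
  · intro h z hz
    obtain ⟨cz, hcz⟩ := exists_cycle C i z hz
    have h1 : (C.homologyπ i).hom (c • cz) = 0 := by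
      rw [map_smul]
      exact h _
    obtain ⟨w, hw⟩ := exists_boundary C i (c • cz) h1
    refine ⟨w, ?_⟩
    have h2 : (C.iCycles i).hom (c • cz) = c • (C.iCycles i).hom cz := map_smul _ _ _
    exact hw.trans (h2.trans (by rw [← hcz]))
  · intro h y
    obtain ⟨cz, rfl⟩ := homologyπ_surjective C i y
    obtain ⟨w, hw⟩ := h ((C.iCycles i).hom cz) (ModCxElem.d_iCycles C i (i + 1) cz)
    have h2 : (C.iCycles i).hom (c • cz) = c • (C.iCycles i).hom cz := map_smul _ _ _
    have h3 := homologyπ_eq_zero_of_boundary C i (c • cz) w (hw.trans h2.symm)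
    have h4 : (C.homologyπ i).hom (c • cz) = c • (C.homologyπ i).hom cz := map_smul _ _ _
    exact h4.symm.trans h3

variable (I : Ideal B) (hI : I.FG) (J : DRing.Cx B) [J.IsKInjective] (X : Dual.D B)
  (e : X ≅ (Q.obj J : Dual.D B)) (i : ℤ)

include hI e in
/-- `HDI` of an object represented by a K-injective complex `J` is the homology of `Γ_I J`. -/
theorem nonempty_hdi_equiv :
    Nonempty (Dual2.HDI B I X i ≃ₗ[B] (Gam I J).homology i) := by
  have := Groth.Agent.Lib.Helper35.LD.hasRgammaI I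
  obtain ⟨eb⟩ := Groth.Agent.S1812.result B I hI X i
  have : IsIso (βΓ I J) := TriRF.isIso_β _ _ _ hasKInjRes J
  let e1 : Dual.HD B ((DRing.RgammaI I).obj X) i ≃ₗ[B]
      Dual.HD B ((DRing.RgammaI I).obj (Q.obj J)) i :=
    ((DerivedCategory.homologyFunctor (ModuleCat.{u} B) i).mapIso
      ((DRing.RgammaI I).mapIso e)).toLinearEquiv
  let e2 : Dual.HD B ((DRing.RgammaI I).obj (Q.obj J)) i ≃ₗ[B]
      Dual.HD B (Q.obj (Gam I J)) i :=
    ((DerivedCategory.homologyFunctor (ModuleCat.{u} B) i).mapIso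
      (asIso (βΓ I J))).symm.toLinearEquiv
  exact ⟨eb.symm ≪≫ₗ e1 ≪≫ₗ e2 ≪≫ₗ Bidual.hdQEquiv (Gam I J) i⟩

include hI e in
/-- annihilators of `HDI`, elementwise on a K-injective model. -/
theorem hdi_kills_iff (c : B) :
    (∀ y : Dual2.HDI B I X i, c • y = 0) ↔
      ∀ z : J.X i, z ∈ DRing.torsionSub I (J.X i) → (J.d i (i + 1)).hom z = 0 →
        ∃ w : J.X (i - 1), w ∈ DRing.torsionSub I (J.X (i - 1)) ∧
          (J.d (i - 1) i).hom w = c • z := by
  obtain ⟨ε⟩ := nonempty_hdi_equiv I hI J X e i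
  have h1 : (∀ y : Dual2.HDI B I X i, c • y = 0) ↔ ∀ h : (Gam I J).homology i, c • h = 0 := by
    constructor
    · intro h y
      have := h (ε.symm y)
      have h2 := congrArg ε this
      rw [map_smul, ε.apply_symm_apply, map_zero] at h2
      exact h2
    · intro h y
      have := h (ε y)
      have h2 := congrArg ε.symm this
      rw [map_smul, ε.symm_apply_apply, map_zero] at h2
      exact h2
  rw [h1, kills_homology_iff]
  constructor
  · intro h z hz hd
    obtain ⟨w, hw⟩ := h ⟨z, hz⟩ (Subtype.ext hd)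
    exact ⟨w.1, w.2, congrArg Subtype.val hw⟩
  · intro h z hd
    obtain ⟨w, hw, hdw⟩ := h z.1 z.2 (congrArg Subtype.val hd)
    exact ⟨⟨w, hw⟩, Subtype.ext hdw⟩

end Groth.Agent.Lib.Helper60.CxLocB
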