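import Groth.Agent.Lib.Helper47.HDTModule
import Groth.Agent.Lib.Helper6.HomCxH
import Groth.Agent.Lib.Helper35.RHomKInj

/-!
# `H^i_T` of a K-injective complex, elementwise (helper60)

For a K-injective complex `L` of `A`-modules and `T ⊆ Spec A`, the module
`H^i_T(Q L) = colim_J Hom(A/J, (Q L)[i])` is the quotient of
`ZT = {x ∈ L^i | x is T-torsion, d x = 0}` by `BT = d (Γ_T L^{i-1})`.  We only record the
consequence for annihilators.
-/

set_option autoImplicit false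
set_option linter.unusedSectionVars false
universe u
open CategoryTheory CategoryTheory.Limits DerivedCategory CochainComplex HomComplex
attribute [local instance] HasDerivedCategory.standard

namespace Groth.Agent.Lib.Helper60.CxModel

open Groth.Agent.Lib.Helper47.HDTLib Groth.Agent.Lib.Helper47.HTLib
  Groth.Agent.Lib.Helper6.ExtCocycle Groth.Agent.Lib.Helper6 Groth.Agent.Lib.Helper35
  Groth.Agent.Lib.Helper60 localCohomology

variable {A : Type u} [CommRing A]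

/-- `A/𝔞` as a complex in degree `0`. -/
noncomputable abbrev SJ (𝔞 : Ideal A) : DRing.Cx A :=
  (CochainComplex.singleFunctor (ModuleCat.{u} A) 0).obj (quotObj 𝔞)

variable (T : Set (PrimeSpectrum A)) (L : DRing.Cx A) (i : ℤ)

/-- `T`-torsion cocycles of degree `i`. -/
def ZT : Submodule A (L.X i) := torsT T (L.X i) ⊓ LinearMap.ker (L.d i (i + 1)).hom

/-- boundaries of `T`-torsion cochains. -/
def BT : Submodule A (L.X i) := (torsT T (L.X (i - 1))).map (L.d (i - 1) i).hom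

lemma mem_ZT (x : L.X i) : x ∈ ZT T L i ↔ x ∈ torsT T (L.X i) ∧ (L.d i (i + 1)).hom x = 0 := by
  unfold ZT
  rw [Submodule.mem_inf, LinearMap.mem_ker]

lemma mem_BT (x : L.X i) :
    x ∈ BT T L i ↔ ∃ y ∈ torsT T (L.X (i - 1)), (L.d (i - 1) i).hom y = x := by
  unfold BT
  rw [Submodule.mem_map]

variable {L i}

/-- the cocycle attached to a cycle killed by `𝔞`. -/
noncomputable def cocyc (𝔞 : Ideal A) (x : L.X i) (hx : ∀ r ∈ 𝔞, r • x = 0)
    (hd : (L.d i (i + 1)).hom x = 0) : Cocycle (SJ 𝔞) L i :=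
  Cocycle.fromSingleMk (lin 𝔞 x hx) (zero_add i) (i + 1) rfl (by
    apply quotObj_hom_ext
    rw [ModuleCat.hom_comp, LinearMap.comp_apply, lin_one, hd, ModuleCat.hom_zero,
      LinearMap.zero_apply])

lemma cocyc_precomp {𝔞 𝔟 : Ideal A} (h : 𝔞 ≤ 𝔟) (x : L.X i) (hx : ∀ r ∈ 𝔟, r • x = 0)
    (hd : (L.d i (i + 1)).hom x = 0) :
    (cocyc 𝔟 x hx hd).precomp ((CochainComplex.singleFunctor (ModuleCat.{u} A) 0).map (qmap h)) =
      cocyc 𝔞 x (fun r hr => hx r (h hr)) hd := by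
  unfold cocyc
  rw [← Cocycle.fromSingleMk_precomp]
  congr 1
  exact qmap_lin h x hx

lemma cocyc_smul (𝔞 : Ideal A) (c : A) (x : L.X i) (hx : ∀ r ∈ 𝔞, r • x = 0)
    (hd : (L.d i (i + 1)).hom x = 0) :
    cocyc 𝔞 (c • x) (fun r hr => by rw [smul_comm, hx r hr, smul_zero])
      (by rw [map_smul, hd, smul_zero]) = c • cocyc 𝔞 x hx hd := by
  apply Cocycle.ext
  change Cochain.fromSingleMk (lin 𝔞 (c • x) _) (zero_add i) =
    c • Cochain.fromSingleMk (lin 𝔞 x hx) (zero_add i)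
  rw [lin_smul 𝔞 c x hx]
  refine Cochain.ext _ _ (fun p q hpq => ?_)
  by_cases hp : p = 0
  · subst hp
    obtain rfl : i = q := by omega
    rw [Cochain.smul_v, Cochain.fromSingleMk_v, Cochain.fromSingleMk_v, Linear.comp_smul]
    rfl
  · rw [Cochain.smul_v, Cochain.fromSingleMk_v_eq_zero _ _ _ _ _ hp,
      Cochain.fromSingleMk_v_eq_zero _ _ _ _ _ hp, smul_zero]

/-- the class in `H^i_T(Q L)` of a cycle killed by `a`. -/
noncomputable def clsL (a : Dual2.IdealsIn T) (x : L.X i) (hx : ∀ r ∈ a.obj, r • x = 0)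
    (hd : (L.d i (i + 1)).hom x = 0) : HD0 T ((Q.obj L : Dual.D A)⟦i⟧) :=
  dMk T _ a (ext1 (SJ a.obj) L i (cocyc a.obj x hx hd))

lemma clsL_smul (a : Dual2.IdealsIn T) (c : A) (x : L.X i) (hx : ∀ r ∈ a.obj, r • x = 0)
    (hd : (L.d i (i + 1)).hom x = 0) :
    c • clsL T a x hx hd = clsL T a (c • x) (fun r hr => by rw [smul_comm, hx r hr, smul_zero])
      (by rw [map_smul, hd, smul_zero]) := by
  unfold clsL
  rw [← dMk_smul]
  refine congrArg (dMk T _ a) ?_
  have h1 := HomCxH.ext1_smul (SJ a.obj) L i c (cocyc a.obj x hx hd)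
  have h2 := cocyc_smul a.obj c x hx hd
  exact h1.symm.trans (congrArg (ext1 (SJ a.obj) L i) h2.symm)

lemma clsL_res {a b : Dual2.IdealsIn T} (h : a.obj ≤ b.obj) (x : L.X i)
    (hx : ∀ r ∈ b.obj, r • x = 0) (hd : (L.d i (i + 1)).hom x = 0) :
    clsL T a x (fun r hr => hx r (h hr)) hd = clsL T b x hx hd := by
  unfold clsL
  rw [← dMk_res T _ h, ← cocyc_precomp h x hx hd, RHomKInj.ext1_precomp]
  rfl

variable [L.IsKInjective]

lemma clsL_surj (y : HD0 T ((Q.obj L : Dual.D A)⟦i⟧)) :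
    ∃ (a : Dual2.IdealsIn T) (x : L.X i) (hx : ∀ r ∈ a.obj, r • x = 0)
      (hd : (L.d i (i + 1)).hom x = 0), clsL T a x hx hd = y := by
  obtain ⟨a, f, rfl⟩ := dMk_surj T _ y
  obtain ⟨c, rfl⟩ := RHomKInj.ext1_surjective_inj (F := SJ a.obj) (L := L) (n := i) f
  obtain ⟨g, hg, rfl⟩ := Cocycle.fromSingleMk_surjective c i (zero_add i) (i + 1) rfl
  obtain ⟨hm, hglin⟩ := eq_lin g
  have hd : (L.d i (i + 1)).hom (g.hom (Submodule.Quotient.mk (1 : A) : A ⧸ a.obj)) = 0 := by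
    have := congrArg (fun φ => φ.hom (Submodule.Quotient.mk (1 : A) : A ⧸ a.obj)) hg
    exact this
  refine ⟨a, g.hom (Submodule.Quotient.mk (1 : A) : A ⧸ a.obj), hm, hd, ?_⟩
  unfold clsL cocyc
  congr 3
  exact hglin.symm

lemma clsL_eq_zero_iff (a : Dual2.IdealsIn T) (x : L.X i) (hx : ∀ r ∈ a.obj, r • x = 0)
    (hd : (L.d i (i + 1)).hom x = 0) :
    clsL T a x hx hd = 0 ↔ x ∈ BT T L i := by
  rw [mem_BT]
  constructor
  · intro h
    unfold clsL at h
    rw [dMk_eq_zero_iff] at h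
    obtain ⟨c, hc, h0⟩ := h
    have h1 : ext1 (SJ c.obj) L i (cocyc c.obj x (fun r hr => hx r (hc hr)) hd) = 0 := by
      rw [← cocyc_precomp hc x hx hd, RHomKInj.ext1_precomp]
      exact h0
    rw [RHomKInj.ext1_eq_zero_iff_inj] at h1
    unfold cocyc at h1
    rw [Cocycle.fromSingleMk_mem_coboundaries_iff _ _ _ _ _ (i - 1) (by omega)] at h1
    obtain ⟨g, hg⟩ := h1
    obtain ⟨hm, hglin⟩ := eq_lin g
    refine ⟨g.hom (Submodule.Quotient.mk (1 : A) : A ⧸ c.obj), ⟨c.obj, c.property, hm⟩, ?_⟩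
    have := congrArg (fun φ => φ.hom (Submodule.Quotient.mk (1 : A) : A ⧸ c.obj)) hg
    simp only [ModuleCat.hom_comp, LinearMap.comp_apply] at this
    rw [this, lin_one]
  · rintro ⟨y, ⟨𝔟, h𝔟, hy⟩, hdy⟩
    let c : Dual2.IdealsIn T := idl T (a.obj ⊓ 𝔟) (zeroLocus_inf_subset a.property h𝔟)
    have hca : c.obj ≤ a.obj := inf_le_left
    have hcb : c.obj ≤ 𝔟 := inf_le_right
    rw [← clsL_res T hca x hx hd]
    unfold clsL
    have h1 : ext1 (SJ c.obj) L i (cocyc c.obj x (fun r hr => hx r (hca hr)) hd) = 0 := by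
      rw [RHomKInj.ext1_eq_zero_iff_inj]
      unfold cocyc
      rw [Cocycle.fromSingleMk_mem_coboundaries_iff _ _ _ _ _ (i - 1) (by omega)]
      refine ⟨lin c.obj y (fun r hr => hy r (hcb hr)), ?_⟩
      apply quotObj_hom_ext
      rw [ModuleCat.hom_comp, LinearMap.comp_apply, lin_one, lin_one, hdy]
    rw [h1]
    exact dMk_zero T _ c

/-- **annihilators of `H^i_T(Q L)` in terms of the complex `L`.** -/
theorem kills_iff (c : A) :
    (∀ y : HD0 T ((Q.obj L : Dual.D A)⟦i⟧), c • y = 0) ↔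
      ∀ x ∈ ZT T L i, c • x ∈ BT T L i := by
  constructor
  · intro h x hx
    rw [mem_ZT] at hx
    obtain ⟨⟨𝔞, h𝔞, hk⟩, hd⟩ := hx
    have h1 := h (clsL T (idl T 𝔞 h𝔞) x hk hd)
    rw [clsL_smul, clsL_eq_zero_iff] at h1
    exact h1
  · intro h y
    obtain ⟨a, x, hx, hd, rfl⟩ := clsL_surj T y
    rw [clsL_smul, clsL_eq_zero_iff]
    exact h x ((mem_ZT T L i x).mpr ⟨⟨a.obj, a.property, hx⟩, hd⟩)

end Groth.Agent.Lib.Helper60.CxModel
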