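import Groth.Agent.Lib.Helper60.CxLocB
import Groth.Agent.Lib.Helper60.CxModel

/-!
# Local cohomology of `K_p` at a minimal point of `Z`, on a model (helper60)

For a bounded below complex `L` of injective modules over a Noetherian ring `A`, `Z ⊆ Spec A`
stable under specialization and `p` a minimal point of `Z`:
`c` kills `HDI(A_p, pA_p, (Q L)_p, i)` iff for every `Z`-torsion cycle `x ∈ L^i` some
`s • c • x`, `s ∉ p`, is the boundary of a `Z`-torsion cochain.
-/

set_option autoImplicit false
set_option linter.unusedSectionVars false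
universe u
open CategoryTheory CategoryTheory.Limits DerivedCategory
attribute [local instance] HasDerivedCategory.standard

namespace Groth.Agent.Lib.Helper60.CxLocC

open Groth.Agent.Lib.Helper60.HTLoc Groth.Agent.Lib.Helper60.CxLocA
  Groth.Agent.Lib.Helper60.CxLocB Groth.Agent.Lib.Helper60.CxModel
  Groth.Agent.Lib.Helper47.HTLib

variable {A : Type u} [CommRing A] [IsNoetherianRing A]

section KInj

variable (S : Submonoid A) (L : DRing.Cx A)

lemma injective_locCx_X (hinj : ∀ k : ℤ, Injective (L.X k)) (k : ℤ) :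
    Injective ((locCx S L).X k) := by
  have h0 : Injective (ModuleCat.of A (L.X k)) := hinj k
  have hE : Module.Injective A (L.X k) := Module.injective_module_of_injective_object A (L.X k)
  have hE' : Module.Injective (Localization S) (LocalizedModule S (L.X k)) :=
    Module.injective_of_isLocalizedModule S (LocalizedModule.mkLinearMap S (L.X k))
  exact Module.injective_object_of_injective_module (Localization S)
    (LocalizedModule S (L.X k))

lemma isStrictlyGE_locCx (a₀ : ℤ) [L.IsStrictlyGE a₀] : (locCx S L).IsStrictlyGE a₀ := by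
  rw [CochainComplex.isStrictlyGE_iff]
  intro k hk
  exact (locF S).map_isZero (CochainComplex.isZero_of_isStrictlyGE L a₀ k hk)

lemma isKInjective_locCx (hinj : ∀ k : ℤ, Injective (L.X k)) (a₀ : ℤ) [L.IsStrictlyGE a₀] :
    (locCx S L).IsKInjective := by
  have := isStrictlyGE_locCx S L a₀
  have : ∀ k : ℤ, Injective ((locCx S L).X k) := injective_locCx_X S L hinj
  exact CochainComplex.isKInjective_of_injective (locCx S L) a₀

end KInj

section Main

variable {Z : Set (PrimeSpectrum A)} (hZ : StableUnderSpecialization Z) {p : PrimeSpectrum A}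
  (hp : p ∈ Z) (hmin : ∀ q ∈ Z, q ≤ p → q = p)
  (L : DRing.Cx A)

include hZ hp hmin in
/-- the elementwise local statement is equivalent to the elementwise global statement. -/
lemma local_iff_global (i : ℤ) (c : A) :
    (∀ z : LocalizedModule p.asIdeal.primeCompl (L.X i),
      z ∈ DRing.torsionSub (IsLocalRing.maximalIdeal (Localization.AtPrime p.asIdeal))
        (LocalizedModule p.asIdeal.primeCompl (L.X i)) →
      LocalizedModule.map p.asIdeal.primeCompl (L.d i (i + 1)).hom z = 0 →
      ∃ w : LocalizedModule p.asIdeal.primeCompl (L.X (i - 1)),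
        w ∈ DRing.torsionSub (IsLocalRing.maximalIdeal (Localization.AtPrime p.asIdeal))
          (LocalizedModule p.asIdeal.primeCompl (L.X (i - 1))) ∧
        LocalizedModule.map p.asIdeal.primeCompl (L.d (i - 1) i).hom w =
          algebraMap A (Localization.AtPrime p.asIdeal) c • z) ↔
    ∀ x ∈ ZT Z L i, ∃ s ∈ p.asIdeal.primeCompl, s • c • x ∈ BT Z L i := by
  constructor
  · intro h x hx
    rw [mem_ZT] at hx
    obtain ⟨hxt, hxd⟩ := hx
    have hz1 := mk_mem_torsionSub_of_mem_torsT (L.X i) hmin x hxt 1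
    have hz2 : LocalizedModule.map p.asIdeal.primeCompl (L.d i (i + 1)).hom
        (LocalizedModule.mk x 1) = 0 := by
      rw [LocalizedModule.map_mk, hxd, LocalizedModule.zero_mk]
    obtain ⟨w, hw, hdw⟩ := h _ hz1 hz2
    obtain ⟨y, hy, t, rfl⟩ := exists_mem_torsT_of_mem_torsionSub (L.X (i - 1)) hZ hp w hw
    rw [LocalizedModule.map_mk, algebraMap_smul, LocalizedModule.smul'_mk,
      LocalizedModule.mk_eq] at hdw
    obtain ⟨u, hu⟩ := hdw
    rw [one_smul] at hu
    refine ⟨u * t, (u * t).2, ?_⟩
    rw [mem_BT]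
    refine ⟨(u : A) • y, Submodule.smul_mem _ _ hy, ?_⟩
    rw [map_smul]
    rw [mul_smul]
    exact hu
  · intro h z hz hd
    obtain ⟨x, hx, t, rfl⟩ := exists_mem_torsT_of_mem_torsionSub (L.X i) hZ hp z hz
    rw [LocalizedModule.map_mk, ← LocalizedModule.zero_mk t, LocalizedModule.mk_eq] at hd
    obtain ⟨u, hu⟩ := hd
    rw [smul_zero, smul_zero] at hu
    have hu' : (L.d i (i + 1)).hom (((u * t : p.asIdeal.primeCompl) : A) • x) = 0 := by
      rw [map_smul, Submonoid.coe_mul, mul_smul]
      exact hu
    have hx' : ((u * t : p.asIdeal.primeCompl) : A) • x ∈ ZT Z L i :=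
      (mem_ZT Z L i _).mpr ⟨Submodule.smul_mem _ _ hx, hu'⟩
    obtain ⟨s, hs, hsB⟩ := h _ hx'
    rw [mem_BT] at hsB
    obtain ⟨y, hy, hdy⟩ := hsB
    refine ⟨LocalizedModule.mk y (⟨s, hs⟩ * (u * t) * t),
      mk_mem_torsionSub_of_mem_torsT (L.X (i - 1)) hmin y hy _, ?_⟩
    rw [LocalizedModule.map_mk, hdy, algebraMap_smul, LocalizedModule.smul'_mk]
    have h4 : s • c • ((u * t : p.asIdeal.primeCompl) : A) • x =
        ((⟨s, hs⟩ * (u * t) : p.asIdeal.primeCompl)) • (c • x) := by
      simp only [Submonoid.smul_def, Submonoid.coe_mul, ← mul_smul]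
      congr 1
      ring
    rw [h4]
    exact LocalizedModule.mk_cancel_common_left _ t (c • x)

variable [∀ q : PrimeSpectrum A,
  DRing.HasLBaseChange (algebraMap A (Localization.AtPrime q.asIdeal))]

include hZ hp hmin in
/-- **local cohomology of `(Q L)_p` versus `Z`-torsion cocycles of `L`.** -/
theorem hdi_loc_kills_iff (hinj : ∀ k : ℤ, Injective (L.X k)) (a₀ : ℤ) [L.IsStrictlyGE a₀]
    (i : ℤ) (c : A) :
    (∀ y : Dual2.HDI (Localization.AtPrime p.asIdeal)
        (IsLocalRing.maximalIdeal (Localization.AtPrime p.asIdeal))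
        ((DRing.LBaseChange (algebraMap A (Localization.AtPrime p.asIdeal))).obj (Q.obj L)) i,
      algebraMap A (Localization.AtPrime p.asIdeal) c • y = 0) ↔
    ∀ x ∈ ZT Z L i, ∃ s ∈ p.asIdeal.primeCompl, s • c • x ∈ BT Z L i := by
  have hNB : IsNoetherianRing (Localization.AtPrime p.asIdeal) :=
    IsLocalization.isNoetherianRing p.asIdeal.primeCompl _ inferInstance
  have hK : (locCx p.asIdeal.primeCompl L).IsKInjective :=
    isKInjective_locCx p.asIdeal.primeCompl L hinj a₀
  rw [hdi_kills_iff (IsLocalRing.maximalIdeal (Localization.AtPrime p.asIdeal))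
    ((isNoetherianRing_iff_ideal_fg _).mp hNB _) (locCx p.asIdeal.primeCompl L) _
    (lbcQIso p.asIdeal.primeCompl L) i]
  exact local_iff_global hZ hp hmin L i c

end Main

end Groth.Agent.Lib.Helper60.CxLocC
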