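import Groth.Agent.Lib.Helper60.CxCousin
import Groth.Agent.Lib.Helper60.CxLocB
import Groth.Agent.Lib.Helper47.HDTTrunc
import Groth.Agent.Lib.Helper35.TwoTerm

/-!
# Annihilators of `H^i_Z(K)` from annihilators of `H^i_T(K)`, `Z ⊆ T`, for complexes (helper60)
-/

set_option autoImplicit false
set_option linter.unusedSectionVars false
universe u
open CategoryTheory CategoryTheory.Limits DerivedCategory DerivedCategory.TStructure Pretriangulated
attribute [local instance] HasDerivedCategory.standard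

namespace Groth.Agent.Lib.Helper60.CxSubset

open Groth.Agent.Lib.Helper47.HDTLib Groth.Agent.Lib.Helper47.HTLib Groth.Agent.Lib.Helper60.CxModel
  Groth.Agent.Lib.Helper60.CxCousin Groth.Agent.Lib.Helper35 Groth.Agent.Lib.Helper35.KL

variable {A : Type u} [CommRing A]

section Derived

variable (Z : Set (PrimeSpectrum A)) (J : Ideal A)

/-- an object concentrated in one degree is killed by the annihilator of its cohomology. -/
lemma smul_id_eq_zero (W : Dual.D A) (a₀ : ℤ) [W.IsGE a₀] [W.IsLE a₀] (c : A)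
    (h : ∀ x : Hm W a₀, c • x = 0) : c • 𝟙 W = 0 := by
  obtain ⟨Y, ⟨e⟩⟩ := exists_iso_singleFunctor_obj_of_isGE_of_isLE W a₀
  let ε : Y ≃ₗ[A] Hm W a₀ :=
    (((singleFunctorCompHomologyFunctorIso (ModuleCat.{u} A) a₀).app Y).symm ≪≫
      (homologyFunctor (ModuleCat.{u} A) a₀).mapIso e.symm).toLinearEquiv
  have hY : c • 𝟙 Y = 0 := by
    apply ModuleCat.hom_ext
    apply LinearMap.ext
    intro y
    change c • y = 0
    apply ε.injective
    rw [map_smul, h, map_zero]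
  have h1 : c • 𝟙 W = e.hom ≫ (singleFunctor (ModuleCat.{u} A) a₀).map (c • 𝟙 Y) ≫ e.inv := by
    rw [Functor.map_smul, CategoryTheory.Functor.map_id, Linear.smul_comp, Linear.comp_smul,
      Category.id_comp, e.hom_inv_id]
  rw [h1, hY, Functor.map_zero, zero_comp, comp_zero]

lemma kills_of_smul_id_eq_zero (W : Dual.D A) (c : A) (h : c • 𝟙 W = 0) (i : ℤ)
    (y : HD0 Z (W⟦i⟧)) : c • y = 0 := by
  have h1 : c • 𝟙 (W⟦i⟧) = 0 := by
    have : c • 𝟙 (W⟦i⟧) = (shiftFunctor (Dual.D A) i).map (c • 𝟙 W) := by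
      rw [Functor.map_smul, CategoryTheory.Functor.map_id]
    rw [this, h, Functor.map_zero]
  rw [← dMap_smul_id_apply Z (W⟦i⟧) c y, h1, dMap_zero_apply]

/-- **dévissage**: if `J` kills `H^j(X)` for `j ≤ s` and `X ∈ D^{≥ a₀}`, then `J^N` kills
`H^i_Z(X)` for `i ≤ s`, where `s < a₀ + N`. -/
theorem kills_hd0_of_kills_homology : ∀ (N : ℕ) (a₀ s : ℤ) (X : Dual.D A) [X.IsGE a₀],
    s < a₀ + N → (∀ j : ℤ, j ≤ s → ∀ c ∈ J, ∀ h : Hm X j, c • h = 0) →
    ∀ i : ℤ, i ≤ s → ∀ c ∈ J ^ N, ∀ y : HD0 Z (X⟦i⟧), c • y = 0 := by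
  intro N
  induction N with
  | zero =>
    intro a₀ s X _ hs _ i hi c _ y
    have h1 : (X⟦i⟧).IsGE (a₀ - i) := t.isGE_shift X a₀ i (a₀ - i) (by omega)
    have h2 : (X⟦i⟧).IsGE 1 := t.isGE_of_ge _ 1 (a₀ - i) (by
      simp only [Nat.cast_zero, add_zero] at hs
      omega)
    have := d_subsingleton_of_isGE Z (X⟦i⟧)
    exact Subsingleton.elim _ _
  | succ N ih =>
    intro a₀ s X _ hs hJ i hi c hc y
    have hd := t.triangleLTGE_distinguished (a₀ + 1) X
    set W := (t.truncLT (a₀ + 1)).obj X with hW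
    set X' := (t.truncGE (a₀ + 1)).obj X with hX'
    have hWle : W.IsLE a₀ := t.isLE_truncLT_obj X (a₀ + 1) a₀ (by omega)
    have hWge : W.IsGE a₀ := inferInstance
    have hX'ge : X'.IsGE (a₀ + 1) := inferInstance
    -- `J` kills `H^j(X')`, `j ≤ s`
    have hJ' : ∀ j : ℤ, j ≤ s → ∀ c ∈ J, ∀ h : Hm X' j, c • h = 0 := by
      intro j hj c hc h
      by_cases hja : a₀ + 1 ≤ j
      · have := isIso_homology_map_truncGEπ' X (a₀ + 1) j hja
        let ε := (asIso ((homologyFunctor (ModuleCat.{u} A) j).map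
          ((t.truncGEπ (a₀ + 1)).app X))).toLinearEquiv
        obtain ⟨h', rfl⟩ := ε.surjective h
        rw [← map_smul, hJ j hj c hc h', map_zero]
      · have hz : IsZero (Hm X' j) := isZero_of_isGE X' (a₀ + 1) j (by omega)
        have := ModuleCat.subsingleton_of_isZero hz
        exact Subsingleton.elim _ _
    -- `J` kills `H^i_Z(W)`
    have hJW : ∀ c ∈ J, ∀ y : HD0 Z (W⟦i⟧), c • y = 0 := by
      intro c hc y
      by_cases ha : a₀ ≤ s
      swap
      · have h1 : (W⟦i⟧).IsGE (a₀ - i) := t.isGE_shift W a₀ i (a₀ - i) (by omega)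
        have h2 : (W⟦i⟧).IsGE 1 := t.isGE_of_ge _ 1 (a₀ - i) (by omega)
        have := d_subsingleton_of_isGE Z (W⟦i⟧)
        exact Subsingleton.elim _ _
      refine kills_of_smul_id_eq_zero Z W c (smul_id_eq_zero W a₀ c ?_) i y
      intro x
      have := isIso_homology_map_truncLTι' X (a₀ + 1) a₀ (by omega)
      let ε := (asIso ((homologyFunctor (ModuleCat.{u} A) a₀).map
        ((t.truncLTι (a₀ + 1)).app X))).toLinearEquiv
      apply ε.injective
      rw [map_smul, hJ a₀ ha c hc, map_zero]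
    rw [pow_succ] at hc
    refine Submodule.mul_induction_on hc ?_ ?_
    · intro c₁ hc₁ c₂ hc₂
      have hs' : s < (a₀ + 1) + (N : ℤ) := by
        push_cast at hs
        omega
      have h1 := ih (a₀ + 1) s X' hs' hJ' i hi c₁ hc₁
        ((dMap Z (((t.truncGEπ (a₀ + 1)).app X)⟦i⟧')).hom y)
      have h2 : (dMap Z (((t.truncGEπ (a₀ + 1)).app X)⟦i⟧')).hom (c₁ • y) = 0 := by
        rw [map_smul]
        exact h1
      have hex : ∃ w : HD0 Z (W⟦i⟧),
          (dMap Z (((t.truncLTι (a₀ + 1)).app X)⟦i⟧')).hom w = c₁ • y :=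
        d_exact_shift Z _ hd i (c₁ • y) h2
      obtain ⟨w, hw⟩ := hex
      rw [mul_comm, mul_smul, ← hw, ← map_smul, hJW c₂ hc₂ w, map_zero]
    · intro c₁ c₂ h₁ h₂
      rw [add_smul, h₁, h₂, add_zero]

end Derived

section Model

variable [IsNoetherianRing A] (T : Set (PrimeSpectrum A))

/-- `Γ_T` as a functor. -/
def gammaT : ModuleCat.{u} A ⥤ ModuleCat.{u} A where
  obj M := ModuleCat.of A (torsT T M)
  map {M N} f := ModuleCat.ofHom (f.hom.restrict fun _ hm => map_mem_torsT' T f.hom hm)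

instance : (gammaT T).Additive where
  map_add := by intros; rfl

/-- `Γ_T` applied termwise to a complex. -/
noncomputable abbrev GamT (L : DRing.Cx A) : DRing.Cx A :=
  ((gammaT T).mapHomologicalComplex (ComplexShape.up ℤ)).obj L

variable (L : DRing.Cx A)

lemma injective_GamT_X (hinj : ∀ k : ℤ, Injective (L.X k)) (k : ℤ) :
    Injective ((GamT T L).X k) := by
  have h0 : Injective (ModuleCat.of A (L.X k)) := hinj k
  have hE : Module.Injective A (L.X k) := Module.injective_module_of_injective_object A (L.X k)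
  have hE' : Module.Injective A (torsT T (L.X k)) := injective_torsT T (L.X k)
  exact Module.injective_object_of_injective_module A (torsT T (L.X k))

lemma isStrictlyGE_GamT (a₀ : ℤ) [L.IsStrictlyGE a₀] : (GamT T L).IsStrictlyGE a₀ := by
  rw [CochainComplex.isStrictlyGE_iff]
  intro k hk
  exact (gammaT T).map_isZero (CochainComplex.isZero_of_isStrictlyGE L a₀ k hk)

lemma isKInjective_GamT (hinj : ∀ k : ℤ, Injective (L.X k)) (a₀ : ℤ) [L.IsStrictlyGE a₀] :
    (GamT T L).IsKInjective := by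
  have := isStrictlyGE_GamT T L a₀
  have : ∀ k : ℤ, Injective ((GamT T L).X k) := injective_GamT_X T L hinj
  exact CochainComplex.isKInjective_of_injective (GamT T L) a₀

/-- **`Γ_Z = Γ_Z ∘ Γ_T` for complexes, annihilator form.** -/
theorem kills_of_subset {Z T : Set (PrimeSpectrum A)} (hZT : Z ⊆ T) (J : Ideal A)
    (hinj : ∀ k : ℤ, Injective (L.X k)) (a₀ : ℤ) [L.IsStrictlyGE a₀] (s : ℤ)
    (h : ∀ b : ℤ, b ≤ s → ∀ c ∈ J, ∀ x ∈ ZT T L b, c • x ∈ BT T L b) :
    ∃ N : ℕ, ∀ i : ℤ, i ≤ s → ∀ c ∈ J ^ N, ∀ x ∈ ZT Z L i, c • x ∈ BT Z L i := by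
  refine ⟨(s - a₀ + 1).toNat, fun i hi c hc x hx => ?_⟩
  have hK : (GamT T L).IsKInjective := isKInjective_GamT T L hinj a₀
  have hGE : (GamT T L).IsStrictlyGE a₀ := isStrictlyGE_GamT T L a₀
  have hXGE : (Q.obj (GamT T L) : Dual.D A).IsGE a₀ := inferInstance
  have hJ : ∀ j : ℤ, j ≤ s → ∀ c ∈ J, ∀ y : Hm (Q.obj (GamT T L) : Dual.D A) j, c • y = 0 := by
    intro j hj c hc
    let ε : Hm (Q.obj (GamT T L) : Dual.D A) j ≃ₗ[A] (GamT T L).homology j :=
      ((DerivedCategory.homologyFunctorFactors (ModuleCat.{u} A) j).app (GamT T L)).toLinearEquiv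
    have h1 : ∀ y : (GamT T L).homology j, c • y = 0 := by
      rw [CxLocB.kills_homology_iff]
      rintro ⟨z, hz⟩ hd
      have hzZ : z ∈ ZT T L j := (mem_ZT T L j z).mpr ⟨hz, congrArg Subtype.val hd⟩
      have h2 := h j hj c hc z hzZ
      rw [mem_BT] at h2
      obtain ⟨w, hw, hdw⟩ := h2
      exact ⟨⟨w, hw⟩, Subtype.ext hdw⟩
    intro y
    apply ε.injective
    rw [map_smul, h1, map_zero]
  have hs : s < a₀ + ((s - a₀ + 1).toNat : ℤ) := by omega
  have h3 := kills_hd0_of_kills_homology Z J (s - a₀ + 1).toNat a₀ s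
    (Q.obj (GamT T L) : Dual.D A) hs hJ i hi c hc
  rw [CxModel.kills_iff] at h3
  rw [mem_ZT] at hx
  obtain ⟨⟨𝔞, h𝔞, hk⟩, hd⟩ := hx
  have hxT : x ∈ torsT T (L.X i) := ⟨𝔞, h𝔞.trans hZT, hk⟩
  let x' : (GamT T L).X i := ⟨x, hxT⟩
  have hx' : x' ∈ ZT Z (GamT T L) i :=
    (mem_ZT Z (GamT T L) i x').mpr
      ⟨⟨𝔞, h𝔞, fun a ha => Subtype.ext (hk a ha)⟩, Subtype.ext hd⟩
  have h4 := (mem_BT Z (GamT T L) i _).mp (h3 x' hx')
  obtain ⟨w, ⟨𝔟, h𝔟, hkw⟩, hdw⟩ := h4
  exact (mem_BT Z L i _).mpr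
    ⟨w.1, ⟨𝔟, h𝔟, fun a ha => congrArg Subtype.val (hkw a ha)⟩, congrArg Subtype.val hdw⟩

end Model

end Groth.Agent.Lib.Helper60.CxSubset
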