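import Groth.Agent.Lib.Helper6.RestrLin2

/-!
# The dimension function of `RHom_A(B, ω)` for a surjection `A → B` (helper60)

Semilinear adjunction bijection `Hom_B(N[0], R(K)[i]) ≃ Hom_A(N_A[0], K[i])` for an arbitrary
`B`-module `N` (generalizing helper6's `RestrLin.exists_semilinear_addEquiv`), and transfer of
"localization is nonzero" along semilinear bijections for surjective ring maps.
-/

set_option autoImplicit false
set_option linter.unusedSectionVars false
set_option linter.style.haveILetI false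
universe u
open CategoryTheory CategoryTheory.Limits DerivedCategory Pretriangulated
attribute [local instance] HasDerivedCategory.standard

namespace Groth.Agent.Lib.Helper60.DeltaSurj

open Groth.Agent.Lib.Helper6 Groth.Agent.Lib.Helper6.RestrLin

variable {A B : Type u} [CommRing A] [CommRing B] (φ : A →+* B)
  {R : Dual.D A ⥤ Dual.D B} (adj : DRing.restrictD φ ⊣ R)

/-- `restrictD φ (N[0]) ≅ (N as an A-module)[0]`. -/
noncomputable def restrictDSingleIso' (N : ModuleCat.{u} B) :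
    (DRing.restrictD φ).obj ((singleFunctor (ModuleCat.{u} B) 0).obj N) ≅
      (singleFunctor (ModuleCat.{u} A) 0).obj ((ModuleCat.restrictScalars φ).obj N) :=
  ((ModuleCat.restrictScalars φ).mapDerivedCategorySingleFunctor 0).app N

include adj in
/-- the semilinear adjunction bijection `Hom(N[0], R(K)[i]) ≃ Hom(restr N[0], K[i])`. -/
lemma exists_semilinear_addEquiv' (N : ModuleCat.{u} B) (K : Dual.D A) (i : ℤ) :
    ∃ θ : ((singleFunctor (ModuleCat.{u} B) 0).obj N ⟶ (R.obj K)⟦i⟧) ≃+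
        ((singleFunctor (ModuleCat.{u} A) 0).obj ((ModuleCat.restrictScalars φ).obj N) ⟶ K⟦i⟧),
      ∀ (a : A) (f : (singleFunctor (ModuleCat.{u} B) 0).obj N ⟶ (R.obj K)⟦i⟧),
        θ (φ a • f) = a • θ f := by
  letI := adj.rightAdjointCommShift ℤ
  let c : R.obj (K⟦i⟧) ≅ (R.obj K)⟦i⟧ := (R.commShiftIso i).app K
  let e1 := restrictDSingleIso' φ N
  let S := (singleFunctor (ModuleCat.{u} B) 0).obj N
  let θ1 : (S ⟶ (R.obj K)⟦i⟧) ≃+ (S ⟶ R.obj (K⟦i⟧)) :=
    (Linear.homCongr B (Iso.refl S) c.symm).toAddEquiv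
  let θ2 : (S ⟶ R.obj (K⟦i⟧)) ≃+ ((DRing.restrictD φ).obj S ⟶ K⟦i⟧) :=
    (adj.homAddEquiv S (K⟦i⟧)).symm
  let θ3 : ((DRing.restrictD φ).obj S ⟶ K⟦i⟧) ≃+
      ((singleFunctor (ModuleCat.{u} A) 0).obj ((ModuleCat.restrictScalars φ).obj N) ⟶ K⟦i⟧) :=
    (Linear.homCongr A e1 (Iso.refl (K⟦i⟧))).toAddEquiv
  refine ⟨(θ1.trans θ2).trans θ3, ?_⟩
  intro a f
  have h1 : θ1 (φ a • f) = φ a • θ1 f :=
    (Linear.homCongr B (Iso.refl S) c.symm).map_smul _ _
  have h2 : θ2 (φ a • θ1 f) = a • θ2 (θ1 f) := homEquiv_symm_smul adj _ _ a (θ1 f)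
  have h3 : θ3 (a • θ2 (θ1 f)) = a • θ3 (θ2 (θ1 f)) :=
    (Linear.homCongr A e1 (Iso.refl (K⟦i⟧))).map_smul _ _
  simp only [AddEquiv.trans_apply]
  rw [h1, h2, h3]

/-- transfer of "the localization vanishes" along a semilinear bijection, for a surjective ring map. -/
lemma subsingleton_localizedModule_iff (hφ : Function.Surjective φ)
    {EA : Type*} {EB : Type*} [AddCommGroup EA] [Module A EA] [AddCommGroup EB] [Module B EB]
    (θ : EB ≃+ EA) (h : ∀ (a : A) (f : EB), θ (φ a • f) = a • θ f)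
    (q : Ideal B) [q.IsPrime] :
    Subsingleton (LocalizedModule q.primeCompl EB) ↔
      Subsingleton (LocalizedModule (q.comap φ).primeCompl EA) := by
  rw [LocalizedModule.subsingleton_iff, LocalizedModule.subsingleton_iff]
  constructor
  · intro H y
    obtain ⟨s, hs, hsx⟩ := H (θ.symm y)
    obtain ⟨a, rfl⟩ := hφ s
    refine ⟨a, fun ha => hs ha, ?_⟩
    have := h a (θ.symm y)
    rw [hsx, map_zero, AddEquiv.apply_symm_apply] at this
    exact this.symm
  · intro H x
    obtain ⟨a, ha, hax⟩ := H (θ x)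
    refine ⟨φ a, fun h' => ha h', ?_⟩
    apply θ.injective
    rw [h a x, hax, map_zero]

/-- `A/φ⁻¹(q) ≃ B/q` as `A`-modules, for surjective `φ`. -/
noncomputable def quotEquiv (hφ : Function.Surjective φ) (q : Ideal B) :
    (A ⧸ q.comap φ) ≃ₗ[A] ((ModuleCat.restrictScalars φ).obj (ModuleCat.of B (B ⧸ q))) := by
  let g : A →ₗ[A] ((ModuleCat.restrictScalars φ).obj (ModuleCat.of B (B ⧸ q))) :=
    { toFun := fun a => (Ideal.Quotient.mk q (φ a) : B ⧸ q)
      map_add' := fun a b => by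
        simp only [map_add]
        rfl
      map_smul' := fun a b => by
        simp only [smul_eq_mul, map_mul, RingHom.id_apply]
        rfl }
  have hker : LinearMap.ker g = q.comap φ := by
    ext x
    simp only [LinearMap.mem_ker, Ideal.mem_comap]
    exact Ideal.Quotient.eq_zero_iff_mem
  have hsurj : Function.Surjective g := by
    intro y
    obtain ⟨b, rfl⟩ := Ideal.Quotient.mk_surjective (I := q) y
    obtain ⟨a, rfl⟩ := hφ b
    exact ⟨a, rfl⟩
  exact (Submodule.quotEquivOfEq _ _ hker.symm).trans (g.quotKerEquivOfSurjective hsurj)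

include adj in
/-- **`δ_{R(ω)} = δ_ω` on `Spec B`** for a surjection `A → B`. -/
theorem nontrivial_localizedModule_iff (hφ : Function.Surjective φ) (ω : Dual.D A)
    (q : Ideal B) [q.IsPrime] (i : ℤ) :
    Nontrivial (LocalizedModule q.primeCompl (Dual.inD B (B ⧸ q) ⟶ (R.obj ω)⟦i⟧)) ↔
      Nontrivial (LocalizedModule (q.comap φ).primeCompl
        (Dual.inD A (A ⧸ q.comap φ) ⟶ ω⟦i⟧)) := by
  obtain ⟨θ, hθ⟩ := exists_semilinear_addEquiv' φ adj (ModuleCat.of B (B ⧸ q)) ω i
  let ι : Dual.inD A (A ⧸ q.comap φ) ≅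
      (singleFunctor (ModuleCat.{u} A) 0).obj
        ((ModuleCat.restrictScalars φ).obj (ModuleCat.of B (B ⧸ q))) :=
    (singleFunctor (ModuleCat.{u} A) 0).mapIso (quotEquiv φ hφ q).toModuleIso
  let θ4 : ((singleFunctor (ModuleCat.{u} A) 0).obj
        ((ModuleCat.restrictScalars φ).obj (ModuleCat.of B (B ⧸ q))) ⟶ ω⟦i⟧) ≃+
      (Dual.inD A (A ⧸ q.comap φ) ⟶ ω⟦i⟧) :=
    (Linear.homCongr A ι.symm (Iso.refl (ω⟦i⟧))).toAddEquiv
  have h4 : ∀ (a : A) (f : (singleFunctor (ModuleCat.{u} A) 0).obj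
        ((ModuleCat.restrictScalars φ).obj (ModuleCat.of B (B ⧸ q))) ⟶ ω⟦i⟧),
      θ4 (a • f) = a • θ4 f := fun a f =>
    (Linear.homCongr A ι.symm (Iso.refl (ω⟦i⟧))).map_smul a f
  have key := subsingleton_localizedModule_iff φ hφ (θ.trans θ4)
    (fun a f => by
      simp only [AddEquiv.trans_apply]
      rw [hθ a f, h4]) q
  rw [← not_subsingleton_iff_nontrivial, ← not_subsingleton_iff_nontrivial]
  exact not_congr key

end Groth.Agent.Lib.Helper60.DeltaSurj
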