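import Groth.Agent.Lib.Helper60.HTProZero

/-!
# Exactness of the Cousin sequence at `H^i_{T'}` (helper60)

`T' ⊆ T ⊆ Spec R` stable under specialization, `R` Noetherian, every point of `T ∖ T'` minimal
in `T`.  The four term sequence
`⊕_p H^{i-1}_T(M)_p → H^i_{T'}(M) → H^i_T(M) → ⊕_p H^i_T(M)_p` is exact; we prove exactness at
`H^i_{T'}(M)` in the form needed for inverse systems: if `f : M → M'` induces zero on all
`H^{i-1}_T(-)_p`, `p ∈ T ∖ T'`, then `H^i_{T'}(f)` kills the kernel of `H^i_{T'}(M) → H^i_T(M)`.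
-/

set_option autoImplicit false
set_option linter.unusedSectionVars false
universe u
open CategoryTheory CategoryTheory.Limits Opposite Abelian

namespace Groth.Agent.Lib.Helper60.HTFour

open Groth.Agent.Lib.Helper60 Groth.Agent.Lib.Helper47.HTLib localCohomology
  Groth.Agent.Lib.Helper60.HTDelta Groth.Agent.Lib.Helper60.HTLoc
  Groth.Agent.Lib.Helper60.HTCousin

variable {R : Type u} [CommRing R]

section ses

/-- the short exact sequence `0 → N → E(N) → E(N)/N → 0`. -/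
noncomputable abbrev sesInj (N : ModuleCat.{u} R) : ShortComplex (ModuleCat.{u} R) :=
  ShortComplex.mk (Injective.ι N) (cokernel.π (Injective.ι N)) (cokernel.condition _)

lemma sesInj_shortExact (N : ModuleCat.{u} R) : (sesInj N).ShortExact where
  exact := ShortComplex.exact_of_g_is_cokernel _ (cokernelIsCokernel _)
  mono_f := Injective.ι_mono N
  epi_g := inferInstanceAs (Epi (cokernel.π (Injective.ι N)))

instance sesInj_injective (N : ModuleCat.{u} R) : Injective (sesInj N).X₂ :=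
  inferInstanceAs (Injective (Injective.under N))

/-- the morphism of short exact sequences extending `f`. -/
noncomputable def sesInjMap {N N' : ModuleCat.{u} R} (f : N ⟶ N') : sesInj N ⟶ sesInj N' :=
  ShortComplex.homMk f (Injective.factorThru (f ≫ Injective.ι N') (Injective.ι N))
    (cokernel.map _ _ f (Injective.factorThru (f ≫ Injective.ι N') (Injective.ι N))
      (Injective.comp_factorThru _ _))
    (Injective.comp_factorThru _ _).symm (by simp [sesInj])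

@[simp] lemma sesInjMap_τ₁ {N N' : ModuleCat.{u} R} (f : N ⟶ N') : (sesInjMap f).τ₁ = f := rfl

end ses

section Main

variable [IsNoetherianRing R] (T T' : Set (PrimeSpectrum R))

/-- the generalized local vanishing hypothesis. -/
def Gen (j : ℕ) {N N' E' : ModuleCat.{u} R} (f : N ⟶ N') (g' : E' ⟶ N') : Prop :=
  ∀ y : (HTf T j).obj N, ∀ p : PrimeSpectrum R, p ∈ T → p ∉ T' →
    ∃ s ∈ p.asIdeal.primeCompl, ∃ ε : (HTf T j).obj E',
      s • ((HTf T j).map f).hom y = ((HTf T j).map g').hom ε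

/-- `H^j_T(f)` is zero after localizing at each point of `T ∖ T'`. -/
def LocZero (j : ℕ) {N N' : ModuleCat.{u} R} (f : N ⟶ N') : Prop :=
  ∀ p : PrimeSpectrum R, p ∈ T → p ∉ T' → ∀ y : (HTf T j).obj N,
    ((HTf T j).map f).hom y ∈ locKer p.asIdeal.primeCompl ((HTf T j).obj N')

variable {T T'}

lemma gen_of_locZero (j : ℕ) {N N' : ModuleCat.{u} R} (f : N ⟶ N') (hf : LocZero T T' j f)
    {E' : ModuleCat.{u} R} (g' : E' ⟶ N') : Gen T T' j f g' := by
  intro y p hp hp'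
  obtain ⟨s, hs, h0⟩ := mem_locKer.mp (hf p hp hp' y)
  exact ⟨s, hs, 0, by rw [h0, map_zero]⟩

lemma exists_smul_eq_zero_of_mem_torsT {N : Type u} [AddCommGroup N] [Module R N] {x : N}
    (hx : x ∈ torsT T' N) {p : PrimeSpectrum R} (hp' : p ∉ T') :
    ∃ s ∈ p.asIdeal.primeCompl, s • x = 0 := by
  obtain ⟨𝔞, h𝔞, hk⟩ := hx
  have : ¬ (𝔞 : Set R) ⊆ p.asIdeal := fun hle =>
    hp' (h𝔞 ((PrimeSpectrum.mem_zeroLocus _ _).mpr hle))
  obtain ⟨s, hs𝔞, hsp⟩ := Set.not_subset.mp this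
  exact ⟨s, hsp, hk s hs𝔞⟩

lemma map_mem_torsT {N N' : Type u} [AddCommGroup N] [Module R N] [AddCommGroup N'] [Module R N']
    (g : N →ₗ[R] N') {x : N} (hx : x ∈ torsT T N) : g x ∈ torsT T N' := by
  obtain ⟨𝔞, h𝔞, hk⟩ := hx
  exact ⟨𝔞, h𝔞, fun a ha => by rw [← map_smul, hk a ha, map_zero]⟩

lemma mem_torsT_of_map_injective {N N' : Type u} [AddCommGroup N] [Module R N] [AddCommGroup N']
    [Module R N'] (g : N →ₗ[R] N') (hg : Function.Injective g) {x : N}
    (hx : g x ∈ torsT T N') : x ∈ torsT T N := by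
  obtain ⟨𝔞, h𝔞, hk⟩ := hx
  exact ⟨𝔞, h𝔞, fun a ha => hg (by rw [map_smul, hk a ha, map_zero])⟩

variable (hT : StableUnderSpecialization T) (hTT' : T' ⊆ T)
  (hmin : ∀ p ∈ T, p ∉ T' → ∀ q ∈ T, q ≤ p → q = p)

include hT hmin in
/-- the base case (degree one) under the weak hypothesis. -/
lemma claim_zero {S S' : ShortComplex (ModuleCat.{u} R)} (hS : S.ShortExact)
    (hS' : S'.ShortExact) [Injective S.X₂] [Injective S'.X₂] (φ : S ⟶ S')
    {E' : ModuleCat.{u} R} [Injective E'] (g' : E' ⟶ S'.X₁)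
    (hgen : Gen T T' 0 φ.τ₁ g') (n : (HTf T' 1).obj S.X₁)
    (hn : tIncl hTT' 1 S.X₁ n = 0) : ((HTf T' 1).map φ.τ₁).hom n = 0 := by
  have hsub : Subsingleton ((HTf T' 1).obj S.X₂) := t_subsingleton_of_injective T' _ 1 one_pos
  obtain ⟨n₂, rfl⟩ := t_exact₁ T' hS 0 n (@Subsingleton.elim _ hsub _ _)
  rw [tIncl_tDelta] at hn
  obtain ⟨ε, hε⟩ := t_exact₃ T hS 0 _ hn
  have hEm : Module.Injective R E' := Module.injective_module_of_injective_object R E'
  have hfinj : Function.Injective S.f.hom := (ModuleCat.mono_iff_injective S.f).mp hS.mono_f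
  have hex := (ShortComplex.moduleCat_exact_iff S).mp hS.exact
  -- elements
  have hge : S.g.hom (tH0Map T S.X₂ ε) = tH0Map T' S.X₃ n₂ := by
    rw [← tH0Map_naturality, hε, tH0Map_tIncl]
  have he₂ : tH0Map T S.X₂ ε ∈ torsT T S.X₂ := tH0Map_mem_torsT T _ ε
  have hν : tH0Map T' S.X₃ n₂ ∈ torsT T' S.X₃ := tH0Map_mem_torsT T' _ n₂
  have hy : φ.τ₂.hom (tH0Map T S.X₂ ε) ∈ torsT T S'.X₂ := map_mem_torsT φ.τ₂.hom he₂
  have hloc : ∀ p : PrimeSpectrum R, p ∈ T → p ∉ T' →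
      ∃ w ∈ torsT T E', ∃ s ∈ p.asIdeal.primeCompl,
        (g' ≫ S'.f).hom w = s • φ.τ₂.hom (tH0Map T S.X₂ ε) := by
    intro p hp hp'
    obtain ⟨s, hs, hsν⟩ := exists_smul_eq_zero_of_mem_torsT hν hp'
    have h1 : S.g.hom (s • tH0Map T S.X₂ ε) = 0 := by rw [map_smul, hge, hsν]
    obtain ⟨y₀, hy₀⟩ := hex _ h1
    have hy₀t : y₀ ∈ torsT T S.X₁ := mem_torsT_of_map_injective S.f.hom hfinj (by
      rw [hy₀]
      exact Submodule.smul_mem _ _ he₂)
    obtain ⟨𝔞, h𝔞, hk⟩ := hy₀t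
    obtain ⟨η, hη⟩ := exists_tH0Map_eq T S.X₁ y₀ 𝔞 h𝔞 hk
    obtain ⟨s', hs', ε', hε'⟩ := hgen η p hp hp'
    refine ⟨tH0Map T E' ε', tH0Map_mem_torsT T _ ε', s' * s, Submonoid.mul_mem _ hs' hs, ?_⟩
    have h2 := congrArg (tH0Map T S'.X₁) hε'
    rw [map_smul, tH0Map_naturality, tH0Map_naturality, hη] at h2
    rw [ModuleCat.hom_comp, LinearMap.comp_apply, ← h2, map_smul, mul_smul]
    congr 1
    have h3 := congrArg (fun k => k.hom y₀) φ.comm₁₂
    simp only [ModuleCat.hom_comp, LinearMap.comp_apply] at h3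
    rw [h3, hy₀, map_smul]
  obtain ⟨w, hw, hwloc⟩ := exists_global_lift hT hmin E' S'.X₂ (g' ≫ S'.f).hom _ hy hloc
  have hz : φ.τ₂.hom (tH0Map T S.X₂ ε) - (g' ≫ S'.f).hom w ∈ torsT T' S'.X₂ :=
    mem_torsT_of_locKer S'.X₂ _
      (Submodule.sub_mem _ hy (map_mem_torsT (g' ≫ S'.f).hom hw)) hwloc
  obtain ⟨𝔟, h𝔟, hk𝔟⟩ := hz
  obtain ⟨ζ, hζ⟩ := exists_tH0Map_eq T' S'.X₂ _ 𝔟 h𝔟 hk𝔟
  have hnat := (htDelta T').δ_natural hS hS' φ 0 1 rfl
  have h4 : ((HTf T' 1).map φ.τ₁).hom (tDelta T' hS 0 n₂) =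
      tDelta T' hS' 0 (((HTf T' 0).map φ.τ₃).hom n₂) := by
    have := congrArg (fun k => k.hom n₂) hnat
    exact this.symm
  rw [h4]
  have h5 : ((HTf T' 0).map φ.τ₃).hom n₂ = ((HTf T' 0).map S'.g).hom ζ := by
    apply tH0Map_injective T'
    rw [tH0Map_naturality, tH0Map_naturality, hζ, ← hge, map_sub]
    have h6 := congrArg (fun k => k.hom (tH0Map T S.X₂ ε)) φ.comm₂₃
    simp only [ModuleCat.hom_comp, LinearMap.comp_apply] at h6
    have h7 : S'.g.hom ((g' ≫ S'.f).hom w) = 0 := by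
      simp [ModuleCat.hom_comp]
    rw [h7, sub_zero, h6]
  rw [h5, tDelta_comp_map]

include hT hmin in
/-- the induction step. -/
lemma claim_step (j : ℕ)
    (ih : ∀ {N N' E' : ModuleCat.{u} R} (f : N ⟶ N') (g' : E' ⟶ N') [Injective E'],
      Gen T T' j f g' → ∀ n : (HTf T' (j + 1)).obj N, tIncl hTT' (j + 1) N n = 0 →
        ((HTf T' (j + 1)).map f).hom n = 0)
    {S S' : ShortComplex (ModuleCat.{u} R)} (hS : S.ShortExact)
    (hS' : S'.ShortExact) [Injective S.X₂] [Injective S'.X₂] (φ : S ⟶ S')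
    (hloc : LocZero T T' (j + 1) φ.τ₁) (n : (HTf T' (j + 2)).obj S.X₁)
    (hn : tIncl hTT' (j + 2) S.X₁ n = 0) : ((HTf T' (j + 2)).map φ.τ₁).hom n = 0 := by
  have hsub : Subsingleton ((HTf T' (j + 2)).obj S.X₂) :=
    t_subsingleton_of_injective T' _ (j + 2) (by omega)
  obtain ⟨n₁, rfl⟩ := t_exact₁ T' hS (j + 1) n (@Subsingleton.elim _ hsub _ _)
  rw [tIncl_tDelta] at hn
  obtain ⟨ε, hε⟩ := t_exact₃ T hS (j + 1) _ hn
  have hsub2 : Subsingleton ((HTf T (j + 1)).obj S.X₂) :=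
    t_subsingleton_of_injective T _ (j + 1) (by omega)
  have hn₁ : tIncl hTT' (j + 1) S.X₃ n₁ = 0 := by
    rw [← hε, @Subsingleton.elim _ hsub2 ε 0, map_zero]
  have hgen : Gen T T' j φ.τ₃ S'.g := by
    intro y p hp hp'
    obtain ⟨s, hs, h0⟩ := mem_locKer.mp (hloc p hp hp' (tDelta T hS j y))
    have hnat := (htDelta T).δ_natural hS hS' φ j (j + 1) rfl
    have h1 : ((HTf T (j + 1)).map φ.τ₁).hom (tDelta T hS j y) =
        tDelta T hS' j (((HTf T j).map φ.τ₃).hom y) := by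
      have := congrArg (fun k => k.hom y) hnat
      exact this.symm
    rw [h1, ← map_smul] at h0
    obtain ⟨ε', hε'⟩ := t_exact₃ T hS' j _ h0
    exact ⟨s, hs, ε', hε'.symm⟩
  have h0 := ih φ.τ₃ S'.g hgen n₁ hn₁
  have hnat := (htDelta T').δ_natural hS hS' φ (j + 1) (j + 2) rfl
  have h4 : ((HTf T' (j + 2)).map φ.τ₁).hom (tDelta T' hS (j + 1) n₁) =
      tDelta T' hS' (j + 1) (((HTf T' (j + 1)).map φ.τ₃).hom n₁) := by
    have := congrArg (fun k => k.hom n₁) hnat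
    exact this.symm
  rw [h4, h0, map_zero]

include hT hmin in
theorem claim (j : ℕ) : ∀ {N N' E' : ModuleCat.{u} R} (f : N ⟶ N') (g' : E' ⟶ N') [Injective E'],
    Gen T T' j f g' → ∀ n : (HTf T' (j + 1)).obj N, tIncl hTT' (j + 1) N n = 0 →
      ((HTf T' (j + 1)).map f).hom n = 0 := by
  induction j with
  | zero =>
    intro N N' E' f g' _ hgen n hn
    exact claim_zero hT hTT' hmin (sesInj_shortExact N) (sesInj_shortExact N') (sesInjMap f) g'
      hgen n hn
  | succ j ih =>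
    intro N N' E' f g' _ hgen n hn
    have hsub : Subsingleton ((HTf T (j + 1)).obj E') :=
      t_subsingleton_of_injective T _ (j + 1) (by omega)
    have hloc : LocZero T T' (j + 1) f := by
      intro p hp hp' y
      obtain ⟨s, hs, ε, hε⟩ := hgen y p hp hp'
      refine mem_locKer.mpr ⟨s, hs, ?_⟩
      rw [hε, @Subsingleton.elim _ hsub ε 0, map_zero]
    exact claim_step hT hTT' hmin j ih (sesInj_shortExact N) (sesInj_shortExact N') (sesInjMap f)
      hloc n hn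

include hT hmin in
/-- **Exactness of the Cousin sequence at `H^{j+1}_{T'}`**, in relative form. -/
theorem map_eq_zero_of_tIncl_eq_zero (j : ℕ) {N N' : ModuleCat.{u} R} (f : N ⟶ N')
    (hf : LocZero T T' j f) (n : (HTf T' (j + 1)).obj N) (hn : tIncl hTT' (j + 1) N n = 0) :
    ((HTf T' (j + 1)).map f).hom n = 0 := by
  exact claim hT hTT' hmin j f (0 : Injective.under N' ⟶ N')
    (gen_of_locZero j f hf _) n hn

end Main

end Groth.Agent.Lib.Helper60.HTFour
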