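import Groth.Agent.Lib.Helper6.DimFun2

/-!
# Dimension functions and the Krull dimension of intervals (helper60)

For a function `δ` on a poset with ACC and finite heights which drops by one along covers,
`krullDim (Set.Icc p q) = δ p - δ q` for `p ≤ q`.
-/

set_option autoImplicit false
universe u

namespace Groth.Agent.Lib.Helper60.DimFunIcc

open Order Groth.Agent.Lib.Helper6.DimFun

section Abstract

variable {α : Type*} [PartialOrder α] [WellFoundedGT α]
  (hfin : ∀ q : α, Order.height q < ⊤) (δ : α → ℤ)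
  (hδ : ∀ p q : α, p ⋖ q → δ p = δ q + 1)

include hfin hδ in
lemma le_of_le (p q : α) (hpq : p ≤ q) : δ q ≤ δ p := by
  rcases eq_or_lt_of_le hpq with rfl | h
  · exact le_rfl
  · have := add_one_le_of_lt' hfin δ hδ p q h
    omega

include hfin hδ in
lemma krullDim_Icc_le (p q : α) (hpq : p ≤ q) :
    Order.krullDim (Set.Icc p q) ≤ (((δ p - δ q).toNat : ℕ) : WithBot ℕ∞) := by
  refine krullDim_le_of_bounded (fun x : Set.Icc p q => δ x.1)
    (fun x y hxy => add_one_le_of_lt' hfin δ hδ x.1 y.1 hxy) (δ q) (δ p) (fun x => ?_)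
  exact ⟨le_of_le hfin δ hδ x.1 q x.2.2, le_of_le hfin δ hδ p x.1 x.2.1⟩

include hfin hδ in
lemma exists_series (n : ℕ) : ∀ p q : α, p ≤ q → δ p - δ q = n →
    ∃ l : LTSeries (Set.Icc p q), l.length = n := by
  induction n with
  | zero =>
    intro p q hpq _
    exact ⟨RelSeries.singleton _ ⟨p, le_rfl, hpq⟩, rfl⟩
  | succ n ih =>
    intro p q hpq hn
    have hlt : p < q := by
      rcases eq_or_lt_of_le hpq with rfl | h
      · simp at hn
        omega
      · exact h
    obtain ⟨q', hpq', hcov⟩ := exists_le_covBy_of_lt hlt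
    have h1 : δ q' = δ q + 1 := hδ q' q hcov
    obtain ⟨l, hl⟩ := ih p q' hpq' (by push_cast at hn; omega)
    let f : Set.Icc p q' → Set.Icc p q := fun x => ⟨x.1, x.2.1, x.2.2.trans hcov.le⟩
    have hf : StrictMono f := fun x y hxy => hxy
    refine ⟨(l.map f hf).snoc ⟨q, hpq, le_rfl⟩ ?_, ?_⟩
    · change ((l.map f hf).last : α) < q
      rw [LTSeries.last_map]
      exact lt_of_le_of_lt (l.last.2.2) hcov.lt
    · rw [RelSeries.snoc_length, LTSeries.map_length, hl]

include hfin hδ in
/-- `krullDim [p, q] = δ p - δ q`. -/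
theorem krullDim_Icc_eq (p q : α) (hpq : p ≤ q) :
    Order.krullDim (Set.Icc p q) = (((δ p - δ q).toNat : ℕ) : WithBot ℕ∞) := by
  refine le_antisymm (krullDim_Icc_le hfin δ hδ p q hpq) ?_
  rw [Order.le_krullDim_iff]
  have h := le_of_le hfin δ hδ p q hpq
  exact exists_series hfin δ hδ _ p q hpq (by omega)

end Abstract

section Spec

variable {A : Type u} [CommRing A] [IsNoetherianRing A] (δ : PrimeSpectrum A → ℤ)
  (hδ : ∀ p q : PrimeSpectrum A, p ⋖ q → δ p = δ q + 1)

include hδ in
theorem spec_le_of_le (p q : PrimeSpectrum A) (hpq : p ≤ q) : δ q ≤ δ p := by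
  haveI := wellFoundedGT_primeSpectrum (A := A)
  exact le_of_le height_lt_top δ hδ p q hpq

include hδ in
theorem spec_krullDim_Icc_eq (p q : PrimeSpectrum A) (hpq : p ≤ q) :
    Order.krullDim (Set.Icc p q) = (((δ p - δ q).toNat : ℕ) : WithBot ℕ∞) := by
  haveI := wellFoundedGT_primeSpectrum (A := A)
  exact krullDim_Icc_eq height_lt_top δ hδ p q hpq

end Spec

end Groth.Agent.Lib.Helper60.DimFunIcc
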