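import Groth.Agent.Lib.Helper6.DualShift
import Groth.Agent.S1713

/-!
# Annihilators of `Ext(M, ω)_q` versus local cohomology of `M_q` (helper60)

For a Noetherian ring `A` with dualizing complex `ω`, a prime `q` with `δ(q) = d`, a finite
module `M`, `i : ℕ` and `a : A`: `a` kills `Ext^{-d-i}(M, ω)_q` iff `a` kills `H^i_{qA_q}(M_q)`.
-/

set_option autoImplicit false
set_option linter.unusedSectionVars false
universe u
open CategoryTheory CategoryTheory.Limits DerivedCategory Pretriangulated TensorProduct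
attribute [local instance] HasDerivedCategory.standard

namespace Groth.Agent.Lib.Helper60.FaltDual

open Groth.Agent.Lib.Helper6 Groth.Agent.Lib.Helper6.HomBC Groth.Agent.Lib.Helper6.LocDual
  Groth.Agent.Lib.Helper6.DualShift Groth.Agent.Lib.Helper35 Groth.Agent.Lib.Helper35.FlatBC

section Phi

variable {A B : Type u} [CommRing A] [CommRing B] [Algebra A B] [Module.Flat A B]

lemma Phi_smul (K L : DerivedCategory (ModuleCat.{u} A)) (b : B) (x : B ⊗[A] (K ⟶ L)) :
    Phi A B K L (b • x) = b • Phi A B K L x := by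
  induction x using TensorProduct.induction_on with
  | zero => simp
  | tmul b' f => rw [TensorProduct.smul_tmul', Phi_tmul, Phi_tmul, smul_eq_mul, mul_smul]
  | add x y hx hy => rw [smul_add, map_add, hx, hy, map_add, smul_add]

/-- `Phi` as a `B`-linear map. -/
noncomputable def PhiL (K L : DerivedCategory (ModuleCat.{u} A)) :
    B ⊗[A] (K ⟶ L) →ₗ[B] ((G A B).obj K ⟶ (G A B).obj L) where
  toFun := Phi A B K L
  map_add' := map_add _
  map_smul' b x := Phi_smul K L b x

end Phi

section loc

variable {A : Type u} [CommRing A] [IsNoetherianRing A]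

/-- linear version of helper6's `nonempty_locHomEquiv_localizedModule`. -/
theorem nonempty_locHomLinearEquiv (ω : Dual.D A) (hω : Dual.IsDualizing A ω)
    (p : Ideal A) [p.IsPrime] (M : Type u) [AddCommGroup M] [Module A M] [Module.Finite A M]
    (t : ℤ) :
    Nonempty (LocalizedModule p.primeCompl (Dual.inD A M ⟶ ω⟦t⟧) ≃ₗ[Localization.AtPrime p]
      (Dual.inD (Localization.AtPrime p) (LocalizedModule p.primeCompl M) ⟶ (Gat p ω)⟦t⟧)) := by
  obtain ⟨a, b, hge, hle, hab⟩ := HomBC.isDualizing_bounds hω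
  have hge' : (ω⟦t⟧).IsGE (a - t) := TStructure.t.isGE_shift ω a t (a - t) (by omega)
  have hb := HomBC.bijective_Phi_of_isPC (B := Localization.AtPrime p) (Dual.inD A M) (ω⟦t⟧)
    (a - t) (HomBC.isPC_inD_of_finite M _)
  let e1 : LocalizedModule p.primeCompl (Dual.inD A M ⟶ ω⟦t⟧) ≃ₗ[Localization.AtPrime p]
      (Localization.AtPrime p) ⊗[A] (Dual.inD A M ⟶ ω⟦t⟧) :=
    LocalizedModule.equivTensorProduct p.primeCompl (Dual.inD A M ⟶ ω⟦t⟧)
  let e2 : (Localization.AtPrime p) ⊗[A] (Dual.inD A M ⟶ ω⟦t⟧) ≃ₗ[Localization.AtPrime p]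
      ((G A (Localization.AtPrime p)).obj (Dual.inD A M) ⟶
        (G A (Localization.AtPrime p)).obj (ω⟦t⟧)) :=
    LinearEquiv.ofBijective (PhiL (B := Localization.AtPrime p) (Dual.inD A M) (ω⟦t⟧)) hb
  let ψ : TensorProduct A (Localization.AtPrime p) M ≃ₗ[Localization.AtPrime p]
      LocalizedModule p.primeCompl M :=
    (LocalizedModule.equivTensorProduct p.primeCompl M).symm
  let e3 := Linear.homCongr (Localization.AtPrime p)
    (GInDIso (A := A) (Localization.AtPrime p) M ≪≫
      (DerivedCategory.singleFunctor (ModuleCat.{u} (Localization.AtPrime p)) 0).mapIso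
        ψ.toModuleIso)
    (HomBC.GShiftIso (B := Localization.AtPrime p) ω t)
  exact ⟨e1.trans (e2.trans e3)⟩

variable (ω : Dual.D A) (hω : Dual.IsDualizing A ω) (p : Ideal A) [p.IsPrime] (d : ℤ)
  (hd : ∀ i : ℤ, Nontrivial (LocalizedModule p.primeCompl (Dual.inD A (A ⧸ p) ⟶ ω⟦i⟧)) ↔ i = -d)

include hω hd in
/-- **Local duality, annihilator form, at a prime of a ring with dualizing complex.** -/
theorem annihilator_loc_eq (M : Type u) [AddCommGroup M] [Module A M] [Module.Finite A M]
    (i : ℕ) :
    Module.annihilator (Localization.AtPrime p)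
        (LocalizedModule p.primeCompl (Dual.inD A M ⟶ ω⟦-d - (i : ℤ)⟧)) =
      Module.annihilator (Localization.AtPrime p)
        (LocCoh.H (IsLocalRing.maximalIdeal (Localization.AtPrime p)) i
          (LocalizedModule p.primeCompl M)) := by
  obtain ⟨e⟩ := nonempty_locHomLinearEquiv ω hω p M (-d - (i : ℤ))
  have hNoeth : IsNoetherianRing (Localization.AtPrime p) :=
    IsLocalization.isNoetherianRing p.primeCompl _ inferInstance
  have h1 := Groth.Agent.S1713.result (Localization.AtPrime p) ((Gat p ω)⟦-d⟧)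
    (isDualizing_Gat_shift ω hω p d hd) (isNormalized_Gat_shift ω hω p d hd)
    (LocalizedModule p.primeCompl M) i
  let e' := Linear.homCongr (Localization.AtPrime p)
    (Iso.refl (Dual.inD (Localization.AtPrime p) (LocalizedModule p.primeCompl M)))
    ((shiftFunctorAdd' (Dual.D (Localization.AtPrime p)) (-d) (-(i : ℤ)) (-d - (i : ℤ))
      (by omega)).app (Gat p ω)).symm
  exact e.annihilator_eq.trans (e'.annihilator_eq.symm.trans h1)

include hω hd in
theorem kills_iff (M : Type u) [AddCommGroup M] [Module A M] [Module.Finite A M]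
    (i : ℕ) (a : A) :
    (∀ x : LocalizedModule p.primeCompl (Dual.inD A M ⟶ ω⟦-d - (i : ℤ)⟧), a • x = 0) ↔
      (∀ y : LocCoh.H (IsLocalRing.maximalIdeal (Localization.AtPrime p)) i
          (LocalizedModule p.primeCompl M),
        algebraMap A (Localization.AtPrime p) a • y = 0) := by
  have h := annihilator_loc_eq ω hω p d hd M i
  have h1 : (∀ x : LocalizedModule p.primeCompl (Dual.inD A M ⟶ ω⟦-d - (i : ℤ)⟧), a • x = 0) ↔
      algebraMap A (Localization.AtPrime p) a ∈ Module.annihilator (Localization.AtPrime p)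
        (LocalizedModule p.primeCompl (Dual.inD A M ⟶ ω⟦-d - (i : ℤ)⟧)) := by
    rw [Module.mem_annihilator]
    refine forall_congr' (fun x => ?_)
    rw [algebraMap_smul]
  rw [h1, h, Module.mem_annihilator]

end loc

end Groth.Agent.Lib.Helper60.FaltDual
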