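import Mathlib
import Groth.Agent.Lib.Helper47.HTTorsion

/-!
# `T`-torsion in modules of arbitrary universe; a uniform annihilator (helper60)

For a finite module `E` over a Noetherian ring `A` and `T' ⊆ Spec A` stable under specialization,
the ideal `unifAnn T' E := Ann(Γ_{T'}(E))` has `V(unifAnn) ⊆ T'` and kills `E_q` for every prime
`q` such that `Supp(E) ∩ Spec(A_q) ⊆ T'`.
-/

set_option autoImplicit false
set_option linter.unusedSectionVars false
universe u w

namespace Groth.Agent.Lib.Helper60.TorsU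

open Groth.Agent.Lib.Helper47.HTLib

variable {A : Type u} [CommRing A] (T : Set (PrimeSpectrum A))

/-- the `T`-torsion submodule, in any universe. -/
def torsU (E : Type w) [AddCommGroup E] [Module A E] : Submodule A E where
  carrier := {m | ∃ 𝔞 : Ideal A, PrimeSpectrum.zeroLocus (𝔞 : Set A) ⊆ T ∧ ∀ a ∈ 𝔞, a • m = 0}
  zero_mem' := ⟨⊤, zeroLocus_top_subset T, fun a _ => smul_zero a⟩
  add_mem' := by
    rintro x y ⟨𝔞, h𝔞, hx⟩ ⟨𝔟, h𝔟, hy⟩
    refine ⟨𝔞 ⊓ 𝔟, zeroLocus_inf_subset h𝔞 h𝔟, fun c hc => ?_⟩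
    rw [smul_add, hx c hc.1, hy c hc.2, add_zero]
  smul_mem' := by
    rintro c x ⟨𝔞, h𝔞, hx⟩
    exact ⟨𝔞, h𝔞, fun a ha => by rw [smul_comm, hx a ha, smul_zero]⟩

variable {T}

lemma mem_torsU {E : Type w} [AddCommGroup E] [Module A E] (m : E) :
    m ∈ torsU T E ↔
      ∃ 𝔞 : Ideal A, PrimeSpectrum.zeroLocus (𝔞 : Set A) ⊆ T ∧ ∀ a ∈ 𝔞, a • m = 0 := Iff.rfl

/-- a finitely generated submodule of `T`-torsion elements is killed by a single ideal. -/
lemma exists_ideal_smul_eq_zero_of_fg {E : Type w} [AddCommGroup E] [Module A E]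
    (N : Submodule A E) (hN : N.FG) (h : N ≤ torsU T E) :
    ∃ 𝔞 : Ideal A, PrimeSpectrum.zeroLocus (𝔞 : Set A) ⊆ T ∧ ∀ a ∈ 𝔞, ∀ x ∈ N, a • x = 0 := by
  classical
  obtain ⟨s, rfl⟩ := hN
  choose! 𝔟 h𝔟 hk using fun g (hg : g ∈ (s : Set E)) => h (Submodule.subset_span hg)
  refine ⟨∏ g ∈ s, 𝔟 g, ?_, ?_⟩
  · clear hk h
    induction s using Finset.induction_on with
    | empty =>
      rw [Finset.prod_empty, Ideal.one_eq_top]
      exact zeroLocus_top_subset T
    | insert g s hg ih =>
      rw [Finset.prod_insert hg]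
      refine zeroLocus_mul_subset T (h𝔟 g (Finset.mem_insert_self g s)) (ih ?_)
      intro g' hg'
      exact h𝔟 g' (Finset.mem_insert_of_mem hg')
  · intro a ha x hx
    induction hx using Submodule.span_induction with
    | mem g hg =>
      have hg' : g ∈ s := hg
      exact hk g hg a (Ideal.prod_le_inf.trans (Finset.inf_le hg') ha)
    | zero => rw [smul_zero]
    | add b c _ _ hb hc => rw [smul_add, hb, hc, add_zero]
    | smul c b _ hb => rw [smul_comm, hb, smul_zero]

variable [IsNoetherianRing A] (T)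

/-- the uniform annihilator `Ann(Γ_T(E))`. -/
def unifAnn (E : Type w) [AddCommGroup E] [Module A E] : Ideal A :=
  Module.annihilator A (torsU T E)

variable {T}

lemma zeroLocus_unifAnn_subset (E : Type w) [AddCommGroup E] [Module A E] [Module.Finite A E] :
    PrimeSpectrum.zeroLocus ((unifAnn T E : Ideal A) : Set A) ⊆ T := by
  have hfg : (torsU T E).FG := IsNoetherian.noetherian _
  obtain ⟨𝔞, h𝔞, hk⟩ := exists_ideal_smul_eq_zero_of_fg (torsU T E) hfg le_rfl
  have hle : 𝔞 ≤ unifAnn T E := by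
    intro a ha
    rw [unifAnn, Module.mem_annihilator]
    rintro ⟨x, hx⟩
    exact Subtype.ext (hk a ha x hx)
  exact (PrimeSpectrum.zeroLocus_anti_mono hle).trans h𝔞

lemma unifAnn_smul {E : Type w} [AddCommGroup E] [Module A E] (a : A) (ha : a ∈ unifAnn T E)
    (x : E) (hx : x ∈ torsU T E) : a • x = 0 := by
  rw [unifAnn, Module.mem_annihilator] at ha
  exact congrArg Subtype.val (ha ⟨x, hx⟩)

/-- **Key lemma**: if `E_p = 0` for all `p ≤ q` outside `T`, then every element of `E` becomes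
`T`-torsion after multiplying by an element outside `q`. -/
theorem exists_smul_mem_torsU (hT : StableUnderSpecialization T)
    (E : Type w) [AddCommGroup E] [Module A E] [Module.Finite A E] (q : PrimeSpectrum A)
    (h : ∀ p : PrimeSpectrum A, p ≤ q → p ∉ T → ∀ e : E, ∃ v ∈ p.asIdeal.primeCompl, v • e = 0)
    (e : E) : ∃ u ∈ q.asIdeal.primeCompl, u • e ∈ torsU T E := by
  by_contra hcon
  push Not at hcon
  -- the colon ideal
  set 𝔠 : Ideal A := (torsU T E).colon {e} with h𝔠
  have h𝔠q : 𝔠 ≤ q.asIdeal := by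
    intro r hr
    by_contra hrq
    exact hcon r hrq (Submodule.mem_colon_singleton.mp hr)
  obtain ⟨P, hP, hPq⟩ := Ideal.exists_minimalPrimes_le h𝔠q
  obtain ⟨x', hx'⟩ := Submodule.exists_eq_colon_of_mem_minimalPrimes hP
  have hPprime : P.IsPrime := hP.1.1
  let P' : PrimeSpectrum A := ⟨P, hPprime⟩
  have hP'T : P' ∉ T := by
    intro hPT
    -- then `x' ∈ Γ_T(E)`, so `P = ⊤`
    have hsub : Submodule.map (LinearMap.toSpanSingleton A E x') P ≤ torsU T E := by
      rintro _ ⟨r, hr, rfl⟩
      rw [LinearMap.toSpanSingleton_apply]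
      have : r ∈ (torsU T E).colon {x'} := hx' ▸ hr
      exact Submodule.mem_colon_singleton.mp this
    have hfg : (Submodule.map (LinearMap.toSpanSingleton A E x') P).FG :=
      Submodule.FG.map _ (IsNoetherian.noetherian P)
    obtain ⟨𝔞, h𝔞, hk⟩ := exists_ideal_smul_eq_zero_of_fg _ hfg hsub
    have hx'T : x' ∈ torsU T E := by
      refine ⟨𝔞 * P, ?_, fun c hc => ?_⟩
      · refine zeroLocus_mul_subset T h𝔞 ?_
        intro q' hq'
        rw [PrimeSpectrum.mem_zeroLocus] at hq'
        have hle : P' ≤ q' := hq'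
        exact hT ((PrimeSpectrum.le_iff_specializes P' q').mp hle) hPT
      · refine Submodule.mul_induction_on hc ?_ ?_
        · intro a ha r hr
          rw [mul_smul]
          exact hk a ha _ ⟨r, hr, by rw [LinearMap.toSpanSingleton_apply]⟩
        · intro a b ha hb
          rw [add_smul, ha, hb, add_zero]
    have h1 : (1 : A) ∈ (torsU T E).colon {x'} := by
      rw [Submodule.mem_colon_singleton, one_smul]
      exact hx'T
    rw [← hx'] at h1
    exact hPprime.ne_top ((Ideal.eq_top_iff_one P).mpr h1)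
  obtain ⟨v, hv, hve⟩ := h P' hPq hP'T e
  apply hv
  apply hP.1.2
  rw [h𝔠, Submodule.mem_colon_singleton, hve]
  exact Submodule.zero_mem _

/-- the uniform annihilator kills `E_q` whenever `E_p = 0` for all `p ≤ q` outside `T`. -/
theorem unifAnn_smul_localizedModule (hT : StableUnderSpecialization T)
    (E : Type w) [AddCommGroup E] [Module A E] [Module.Finite A E] (q : PrimeSpectrum A)
    (h : ∀ p : PrimeSpectrum A, p ≤ q → p ∉ T → ∀ e : E, ∃ v ∈ p.asIdeal.primeCompl, v • e = 0)
    (a : A) (ha : a ∈ unifAnn T E) (x : LocalizedModule q.asIdeal.primeCompl E) : a • x = 0 := by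
  induction x using LocalizedModule.induction_on with
  | h e s =>
    obtain ⟨u, hu, hue⟩ := exists_smul_mem_torsU hT E q h e
    have h0 : a • (u • e) = 0 := unifAnn_smul a ha _ hue
    rw [LocalizedModule.smul'_mk, ← LocalizedModule.zero_mk s, LocalizedModule.mk_eq]
    refine ⟨⟨u, hu⟩, ?_⟩
    rw [smul_zero, smul_zero]
    change u • s • a • e = 0
    rw [smul_comm u s, smul_comm u a, h0, smul_zero]

end Groth.Agent.Lib.Helper60.TorsU
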