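import Groth.Agent.Lib.Helper60.HTComp
import Groth.Agent.Lib.Helper60.FaltDual
import Groth.Agent.Lib.Helper60.DimFunIcc
import Groth.Agent.Lib.Helper60.TorsU
import Groth.Agent.Lib.Helper6.InjDimMax3
import Groth.Agent.Lib.Helper6.CMChar
import Groth.Agent.Lib.Helper29.DepthRees
import Groth.Agent.S1722

/-!
# Faltings' annihilator theorem for `H^i_T(M)` over a ring with a dualizing complex (helper60)

Stacks 51.10.1: `A` Noetherian with dualizing complex, `T ⊆ T'` stable under specialization,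
`M` finite.  Some `J` with `V(J) ⊆ T'` kills `H^i_T(M)`, `i ≤ s`, iff
`depth M_p + dim [p, q] > s` for all `p ∉ T'`, `q ∈ T`, `p ≤ q`.
-/

set_option autoImplicit false
set_option linter.unusedSectionVars false
universe u
open CategoryTheory CategoryTheory.Limits DerivedCategory Pretriangulated
attribute [local instance] HasDerivedCategory.standard

namespace Groth.Agent.Lib.Helper60.FaltHT

open Groth.Agent.Lib.Helper60 Groth.Agent.Lib.Helper47.HTLib localCohomology
  Groth.Agent.Lib.Helper60.HTDelta Groth.Agent.Lib.Helper60.HTLoc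
  Groth.Agent.Lib.Helper60.HTCousin Groth.Agent.Lib.Helper60.HTComp
  Groth.Agent.Lib.Helper60.FaltDual Groth.Agent.Lib.Helper60.DimFunIcc
  Groth.Agent.Lib.Helper60.TorsU
  Groth.Agent.Lib.Helper6 Groth.Agent.Lib.Helper6.LocDual Groth.Agent.Lib.Helper6.DualShift

variable {A : Type u} [CommRing A] [IsNoetherianRing A]
  (ω : Dual.D A) (hω : Dual.IsDualizing A ω)
  (δ : PrimeSpectrum A → ℤ)
  (hδ1 : ∀ (p : PrimeSpectrum A) (i : ℤ), Nontrivial (LocalizedModule p.asIdeal.primeCompl
    (Dual.inD A (A ⧸ p.asIdeal) ⟶ ω⟦i⟧)) ↔ i = -δ p)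
  (hδ2 : ∀ p q : PrimeSpectrum A, p ⋖ q → δ p = δ q + 1)
  (M : Type u) [AddCommGroup M] [Module A M] [Module.Finite A M]

include hω hδ1 in
/-- vanishing of `(E^t)_p` above the depth. -/
lemma subsingleton_loc_of_lt (p : PrimeSpectrum A) (t : ℤ)
    (h : ∀ k : ℕ, LocCoh.depth (Localization.AtPrime p.asIdeal)
      (LocalizedModule p.asIdeal.primeCompl M) = k → -δ p - (k : ℤ) < t) :
    Subsingleton (LocalizedModule p.asIdeal.primeCompl (Dual.inD A M ⟶ ω⟦t⟧)) := by
  by_cases hM : Nontrivial (LocalizedModule p.asIdeal.primeCompl M)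
  · have hNB : IsNoetherianRing (Localization.AtPrime p.asIdeal) :=
      IsLocalization.isNoetherianRing p.asIdeal.primeCompl _ inferInstance
    have hne := Groth.Agent.Lib.Helper29.depth_ne_top (Localization.AtPrime p.asIdeal)
      (LocalizedModule p.asIdeal.primeCompl M)
    obtain ⟨k, hk⟩ := ENat.ne_top_iff_exists.1 hne
    have hkt := h k hk.symm
    by_cases hgt : -δ p < t
    · exact subsingleton_loc_hom_of_gt ω hω p.asIdeal (δ p) (hδ1 p) M t hgt
    · obtain ⟨h1, -⟩ := (depth_localization_eq_iff ω hω p.asIdeal (δ p) (hδ1 p) M k).1 hk.symm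
      have hj : (-δ p - t).toNat < k := by omega
      have := h1 _ hj
      have ht : -δ p - (((-δ p - t).toNat : ℕ) : ℤ) = t := by omega
      rwa [ht] at this
  · rw [not_nontrivial_iff_subsingleton] at hM
    obtain ⟨e⟩ := nonempty_locHomLinearEquiv ω hω p.asIdeal M t
    have := NormDual.subsingleton_hom_of_subsingleton
      (A := Localization.AtPrime p.asIdeal) (LocalizedModule p.asIdeal.primeCompl M)
      ((Gat p.asIdeal ω)⟦t⟧)
    exact e.toEquiv.subsingleton

lemma zeroLocus_prod_subset {ι : Type*} (s : Finset ι) (f : ι → Ideal A)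
    (T' : Set (PrimeSpectrum A))
    (h : ∀ i ∈ s, PrimeSpectrum.zeroLocus ((f i : Ideal A) : Set A) ⊆ T') :
    PrimeSpectrum.zeroLocus ((∏ i ∈ s, f i : Ideal A) : Set A) ⊆ T' := by
  classical
  induction s using Finset.induction_on with
  | empty =>
    rw [Finset.prod_empty, Ideal.one_eq_top]
    exact zeroLocus_top_subset T'
  | insert g s hg ih =>
    rw [Finset.prod_insert hg]
    exact zeroLocus_mul_subset T' (h g (Finset.mem_insert_self g s))
      (ih (fun i hi => h i (Finset.mem_insert_of_mem hi)))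

include hω hδ1 hδ2 in
/-- **Step A**: a uniform ideal killing all the local cohomology modules `H^i_{qA_q}(M_q)`,
`q ∈ T`, `i ≤ s`. -/
theorem exists_unif_kill (T T' : Set (PrimeSpectrum A))
    (hT' : StableUnderSpecialization T') (s : ℕ)
    (hcond : ∀ p q : PrimeSpectrum A, p ∉ T' → q ∈ T → p ≤ q →
      (s : WithBot ℕ∞) < ((LocCoh.depth (Localization.AtPrime p.asIdeal)
        (LocalizedModule p.asIdeal.primeCompl M) : ℕ∞) : WithBot ℕ∞) +
          Order.krullDim (Set.Icc p q)) :
    ∃ J : Ideal A, PrimeSpectrum.zeroLocus (J : Set A) ⊆ T' ∧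
      ∀ q : PrimeSpectrum A, q ∈ T → ∀ i : ℕ, i ≤ s → ∀ a ∈ J,
        ∀ y : LocCoh.H (IsLocalRing.maximalIdeal (Localization.AtPrime q.asIdeal)) i
          (LocalizedModule q.asIdeal.primeCompl M),
          algebraMap A (Localization.AtPrime q.asIdeal) a • y = 0 := by
  obtain ⟨a, b, hge, hle, hab⟩ := HomBC.isDualizing_bounds hω
  have hfin : ∀ t : ℤ, Module.Finite A (Dual.inD A M ⟶ ω⟦t⟧) := fun t =>
    InjDimMax.finite_hom_inD_of_bounded M ω a b hω.finite_cohomology t
  refine ⟨∏ t ∈ Finset.Icc a b, unifAnn T' (Dual.inD A M ⟶ ω⟦t⟧),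
    zeroLocus_prod_subset _ _ T' (fun t _ => zeroLocus_unifAnn_subset _), ?_⟩
  intro q hq i hi c hc
  rw [← kills_iff ω hω q.asIdeal (δ q) (hδ1 q) M i c]
  intro x
  by_cases ht : -δ q - (i : ℤ) ∈ Finset.Icc a b
  · have hc' : c ∈ unifAnn T' (Dual.inD A M ⟶ ω⟦-δ q - (i : ℤ)⟧) :=
      (Ideal.prod_le_inf.trans (Finset.inf_le ht)) hc
    refine unifAnn_smul_localizedModule hT' _ q ?_ c hc' x
    intro p hpq hpT' e
    have hsub : Subsingleton (LocalizedModule p.asIdeal.primeCompl
        (Dual.inD A M ⟶ ω⟦-δ q - (i : ℤ)⟧)) := by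
      apply subsingleton_loc_of_lt ω hω δ hδ1 M p
      intro k hk
      have h1 := hcond p q hpT' hq hpq
      rw [hk, spec_krullDim_Icc_eq δ hδ2 p q hpq] at h1
      have h2 := spec_le_of_le δ hδ2 p q hpq
      have h3 : s < k + (δ p - δ q).toNat := by exact_mod_cast h1
      omega
    exact LocalizedModule.subsingleton_iff.mp hsub e
  · have hsub : Subsingleton (Dual.inD A M ⟶ ω⟦-δ q - (i : ℤ)⟧) := by
      apply hab M
      rw [Finset.mem_Icc] at ht
      omega
    have := CMChar.subsingleton_localizedModule_of_subsingleton q.asIdeal.primeCompl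
      (Dual.inD A M ⟶ ω⟦-δ q - (i : ℤ)⟧)
    rw [Subsingleton.elim x 0, smul_zero]

omit [IsNoetherianRing A] in
/-- if `a` kills `H^i_{pA_p}(M_p) ≅ (H^i_Z M)_p` then `a • x` vanishes at `p`. -/
lemma smul_mem_locKer_of_kills {Z : Set (PrimeSpectrum A)} (p : PrimeSpectrum A) (i : ℕ)
    (φ : HTf Z i ⋙ locF p.asIdeal.primeCompl ≅ locF p.asIdeal.primeCompl ⋙
      localCohomology (IsLocalRing.maximalIdeal (Localization.AtPrime p.asIdeal)) i)
    (N : ModuleCat.{u} A) (a : A)
    (hkill : ∀ y : (localCohomology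
      (IsLocalRing.maximalIdeal (Localization.AtPrime p.asIdeal))
      i).obj ((locF p.asIdeal.primeCompl).obj N),
      algebraMap A (Localization.AtPrime p.asIdeal) a • y = 0)
    (x : (HTf Z i).obj N) : a • x ∈ locKer p.asIdeal.primeCompl ((HTf Z i).obj N) := by
  rw [LinearMap.mem_ker, LocalizedModule.mkLinearMap_apply]
  let z : ((HTf Z i ⋙ locF p.asIdeal.primeCompl).obj N) :=
    (LocalizedModule.mk x 1 : LocalizedModule p.asIdeal.primeCompl ((HTf Z i).obj N))
  let e := (φ.app N).toLinearEquiv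
  have h2 : e (algebraMap A (Localization.AtPrime p.asIdeal) a • z) =
      algebraMap A (Localization.AtPrime p.asIdeal) a • e z := map_smul e _ _
  have h1 : algebraMap A (Localization.AtPrime p.asIdeal) a • z = 0 :=
    e.injective ((h2.trans (hkill _)).trans (map_zero e).symm)
  have h3 : algebraMap A (Localization.AtPrime p.asIdeal) a •
      (LocalizedModule.mk x 1 : LocalizedModule p.asIdeal.primeCompl ((HTf Z i).obj N)) = 0 := h1
  rw [algebraMap_smul, LocalizedModule.smul'_mk] at h3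
  exact h3

include hω hδ1 hδ2 in
/-- **Faltings' annihilator theorem, existence part.** -/
theorem exists_kill_of_cond (T T' : Set (PrimeSpectrum A))
    (hT : StableUnderSpecialization T) (hT' : StableUnderSpecialization T') (s : ℕ)
    (hcond : ∀ p q : PrimeSpectrum A, p ∉ T' → q ∈ T → p ≤ q →
      (s : WithBot ℕ∞) < ((LocCoh.depth (Localization.AtPrime p.asIdeal)
        (LocalizedModule p.asIdeal.primeCompl M) : ℕ∞) : WithBot ℕ∞) +
          Order.krullDim (Set.Icc p q)) :
    ∃ J : Ideal A, PrimeSpectrum.zeroLocus (J : Set A) ⊆ T' ∧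
      ∀ i : ℕ, i ≤ s → ∀ a ∈ J, ∀ x : (HTf T i).obj (ModuleCat.of A M), a • x = 0 := by
  obtain ⟨J'', hJ''V, hJ''⟩ := exists_unif_kill ω hω δ hδ1 hδ2 M T T' hT' s hcond
  obtain ⟨a, b, hge, hle, hab⟩ := HomBC.isDualizing_bounds hω
  -- bounds of δ
  have hbd : ∀ q : PrimeSpectrum A, -b ≤ δ q ∧ δ q ≤ -a := by
    intro q
    have hnt := (hδ1 q (-δ q)).2 rfl
    by_contra hcon
    have h1 : -δ q < a ∨ b < -δ q := by omega
    have h2 := hab (A ⧸ q.asIdeal) (-δ q) h1
    have h3 := CMChar.subsingleton_localizedModule_of_subsingleton q.asIdeal.primeCompl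
      (Dual.inD A (A ⧸ q.asIdeal) ⟶ ω⟦-δ q⟧)
    exact not_subsingleton _ h3
  let Zn : ℤ → Set (PrimeSpectrum A) := fun n => {q | q ∈ T ∧ δ q ≤ n}
  have hZnT : ∀ n, Zn n ⊆ T := fun n q hq => hq.1
  have hZstable : ∀ n, StableUnderSpecialization (Zn n) := by
    intro n q q' hqq' hq
    have hle' : q ≤ q' := (PrimeSpectrum.le_iff_specializes q q').mpr hqq'
    exact ⟨hT hqq' hq.1, (spec_le_of_le δ hδ2 q q' hle').trans hq.2⟩
  have key : ∀ k : ℕ, ∃ J : Ideal A, PrimeSpectrum.zeroLocus (J : Set A) ⊆ T' ∧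
      ∀ i : ℕ, i ≤ s → ∀ c ∈ J, ∀ x : (HTf (Zn (-b - 1 + k)) i).obj (ModuleCat.of A M),
        c • x = 0 := by
    intro k
    induction k with
    | zero =>
      refine ⟨⊤, zeroLocus_top_subset T', fun i _ c _ x => ?_⟩
      obtain ⟨𝔞, h𝔞, hk⟩ := t_isTorsion _ i _ x
      have hempty : PrimeSpectrum.zeroLocus (𝔞 : Set A) = ∅ := by
        rw [Set.eq_empty_iff_forall_notMem]
        intro q hq
        have := (h𝔞 hq).2
        have := (hbd q).1
        simp only [Nat.cast_zero, add_zero] at *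
        omega
      rw [PrimeSpectrum.zeroLocus_empty_iff_eq_top] at hempty
      have h1 := hk 1 (hempty ▸ Submodule.mem_top)
      rw [one_smul] at h1
      rw [h1, smul_zero]
    | succ k ih =>
      obtain ⟨Jk, hJkV, hJk⟩ := ih
      have hsub : Zn (-b - 1 + (k : ℕ)) ⊆ Zn (-b - 1 + ((k + 1 : ℕ) : ℤ)) := by
        intro q hq
        refine ⟨hq.1, hq.2.trans ?_⟩
        push_cast
        omega
      have hmin : ∀ p ∈ Zn (-b - 1 + ((k + 1 : ℕ) : ℤ)), p ∉ Zn (-b - 1 + (k : ℕ)) →
          ∀ q ∈ Zn (-b - 1 + ((k + 1 : ℕ) : ℤ)), q ≤ p → q = p := by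
        intro p hp hp' q hq hqp
        by_contra hne
        have hlt : q < p := lt_of_le_of_ne hqp hne
        have := Groth.Agent.Lib.Helper6.DimFun.wellFoundedGT_primeSpectrum (A := A)
        have h1 := Groth.Agent.Lib.Helper6.DimFun.add_one_le_of_lt'
          Groth.Agent.Lib.Helper6.DimFun.height_lt_top δ hδ2 q p hlt
        have h2 := hq.2
        have h3 : ¬ δ p ≤ -b - 1 + (k : ℕ) := fun h => hp' ⟨hp.1, h⟩
        push_cast at h2
        omega
      refine ⟨Jk * J'', zeroLocus_mul_subset T' hJkV hJ''V, fun i hi c hc x => ?_⟩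
      refine Submodule.mul_induction_on hc ?_ ?_
      · intro b' hb' a' ha'
        have hloc : ∀ p : PrimeSpectrum A, p ∈ Zn (-b - 1 + ((k + 1 : ℕ) : ℤ)) →
            p ∉ Zn (-b - 1 + (k : ℕ)) →
            a' • x ∈ locKer p.asIdeal.primeCompl
              ((HTf (Zn (-b - 1 + ((k + 1 : ℕ) : ℤ))) i).obj (ModuleCat.of A M)) := by
          intro p hp hp'
          obtain ⟨φ⟩ := nonempty_natIso (hZstable _) hp (hmin p hp hp') i
          exact smul_mem_locKer_of_kills p i φ (ModuleCat.of A M) a'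
            (hJ'' p hp.1 i hi a' ha') x
        obtain ⟨y, hy⟩ := cousin_exact (hZstable _) hsub hmin i (ModuleCat.of A M) (a' • x) hloc
        rw [mul_smul, ← hy, ← map_smul, hJk i hi b' hb' y, map_zero]
      · intro c₁ c₂ h₁ h₂
        rw [add_smul, h₁, h₂, add_zero]
  obtain ⟨J, hJV, hJ⟩ := key (b - a + 1).toNat
  have hZeq : Zn (-b - 1 + (((b - a + 1).toNat : ℕ) : ℤ)) = T := by
    ext q
    constructor
    · exact fun hq => hq.1
    · intro hq
      refine ⟨hq, ?_⟩
      have := (hbd q).2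
      have := (hbd q).1
      omega
  rw [hZeq] at hJ
  exact ⟨J, hJV, hJ⟩

include hω hδ1 hδ2 in
/-- **Faltings' annihilator theorem, necessity part.** -/
theorem cond_of_kill (T T' : Set (PrimeSpectrum A))
    (hT : StableUnderSpecialization T) (s : ℕ) (J : Ideal A)
    (hJV : PrimeSpectrum.zeroLocus (J : Set A) ⊆ T')
    (hJ : ∀ i : ℕ, i ≤ s → ∀ a ∈ J, ∀ x : (HTf T i).obj (ModuleCat.of A M), a • x = 0)
    (p q : PrimeSpectrum A) (hp : p ∉ T') (hq : q ∈ T) (hpq : p ≤ q) :
    (s : WithBot ℕ∞) < ((LocCoh.depth (Localization.AtPrime p.asIdeal)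
      (LocalizedModule p.asIdeal.primeCompl M) : ℕ∞) : WithBot ℕ∞) +
        Order.krullDim (Set.Icc p q) := by
  rw [spec_krullDim_Icc_eq δ hδ2 p q hpq]
  have hδle := spec_le_of_le δ hδ2 p q hpq
  by_cases hM : Nontrivial (LocalizedModule p.asIdeal.primeCompl M)
  · have hNB : IsNoetherianRing (Localization.AtPrime p.asIdeal) :=
      IsLocalization.isNoetherianRing p.asIdeal.primeCompl _ inferInstance
    have hne := Groth.Agent.Lib.Helper29.depth_ne_top (Localization.AtPrime p.asIdeal)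
      (LocalizedModule p.asIdeal.primeCompl M)
    obtain ⟨k, hk⟩ := ENat.ne_top_iff_exists.1 hne
    rw [← hk]
    suffices h : s < k + (δ p - δ q).toNat by exact_mod_cast h
    by_contra hcon
    push Not at hcon
    set i : ℕ := k + (δ p - δ q).toNat with hi
    -- the closed set `V(q) ⊆ T`
    let Z : Set (PrimeSpectrum A) := {q' | q ≤ q'}
    have hZT : Z ⊆ T := fun q' hq' => hT ((PrimeSpectrum.le_iff_specializes q q').mp hq') hq
    have hZ : StableUnderSpecialization Z := fun q' q'' h hq' =>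
      le_trans hq' ((PrimeSpectrum.le_iff_specializes q' q'').mpr h)
    have hqZ : q ∈ Z := le_refl q
    have hmin : ∀ q' ∈ Z, q' ≤ q → q' = q := fun q' hq' h => le_antisymm h hq'
    have hkill := kills_of_subset hZT J s (ModuleCat.of A M) hJ i hcon
    obtain ⟨φ⟩ := nonempty_natIso hZ hqZ hmin i
    -- an element of `J` outside `p`
    have hJp : ¬ J ≤ p.asIdeal := fun hle => hp (hJV (by
      rw [PrimeSpectrum.mem_zeroLocus]
      exact hle))
    obtain ⟨a₀, ha₀J, ha₀p⟩ := Set.not_subset.mp hJp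
    have haJ : a₀ ^ (s + 1) ∈ J ^ (s + 1) := Ideal.pow_mem_pow ha₀J (s + 1)
    have hap : a₀ ^ (s + 1) ∉ p.asIdeal := fun h => ha₀p (p.isPrime.mem_of_pow_mem _ h)
    -- `a` kills `H^i_{qA_q}(M_q)`
    have hloc : ∀ y : LocCoh.H (IsLocalRing.maximalIdeal (Localization.AtPrime q.asIdeal)) i
        (LocalizedModule q.asIdeal.primeCompl M),
        algebraMap A (Localization.AtPrime q.asIdeal) (a₀ ^ (s + 1)) • y = 0 := by
      intro y
      let e := (φ.app (ModuleCat.of A M)).toLinearEquiv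
      have hz : ∀ z : LocalizedModule q.asIdeal.primeCompl
          ((HTf Z i).obj (ModuleCat.of A M)),
          algebraMap A (Localization.AtPrime q.asIdeal) (a₀ ^ (s + 1)) • z = 0 := by
        intro z
        induction z using LocalizedModule.induction_on with
        | h x t =>
          rw [algebraMap_smul, LocalizedModule.smul'_mk, hkill _ haJ x, LocalizedModule.zero_mk]
      have h2 : e (algebraMap A (Localization.AtPrime q.asIdeal) (a₀ ^ (s + 1)) • e.symm y) =
          algebraMap A (Localization.AtPrime q.asIdeal) (a₀ ^ (s + 1)) • e (e.symm y) :=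
        map_smul e _ _
      rw [e.apply_symm_apply] at h2
      have h3 := hz (e.symm y)
      exact h2.symm.trans ((congrArg e h3).trans (map_zero e))
    rw [← kills_iff ω hω q.asIdeal (δ q) (hδ1 q) M i (a₀ ^ (s + 1))] at hloc
    -- hence `(E^t)_p = 0`
    have hsub : Subsingleton (LocalizedModule p.asIdeal.primeCompl
        (Dual.inD A M ⟶ ω⟦-δ q - (i : ℤ)⟧)) := by
      rw [LocalizedModule.subsingleton_iff]
      intro e
      have h1 := hloc (LocalizedModule.mk e 1)
      rw [LocalizedModule.smul'_mk, ← LocalizedModule.zero_mk 1, LocalizedModule.mk_eq] at h1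
      obtain ⟨u, hu⟩ := h1
      rw [smul_zero, smul_zero, one_smul] at hu
      refine ⟨u * a₀ ^ (s + 1), ?_, ?_⟩
      · intro hmem
        rcases p.isPrime.mem_or_mem hmem with h | h
        · exact u.2 (hpq h)
        · exact hap h
      · rw [mul_smul]
        exact hu
    obtain ⟨-, hnt⟩ := (depth_localization_eq_iff ω hω p.asIdeal (δ p) (hδ1 p) M k).1 hk.symm
    have ht : -δ q - (i : ℤ) = -δ p - (k : ℤ) := by
      rw [hi]
      push_cast
      omega
    rw [ht] at hsub
    exact not_subsingleton _ hsub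
  · rw [not_nontrivial_iff_subsingleton] at hM
    rw [Groth.Agent.Lib.Helper29.depth_eq_top_of_subsingleton]
    rw [← WithBot.coe_natCast, ← WithBot.coe_natCast, ← WithBot.coe_add, top_add,
      WithBot.coe_lt_coe]
    exact ENat.natCast_lt_top s

end Groth.Agent.Lib.Helper60.FaltHT
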