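import Groth.Agent.Lib.Helper60.BootJ0
import Groth.Agent.Lib.Helper60.HTFour
import Groth.Agent.S1727

/-!
# Making the depth along `T` at least two (helper60)

`R` Noetherian, `T ⊆ Spec R` stable under specialization, `M'` an `R`-module without `T`-torsion.
Embed `M'` into an injective module `E` without `T`-torsion and let `P ⊆ E` be the preimage of the
`T`-torsion of `E/M'`.  Then `M' → P` has `T`-torsion cokernel, `H^0_T(P) = H^1_T(P) = 0`, and
`P/M' ≃ H^1_T(M')`.
-/

set_option autoImplicit false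
set_option linter.unusedSectionVars false
universe u
open CategoryTheory CategoryTheory.Limits

namespace Groth.Agent.Lib.Helper60.DepthTwo

open Groth.Agent.Lib.Helper60 Groth.Agent.Lib.Helper47.HTLib localCohomology
  Groth.Agent.Lib.Helper60.HTDelta Groth.Agent.Lib.Helper60.HTLoc
  Groth.Agent.Lib.Helper60.HTCousin Groth.Agent.Lib.Helper60.HTComp

section LocBij

variable {R : Type u} [CommRing R]

/-- the localization of a map whose kernel and cokernel are `S`-torsion is bijective. -/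
lemma localizedModule_map_bijective (S : Submonoid R) {M N : Type u} [AddCommGroup M]
    [Module R M] [AddCommGroup N] [Module R N] (f : M →ₗ[R] N)
    (hker : ∀ m, f m = 0 → ∃ s ∈ S, s • m = 0)
    (hcoker : ∀ n, ∃ s ∈ S, ∃ m, f m = s • n) :
    Function.Bijective (LocalizedModule.map S f) := by
  constructor
  · rw [injective_iff_map_eq_zero]
    intro x hx
    induction x using LocalizedModule.induction_on with
    | h m s =>
      rw [LocalizedModule.map_mk, ← LocalizedModule.zero_mk s, LocalizedModule.mk_eq] at hx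
      obtain ⟨t, ht⟩ := hx
      rw [smul_zero, smul_zero, ← mul_smul] at ht
      have ht' : f (((t * s : S) : R) • m) = 0 := by
        rw [map_smul]
        exact ht
      obtain ⟨s', hs', hs'm⟩ := hker _ ht'
      rw [← LocalizedModule.zero_mk s, LocalizedModule.mk_eq]
      refine ⟨⟨s', hs'⟩ * (t * s), ?_⟩
      rw [smul_zero, smul_zero]
      have : ((⟨s', hs'⟩ * (t * s) : S)) • s • m = s • (s' • ((t * s : S) : R) • m) := by
        simp only [Submonoid.smul_def, Submonoid.coe_mul, ← mul_smul]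
        congr 1
        ring
      rw [this, hs'm, smul_zero]
  · intro y
    induction y using LocalizedModule.induction_on with
    | h n s =>
      obtain ⟨t, ht, m, hm⟩ := hcoker n
      refine ⟨LocalizedModule.mk m (⟨t, ht⟩ * s), ?_⟩
      rw [LocalizedModule.map_mk, hm]
      exact LocalizedModule.mk_cancel_common_left (⟨t, ht⟩ : S) s n

end LocBij

section Construction

variable {R : Type u} [CommRing R] [IsNoetherianRing R] (T : Set (PrimeSpectrum R))

/-- a module without `T`-torsion embeds into an injective module without `T`-torsion. -/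
lemma exists_injective_torsionfree_embedding (M' : Type u) [AddCommGroup M'] [Module R M']
    (htors : torsT T M' = ⊥) :
    ∃ (E : Type u) (_ : AddCommGroup E) (_ : Module R E) (_ : Module.Injective R E)
      (ι : M' →ₗ[R] E), Function.Injective ι ∧ torsT T E = ⊥ := by
  let I := Injective.under (ModuleCat.of R M')
  let ι : ModuleCat.of R M' ⟶ I := Injective.ι _
  have hι : Function.Injective ι.hom := (ModuleCat.mono_iff_injective ι).mp inferInstance
  have hI0 : Injective (ModuleCat.of R I) := (inferInstance : Injective I)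
  have hIm : Module.Injective R I := Module.injective_module_of_injective_object R I
  have hEm : Module.Injective R (I ⧸ torsT T I) := injective_quotient_torsT T I
  refine ⟨I ⧸ torsT T I, inferInstance, inferInstance, hEm, (torsT T I).mkQ ∘ₗ ι.hom, ?_,
    torsT_quotient_eq_bot T I⟩
  rw [← LinearMap.ker_eq_bot, eq_bot_iff]
  intro m hm
  rw [LinearMap.mem_ker, LinearMap.comp_apply, Submodule.mkQ_apply,
    Submodule.Quotient.mk_eq_zero] at hm
  obtain ⟨𝔞, h𝔞, hk⟩ := hm
  have hm' : m ∈ torsT T M' := ⟨𝔞, h𝔞, fun a ha => hι (by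
    rw [map_smul, hk a ha, map_zero])⟩
  rw [htors] at hm'
  exact hm'

/-- if `𝔞 x ⊆ Γ_T(Q)` with `V(𝔞) ⊆ T` then `x ∈ Γ_T(Q)`. -/
lemma mem_torsT_of_smul_mem {Q : Type u} [AddCommGroup Q] [Module R Q] (x : Q) (𝔞 : Ideal R)
    (h𝔞 : PrimeSpectrum.zeroLocus (𝔞 : Set R) ⊆ T) (h : ∀ a ∈ 𝔞, a • x ∈ torsT T Q) :
    x ∈ torsT T Q := by
  have h1 : (torsT T Q).mkQ x ∈ torsT T (Q ⧸ torsT T Q) := by
    refine ⟨𝔞, h𝔞, fun a ha => ?_⟩
    rw [← map_smul, Submodule.mkQ_apply, Submodule.Quotient.mk_eq_zero]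
    exact h a ha
  rw [torsT_quotient_eq_bot T Q, Submodule.mem_bot, Submodule.mkQ_apply,
    Submodule.Quotient.mk_eq_zero] at h1
  exact h1

variable {M' E : Type u} [AddCommGroup M'] [Module R M'] [AddCommGroup E] [Module R E]
  (ι : M' →ₗ[R] E)

/-- the `T`-saturation of the image of `ι` in `E`. -/
def sat : Submodule R E :=
  Submodule.comap (LinearMap.range ι).mkQ (torsT T (E ⧸ LinearMap.range ι))

lemma mem_sat (x : E) : x ∈ sat T ι ↔ (LinearMap.range ι).mkQ x ∈ torsT T (E ⧸ LinearMap.range ι) :=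
  Iff.rfl

lemma range_le_sat : LinearMap.range ι ≤ sat T ι := by
  intro x hx
  rw [mem_sat]
  have : (LinearMap.range ι).mkQ x = 0 := by
    rw [Submodule.mkQ_apply, Submodule.Quotient.mk_eq_zero]
    exact hx
  rw [this]
  exact Submodule.zero_mem _

/-- the map `M' → sat`. -/
def toSat : M' →ₗ[R] sat T ι :=
  ι.codRestrict (sat T ι) (fun m => range_le_sat T ι ⟨m, rfl⟩)

lemma toSat_coe (m : M') : ((toSat T ι m : sat T ι) : E) = ι m := rfl

/-- the map `sat → Γ_T(E/M')`. -/
def satToTors : sat T ι →ₗ[R] torsT T (E ⧸ LinearMap.range ι) :=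
  ((LinearMap.range ι).mkQ ∘ₗ (sat T ι).subtype).codRestrict _ (fun p => p.2)

lemma range_toSat_eq_ker : LinearMap.range (toSat T ι) = LinearMap.ker (satToTors T ι) := by
  ext x
  rw [LinearMap.mem_ker, LinearMap.mem_range]
  constructor
  · rintro ⟨m, rfl⟩
    apply Subtype.ext
    change (LinearMap.range ι).mkQ (ι m) = 0
    rw [Submodule.mkQ_apply, Submodule.Quotient.mk_eq_zero]
    exact ⟨m, rfl⟩
  · intro hx
    have h1 : (LinearMap.range ι).mkQ (x : E) = 0 := congrArg Subtype.val hx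
    rw [Submodule.mkQ_apply, Submodule.Quotient.mk_eq_zero] at h1
    obtain ⟨m, hm⟩ := h1
    exact ⟨m, Subtype.ext hm⟩

/-- the cokernel of `M' → sat` is `T`-torsion. -/
lemma exists_smul_mem_range (x : sat T ι) :
    ∃ 𝔞 : Ideal R, PrimeSpectrum.zeroLocus (𝔞 : Set R) ⊆ T ∧
      ∀ a ∈ 𝔞, ∃ m, toSat T ι m = a • x := by
  obtain ⟨𝔞, h𝔞, hk⟩ := x.2
  refine ⟨𝔞, h𝔞, fun a ha => ?_⟩
  have h1 := hk a ha
  rw [← map_smul, Submodule.mkQ_apply, Submodule.Quotient.mk_eq_zero] at h1
  obtain ⟨m, hm⟩ := h1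
  exact ⟨m, Subtype.ext hm⟩

lemma torsT_sat_eq_bot (hE : torsT T E = ⊥) : torsT T (sat T ι) = ⊥ := by
  rw [eq_bot_iff]
  rintro x ⟨𝔞, h𝔞, hk⟩
  have hx : (x : E) ∈ torsT T E :=
    ⟨𝔞, h𝔞, fun a ha => congrArg Subtype.val (hk a ha)⟩
  rw [hE, Submodule.mem_bot] at hx
  rw [Submodule.mem_bot]
  exact Subtype.ext hx

lemma torsT_quot_sat_eq_bot : torsT T (E ⧸ sat T ι) = ⊥ := by
  rw [eq_bot_iff]
  intro y hy
  obtain ⟨e, rfl⟩ := Submodule.Quotient.mk_surjective _ y
  obtain ⟨𝔞, h𝔞, hk⟩ := hy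
  rw [Submodule.mem_bot, Submodule.Quotient.mk_eq_zero, mem_sat]
  refine mem_torsT_of_smul_mem T _ 𝔞 h𝔞 (fun a ha => ?_)
  have h1 := hk a ha
  rw [← Submodule.Quotient.mk_smul, Submodule.Quotient.mk_eq_zero, mem_sat, map_smul] at h1
  exact h1

/-- `H^0_T(sat) = 0`. -/
lemma ht_zero_sat (hE : torsT T E = ⊥) :
    Subsingleton ((HTf T 0).obj (ModuleCat.of R (sat T ι))) :=
  t_subsingleton_zero_of_torsT_eq_bot T _ (torsT_sat_eq_bot T ι hE)

/-- `H^1_T(sat) = 0`. -/
lemma ht_one_sat [Module.Injective R E] :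
    Subsingleton ((HTf T 1).obj (ModuleCat.of R (sat T ι))) := by
  have hS := sesOfSubmodule_shortExact (sat T ι)
  have h0 : Subsingleton ((HTf T 0).obj (sesOfSubmodule (sat T ι)).X₃) :=
    t_subsingleton_zero_of_torsT_eq_bot T _ (torsT_quot_sat_eq_bot T ι)
  have hE : Injective (sesOfSubmodule (sat T ι)).X₂ :=
    Module.injective_object_of_injective_module R E
  have h1 : Subsingleton ((HTf T 1).obj (sesOfSubmodule (sat T ι)).X₂) :=
    t_subsingleton_of_injective T _ 1 one_pos
  refine ⟨fun a b => ?_⟩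
  suffices H : ∀ y : (HTf T (0 + 1)).obj (sesOfSubmodule (sat T ι)).X₁, y = 0 by
    exact (H a).trans (H b).symm
  intro y
  obtain ⟨y₃, rfl⟩ := t_exact₁ T hS 0 y (@Subsingleton.elim _ h1 _ _)
  rw [@Subsingleton.elim _ h0 y₃ 0, map_zero]

/-- `sat` is finite if `M'` and `H^1_T(M')` are. -/
lemma finite_sat [Module.Injective R E] [Module.Finite R M'] (hι : Function.Injective ι)
    (hE : torsT T E = ⊥)
    (hfin : Module.Finite R ((HTf T 1).obj (ModuleCat.of R M'))) :
    Module.Finite R (sat T ι) := by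
  have hS := sesOfInjective_shortExact ι hι
  have h0 : Subsingleton ((HTf T 0).obj (sesOfInjective ι).X₂) :=
    t_subsingleton_zero_of_torsT_eq_bot T _ hE
  have hEi : Injective (sesOfInjective ι).X₂ :=
    Module.injective_object_of_injective_module R E
  have h1 : Subsingleton ((HTf T (0 + 1)).obj (sesOfInjective ι).X₂) :=
    t_subsingleton_of_injective T _ 1 one_pos
  have hbij := tDelta_bijective_of_vanish T hS 0 h0 h1
  let e1 : (HTf T 0).obj (sesOfInjective ι).X₃ ≃ₗ[R] (HTf T (0 + 1)).obj (sesOfInjective ι).X₁ :=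
    LinearEquiv.ofBijective (tDelta T hS 0) hbij
  let e2 : (HTf T 0).obj (sesOfInjective ι).X₃ ≃ₗ[R] torsT T (E ⧸ LinearMap.range ι) :=
    tH0Equiv T (sesOfInjective ι).X₃
  have hfin' : Module.Finite R ((HTf T (0 + 1)).obj (sesOfInjective ι).X₁) := hfin
  have hfinQ : Module.Finite R (torsT T (E ⧸ LinearMap.range ι)) :=
    Module.Finite.equiv (e1.symm.trans e2)
  have hN1 : IsNoetherian R M' := isNoetherian_of_isNoetherianRing_of_finite R M'
  have hN2 : IsNoetherian R (torsT T (E ⧸ LinearMap.range ι)) :=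
    isNoetherian_of_isNoetherianRing_of_finite R _
  have hN3 : IsNoetherian R (sat T ι) :=
    isNoetherian_of_range_eq_ker (toSat T ι) (satToTors T ι) (range_toSat_eq_ker T ι)
  infer_instance

end Construction

section Main

open Groth.Agent.Lib.Helper60.DimFunIcc Groth.Agent.Lib.Helper60.BootJ0

variable {A : Type u} [CommRing A] [IsNoetherianRing A]

/-- the finiteness condition of `H^i_T(M)`, `i ≤ 1`, from `depth(M_p) ≥ 1` at the points `p ∉ T`
immediately below `T`. -/
lemma cond_one (ω : Dual.D A) (hω : Dual.IsDualizing A ω)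
    (T' : Set (PrimeSpectrum A)) (M : Type u) [AddCommGroup M] [Module A M]
    (hM : ∀ p q : PrimeSpectrum A, p ⋖ q → q ∈ T' → p ∉ T' →
      1 ≤ LocCoh.depth (Localization.AtPrime p.asIdeal) (LocalizedModule p.asIdeal.primeCompl M))
    (p q : PrimeSpectrum A) (hp : p ∉ T') (hq : q ∈ T') (hpq : p ≤ q) :
    ((1 : ℕ) : WithBot ℕ∞) < ((LocCoh.depth (Localization.AtPrime p.asIdeal)
      (LocalizedModule p.asIdeal.primeCompl M) : ℕ∞) : WithBot ℕ∞) +
        Order.krullDim (Set.Icc p q) := by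
  obtain ⟨δ, hδ1, hδ2⟩ := Groth.Agent.S1722.result A ω hω
  rw [spec_krullDim_Icc_eq δ hδ2 p q hpq]
  have hne : p ≠ q := fun h => hp (h ▸ hq)
  have hlt : p < q := lt_of_le_of_ne hpq hne
  have := Groth.Agent.Lib.Helper6.DimFun.wellFoundedGT_primeSpectrum (A := A)
  have h1 := Groth.Agent.Lib.Helper6.DimFun.add_one_le_of_lt'
    Groth.Agent.Lib.Helper6.DimFun.height_lt_top δ hδ2 p q hlt
  rcases eq_or_ne (LocCoh.depth (Localization.AtPrime p.asIdeal)
      (LocalizedModule p.asIdeal.primeCompl M)) ⊤ with htop | hne'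
  · rw [htop]
    rw [← WithBot.coe_natCast, ← WithBot.coe_natCast, ← WithBot.coe_add, top_add,
      WithBot.coe_lt_coe]
    exact ENat.natCast_lt_top 1
  · obtain ⟨k, hk⟩ := ENat.ne_top_iff_exists.1 hne'
    rw [← hk]
    suffices h : 1 < k + (δ p - δ q).toNat by exact_mod_cast h
    by_contra hcon
    have hcov : p ⋖ q := ⟨hlt, fun r hpr hrq => by
      have h2 := Groth.Agent.Lib.Helper6.DimFun.add_one_le_of_lt'
        Groth.Agent.Lib.Helper6.DimFun.height_lt_top δ hδ2 p r hpr
      have h3 := Groth.Agent.Lib.Helper6.DimFun.add_one_le_of_lt'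
        Groth.Agent.Lib.Helper6.DimFun.height_lt_top δ hδ2 r q hrq
      omega⟩
    have h4 := hM p q hcov hq hp
    rw [← hk] at h4
    have h5 : 1 ≤ k := by exact_mod_cast h4
    omega

/-- **Stacks 0EI3 (affine form)**: a map `M → M''` which is an isomorphism away from `T'` and
with `depth(M''_p) ≥ 2` for `p ∈ T'`. -/
theorem main (hA : ∃ ω : Dual.D A, Dual.IsDualizing A ω) (T' : Set (PrimeSpectrum A))
    (hT : StableUnderSpecialization T') (M : Type u) [AddCommGroup M] [Module A M]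
    [Module.Finite A M]
    (hM : ∀ p q : PrimeSpectrum A, p ⋖ q → q ∈ T' → p ∉ T' →
      1 ≤ LocCoh.depth (Localization.AtPrime p.asIdeal) (LocalizedModule p.asIdeal.primeCompl M)) :
    ∃ (M'' : Type u) (_ : AddCommGroup M'') (_ : Module A M'') (_ : Module.Finite A M'')
      (f : M →ₗ[A] M''),
      (∀ p : PrimeSpectrum A, p ∉ T' →
        Function.Bijective (LocalizedModule.map p.asIdeal.primeCompl f)) ∧
      ∀ p : PrimeSpectrum A, p ∈ T' →
        2 ≤ LocCoh.depth (Localization.AtPrime p.asIdeal)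
          (LocalizedModule p.asIdeal.primeCompl M'') := by
  obtain ⟨ω, hω⟩ := hA
  have hfin1 : Module.Finite A (Dual2.HT T' 1 M) :=
    (Groth.Agent.S1727.result A ⟨ω, hω⟩ T' hT 1 M).mpr
      (fun p q hp hq hpq => cond_one ω hω T' M hM p q hp hq hpq) 1 le_rfl
  have htors : torsT T' (M ⧸ torsT T' M) = ⊥ := torsT_quotient_eq_bot T' M
  have hfin1' : Module.Finite A ((HTf T' 1).obj (ModuleCat.of A (M ⧸ torsT T' M))) := by
    have hfin0 : Module.Finite A ((HTf T' 1).obj (ModuleCat.of A M)) := hfin1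
    exact Module.Finite.equiv (LinearEquiv.ofBijective
      ((HTf T' 1).map (ModuleCat.ofHom (torsT T' M).mkQ)).hom
      (tMap_mkQ_torsT_bijective T' M 1 one_pos))
  obtain ⟨E, _, _, _, ι, hι, hE⟩ :=
    exists_injective_torsionfree_embedding T' (M ⧸ torsT T' M) htors
  have hfinP := finite_sat T' ι hι hE hfin1'
  refine ⟨sat T' ι, inferInstance, inferInstance, hfinP, toSat T' ι ∘ₗ (torsT T' M).mkQ, ?_, ?_⟩
  · intro p hp
    apply localizedModule_map_bijective
    · intro m hm
      have h1 : ι ((torsT T' M).mkQ m) = 0 := congrArg Subtype.val hm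
      have h2 : (torsT T' M).mkQ m = 0 := hι (h1.trans (map_zero ι).symm)
      rw [Submodule.mkQ_apply, Submodule.Quotient.mk_eq_zero] at h2
      exact Groth.Agent.Lib.Helper60.HTFour.exists_smul_eq_zero_of_mem_torsT h2 hp
    · intro n
      obtain ⟨𝔞, h𝔞, hk⟩ := exists_smul_mem_range T' ι n
      have : ¬ (𝔞 : Set A) ⊆ p.asIdeal := fun hle =>
        hp (h𝔞 ((PrimeSpectrum.mem_zeroLocus _ _).mpr hle))
      obtain ⟨a, ha𝔞, hap⟩ := Set.not_subset.mp this
      obtain ⟨m', hm'⟩ := hk a ha𝔞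
      obtain ⟨m, rfl⟩ := (torsT T' M).mkQ_surjective m'
      exact ⟨a, hap, m, hm'⟩
  · intro q hq
    have h0 := ht_zero_sat T' ι hE
    have h1 := ht_one_sat T' ι
    have hkill : ∀ i ≤ 1, ∀ a ∈ (⊤ : Ideal A),
        ∀ x : (HTf T' i).obj (ModuleCat.of A (sat T' ι)), a • x = 0 := by
      intro i hi a _ x
      rcases Nat.le_one_iff_eq_zero_or_eq_one.mp hi with rfl | rfl
      · rw [@Subsingleton.elim _ h0 x 0, smul_zero]
      · rw [@Subsingleton.elim _ h1 x 0, smul_zero]
    have htop : ¬ (⊤ : Ideal A) ≤ q.asIdeal := fun h =>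
      q.isPrime.ne_top (top_le_iff.mp h)
    have hvan := subsingleton_lc_of_kill hT 1 ⊤ (ModuleCat.of A (sat T' ι)) hkill q hq htop
    have hNB : IsNoetherianRing (Localization.AtPrime q.asIdeal) :=
      IsLocalization.isNoetherianRing q.asIdeal.primeCompl _ inferInstance
    have h2 := lt_depth_of_lc_subsingleton (B := Localization.AtPrime q.asIdeal)
      (LocalizedModule q.asIdeal.primeCompl (sat T' ι)) 1 (fun i hi => hvan i hi)
    have h3 := Order.add_one_le_of_lt h2
    have h4 : (((1 : ℕ) : ℕ∞) + 1) = 2 := by norm_num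
    rw [h4] at h3
    exact h3

end Main

end Groth.Agent.Lib.Helper60.DepthTwo
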