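import Groth.Agent.Lib.Helper93.SkKer
import Groth.Agent.Lib.Helper29.DepthLoc2
import Groth.Agent.Lib.Helper29.DepthSelf

/-!
# `(S_k)` for duals `Hom(N, A)` and `depth_J A ≥ k` from `(S_k)` (helper60; built on helper93's `SkKer`)
-/

set_option autoImplicit false
set_option linter.unusedSectionVars false
universe u

namespace Groth.Agent.Lib.Helper60.DualSk

open LocCoh Groth.Agent.Lib.Helper93.Depth

variable {A : Type u} [CommRing A] [IsNoetherianRing A]

/-- `(S_k)` for `A` implies `(S_k)` for `Hom_A(N, A)`, `N` finite, `k ≤ 2`. -/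
theorem hasSk_linearMap_self (N : Type u) [AddCommGroup N] [Module A N] [Module.Finite A N]
    (k : ℕ) (hk : k ≤ 2) (hA : HasSk k A A) : HasSk k A (N →ₗ[A] A) := by
  intro p _
  have hd : Module.supportDim (Localization.AtPrime p) (LocalizedModule p.primeCompl (N →ₗ[A] A)) ≤
      Module.supportDim (Localization.AtPrime p) (LocalizedModule p.primeCompl A) :=
    supportDim_localizedModule_le_of_support_subset p.primeCompl
      (by rw [support_self_eq_univ]; exact Set.subset_univ _)
  refine sk_transfer k _ _ _ _ hd (hA p) ?_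
  intro j hj hjY _
  have e := localizedHomEquiv p.primeCompl N A
  unfold LocCoh.depth at hjY ⊢
  rw [idealDepth_congr e]
  have hj2 : j ≤ 2 := le_trans hj hk
  interval_cases j
  · simp
  · exact one_le_idealDepth_linearMap (IsLocalRing.maximalIdeal (Localization.AtPrime p))
      (LocalizedModule p.primeCompl N) (LocalizedModule p.primeCompl A)
      (by simpa using hjY)
  · exact two_le_idealDepth_linearMap (IsLocalRing.maximalIdeal (Localization.AtPrime p))
      (LocalizedModule p.primeCompl N) (LocalizedModule p.primeCompl A)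
      (by simpa using hjY)

/-- `(S_k)` and `ht J ≥ k` give `depth_J A ≥ k`. -/
theorem le_idealDepth_of_hasSk (k : ℕ) (hA : HasSk k A A) (J : Ideal A)
    (hJ : (k : ℕ∞) ≤ J.height) : (k : ℕ∞) ≤ idealDepth J A := by
  rw [Groth.Agent.Lib.Helper29.idealDepth_eq_iInf_depth_localization]
  refine le_iInf₂ (fun p hJp => ?_)
  have h1 := hA p.asIdeal
  rw [Groth.Agent.Lib.Helper29.supportDim_localizedModule_self] at h1
  have h2 : (k : ℕ∞) ≤ p.asIdeal.height := hJ.trans (Ideal.height_mono hJp)
  have h3 : min (k : WithBot ℕ∞) ((p.asIdeal.height : ℕ∞) : WithBot ℕ∞) = (k : WithBot ℕ∞) := by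
    apply min_eq_left
    exact_mod_cast h2
  rw [h3] at h1
  exact_mod_cast h1

end Groth.Agent.Lib.Helper60.DualSk
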