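import Mathlib.CategoryTheory.Abelian.Ext
import Mathlib.CategoryTheory.Abelian.Projective.Ext
import Mathlib.Algebra.Category.ModuleCat.Ext.HasExt
import Mathlib.Algebra.Homology.ConcreteCategory
import Mathlib.Algebra.Homology.ShortComplex.ModuleCat
import Mathlib.Algebra.Homology.DerivedCategory.Ext.Linear

set_option autoImplicit false
universe u
open CategoryTheory CategoryTheory.Limits Opposite

namespace Groth.Agent.Lib.Helper60

variable {R : Type u} [CommRing R]
variable {X : ModuleCat.{u} R} (P : ProjectiveResolution X) (n : ℕ)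

/-- post-composition as a morphism of cochain complexes `Hom(P, Y) ⟶ Hom(P, Y')`. -/
noncomputable def yonedaMapRight {Y Y' : ModuleCat.{u} R} (g : Y ⟶ Y') :
    P.complex.linearYonedaObj R Y ⟶ P.complex.linearYonedaObj R Y' where
  f i := ModuleCat.ofHom (Linear.rightComp R (P.complex.X i) g)
  comm' i j _ := by
    ext f
    exact (Category.assoc (P.complex.d j i) (show P.complex.X i ⟶ Y from f) g).symm

lemma yonedaMapRight_eq {Y Y' : ModuleCat.{u} R} (g : Y ⟶ Y') :
   yonedaMapRight P g = (HomologicalComplex.unopFunctor _ _).map (((NatTrans.mapHomologicalComplex (NatTrans.rightOp ((linearYoneda R (ModuleCat.{u} R)).map g)) (ComplexShape.down ℕ)).app P.complex)).op := by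
  rfl


set_option backward.isDefEq.respectTransparency false in
lemma homologyUnop_hom_naturality {V : Type*} [Category V] [Abelian V] {ι : Type*} {c : ComplexShape ι}
    {K L : HomologicalComplex Vᵒᵖ c} (ψ : K ⟶ L) (i : ι) :
    HomologicalComplex.homologyMap ((HomologicalComplex.unopFunctor V c).map ψ.op) i ≫
      (K.homologyUnop i).hom = (L.homologyUnop i).hom ≫ (HomologicalComplex.homologyMap ψ i).unop := by
  have := HomologicalComplex.homologyOp_hom_naturality ((HomologicalComplex.unopFunctor V c).map ψ.op) i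
  apply Quiver.Hom.op_inj
  rw [op_comp, op_comp]
  exact this.symm


set_option backward.isDefEq.respectTransparency false in
lemma homologyUnop_inv_naturality {V : Type*} [Category V] [Abelian V] {ι : Type*} {c : ComplexShape ι}
    {K L : HomologicalComplex Vᵒᵖ c} (ψ : K ⟶ L) (i : ι) :
    (L.homologyUnop i).inv ≫ HomologicalComplex.homologyMap ((HomologicalComplex.unopFunctor V c).map ψ.op) i =
      (HomologicalComplex.homologyMap ψ i).unop ≫ (K.homologyUnop i).inv := by
  rw [← cancel_mono (K.homologyUnop i).hom, Category.assoc, Category.assoc, Iso.inv_hom_id,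
    Category.comp_id, homologyUnop_hom_naturality, Iso.inv_hom_id_assoc]

set_option backward.isDefEq.respectTransparency false in
lemma isoExt_hom_naturality_right {Y Y' : ModuleCat.{u} R} (g : Y ⟶ Y') :
    ((Ext R (ModuleCat.{u} R) n).obj (op X)).map g ≫ (P.isoExt n Y').hom =
      (P.isoExt n Y).hom ≫ HomologicalComplex.homologyMap (yonedaMapRight P g) n := by
  let α := NatTrans.rightOp ((linearYoneda R (ModuleCat.{u} R)).map g)
  have h1 : ((Ext R (ModuleCat.{u} R) n).obj (op X)).map g =
      ((NatTrans.leftDerived α n).app X).unop := rfl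
  rw [h1, ProjectiveResolution.leftDerived_app_eq α P n]
  dsimp only [ProjectiveResolution.isoExt, Iso.trans_hom, Iso.symm_hom, Iso.unop_inv]
  simp only [unop_comp, Category.assoc]
  have h2 : (P.isoLeftDerivedObj ((linearYoneda R (ModuleCat R)).obj Y').rightOp n).hom.unop ≫
      (P.isoLeftDerivedObj ((linearYoneda R (ModuleCat R)).obj Y').rightOp n).unop.inv = 𝟙 _ := by
    rw [Iso.unop_inv, ← unop_comp, Iso.inv_hom_id, unop_id]
  rw [reassoc_of% h2]
  congr 1
  exact (homologyUnop_inv_naturality ((NatTrans.mapHomologicalComplex α (ComplexShape.down ℕ)).app P.complex) n).symm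


/-- pre-composition as a morphism of cochain complexes `Hom(P, Y) ⟶ Hom(P', Y)`. -/
noncomputable def yonedaMapLeft {X' : ModuleCat.{u} R} {P' : ProjectiveResolution X'}
    (φ : P'.complex ⟶ P.complex) (Y : ModuleCat.{u} R) :
    P.complex.linearYonedaObj R Y ⟶ P'.complex.linearYonedaObj R Y where
  f i := ModuleCat.ofHom (Linear.leftComp R Y (φ.f i))
  comm' i j _ := by
    ext f
    have := φ.comm j i
    exact (((Category.assoc (φ.f j) (P.complex.d j i) (show P.complex.X i ⟶ Y from f)).symm.trans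
      (congrArg (· ≫ (show P.complex.X i ⟶ Y from f)) this)).trans
      (Category.assoc (P'.complex.d j i) (φ.f i) (show P.complex.X i ⟶ Y from f))).symm

set_option backward.isDefEq.respectTransparency false in
lemma isoExt_hom_naturality_left {X' : ModuleCat.{u} R} (P' : ProjectiveResolution X') (f : X' ⟶ X)
    (φ : P'.complex ⟶ P.complex) (comm : φ.f 0 ≫ P.π.f 0 = P'.π.f 0 ≫ f) (Y : ModuleCat.{u} R) :
    ((Ext R (ModuleCat.{u} R) n).map f.op).app Y ≫ (P'.isoExt n Y).hom =
      (P.isoExt n Y).hom ≫ HomologicalComplex.homologyMap (yonedaMapLeft P φ Y) n := by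
  let G := ((linearYoneda R (ModuleCat.{u} R)).obj Y).rightOp
  have h1 : ((Ext R (ModuleCat.{u} R) n).map f.op).app Y = ((G.leftDerived n).map f).unop := rfl
  have h2 : (G.leftDerived n).map f = (P'.isoLeftDerivedObj G n).hom ≫
      (G.mapHomologicalComplex _ ⋙ HomologicalComplex.homologyFunctor _ _ n).map φ ≫
        (P.isoLeftDerivedObj G n).inv := by
    rw [← cancel_mono (P.isoLeftDerivedObj G n).hom,
      ProjectiveResolution.isoLeftDerivedObj_hom_naturality f P' P φ comm G n]
    simp
  rw [h1, h2]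
  dsimp only [ProjectiveResolution.isoExt, Iso.trans_hom, Iso.symm_hom, Iso.unop_inv]
  simp only [unop_comp, Category.assoc]
  have h3 : (P'.isoLeftDerivedObj G n).hom.unop ≫ (P'.isoLeftDerivedObj G n).unop.inv = 𝟙 _ := by
    rw [Iso.unop_inv, ← unop_comp, Iso.inv_hom_id, unop_id]
  rw [reassoc_of% h3]
  congr 1
  exact (homologyUnop_inv_naturality ((G.mapHomologicalComplex (ComplexShape.down ℕ)).map φ) n).symm


section elements

variable (Y : ModuleCat.{u} R)

/-- the cycle of `Hom(P, Y)` attached to a cocycle `f : P_n ⟶ Y`. -/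
noncomputable def cocycleMk (f : P.complex.X n ⟶ Y) (hf : P.complex.d (n + 1) n ≫ f = 0) :
    ((P.complex.linearYonedaObj R Y).cycles n : Type u) :=
  (P.complex.linearYonedaObj R Y).cyclesMk (C := ModuleCat.{u} R) f (n + 1) (by simp) hf


lemma iCycles_cocycleMk (f : P.complex.X n ⟶ Y) (hf : P.complex.d (n + 1) n ≫ f = 0) :
    ((P.complex.linearYonedaObj R Y).iCycles n).hom (cocycleMk P n Y f hf) = f :=
  (P.complex.linearYonedaObj R Y).i_cyclesMk (C := ModuleCat.{u} R) f (n + 1) (by simp) hf

lemma iCycles_injective :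
    Function.Injective ((P.complex.linearYonedaObj R Y).iCycles n).hom :=
  (ModuleCat.mono_iff_injective _).mp inferInstance

lemma d_iCycles (z : ((P.complex.linearYonedaObj R Y).cycles n : Type u)) :
    P.complex.d (n + 1) n ≫ (show P.complex.X n ⟶ Y from
      ((P.complex.linearYonedaObj R Y).iCycles n).hom z) = 0 := by
  have := (P.complex.linearYonedaObj R Y).iCycles_d n (n + 1)
  have h2 := congrArg (fun φ => φ.hom z) this
  exact h2

lemma cocycleMk_iCycles (z : ((P.complex.linearYonedaObj R Y).cycles n : Type u)) :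
    cocycleMk P n Y (((P.complex.linearYonedaObj R Y).iCycles n).hom z) (d_iCycles P n Y z) = z := by
  apply iCycles_injective
  exact iCycles_cocycleMk P n Y _ _

/-- the class in the old `Ext` of a cocycle. -/
noncomputable def oldMk (f : P.complex.X n ⟶ Y) (hf : P.complex.d (n + 1) n ≫ f = 0) :
    ((Ext R (ModuleCat.{u} R) n).obj (op X)).obj Y :=
  (P.isoExt n Y).inv.hom (((P.complex.linearYonedaObj R Y).homologyπ n).hom (cocycleMk P n Y f hf))

lemma oldMk_surjective (x : ((Ext R (ModuleCat.{u} R) n).obj (op X)).obj Y) :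
    ∃ (f : P.complex.X n ⟶ Y) (hf : P.complex.d (n + 1) n ≫ f = 0), oldMk P n Y f hf = x := by
  have hsurj : Function.Surjective ((P.complex.linearYonedaObj R Y).homologyπ n).hom :=
    (ModuleCat.epi_iff_surjective _).mp inferInstance
  obtain ⟨z, hz⟩ := hsurj ((P.isoExt n Y).hom.hom x)
  refine ⟨_, d_iCycles P n Y z, ?_⟩
  unfold oldMk
  rw [cocycleMk_iCycles, hz]
  exact congrArg (fun φ => φ.hom x) (P.isoExt n Y).hom_inv_id


lemma cocycleMk_add (f g : P.complex.X n ⟶ Y) (hf : P.complex.d (n + 1) n ≫ f = 0)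
    (hg : P.complex.d (n + 1) n ≫ g = 0) :
    cocycleMk P n Y (f + g) (by rw [Preadditive.comp_add, hf, hg, add_zero]) =
      cocycleMk P n Y f hf + cocycleMk P n Y g hg := by
  apply iCycles_injective
  rw [map_add]
  erw [iCycles_cocycleMk, iCycles_cocycleMk, iCycles_cocycleMk]
  rfl

lemma cocycleMk_smul (r : R) (f : P.complex.X n ⟶ Y) (hf : P.complex.d (n + 1) n ≫ f = 0) :
    cocycleMk P n Y (r • f) (by rw [Linear.comp_smul, hf, smul_zero]) =
      r • cocycleMk P n Y f hf := by
  apply iCycles_injective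
  rw [map_smul]
  erw [iCycles_cocycleMk, iCycles_cocycleMk]
  rfl

lemma oldMk_add (f g : P.complex.X n ⟶ Y) (hf : P.complex.d (n + 1) n ≫ f = 0)
    (hg : P.complex.d (n + 1) n ≫ g = 0) :
    oldMk P n Y (f + g) (by rw [Preadditive.comp_add, hf, hg, add_zero]) =
      oldMk P n Y f hf + oldMk P n Y g hg := by
  unfold oldMk
  rw [cocycleMk_add, map_add, map_add]

lemma oldMk_smul (r : R) (f : P.complex.X n ⟶ Y) (hf : P.complex.d (n + 1) n ≫ f = 0) :
    oldMk P n Y (r • f) (by rw [Linear.comp_smul, hf, smul_zero]) = r • oldMk P n Y f hf := by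
  unfold oldMk
  rw [cocycleMk_smul, map_smul, map_smul]

lemma oldMk_eq_zero_iff' (f : P.complex.X n ⟶ Y) (hf : P.complex.d (n + 1) n ≫ f = 0) :
    oldMk P n Y f hf = 0 ↔
      ∃ g : ((P.complex.linearYonedaObj R Y).X ((ComplexShape.up ℕ).prev n) : Type u),
        ((P.complex.linearYonedaObj R Y).d ((ComplexShape.up ℕ).prev n) n).hom g = f := by
  let K := P.complex.linearYonedaObj R Y
  let T' := ShortComplex.mk (K.toCycles ((ComplexShape.up ℕ).prev n) n) (K.homologyπ n) (by simp)
  have hT : T'.Exact := T'.exact_of_g_is_cokernel (K.homologyIsCokernel _ n rfl)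
  rw [ShortComplex.moduleCat_exact_iff] at hT
  have hinj : Function.Injective (P.isoExt (R := R) n Y).inv.hom := by
    intro a b hab
    have := congrArg (P.isoExt (R := R) n Y).hom.hom hab
    have e := fun t => congrArg (fun φ => φ.hom t) (P.isoExt (R := R) n Y).inv_hom_id
    simp only [ModuleCat.hom_comp, LinearMap.coe_comp, Function.comp_apply, ModuleCat.hom_id,
      LinearMap.id_coe, id_eq] at e
    rwa [e, e] at this
  constructor
  · intro h
    have h0 : (K.homologyπ n).hom (cocycleMk P n Y f hf) = 0 := by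
      apply hinj
      rw [map_zero]
      exact h
    obtain ⟨g, hg⟩ := hT _ h0
    refine ⟨g, ?_⟩
    have := congrArg (K.iCycles n).hom hg
    rw [iCycles_cocycleMk] at this
    rw [← this]
    have h3 := K.toCycles_i ((ComplexShape.up ℕ).prev n) n
    exact (congrArg (fun φ => φ.hom g) h3).symm
  · rintro ⟨g, hg⟩
    unfold oldMk
    have : cocycleMk P n Y f hf = (K.toCycles ((ComplexShape.up ℕ).prev n) n).hom g := by
      apply iCycles_injective
      rw [iCycles_cocycleMk, ← hg]
      have h3 := K.toCycles_i ((ComplexShape.up ℕ).prev n) n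
      exact (congrArg (fun φ => φ.hom g) h3).symm
    rw [this]
    have h4 := K.toCycles_comp_homologyπ ((ComplexShape.up ℕ).prev n) n
    have h5 := congrArg (fun φ => φ.hom g) h4
    simp only [ModuleCat.hom_comp, LinearMap.coe_comp, Function.comp_apply] at h5
    rw [h5]
    simp


lemma oldMk_eq_zero_iff'' (q : ℕ) (hq : (ComplexShape.up ℕ).prev n = q)
    (f : P.complex.X n ⟶ Y) (hf : P.complex.d (n + 1) n ≫ f = 0) :
    oldMk P n Y f hf = 0 ↔
      ∃ g : P.complex.X q ⟶ Y, ((P.complex.linearYonedaObj R Y).d q n).hom g = f := by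
  subst hq
  exact oldMk_eq_zero_iff' P n Y f hf

lemma oldMk_eq_zero_iff (p : ℕ) (hp : p + 1 = n)
    (f : P.complex.X n ⟶ Y) (hf : P.complex.d (n + 1) n ≫ f = 0) :
    oldMk P n Y f hf = 0 ↔ ∃ g : P.complex.X p ⟶ Y, P.complex.d n p ≫ g = f := by
  subst hp
  exact oldMk_eq_zero_iff'' P (p + 1) Y p (CochainComplex.prev_nat_succ p) f hf

lemma oldMk_zero_eq_zero_iff (f : P.complex.X 0 ⟶ Y) (hf : P.complex.d (0 + 1) 0 ≫ f = 0) :
    oldMk P 0 Y f hf = 0 ↔ f = 0 := by
  rw [oldMk_eq_zero_iff'' P 0 Y 0 CochainComplex.prev_nat_zero f hf]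
  have h0 : (P.complex.linearYonedaObj R Y).d 0 0 = 0 :=
    (P.complex.linearYonedaObj R Y).shape 0 0 (by simp)
  rw [h0]
  constructor
  · rintro ⟨g, hg⟩
    rw [← hg]
    rfl
  · intro h
    exact ⟨0, by rw [h]; rfl⟩


lemma isoExt_inv_hom_apply (x : ((Ext R (ModuleCat.{u} R) n).obj (op X)).obj Y) :
    (P.isoExt (R := R) n Y).inv.hom ((P.isoExt (R := R) n Y).hom.hom x) = x :=
  congrArg (fun φ => φ.hom x) (P.isoExt (R := R) n Y).hom_inv_id

lemma isoExt_hom_inv_apply (x : ((P.complex.linearYonedaObj R Y).homology n : Type u)) :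
    (P.isoExt (R := R) n Y).hom.hom ((P.isoExt (R := R) n Y).inv.hom x) = x :=
  congrArg (fun φ => φ.hom x) (P.isoExt (R := R) n Y).inv_hom_id

lemma isoExt_hom_oldMk (f : P.complex.X n ⟶ Y) (hf : P.complex.d (n + 1) n ≫ f = 0) :
    (P.isoExt (R := R) n Y).hom.hom (oldMk P n Y f hf) =
      ((P.complex.linearYonedaObj R Y).homologyπ n).hom (cocycleMk P n Y f hf) :=
  isoExt_hom_inv_apply P n Y _

end elements

lemma map_oldMk {Y Y' : ModuleCat.{u} R} (g : Y ⟶ Y') (f : P.complex.X n ⟶ Y)
    (hf : P.complex.d (n + 1) n ≫ f = 0) :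
    (((Ext R (ModuleCat.{u} R) n).obj (op X)).map g).hom (oldMk P n Y f hf) =
      oldMk P n Y' (f ≫ g) (by rw [← Category.assoc, hf, zero_comp]) := by
  have h1 := isoExt_hom_naturality_right (R := R) P n g
  have h2 := congrArg (fun φ => φ.hom (oldMk P n Y f hf)) h1
  simp only [ModuleCat.hom_comp, LinearMap.coe_comp, Function.comp_apply] at h2
  rw [isoExt_hom_oldMk] at h2
  have h3 := HomologicalComplex.homologyπ_naturality (yonedaMapRight P g) n
  have h4 := congrArg (fun φ => φ.hom (cocycleMk P n Y f hf)) h3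
  simp only [ModuleCat.hom_comp, LinearMap.coe_comp, Function.comp_apply] at h4
  rw [h4] at h2
  have h5 : (HomologicalComplex.cyclesMap (yonedaMapRight P g) n).hom (cocycleMk P n Y f hf) =
      cocycleMk P n Y' (f ≫ g) (by rw [← Category.assoc, hf, zero_comp]) := by
    apply iCycles_injective
    rw [iCycles_cocycleMk]
    have h6 := HomologicalComplex.cyclesMap_i (yonedaMapRight P g) n
    have h7 := congrArg (fun φ => φ.hom (cocycleMk P n Y f hf)) h6
    simp only [ModuleCat.hom_comp, LinearMap.coe_comp, Function.comp_apply] at h7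
    rw [h7, iCycles_cocycleMk]
    rfl
  rw [h5] at h2
  have h8 := congrArg (P.isoExt (R := R) n Y').inv.hom h2
  rw [isoExt_inv_hom_apply] at h8
  exact h8

lemma mapLeft_oldMk {X' : ModuleCat.{u} R} (P' : ProjectiveResolution X') (f : X' ⟶ X)
    (φ : P'.complex ⟶ P.complex) (comm : φ.f 0 ≫ P.π.f 0 = P'.π.f 0 ≫ f) (Y : ModuleCat.{u} R)
    (h : P.complex.X n ⟶ Y) (hh : P.complex.d (n + 1) n ≫ h = 0) :
    (((Ext R (ModuleCat.{u} R) n).map f.op).app Y).hom (oldMk P n Y h hh) =
      oldMk P' n Y (φ.f n ≫ h) (by rw [← Category.assoc, ← φ.comm, Category.assoc, hh, comp_zero]) := by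
  have h1 := isoExt_hom_naturality_left (R := R) P n P' f φ comm Y
  have h2 := congrArg (fun ψ => ψ.hom (oldMk P n Y h hh)) h1
  simp only [ModuleCat.hom_comp, LinearMap.coe_comp, Function.comp_apply] at h2
  rw [isoExt_hom_oldMk] at h2
  have h3 := HomologicalComplex.homologyπ_naturality (yonedaMapLeft P φ Y) n
  have h4 := congrArg (fun ψ => ψ.hom (cocycleMk P n Y h hh)) h3
  simp only [ModuleCat.hom_comp, LinearMap.coe_comp, Function.comp_apply] at h4
  rw [h4] at h2
  have h5 : (HomologicalComplex.cyclesMap (yonedaMapLeft P φ Y) n).hom (cocycleMk P n Y h hh) =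
      cocycleMk P' n Y (φ.f n ≫ h)
        (by rw [← Category.assoc, ← φ.comm, Category.assoc, hh, comp_zero]) := by
    apply iCycles_injective
    rw [iCycles_cocycleMk]
    have h6 := HomologicalComplex.cyclesMap_i (yonedaMapLeft P φ Y) n
    have h7 := congrArg (fun ψ => ψ.hom (cocycleMk P n Y h hh)) h6
    simp only [ModuleCat.hom_comp, LinearMap.coe_comp, Function.comp_apply] at h7
    rw [h7, iCycles_cocycleMk]
    rfl
  rw [h5] at h2
  have h8 := congrArg (P'.isoExt (R := R) n Y).inv.hom h2
  rw [isoExt_inv_hom_apply] at h8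
  exact h8

end Groth.Agent.Lib.Helper60
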