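import Groth.Agent.Lib.Helper60.LocalCohCd

/-!
# Faltings' annihilator lemmas, I (helper60)

* `exists_free_approx` : a finite module free at `p` receives a map from a finite free module whose
  kernel and cokernel are killed by one element outside `p`.
* `lc_smul_eq_zero_of_smul_eq_zero` : an element killing `N` kills `H^i_J(N)`.
* `lc_sq_smul_eq_zero` : if `s` kills kernel and cokernel of `φ : F → M` and `H^i_J(F) = 0` then
  `s^2` kills `H^i_J(M)`.
* `lc_ring_subsingleton_of_lt_idealDepth` : `H^i_b(R) = 0` for `i < depth_b R`.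
-/

set_option autoImplicit false
universe u
open CategoryTheory CategoryTheory.Limits Opposite Abelian

namespace Groth.Agent.Lib.Helper60

/-- a finite module killed elementwise outside `p` is killed by a single element outside `p`. -/
lemma exists_notMem_forall_smul_eq_zero {R : Type*} [CommRing R] (N : Type*) [AddCommGroup N]
    [Module R N] [Module.Finite R N] (p : Ideal R) [hp : p.IsPrime]
    (h : ∀ x : N, ∃ r ∉ p, r • x = 0) : ∃ s ∉ p, ∀ x : N, s • x = 0 := by
  have hsupp : (⟨p, hp⟩ : PrimeSpectrum R) ∉ Module.support R N :=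
    Module.notMem_support_iff'.mpr h
  rw [Module.mem_support_iff_of_finite, SetLike.not_le_iff_exists] at hsupp
  obtain ⟨s, hs, hsp⟩ := hsupp
  exact ⟨s, hsp, fun x => Module.mem_annihilator.mp hs x⟩

theorem exists_free_approx {R : Type u} [CommRing R] [IsNoetherianRing R] (M : Type u)
    [AddCommGroup M] [Module R M] [Module.Finite R M] (p : Ideal R) [p.IsPrime]
    [Module.Free (Localization.AtPrime p) (LocalizedModule p.primeCompl M)] :
    ∃ (t : ℕ) (φ : (Fin t → R) →ₗ[R] M) (s : R), s ∉ p ∧
      (∀ k ∈ LinearMap.ker φ, s • k = 0) ∧ (∀ x : M, s • x ∈ LinearMap.range φ) := by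
  classical
  let Rp := Localization.AtPrime p
  let Mp := LocalizedModule p.primeCompl M
  let ι := Module.Free.ChooseBasisIndex Rp Mp
  let b₀ : Module.Basis ι Rp Mp := Module.Free.chooseBasis Rp Mp
  let b : Module.Basis (Fin (Fintype.card ι)) Rp Mp := b₀.reindex (Fintype.equivFin ι)
  set t := Fintype.card ι
  -- representatives
  have hrep : ∀ j, ∃ (m : M) (s : p.primeCompl), LocalizedModule.mk m s = b j := by
    intro j
    generalize b j = y
    induction y using LocalizedModule.induction_on with
    | h m s => exact ⟨m, s, rfl⟩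
  choose m s hms using hrep
  let φ : (Fin t → R) →ₗ[R] M := Fintype.linearCombination R m
  -- the images `mk (m j) 1` are linearly independent
  have hunit : ∀ j, LocalizedModule.mk (m j) (1 : p.primeCompl) =
      (algebraMap R Rp (s j : R)) • b j := by
    intro j
    rw [← hms j, algebraMap_smul, LocalizedModule.smul'_mk, LocalizedModule.mk_eq]
    refine ⟨1, ?_⟩
    simp [Submonoid.smul_def]
  have hli : LinearIndependent Rp (fun j => LocalizedModule.mk (m j) (1 : p.primeCompl)) := by
    have hu : ∀ j, IsUnit (algebraMap R Rp (s j : R)) := fun j =>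
      IsLocalization.map_units Rp (s j)
    have := b.linearIndependent.units_smul (fun j => (hu j).unit)
    convert this using 1
    funext j
    rw [hunit j]
    rfl
  -- kernel
  have hker : ∀ k : LinearMap.ker φ, ∃ r ∉ p, r • k = 0 := by
    rintro ⟨k, hk⟩
    have hk' : ∑ j, k j • m j = 0 := by
      have := LinearMap.mem_ker.mp hk
      rwa [Fintype.linearCombination_apply] at this
    have h0 : ∑ j, (algebraMap R Rp (k j)) • LocalizedModule.mk (m j) (1 : p.primeCompl) = 0 := by
      have h1 : LocalizedModule.mkLinearMap p.primeCompl M (∑ j, k j • m j) = 0 := by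
        rw [hk', map_zero]
      rw [map_sum] at h1
      rw [← h1]
      apply Finset.sum_congr rfl
      intro j _
      rw [map_smul, algebraMap_smul]
      rfl
    have h2 := (Fintype.linearIndependent_iff.mp hli) (fun j => algebraMap R Rp (k j)) h0
    have h3 : ∀ j, ∃ w : p.primeCompl, (w : R) * k j = 0 := by
      intro j
      exact (IsLocalization.map_eq_zero_iff p.primeCompl Rp (k j)).mp (h2 j)
    choose w hw using h3
    refine ⟨∏ j, (w j : R), ?_, ?_⟩
    · exact (∏ j, w j).2 |> fun h => by simpa using h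
    · apply Subtype.ext
      funext j
      show (∏ i, (w i : R)) * k j = 0
      rw [← Finset.mul_prod_erase Finset.univ (fun i => (w i : R)) (Finset.mem_univ j),
        mul_comm (w j : R), mul_assoc, hw j, mul_zero]
  -- cokernel
  have hcoker : ∀ x : M ⧸ LinearMap.range φ, ∃ r ∉ p, r • x = 0 := by
    intro x
    obtain ⟨x, rfl⟩ := Submodule.Quotient.mk_surjective _ x
    let N' := Submodule.localized' Rp p.primeCompl (LocalizedModule.mkLinearMap p.primeCompl M)
      (LinearMap.range φ)
    have htop : N' = ⊤ := by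
      rw [eq_top_iff, ← b.span_eq, Submodule.span_le]
      rintro _ ⟨j, rfl⟩
      refine ⟨m j, ⟨Pi.single j 1, ?_⟩, s j, ?_⟩
      · show Fintype.linearCombination R m (Pi.single j 1) = m j
        rw [Fintype.linearCombination_apply_single, one_smul]
      · rw [← hms j]
        exact (IsLocalizedModule.mk_eq_mk' (s j) (m j)).symm
    have hx : LocalizedModule.mk x (1 : p.primeCompl) ∈ N' := htop ▸ Submodule.mem_top
    obtain ⟨n, hn, u, hu⟩ := hx
    rw [← IsLocalizedModule.mk_eq_mk', LocalizedModule.mk_eq] at hu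
    obtain ⟨v, hv⟩ := hu
    refine ⟨(v : R) * (u : R), (v * u).2, ?_⟩
    rw [← Submodule.Quotient.mk_smul, Submodule.Quotient.mk_eq_zero]
    have : ((v : R) * (u : R)) • x = (v : R) • n := by
      have := hv
      simp only [Submonoid.smul_def, one_smul] at this
      rw [mul_smul]
      exact this.symm
    rw [this]
    exact Submodule.smul_mem _ _ hn
  obtain ⟨s₁, hs₁, h₁⟩ := exists_notMem_forall_smul_eq_zero (LinearMap.ker φ) p hker
  obtain ⟨s₂, hs₂, h₂⟩ := exists_notMem_forall_smul_eq_zero (M ⧸ LinearMap.range φ) p hcoker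
  refine ⟨t, φ, s₁ * s₂, ?_, ?_, ?_⟩
  · exact fun h => (Ideal.IsPrime.mem_or_mem inferInstance h).elim hs₁ hs₂
  · intro k hk
    have := congrArg Subtype.val (h₁ ⟨k, hk⟩)
    rw [mul_comm, mul_smul]
    show s₂ • s₁ • k = 0
    rw [show s₁ • k = 0 from this, smul_zero]
  · intro x
    have := h₂ (Submodule.Quotient.mk x)
    rw [← Submodule.Quotient.mk_smul, Submodule.Quotient.mk_eq_zero] at this
    rw [mul_smul]
    exact Submodule.smul_mem _ _ this

variable {R : Type u} [CommRing R]

/-- an element killing `N` kills `H^i_J(N)`. -/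
lemma lc_smul_eq_zero_of_smul_eq_zero (J : Ideal R) (i : ℕ) (N : ModuleCat.{u} R) (s : R)
    (hs : ∀ x : N, s • x = 0) (y : (localCohomology J i).obj N) : s • y = 0 := by
  rw [← lcMap_smul_id]
  have h0 : s • 𝟙 N = 0 := by
    ext x
    exact hs x
  rw [h0]
  obtain ⟨n, x, rfl⟩ := lcMk_surj J i N y
  rw [lcMap_lcMk, Ext.mk₀_zero, Ext.comp_zero, lcMk_zero]

/-- if `s` kills `S.X₃` then `s • x` comes from `H^i_J(S.X₁)`. -/
lemma lc_smul_mem_range_of_smul_eq_zero (J : Ideal R) {S : ShortComplex (ModuleCat.{u} R)}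
    (hS : S.ShortExact) (i : ℕ) (s : R) (hs : ∀ c : S.X₃, s • c = 0)
    (x : (localCohomology J i).obj S.X₂) :
    ∃ y : (localCohomology J i).obj S.X₁, ((localCohomology J i).map S.f).hom y = s • x := by
  apply lc_exact₂ J hS i (s • x)
  rw [map_smul]
  exact lc_smul_eq_zero_of_smul_eq_zero J i S.X₃ s hs _

/-- if `s` kills `S.X₁` and `H^i_J(S.X₂) = 0` then `s` kills `H^i_J(S.X₃)`. -/
lemma lc_smul_eq_zero_X₃ (J : Ideal R) {S : ShortComplex (ModuleCat.{u} R)}
    (hS : S.ShortExact) (i : ℕ) (s : R) (hs : ∀ k : S.X₁, s • k = 0)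
    (h2 : Subsingleton ((localCohomology J i).obj S.X₂))
    (y : (localCohomology J i).obj S.X₃) : s • y = 0 := by
  have h3 : lcDelta J hS i (s • y) = 0 := by
    rw [map_smul]
    exact lc_smul_eq_zero_of_smul_eq_zero J (i + 1) S.X₁ s hs _
  obtain ⟨z, hz⟩ := lc_exact₃ J hS i (s • y) h3
  rw [← hz, Subsingleton.elim z 0, map_zero]

/-- if `s` kills the kernel and the cokernel of `φ : F → M` and `H^i_J(F) = 0`, then `s^2` kills
`H^i_J(M)`. -/
theorem lc_sq_smul_eq_zero (J : Ideal R) (i : ℕ) {F M : Type u} [AddCommGroup F] [Module R F]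
    [AddCommGroup M] [Module R M] (φ : F →ₗ[R] M) (s : R)
    (hker : ∀ k ∈ LinearMap.ker φ, s • k = 0) (hcoker : ∀ x : M, s • x ∈ LinearMap.range φ)
    (hF : Subsingleton ((localCohomology J i).obj (ModuleCat.of R F)))
    (x : (localCohomology J i).obj (ModuleCat.of R M)) : (s * s) • x = 0 := by
  have hS1 := sesOfSurjective_shortExact φ.rangeRestrict φ.surjective_rangeRestrict
  have hS2 := sesOfSubmodule_shortExact (LinearMap.range φ)
  let N := LinearMap.range φ
  let ι : ModuleCat.of R N ⟶ ModuleCat.of R M := ModuleCat.ofHom N.subtype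
  obtain ⟨y, hy⟩ : ∃ y : (localCohomology J i).obj (ModuleCat.of R N),
      ((localCohomology J i).map ι).hom y = s • x := by
    apply lc_smul_mem_range_of_smul_eq_zero J hS2 i s
    intro c
    obtain ⟨m, rfl⟩ := N.mkQ_surjective c
    have h1 : s • N.mkQ m = N.mkQ (s • m) := (map_smul _ _ _).symm
    exact h1.trans ((Submodule.Quotient.mk_eq_zero _).mpr (hcoker m))
  have h2 : s • y = 0 := by
    apply lc_smul_eq_zero_X₃ J hS1 i s _ hF y
    rintro ⟨k, hk⟩
    apply Subtype.ext
    apply hker k
    have := congrArg Subtype.val (LinearMap.mem_ker.mp hk)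
    exact this
  rw [mul_smul, ← hy, ← map_smul, h2, map_zero]

/-- `H^i_b(R) = 0` for `i < depth_b R`. -/
theorem lc_ring_subsingleton_of_lt_idealDepth (b : Ideal R) (hb : b ≠ ⊤) (i : ℕ)
    (hi : (i : ℕ∞) < LocCoh.idealDepth b R) :
    Subsingleton ((localCohomology b i).obj (ModuleCat.of R R)) := by
  have h1 : ((i + 1 : ℕ) : ℕ∞) ≤ LocCoh.idealDepth b R := by
    push_cast
    exact Order.add_one_le_of_lt hi
  rw [Groth.Agent.Lib.Helper29.le_idealDepth_iff] at h1
  rcases h1 with h1 | ⟨rs, hlen, hmem, hreg⟩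
  · exfalso
    apply hb
    rw [smul_eq_mul, Ideal.mul_top] at h1
    exact h1
  · exact lc_subsingleton_of_isWeaklyRegular b rs R hreg hmem i (by omega)

end Groth.Agent.Lib.Helper60
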