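import Groth.Agent.Lib.Helper60.Faltings1
import Mathlib.RingTheory.LocalProperties.Projective
import Mathlib.Algebra.Module.LocalizedModule.Exact
import Mathlib.CategoryTheory.Abelian.Projective.Dimension
import Mathlib.RingTheory.LocalRing.Module

/-!
# Faltings' annihilator lemmas, II: finite projective dimension at a prime (helper60)
-/

set_option autoImplicit false
universe u
open CategoryTheory CategoryTheory.Limits Opposite Abelian

namespace Groth.Agent.Lib.Helper60

variable {R : Type u} [CommRing R]

/-- Faltings' lemma for modules free at `p` (possibly zero there). -/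
theorem faltings_free [IsNoetherianRing R] (M : Type u) [AddCommGroup M] [Module R M]
    [Module.Finite R M] (p : Ideal R) [p.IsPrime]
    [Module.Free (Localization.AtPrime p) (LocalizedModule p.primeCompl M)] :
    ∃ s : R, s ∉ p ∧ ∀ (b : Ideal R), b ≠ ⊤ → ∀ (i : ℕ), (i : ℕ∞) < LocCoh.idealDepth b R →
      ∀ x : (localCohomology b i).obj (ModuleCat.of R M), s • x = 0 := by
  obtain ⟨t, φ, s, hsp, hker, hcoker⟩ := exists_free_approx M p
  refine ⟨s * s, fun h => (Ideal.IsPrime.mem_or_mem inferInstance h).elim hsp hsp, ?_⟩
  intro b hb i hi x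
  have hR := lc_ring_subsingleton_of_lt_idealDepth b hb i hi
  have hF := lc_subsingleton_pi_fin b i R hR t
  exact lc_sq_smul_eq_zero b i φ s hker hcoker hF x

/-- if `s` kills `H^{i+1}_J(S.X₁)` and `H^i_J(S.X₂) = 0` then `s` kills `H^i_J(S.X₃)`. -/
lemma lc_smul_eq_zero_X₃' (J : Ideal R) {S : ShortComplex (ModuleCat.{u} R)}
    (hS : S.ShortExact) (i : ℕ) (s : R)
    (hs : ∀ z : (localCohomology J (i + 1)).obj S.X₁, s • z = 0)
    (h2 : Subsingleton ((localCohomology J i).obj S.X₂))
    (y : (localCohomology J i).obj S.X₃) : s • y = 0 := by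
  have h3 : lcDelta J hS i (s • y) = 0 := by
    rw [map_smul]
    exact hs _
  obtain ⟨z, hz⟩ := lc_exact₃ J hS i (s • y) h3
  rw [← hz, Subsingleton.elim z 0, map_zero]

/-- the localization at `p` of a short exact sequence `0 → ker π → F → M → 0`, as a short complex
of `R_p`-modules. -/
noncomputable def locSES {F M : Type u} [AddCommGroup F] [Module R F] [AddCommGroup M]
    [Module R M] (p : Ideal R) [p.IsPrime] (π : F →ₗ[R] M) :
    ShortComplex (ModuleCat.{u} (Localization.AtPrime p)) :=
  ShortComplex.mk
    (ModuleCat.ofHom (LocalizedModule.map p.primeCompl (LinearMap.ker π).subtype))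
    (ModuleCat.ofHom (LocalizedModule.map p.primeCompl π)) (by
      ext x
      induction x using LocalizedModule.induction_on with
      | h m s =>
        show LocalizedModule.map p.primeCompl π
          (LocalizedModule.map p.primeCompl (LinearMap.ker π).subtype (LocalizedModule.mk m s)) = 0
        rw [LocalizedModule.map_mk, LocalizedModule.map_mk]
        have : π ((LinearMap.ker π).subtype m) = 0 := m.2
        rw [this, LocalizedModule.zero_mk])

lemma locSES_shortExact {F M : Type u} [AddCommGroup F] [Module R F] [AddCommGroup M]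
    [Module R M] (p : Ideal R) [p.IsPrime] (π : F →ₗ[R] M) (hπ : Function.Surjective π) :
    (locSES p π).ShortExact := by
  apply ModuleCat.shortComplex_shortExact
  · exact LocalizedModule.map_exact p.primeCompl (LinearMap.ker π).subtype π
      (LinearMap.exact_subtype_ker_map π)
  · exact LocalizedModule.map_injective p.primeCompl _ (LinearMap.ker π).injective_subtype
  · exact LocalizedModule.map_surjective p.primeCompl _ hπ

/-- Faltings' lemma: finite projective dimension at `p`. -/
theorem faltings_pd [IsNoetherianRing R] (p : Ideal R) [p.IsPrime] (h : ℕ) :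
    ∀ (M : Type u) [AddCommGroup M] [Module R M] [Module.Finite R M],
      HasProjectiveDimensionLE (ModuleCat.of (Localization.AtPrime p)
        (LocalizedModule p.primeCompl M)) h →
      ∃ s : R, s ∉ p ∧ ∀ (b : Ideal R), b ≠ ⊤ → ∀ (i : ℕ),
        ((i + h : ℕ) : ℕ∞) < LocCoh.idealDepth b R →
        ∀ x : (localCohomology b i).obj (ModuleCat.of R M), s • x = 0 := by
  induction h with
  | zero =>
    intro M _ _ _ hpd
    have hproj : Projective (ModuleCat.of (Localization.AtPrime p)
        (LocalizedModule p.primeCompl M)) :=
      (projective_iff_hasProjectiveDimensionLE_zero _).mpr hpd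
    have hproj' : Module.Projective (Localization.AtPrime p) (LocalizedModule p.primeCompl M) :=
      (IsProjective.iff_projective _).mpr hproj
    have : Module.Free (Localization.AtPrime p) (LocalizedModule p.primeCompl M) :=
      Module.free_of_flat_of_isLocalRing
    exact faltings_free M p
  | succ h ih =>
    intro M _ _ _ hpd
    obtain ⟨n, π, hπ⟩ := Module.Finite.exists_fin' R M
    have hS' := locSES_shortExact p π hπ
    have hX₂ : Projective (locSES p π).X₂ :=
      (IsProjective.iff_projective (R := Localization.AtPrime p)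
        (LocalizedModule p.primeCompl (Fin n → R))).mp inferInstance
    have h₂ : HasProjectiveDimensionLT (locSES p π).X₂ (h + 1) :=
      hasProjectiveDimensionLT_of_ge _ 1 (h + 1) (by omega)
    have h₁ : HasProjectiveDimensionLT (locSES p π).X₁ (h + 1) :=
      hS'.hasProjectiveDimensionLT_X₁ (h + 1) h₂ hpd
    obtain ⟨s, hsp, hs⟩ := ih (LinearMap.ker π) h₁
    refine ⟨s, hsp, ?_⟩
    intro b hb i hi x
    have hS := sesOfSurjective_shortExact π hπ
    have hi1 : (((i + 1) + h : ℕ) : ℕ∞) < LocCoh.idealDepth b R := by
      have : i + 1 + h = i + (h + 1) := by omega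
      rw [this]; exact hi
    have hi0 : (i : ℕ∞) < LocCoh.idealDepth b R :=
      lt_of_le_of_lt (Nat.cast_le.mpr (by omega)) hi
    have hR := lc_ring_subsingleton_of_lt_idealDepth b hb i hi0
    have hF : Subsingleton ((localCohomology b i).obj (sesOfSurjective π).X₂) :=
      lc_subsingleton_pi_fin b i R hR n
    exact lc_smul_eq_zero_X₃' b hS i s (hs b hb (i + 1) hi1) hF x

end Groth.Agent.Lib.Helper60
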