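import Groth.Agent.Lib.Helper6.UniqDual
import Groth.Agent.Lib.Helper6.LocDual2
import Groth.Agent.Lib.Helper6.InjDimMax8
import Groth.Agent.S11179
import Groth.Agent.S11185

/-!
# A Gorenstein ring which has a dualizing complex has `A[0]` as a dualizing complex
-/

set_option autoImplicit false
set_option linter.unusedSectionVars false
universe u
open CategoryTheory CategoryTheory.Limits DerivedCategory Pretriangulated TensorProduct
attribute [local instance] HasDerivedCategory.standard

namespace Groth.Agent.Lib.Helper60.GorDual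

open Groth.Agent.Lib.Helper6 Groth.Agent.Lib.Helper6.LocDual Groth.Agent.Lib.Helper35
  Groth.Agent.Lib.Helper35.FlatBC

variable {A : Type u} [CommRing A] [IsNoetherianRing A]

/-- a module killed by a maximal ideal whose localization at it vanishes is zero. -/
theorem subsingleton_of_localizedModule (m : Ideal A) [hm : m.IsMaximal] (E : Type*)
    [AddCommGroup E] [Module A E] (hkill : ∀ r ∈ m, ∀ x : E, r • x = 0)
    (hloc : Subsingleton (LocalizedModule m.primeCompl E)) : Subsingleton E := by
  refine ⟨fun x y => ?_⟩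
  have hz : ∀ z : E, z = 0 := by
    intro z
    have h0 : LocalizedModule.mk z (1 : m.primeCompl) = 0 := Subsingleton.elim _ _
    rw [← LocalizedModule.zero_mk (1 : m.primeCompl), LocalizedModule.mk_eq] at h0
    obtain ⟨t, ht⟩ := h0
    simp only [one_smul, smul_zero] at ht
    have htm : (t : A) ∉ m := t.2
    obtain ⟨a, b, hb, hab⟩ := hm.exists_inv htm
    have h1 : z = (a * (t : A) + b) • z := by rw [hab, one_smul]
    rw [h1, add_smul, mul_smul, hkill b hb z]
    have : (t : A) • z = 0 := ht
    rw [this, smul_zero, add_zero]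
  rw [hz x, hz y]

/-- scalars from `m` kill `Hom(A/m, L)`. -/
theorem smul_hom_quot_eq_zero (m : Ideal A) (L : Dual.D A) (r : A) (hr : r ∈ m)
    (φ : Dual.inD A (A ⧸ m) ⟶ L) : r • φ = 0 := by
  have h0 : r • 𝟙 (ModuleCat.of A (A ⧸ m)) = 0 := by
    apply ModuleCat.hom_ext
    apply LinearMap.ext
    intro x
    obtain ⟨y, rfl⟩ := Submodule.Quotient.mk_surjective _ x
    simp only [ModuleCat.hom_smul, ModuleCat.hom_id, LinearMap.smul_apply, LinearMap.id_coe,
      id_eq, ModuleCat.hom_zero, LinearMap.zero_apply]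
    rw [← Submodule.Quotient.mk_smul, Submodule.Quotient.mk_eq_zero, smul_eq_mul]
    exact m.mul_mem_right y hr
  have h1 : r • 𝟙 (Dual.inD A (A ⧸ m)) = 0 := by
    have := congrArg (singleFunctor (ModuleCat.{u} A) 0).map h0
    rwa [Functor.map_smul, CategoryTheory.Functor.map_id, Functor.map_zero] at this
  calc r • φ = (r • 𝟙 (Dual.inD A (A ⧸ m))) ≫ φ := by rw [Linear.smul_comp, Category.id_comp]
    _ = 0 := by rw [h1, zero_comp]

theorem subsingleton_hom_quot_max (ω : Dual.D A) (hω : Dual.IsDualizing A ω)
    (a b : ℤ) (hge : ω.IsGE a)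
    (hab : ∀ (M : Type u) [AddCommGroup M] [Module A M] (i : ℤ), (i < a ∨ b < i) →
      Subsingleton (Dual.inD A M ⟶ ω⟦i⟧))
    (m : Ideal A) [hm : m.IsMaximal]
    (hG : LocCoh.IsGorensteinLocalRing (Localization.AtPrime m))
    (i : ℤ) (hi : b - a < i) :
    Subsingleton (Dual.inD A (A ⧸ m) ⟶ (Dual.inD A A)⟦i⟧) := by
  have hNB : IsNoetherianRing (Localization.AtPrime m) :=
    IsLocalization.isNoetherianRing m.primeCompl (Localization.AtPrime m) inferInstance
  have hB : Dual.IsDualizing (Localization.AtPrime m)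
      (Dual.inD (Localization.AtPrime m) (Localization.AtPrime m)) :=
    (Groth.Agent.S11179.result (Localization.AtPrime m)).1 hG
  have hGat : Dual.IsDualizing (Localization.AtPrime m) (Gat m ω) := isDualizing_Gat m ω hω
  obtain ⟨s, ⟨iso⟩⟩ := UniqDual.exists_iso_shift (Gat m ω)
    (Dual.inD (Localization.AtPrime m) (Localization.AtPrime m)) hGat hB
  -- bound on the shift
  have hs : a ≤ s := by
    by_contra hcon
    rw [not_le] at hcon
    have h1 : Subsingleton (Dual.HD A ω s) :=
      ModuleCat.subsingleton_of_isZero (DerivedCategory.isZero_of_isGE ω a s hcon)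
    obtain ⟨e1⟩ := nonempty_locHDEquiv ω m s
    have h2 : Subsingleton (Dual.HD (Localization.AtPrime m) (Gat m ω) s) :=
      e1.symm.toEquiv.subsingleton
    let e2 : (homologyFunctor (ModuleCat.{u} (Localization.AtPrime m)) 0).obj ((Gat m ω)⟦s⟧) ≅
        (homologyFunctor (ModuleCat.{u} (Localization.AtPrime m)) s).obj (Gat m ω) :=
      ((homologyFunctor (ModuleCat.{u} (Localization.AtPrime m)) 0).shiftIso s 0 s
        (add_zero s)).app (Gat m ω)
    let e3 := (DerivedCategory.singleFunctorCompHomologyFunctorIso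
      (ModuleCat.{u} (Localization.AtPrime m)) 0).app (ModuleCat.of (Localization.AtPrime m)
        (Localization.AtPrime m))
    let e4 := (homologyFunctor (ModuleCat.{u} (Localization.AtPrime m)) 0).mapIso iso
    have e5 : (Localization.AtPrime m) ≃ Dual.HD (Localization.AtPrime m) (Gat m ω) s :=
      (e3.symm ≪≫ e4 ≪≫ e2).toLinearEquiv.toEquiv
    have h3 : Subsingleton (Localization.AtPrime m) := e5.subsingleton
    exact not_subsingleton _ h3
  -- the localization vanishes
  have hloc : Subsingleton (LocalizedModule m.primeCompl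
      (Dual.inD A (A ⧸ m) ⟶ (Dual.inD A A)⟦i⟧)) := by
    obtain ⟨e1⟩ := nonempty_locHomEquiv m.primeCompl (A ⧸ m) (Dual.inD A A) 0 i
    obtain ⟨e2⟩ := nonempty_locHomEquiv m.primeCompl (A ⧸ m) ω a (s + i)
    have hE' : Subsingleton (Dual.inD A (A ⧸ m) ⟶ ω⟦s + i⟧) :=
      hab (A ⧸ m) (s + i) (Or.inr (by omega))
    have hE'loc : Subsingleton (LocalizedModule m.primeCompl
        (Dual.inD A (A ⧸ m) ⟶ ω⟦s + i⟧)) := inferInstance
    have h2 := e2.symm.subsingleton
    let j1 : (G A (Localization.AtPrime m)).obj (Dual.inD A A) ≅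
        Dual.inD (Localization.AtPrime m) (Localization.AtPrime m) :=
      GInDIso (A := A) (Localization.AtPrime m) A ≪≫
        (DerivedCategory.singleFunctor (ModuleCat.{u} (Localization.AtPrime m)) 0).mapIso
          (Algebra.TensorProduct.rid A (Localization.AtPrime m)
            (Localization.AtPrime m)).toLinearEquiv.toModuleIso
    let j2 : ((G A (Localization.AtPrime m)).obj (Dual.inD A A))⟦i⟧ ≅ (Gat m ω)⟦s + i⟧ :=
      (shiftFunctor (Dual.D (Localization.AtPrime m)) i).mapIso (j1 ≪≫ iso) ≪≫
        ((shiftFunctorAdd' (Dual.D (Localization.AtPrime m)) s i (s + i) rfl).app (Gat m ω)).symm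
    have h3 : Subsingleton (Dual.inD (Localization.AtPrime m)
        (Localization.AtPrime m ⊗[A] (A ⧸ m)) ⟶
        ((G A (Localization.AtPrime m)).obj (Dual.inD A A))⟦i⟧) :=
      (Iso.homCongr (Iso.refl _) j2).subsingleton
    exact e1.subsingleton
  exact subsingleton_of_localizedModule m _ (fun r hr φ => smul_hom_quot_eq_zero m _ r hr φ) hloc

/-- **A Noetherian ring with a dualizing complex all of whose local rings are Gorenstein has
`A[0]` as a dualizing complex.** -/
theorem isDualizing_inD_self (ω : Dual.D A) (hω : Dual.IsDualizing A ω)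
    (hG : ∀ (p : Ideal A) [p.IsPrime], LocCoh.IsGorensteinLocalRing (Localization.AtPrime p)) :
    Dual.IsDualizing A (Dual.inD A A) := by
  obtain ⟨a, b, hge, hle, hab⟩ := HomBC.isDualizing_bounds hω
  have hmax : ∀ m : Ideal A, m.IsMaximal → InjDimMax.P (Dual.inD A A) (max (b - a) 0) m := by
    intro m hm i hi
    have : m.IsPrime := hm.isPrime
    exact subsingleton_hom_quot_max ω hω a b hge hab m (hG m) i
      (lt_of_le_of_lt (le_max_left _ _) hi)
  have hfin : ∀ (J : Ideal A) (i : ℤ),
      Module.Finite A (Dual.inD A (A ⧸ J) ⟶ (Dual.inD A A)⟦i⟧) := fun J i =>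
    InjDimMax.finite_hom_inD_of_bounded (B := A) (A ⧸ J) (Dual.inD A A) 0 0
      (Groth.Agent.S11185.finite_cohomology A) i
  have hPall := InjDimMax.P_all (Dual.inD A A) (max (b - a) 0) hfin hmax
  have h3 : ∀ (J : Ideal A) (i : ℤ), (i < 0 ∨ max (b - a) 0 < i) →
      Subsingleton ((singleFunctor (ModuleCat.{u} A) 0).obj (ModuleCat.of A (A ⧸ J)) ⟶
        (Dual.inD A A)⟦i⟧) := by
    intro J i hi
    rcases hi with hi | hi
    · exact Groth.Agent.S11185.subsingleton_hom_neg A _ _ i hi
    · exact hPall J i hi
  have h2 := ((KL.IA_tfae (Dual.inD A A) 0 (max (b - a) 0)).out 2 1).1 h3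
  exact
    { isNoetherianRing := inferInstance
      finite_injective_dimension := ⟨0, max (b - a) 0, fun M _ _ i hi =>
        h2 (ModuleCat.of A M) i hi⟩
      finite_cohomology := Groth.Agent.S11185.finite_cohomology A
      toEnd_bijective := Groth.Agent.S11185.toEnd_bijective A
      ext_self_subsingleton := by
        intro i hi
        rcases lt_or_gt_of_ne hi with h | h
        · exact Groth.Agent.S11185.subsingleton_hom_neg A _ _ i h
        · have : Projective (ModuleCat.of A A) :=
            (IsProjective.iff_projective (R := A) (P := A)).mp inferInstance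
          exact Groth.Agent.S11185.subsingleton_hom_pos_of_projective A _ _ i h }

end Groth.Agent.Lib.Helper60.GorDual
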