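import Mathlib
import Groth.Agent.Lib.Helper60.LocalCohFinite
import Groth.Agent.Lib.Helper60.LocalCohTorsion
import Groth.Agent.Lib.Helper60.LocalCohCd

/-!
# Finiteness of `H^1_J(M)`: dévissage to associated primes (helper60)

* `lc_finite_of_exact`, `lc_succ_finite_of_injective`, `lc_one_finite_of_injective`,
  `lc_finite_pi_fin` : closure properties of finiteness of local cohomology.
* `exists_injective_to_free_quotient` : a finite torsion-free `R/p`-module embeds in `(R/p)^r`.
* `lc_one_finite_of_associatedPrimes` : `H^1_J(M)` is finite as soon as `H^1_J(R/p)` is finite for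
  all `p ∈ Ass M` with `J ⊄ p`.
-/

set_option autoImplicit false
set_option linter.unusedSectionVars false
universe u
open CategoryTheory CategoryTheory.Limits Opposite Abelian

namespace Groth.Agent.Lib.Helper60

section H1

variable {R : Type u} [CommRing R] [IsNoetherianRing R]

/-- finiteness of `H^i_J` is invariant under isomorphism. -/
lemma lc_finite_of_linearEquiv (J : Ideal R) (i : ℕ) {M N : Type u} [AddCommGroup M]
    [Module R M] [AddCommGroup N] [Module R N] (e : M ≃ₗ[R] N)
    (h : Module.Finite R ((localCohomology J i).obj (ModuleCat.of R M))) :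
    Module.Finite R ((localCohomology J i).obj (ModuleCat.of R N)) :=
  Module.Finite.equiv ((localCohomology J i).mapIso e.toModuleIso).toLinearEquiv

/-- (P1) finiteness of `H^i_J` is closed under extensions. -/
lemma lc_finite_of_exact (J : Ideal R) (i : ℕ) {N₁ N₂ N₃ : Type u} [AddCommGroup N₁]
    [Module R N₁] [AddCommGroup N₂] [Module R N₂] [AddCommGroup N₃] [Module R N₃]
    (f : N₁ →ₗ[R] N₂) (g : N₂ →ₗ[R] N₃) (hf : Function.Injective f) (hg : Function.Surjective g)
    (hfg : Function.Exact f g)
    (h1 : Module.Finite R ((localCohomology J i).obj (ModuleCat.of R N₁)))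
    (h3 : Module.Finite R ((localCohomology J i).obj (ModuleCat.of R N₃))) :
    Module.Finite R ((localCohomology J i).obj (ModuleCat.of R N₂)) := by
  let S : ShortComplex (ModuleCat.{u} R) :=
    ShortComplex.mk (ModuleCat.ofHom f) (ModuleCat.ofHom g) (by
      ext x
      exact hfg.apply_apply_eq_zero x)
  have hS : S.ShortExact := ModuleCat.shortComplex_shortExact S hfg hf hg
  have n1 : IsNoetherian R ((localCohomology J i).obj (ModuleCat.of R N₁)) :=
    isNoetherian_of_isNoetherianRing_of_finite R _
  have n3 : IsNoetherian R ((localCohomology J i).obj (ModuleCat.of R N₃)) :=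
    isNoetherian_of_isNoetherianRing_of_finite R _
  have hrk : LinearMap.range ((localCohomology J i).map S.f).hom =
      LinearMap.ker ((localCohomology J i).map S.g).hom := by
    apply le_antisymm
    · rintro _ ⟨y, rfl⟩
      exact lcMap_comp_map J i y
    · intro y hy
      obtain ⟨y₁, hy₁⟩ := lc_exact₂ J hS i y hy
      exact ⟨y₁, hy₁⟩
  have n2 : IsNoetherian R ((localCohomology J i).obj (ModuleCat.of R N₂)) :=
    isNoetherian_of_range_eq_ker ((localCohomology J i).map S.f).hom
      ((localCohomology J i).map S.g).hom hrk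
  infer_instance

/-- (P2) finiteness of `H^{i+1}_J` passes to submodules of finite modules when `H^i_J` of the
quotient is finite. -/
lemma lc_succ_finite_of_injective (J : Ideal R) (i : ℕ) {N' N : Type u} [AddCommGroup N']
    [Module R N'] [AddCommGroup N] [Module R N] (ι : N' →ₗ[R] N) (hι : Function.Injective ι)
    (h0 : Module.Finite R ((localCohomology J i).obj (ModuleCat.of R (N ⧸ LinearMap.range ι))))
    (h : Module.Finite R ((localCohomology J (i + 1)).obj (ModuleCat.of R N))) :
    Module.Finite R ((localCohomology J (i + 1)).obj (ModuleCat.of R N')) := by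
  have hS := sesOfInjective_shortExact ι hι
  have h0' : Module.Finite R ((localCohomology J i).obj (sesOfInjective ι).X₃) := h0
  have h' : Module.Finite R ((localCohomology J (i + 1)).obj (sesOfInjective ι).X₂) := h
  have n1 : IsNoetherian R ((localCohomology J i).obj (sesOfInjective ι).X₃) :=
    isNoetherian_of_isNoetherianRing_of_finite R _
  have n3 : IsNoetherian R ((localCohomology J (i + 1)).obj (sesOfInjective ι).X₂) :=
    isNoetherian_of_isNoetherianRing_of_finite R _
  have hrk : LinearMap.range (lcDelta J hS i) =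
      LinearMap.ker ((localCohomology J (i + 1)).map (sesOfInjective ι).f).hom := by
    apply le_antisymm
    · rintro _ ⟨y, rfl⟩
      exact lcMap_comp_delta J hS i y
    · intro y hy
      obtain ⟨y₃, hy₃⟩ := lc_exact₁ J hS i y hy
      exact ⟨y₃, hy₃⟩
  have n2 : IsNoetherian R ((localCohomology J (i + 1)).obj (sesOfInjective ι).X₁) :=
    isNoetherian_of_range_eq_ker (lcDelta J hS i)
      ((localCohomology J (i + 1)).map (sesOfInjective ι).f).hom hrk
  have n2' : IsNoetherian R ((localCohomology J (i + 1)).obj (ModuleCat.of R N')) := n2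
  infer_instance

/-- (P2) for `H^1`. -/
lemma lc_one_finite_of_injective (J : Ideal R) {N' N : Type u} [AddCommGroup N']
    [Module R N'] [AddCommGroup N] [Module R N] [Module.Finite R N] (ι : N' →ₗ[R] N)
    (hι : Function.Injective ι)
    (h : Module.Finite R ((localCohomology J 1).obj (ModuleCat.of R N))) :
    Module.Finite R ((localCohomology J 1).obj (ModuleCat.of R N')) :=
  lc_succ_finite_of_injective J 0 ι hι (lc_zero_finite J _) h

lemma lc_finite_prod (J : Ideal R) (i : ℕ) (M N : Type u) [AddCommGroup M]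
    [Module R M] [AddCommGroup N] [Module R N]
    (hM : Module.Finite R ((localCohomology J i).obj (ModuleCat.of R M)))
    (hN : Module.Finite R ((localCohomology J i).obj (ModuleCat.of R N))) :
    Module.Finite R ((localCohomology J i).obj (ModuleCat.of R (M × N))) :=
  lc_finite_of_exact J i (LinearMap.inl R M N) (LinearMap.snd R M N) LinearMap.inl_injective
    LinearMap.snd_surjective Function.Exact.inl_snd hM hN

lemma lc_finite_of_subsingleton (J : Ideal R) (i : ℕ) (M : Type u) [AddCommGroup M]
    [Module R M] [Subsingleton M] :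
    Module.Finite R ((localCohomology J i).obj (ModuleCat.of R M)) := by
  have := lc_subsingleton_of_subsingleton J i M
  infer_instance

lemma lc_finite_pi_fin (J : Ideal R) (i : ℕ) (M : Type u) [AddCommGroup M] [Module R M]
    (h : Module.Finite R ((localCohomology J i).obj (ModuleCat.of R M))) (n : ℕ) :
    Module.Finite R ((localCohomology J i).obj (ModuleCat.of R (Fin n → M))) := by
  induction n with
  | zero => exact lc_finite_of_subsingleton J i _
  | succ n ih =>
    exact lc_finite_of_linearEquiv J i (Fin.consLinearEquiv R (fun _ : Fin (n + 1) => M))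
      (lc_finite_prod J i M (Fin n → M) h ih)

end H1

section embed

variable {R : Type u} [CommRing R] [IsNoetherianRing R]

/-- a finite module killed by the prime `p` on which elements outside `p` act injectively embeds
into a finite free `R/p`-module. -/
theorem exists_injective_to_free_quotient (p : Ideal R) (hp : p.IsPrime) (N : Type u)
    [AddCommGroup N] [Module R N] [Module.Finite R N]
    (hpN : ∀ a ∈ p, ∀ x : N, a • x = 0) (hreg : ∀ s ∉ p, ∀ x : N, s • x = 0 → x = 0) :
    ∃ (r : ℕ) (ι : N →ₗ[R] (Fin r → R ⧸ p)), Function.Injective ι := by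
  have hNoeth : IsNoetherian R N := isNoetherian_of_isNoetherianRing_of_finite R N
  let 𝒢 : Set (Submodule R N) := {F | ∃ (r : ℕ) (ψ : (Fin r → R ⧸ p) →ₗ[R] N),
    Function.Injective ψ ∧ LinearMap.range ψ = F}
  have hne : 𝒢.Nonempty := by
    refine ⟨⊥, 0, 0, ?_, ?_⟩
    · intro v w _
      exact Subsingleton.elim v w
    · exact LinearMap.range_zero
  obtain ⟨F, ⟨r, ψ, hψ, hF⟩, hmax⟩ := set_has_maximal_iff_noetherian.mpr hNoeth 𝒢 hne
  -- every element is a torsion element modulo `F`
  have hkey : ∀ y : N, ∃ d ∉ p, d • y ∈ F := by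
    intro y
    by_contra hcon
    push Not at hcon
    -- `hcon : ∀ d ∉ p, d • y ∉ F`
    let φy : (R ⧸ p) →ₗ[R] N := Submodule.liftQ p (LinearMap.toSpanSingleton R N y) (by
      intro a ha
      rw [LinearMap.mem_ker, LinearMap.toSpanSingleton_apply]
      exact hpN a ha y)
    let tl : (Fin (r + 1) → R ⧸ p) →ₗ[R] (Fin r → R ⧸ p) :=
      LinearMap.pi fun i => LinearMap.proj i.succ
    let ψ' : (Fin (r + 1) → R ⧸ p) →ₗ[R] N := φy ∘ₗ LinearMap.proj 0 + ψ ∘ₗ tl
    have hφy : ∀ a : R, φy (Ideal.Quotient.mk p a) = a • y := by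
      intro a
      show Submodule.liftQ p (LinearMap.toSpanSingleton R N y) _ (Submodule.Quotient.mk a) = _
      rw [Submodule.liftQ_apply, LinearMap.toSpanSingleton_apply]
    have hψ' : Function.Injective ψ' := by
      rw [← LinearMap.ker_eq_bot, LinearMap.ker_eq_bot']
      intro v hv
      have hv' : φy (v 0) + ψ (tl v) = 0 := hv
      obtain ⟨a, ha⟩ := Ideal.Quotient.mk_surjective (v 0)
      have hay : a • y ∈ F := by
        rw [← hF]
        refine ⟨-(tl v), ?_⟩
        rw [map_neg, ← hφy, ha]
        exact (eq_neg_of_add_eq_zero_left hv').symm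
      have hap : a ∈ p := by
        by_contra h
        exact hcon a h hay
      have hv0 : v 0 = 0 := by
        rw [← ha]
        exact Ideal.Quotient.eq_zero_iff_mem.mpr hap
      rw [hv0, map_zero, zero_add] at hv'
      have htl : tl v = 0 := by
        apply hψ
        rw [hv', map_zero]
      funext i
      refine Fin.cases hv0 (fun j => ?_) i
      exact congrFun htl j
    have hmem : LinearMap.range ψ' ∈ 𝒢 := ⟨r + 1, ψ', hψ', rfl⟩
    apply hmax _ hmem
    refine lt_of_le_of_ne ?_ ?_
    · rw [← hF]
      rintro _ ⟨w, rfl⟩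
      refine ⟨Fin.cons 0 w, ?_⟩
      show φy ((Fin.cons 0 w : Fin (r + 1) → R ⧸ p) 0) + ψ (tl (Fin.cons 0 w)) = ψ w
      rw [Fin.cons_zero, map_zero, zero_add]
      congr 1
    · intro heq
      have hy : y ∈ LinearMap.range ψ' := by
        refine ⟨Fin.cons 1 0, ?_⟩
        show φy ((Fin.cons 1 0 : Fin (r + 1) → R ⧸ p) 0) + ψ (tl (Fin.cons 1 0)) = y
        rw [Fin.cons_zero]
        have h1 : tl (Fin.cons 1 0 : Fin (r + 1) → R ⧸ p) = 0 := by
          funext j
          show (Fin.cons 1 0 : Fin (r + 1) → R ⧸ p) j.succ = 0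
          rw [Fin.cons_succ]
          rfl
        rw [h1, map_zero, add_zero, ← map_one (Ideal.Quotient.mk p), hφy, one_smul]
      rw [← heq] at hy
      apply hcon 1 (fun h => hp.ne_top ((Ideal.eq_top_iff_one p).mpr h))
      rwa [one_smul]
  -- a common denominator
  obtain ⟨m, g, hg⟩ := Module.Finite.exists_fin (R := R) (M := N)
  choose d hdp hdF using hkey
  let D : R := ∏ j, d (g j)
  have hD : D ∉ p := by
    intro h
    obtain ⟨j, -, hj⟩ := (Ideal.IsPrime.prod_mem_iff (hp := hp)).mp h
    exact hdp (g j) hj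
  have hDF : ∀ x : N, D • x ∈ F := by
    intro x
    have hx : x ∈ Submodule.span R (Set.range g) := by rw [hg]; trivial
    induction hx using Submodule.span_induction with
    | mem x hx =>
      obtain ⟨j, rfl⟩ := hx
      have : D = (∏ k ∈ Finset.univ.erase j, d (g k)) * d (g j) :=
        (Finset.prod_erase_mul Finset.univ (fun k => d (g k)) (Finset.mem_univ j)).symm
      rw [this, mul_smul]
      exact F.smul_mem _ (hdF (g j))
    | zero => rw [smul_zero]; exact F.zero_mem
    | add x y _ _ hx hy => rw [smul_add]; exact F.add_mem hx hy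
    | smul a x _ hx => rw [smul_comm]; exact F.smul_mem a hx
  -- the embedding
  let e := LinearEquiv.ofInjective ψ hψ
  let mD : N →ₗ[R] LinearMap.range ψ :=
    (LinearMap.lsmul R N D).codRestrict (LinearMap.range ψ) (fun x => by
      rw [hF]
      exact hDF x)
  refine ⟨r, e.symm.toLinearMap ∘ₗ mD, ?_⟩
  rw [LinearMap.coe_comp]
  refine e.symm.injective.comp ?_
  intro x x' hxx'
  have h1 : D • x = D • x' := congrArg Subtype.val hxx'
  have h2 : D • (x - x') = 0 := by rw [smul_sub, h1, sub_self]
  exact sub_eq_zero.mp (hreg D hD _ h2)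

end embed

section main

variable {R : Type u} [CommRing R] [IsNoetherianRing R]

omit [IsNoetherianRing R] in
lemma associatedPrimes_pi_fin_subset (Q : Type u) [AddCommGroup Q] [Module R Q] (n : ℕ) :
    associatedPrimes R (Fin n → Q) ⊆ associatedPrimes R Q := by
  induction n with
  | zero =>
    rw [associatedPrimes.eq_empty_of_subsingleton]
    exact Set.empty_subset _
  | succ n ih =>
    rw [← LinearEquiv.AssociatedPrimes.eq (Fin.consLinearEquiv R (fun _ : Fin (n + 1) => Q)),
      associatedPrimes.prod]
    exact Set.union_subset (le_refl _) ih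

/-- finiteness of `H^1_J` for a module killed by a prime `p` and torsion-free over `R/p`. -/
lemma lc_one_finite_of_torsionFree (J : Ideal R) (p : Ideal R) (hp : p.IsPrime) (N : Type u)
    [AddCommGroup N] [Module R N] [Module.Finite R N]
    (hpN : ∀ a ∈ p, ∀ x : N, a • x = 0) (hreg : ∀ s ∉ p, ∀ x : N, s • x = 0 → x = 0)
    (h : ¬ J ≤ p → Module.Finite R ((localCohomology J 1).obj (ModuleCat.of R (R ⧸ p)))) :
    Module.Finite R ((localCohomology J 1).obj (ModuleCat.of R N)) := by
  by_cases hJp : J ≤ p
  · have : Subsingleton ((localCohomology J 1).obj (ModuleCat.of R N)) := by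
      apply lc_subsingleton_of_torsion J 1 (by omega) (ModuleCat.of R N)
      intro x
      refine ⟨1, fun a ha => ?_⟩
      rw [pow_one] at ha
      exact hpN a (hJp ha) x
    infer_instance
  · obtain ⟨r, ι, hι⟩ := exists_injective_to_free_quotient p hp N hpN hreg
    exact lc_one_finite_of_injective J ι hι (lc_finite_pi_fin J 1 (R ⧸ p) (h hJp) r)

/-- **Dévissage for finiteness of `H^1_J`**: it suffices to test on `R/p`, `p ∈ Ass M`. -/
theorem lc_one_finite_of_associatedPrimes (J : Ideal R) (M : Type u) [AddCommGroup M]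
    [Module R M] [Module.Finite R M]
    (h : ∀ p ∈ associatedPrimes R M, ¬ J ≤ p →
      Module.Finite R ((localCohomology J 1).obj (ModuleCat.of R (R ⧸ p)))) :
    Module.Finite R ((localCohomology J 1).obj (ModuleCat.of R M)) := by
  have hNoeth : IsNoetherian R M := isNoetherian_of_isNoetherianRing_of_finite R M
  let 𝒮 : Set (Submodule R M) := {N |
    Module.Finite R ((localCohomology J 1).obj (ModuleCat.of R N)) ∧
      associatedPrimes R (M ⧸ N) ⊆ associatedPrimes R M}
  have hne : 𝒮.Nonempty := by
    refine ⟨⊥, lc_finite_of_subsingleton J 1 _, ?_⟩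
    rw [LinearEquiv.AssociatedPrimes.eq (Submodule.quotEquivOfEqBot (⊥ : Submodule R M) rfl)]
  obtain ⟨N, ⟨hTN, hAssN⟩, hmax⟩ := set_has_maximal_iff_noetherian.mpr hNoeth 𝒮 hne
  suffices hN : N = ⊤ by
    rw [hN] at hTN
    exact lc_finite_of_linearEquiv J 1 (Submodule.topEquiv (R := R) (M := M)) hTN
  by_contra hNtop
  have hnt : Nontrivial (M ⧸ N) := Submodule.Quotient.nontrivial_iff.mpr hNtop
  -- a maximal associated prime of `Q = M/N`
  obtain ⟨p, hpAss, hpmax⟩ : ∃ p : Ideal R, p ∈ associatedPrimes R (M ⧸ N) ∧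
      ∀ P ∈ associatedPrimes R (M ⧸ N), ¬ p < P :=
    set_has_maximal_iff_noetherian.mpr
      (inferInstance : IsNoetherian R R) (associatedPrimes R (M ⧸ N))
      (associatedPrimes.nonempty R (M ⧸ N))
  have hp : p.IsPrime := hpAss.isPrime
  obtain ⟨r, a, ha⟩ := Submodule.fg_iff_exists_fin_generating_family.mp
    ((isNoetherianRing_iff_ideal_fg R).mp inferInstance p)
  have ha' : Ideal.span (Set.range a) = p := ha
  let θ : (M ⧸ N) →ₗ[R] (Fin r → (M ⧸ N)) := LinearMap.pi fun i => a i • LinearMap.id
  have hθ : ∀ x : M ⧸ N, x ∈ LinearMap.ker θ ↔ ∀ c ∈ p, c • x = 0 := by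
    intro x
    rw [LinearMap.mem_ker]
    constructor
    · intro hx c hc
      rw [← ha'] at hc
      obtain ⟨e, rfl⟩ := (Submodule.mem_span_range_iff_exists_fun R).mp hc
      rw [Finset.sum_smul]
      refine Finset.sum_eq_zero fun i _ => ?_
      rw [smul_eq_mul, mul_smul]
      have : a i • x = 0 := congrFun hx i
      rw [this, smul_zero]
    · intro hx
      funext i
      show a i • x = 0
      apply hx
      rw [← ha']
      exact Ideal.subset_span (Set.mem_range_self i)
  let Q₀ : Submodule R (M ⧸ N) := LinearMap.ker θ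
  let N' : Submodule R M := LinearMap.ker (θ ∘ₗ N.mkQ)
  have hNN' : N ≤ N' := by
    intro x hx
    show θ (N.mkQ x) = 0
    rw [Submodule.mkQ_apply, (Submodule.Quotient.mk_eq_zero N).mpr hx, map_zero]
  -- (a) `T(Q₀)`
  have hTQ₀ : Module.Finite R ((localCohomology J 1).obj (ModuleCat.of R Q₀)) := by
    have hfin : Module.Finite R Q₀ := Module.Finite.of_fg (IsNoetherian.noetherian _)
    apply lc_one_finite_of_torsionFree J p hp Q₀
    · rintro c hc ⟨x, hx⟩
      exact Subtype.ext ((hθ x).mp hx c hc)
    · rintro s hs ⟨x, hx⟩ hsx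
      have hsx' : s • x = 0 := congrArg Subtype.val hsx
      by_contra hx0
      have hx0' : x ≠ 0 := fun h => hx0 (Subtype.ext h)
      obtain ⟨P, hP, hle⟩ := exists_le_isAssociatedPrime_of_isNoetherianRing R x hx0'
      have hpP : p ≤ P := by
        intro c hc
        apply hle
        rw [Submodule.mem_colon_singleton, Submodule.mem_bot]
        exact (hθ x).mp hx c hc
      have hsP : s ∈ P := by
        apply hle
        rw [Submodule.mem_colon_singleton, Submodule.mem_bot]
        exact hsx'
      apply hpmax P hP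
      exact lt_of_le_of_ne hpP (fun h => hs (h ▸ hsP))
    · intro hJp
      exact h p (hAssN hpAss) hJp
  -- (b) `T(N')`
  have hTN' : Module.Finite R ((localCohomology J 1).obj (ModuleCat.of R N')) := by
    let f : N →ₗ[R] N' := Submodule.inclusion hNN'
    let g : N' →ₗ[R] Q₀ := (N.mkQ.domRestrict N').codRestrict Q₀ (fun x => x.2)
    refine lc_finite_of_exact J 1 f g (Submodule.inclusion_injective hNN') ?_ ?_ hTN hTQ₀
    · rintro ⟨q, hq⟩
      obtain ⟨m, rfl⟩ := Submodule.Quotient.mk_surjective N q
      exact ⟨⟨m, hq⟩, rfl⟩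
    · intro x
      constructor
      · intro hx
        have hx' : N.mkQ x.1 = 0 := congrArg Subtype.val hx
        rw [Submodule.mkQ_apply, Submodule.Quotient.mk_eq_zero] at hx'
        exact ⟨⟨x.1, hx'⟩, Subtype.ext rfl⟩
      · rintro ⟨y, rfl⟩
        apply Subtype.ext
        show N.mkQ y.1 = 0
        rw [Submodule.mkQ_apply, (Submodule.Quotient.mk_eq_zero N).mpr y.2]
  -- (c) associated primes of `M/N'`
  have hAssN' : associatedPrimes R (M ⧸ N') ⊆ associatedPrimes R M := by
    let ι : (M ⧸ N') →ₗ[R] (Fin r → (M ⧸ N)) := N'.liftQ (θ ∘ₗ N.mkQ) le_rfl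
    have hι : Function.Injective ι := by
      rw [← LinearMap.ker_eq_bot]
      exact Submodule.ker_liftQ_eq_bot _ _ _ le_rfl
    exact ((associatedPrimes.subset_of_injective hι).trans
      (associatedPrimes_pi_fin_subset (M ⧸ N) r)).trans hAssN
  -- (d) `N < N'`
  have hlt : N < N' := by
    refine lt_of_le_of_ne hNN' ?_
    intro heq
    rw [AssociatedPrimes.mem_iff, isAssociatedPrime_iff] at hpAss
    obtain ⟨-, x, hx⟩ := hpAss
    obtain ⟨m, rfl⟩ := Submodule.Quotient.mk_surjective N x
    have hmN' : m ∈ N' := by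
      show θ (N.mkQ m) = 0
      rw [← LinearMap.mem_ker, hθ]
      intro c hc
      rw [hx, Submodule.mem_colon_singleton, Submodule.mem_bot] at hc
      exact hc
    rw [← heq] at hmN'
    apply hp.ne_top
    rw [hx, Ideal.eq_top_iff_one, Submodule.mem_colon_singleton, Submodule.mem_bot, one_smul]
    exact (Submodule.Quotient.mk_eq_zero N).mpr hmN'
  exact hmax N' ⟨hTN', hAssN'⟩ hlt

/-- easy direction. -/
lemma lc_one_finite_quotient_of_mem_associatedPrimes (J : Ideal R) (M : Type u) [AddCommGroup M]
    [Module R M] [Module.Finite R M]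
    (h : Module.Finite R ((localCohomology J 1).obj (ModuleCat.of R M)))
    (p : Ideal R) (hp : p ∈ associatedPrimes R M) :
    Module.Finite R ((localCohomology J 1).obj (ModuleCat.of R (R ⧸ p))) := by
  obtain ⟨-, f, hf⟩ := (isAssociatedPrime_iff_exists_injective_linearMap p M).mp hp
  exact lc_one_finite_of_injective J f hf h

end main

end Groth.Agent.Lib.Helper60
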