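import Groth.Agent.Lib.Helper60.HTLoc

/-!
# The Cousin-type three term exact sequence for local cohomology with supports (helper60)

Let `T' ⊆ T ⊆ Spec R` be stable under specialization, `R` Noetherian, such that every point of
`T ∖ T'` is a minimal point of `T`.  Then
`H^i_{T'}(M) → H^i_T(M) → ∏_{p ∈ T ∖ T'} H^i_T(M)_p` is exact.
-/

set_option autoImplicit false
set_option linter.unusedSectionVars false
universe u
open CategoryTheory CategoryTheory.Limits Opposite Abelian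

namespace Groth.Agent.Lib.Helper60.HTCousin

open Groth.Agent.Lib.Helper60 Groth.Agent.Lib.Helper47.HTLib localCohomology
  Groth.Agent.Lib.Helper60.HTDelta Groth.Agent.Lib.Helper60.HTLoc

variable {R : Type u} [CommRing R]

section Incl

variable {T T' : Set (PrimeSpectrum R)} (hTT' : T' ⊆ T)

/-- the inclusion of index categories. -/
def idlIncl (a : Dual2.IdealsIn T') : Dual2.IdealsIn T := idl T a.obj (a.property.trans hTT')

@[simp] lemma idlIncl_obj (a : Dual2.IdealsIn T') : (idlIncl hTT' a).obj = a.obj := rfl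

/-- the canonical map `H^i_{T'}(M) → H^i_T(M)` for `T' ⊆ T`. -/
noncomputable def tIncl (i : ℕ) (M : ModuleCat.{u} R) :
    (HTf T' i).obj M →ₗ[R] (HTf T i).obj M :=
  tDescₗ T' i M (fun a => tMkₗ T i M (idlIncl hTT' a)) (by
    intro a b h x
    exact tMk_res T i M (a := idlIncl hTT' a) (b := idlIncl hTT' b) h x)

@[simp]
lemma tIncl_tMk (i : ℕ) (M : ModuleCat.{u} R) (a : Dual2.IdealsIn T')
    (x : Abelian.Ext (quotObj a.obj) M i) :
    tIncl hTT' i M (tMk T' i M a x) = tMk T i M (idlIncl hTT' a) x := by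
  unfold tIncl
  rw [tDescₗ_tMk]
  rfl

lemma tIncl_naturality (i : ℕ) {M N : ModuleCat.{u} R} (φ : M ⟶ N) (y : (HTf T' i).obj M) :
    tIncl hTT' i N (((HTf T' i).map φ).hom y) = ((HTf T i).map φ).hom (tIncl hTT' i M y) := by
  obtain ⟨a, x, rfl⟩ := tMk_surj T' i M y
  rw [tMap_tMk, tIncl_tMk, tIncl_tMk, tMap_tMk]
  rfl

lemma tIncl_tDelta {S : ShortComplex (ModuleCat.{u} R)} (hS : S.ShortExact) (i : ℕ)
    (y : (HTf T' i).obj S.X₃) :
    tIncl hTT' (i + 1) S.X₁ (tDelta T' hS i y) = tDelta T hS i (tIncl hTT' i S.X₃ y) := by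
  obtain ⟨a, x, rfl⟩ := tMk_surj T' i S.X₃ y
  rw [tDelta_tMk, tIncl_tMk, tIncl_tMk, tDelta_tMk]
  rfl

lemma tH0Map_tIncl (M : ModuleCat.{u} R) (y : (HTf T' 0).obj M) :
    tH0Map T M (tIncl hTT' 0 M y) = tH0Map T' M y := by
  obtain ⟨a, x, rfl⟩ := tMk_surj T' 0 M y
  rw [tIncl_tMk, tH0Map_tMk, tH0Map_tMk]
  rfl

end Incl

section LemmaB

variable [IsNoetherianRing R]

/-- the kernel of `N → S⁻¹N`. -/
noncomputable abbrev locKer (S : Submonoid R) (N : Type u) [AddCommGroup N] [Module R N] : Submodule R N :=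
  LinearMap.ker (LocalizedModule.mkLinearMap S N)

lemma mem_locKer {S : Submonoid R} {N : Type u} [AddCommGroup N] [Module R N] {x : N} :
    x ∈ locKer S N ↔ ∃ r ∈ S, r • x = 0 :=
  LocalizedModule.mem_ker_mkLinearMap_iff

/-- uniform killing: if each `a • x`, `a ∈ I`, is killed by an element of `S` then a single element
of `S` kills all of them. -/
lemma exists_unif (S : Submonoid R) (I : Ideal R) {M : Type u} [AddCommGroup M] [Module R M]
    (x : M) (h : ∀ a ∈ I, ∃ t ∈ S, t • (a • x) = 0) : ∃ t ∈ S, ∀ a ∈ I, t • (a • x) = 0 := by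
  let N : Submodule R M := I • (Submodule.span R {x})
  have hNfg : N.FG := Submodule.FG.smul
    ((isNoetherianRing_iff_ideal_fg R).mp inferInstance _) (Submodule.fg_span_singleton x)
  have hN : ∀ y ∈ N, ∃ t ∈ S, t • y = 0 := by
    intro y hy
    refine Submodule.smul_induction_on hy ?_ ?_
    · intro a ha z hz
      obtain ⟨c, rfl⟩ := Submodule.mem_span_singleton.mp hz
      obtain ⟨t, ht, h0⟩ := h a ha
      refine ⟨t, ht, ?_⟩
      rw [smul_comm a c x, smul_comm t c, h0, smul_zero]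
    · intro y z hy hz
      obtain ⟨t, ht, h0⟩ := hy
      obtain ⟨t', ht', h0'⟩ := hz
      refine ⟨t * t', Submonoid.mul_mem _ ht ht', ?_⟩
      rw [smul_add, mul_smul t t' z, h0', smul_zero, mul_comm, mul_smul, h0, smul_zero, add_zero]
  obtain ⟨t, ht, htN⟩ := exists_smul_eq_zero_of_fg_le_ker M S N hNfg hN
  exact ⟨t, ht, fun a ha =>
    htN _ (Submodule.smul_mem_smul ha (Submodule.mem_span_singleton_self x))⟩

/-- the saturation of the annihilator of `x` with respect to `S`. -/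
def satAnn (S : Submonoid R) {M : Type u} [AddCommGroup M] [Module R M] (x : M) : Ideal R where
  carrier := {r | ∃ u ∈ S, u • (r • x) = 0}
  zero_mem' := ⟨1, S.one_mem, by rw [zero_smul, smul_zero]⟩
  add_mem' := by
    rintro a b ⟨u, hu, h⟩ ⟨v, hv, h'⟩
    refine ⟨u * v, S.mul_mem hu hv, ?_⟩
    rw [add_smul, smul_add, mul_smul u v (b • x), h', smul_zero, mul_comm, mul_smul, h, smul_zero,
      add_zero]
  smul_mem' := by
    rintro c a ⟨u, hu, h⟩
    refine ⟨u, hu, ?_⟩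
    rw [smul_eq_mul, mul_smul, smul_comm u c, h, smul_zero]

/-- **Divisibility in injective modules**: if `E` is injective, `p^n x' = 0` and `s' ∉ p`, then
there is `z` with `p^n z = 0` and `s' z = x'` in `E_p`. -/
lemma exists_lift_of_injective (E : Type u) [AddCommGroup E] [Module R E] [Module.Injective R E]
    (p : Ideal R) [p.IsPrime] (x' : E) (n : ℕ) (hx' : ∀ a ∈ p ^ n, a • x' = 0) (s' : R)
    (hs' : s' ∉ p) :
    ∃ z : E, (∀ a ∈ p ^ n, a • z = 0) ∧ ∃ u ∈ p.primeCompl, u • (s' • z) = u • x' := by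
  let 𝔟' : Ideal R := satAnn p.primeCompl x'
  obtain ⟨u, hu, hu𝔟⟩ := exists_unif p.primeCompl 𝔟' x' (fun a ha => ha)
  -- the maps
  let f : (R ⧸ 𝔟') →ₗ[R] (R ⧸ 𝔟') := (s' * u) • LinearMap.id
  have hf : Function.Injective f := by
    rw [← LinearMap.ker_eq_bot, eq_bot_iff]
    intro q hq
    obtain ⟨r, rfl⟩ := Submodule.Quotient.mk_surjective _ q
    rw [LinearMap.mem_ker] at hq
    change (s' * u) • (Submodule.Quotient.mk r : R ⧸ 𝔟') = 0 at hq
    rw [← Submodule.Quotient.mk_smul, Submodule.Quotient.mk_eq_zero] at hq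
    obtain ⟨v, hv, h⟩ := hq
    rw [Submodule.mem_bot, Submodule.Quotient.mk_eq_zero]
    refine ⟨v * (s' * u), Submonoid.mul_mem _ hv (Submonoid.mul_mem _ hs' hu), ?_⟩
    rw [mul_smul, ← smul_assoc (s' * u) r x']
    exact h
  let g : (R ⧸ 𝔟') →ₗ[R] E := Submodule.liftQ 𝔟' (u • LinearMap.toSpanSingleton R E x') (by
    intro r hr
    rw [LinearMap.mem_ker, LinearMap.smul_apply, LinearMap.toSpanSingleton_apply]
    exact hu𝔟 r hr)
  obtain ⟨χ, hχ⟩ := Module.Injective.extension_property R E (R ⧸ 𝔟') (R ⧸ 𝔟') f hf g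
  refine ⟨χ (Submodule.Quotient.mk 1), fun a ha => ?_, u, hu, ?_⟩
  · rw [← map_smul, ← Submodule.Quotient.mk_smul, smul_eq_mul, mul_one]
    have : (Submodule.Quotient.mk a : R ⧸ 𝔟') = 0 := by
      rw [Submodule.Quotient.mk_eq_zero]
      exact ⟨1, Submonoid.one_mem _, by rw [one_smul]; exact hx' a ha⟩
    rw [this, map_zero]
  · have h1 := LinearMap.congr_fun hχ (Submodule.Quotient.mk 1)
    rw [LinearMap.comp_apply] at h1
    change χ ((s' * u) • (Submodule.Quotient.mk 1 : R ⧸ 𝔟')) = _ at h1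
    rw [map_smul] at h1
    rw [← mul_smul, mul_comm, h1]
    change (u • LinearMap.toSpanSingleton R E x') 1 = _
    rw [LinearMap.smul_apply, LinearMap.toSpanSingleton_apply, one_smul]

end LemmaB

section Main

variable [IsNoetherianRing R] {T T' : Set (PrimeSpectrum R)}
  (hT : StableUnderSpecialization T) (hTT' : T' ⊆ T)
  (hmin : ∀ p ∈ T, p ∉ T' → ∀ q ∈ T, q ≤ p → q = p)

/-- degree zero: a `T`-torsion element vanishing at all points of `T ∖ T'` is `T'`-torsion. -/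
lemma mem_torsT_of_locKer (N : Type u) [AddCommGroup N] [Module R N] (x : N)
    (hx : x ∈ torsT T N)
    (h : ∀ p : PrimeSpectrum R, p ∈ T → p ∉ T' → x ∈ locKer p.asIdeal.primeCompl N) :
    x ∈ torsT T' N := by
  let 𝔠 : Ideal R := LinearMap.ker (LinearMap.toSpanSingleton R N x)
  have h𝔠 : ∀ a, a ∈ 𝔠 ↔ a • x = 0 := fun a => by
    rw [LinearMap.mem_ker, LinearMap.toSpanSingleton_apply]
  refine ⟨𝔠, ?_, fun a ha => (h𝔠 a).mp ha⟩
  intro q hq
  rw [PrimeSpectrum.mem_zeroLocus] at hq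
  obtain ⟨𝔞, h𝔞, hk⟩ := hx
  have hqT : q ∈ T := h𝔞 (by
    rw [PrimeSpectrum.mem_zeroLocus]
    exact fun a ha => hq ((h𝔠 a).mpr (hk a ha)))
  by_contra hqT'
  obtain ⟨s, hs, h0⟩ := mem_locKer.mp (h q hqT hqT')
  exact hs (hq ((h𝔠 s).mpr h0))

include hT hmin in
/-- the local lifting step. -/
lemma exists_local_lift (E N : Type u) [AddCommGroup E] [Module R E] [Module.Injective R E]
    [AddCommGroup N] [Module R N] (g : E →ₗ[R] N) (y : N) (p : PrimeSpectrum R) (hp : p ∈ T)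
    (hp' : p ∉ T') (w : E) (hw : w ∈ torsT T E) (s : R) (hs : s ∈ p.asIdeal.primeCompl)
    (hgw : g w = s • y) :
    ∃ z : E, ∃ n : ℕ, (∀ a ∈ p.asIdeal ^ n, a • z = 0) ∧
      g z - y ∈ locKer p.asIdeal.primeCompl N := by
  have h1 := mk_mem_torsionSub_of_mem_torsT E (hmin p hp hp') w hw (1 : p.asIdeal.primeCompl)
  obtain ⟨n, t, ht, hk⟩ := exists_pow_smul_of_mem_torsionSub E w 1 h1
  obtain ⟨z, hz, u, hu, huz⟩ := exists_lift_of_injective E p.asIdeal (t • w) n hk (t * s)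
    (Submonoid.mul_mem _ ht hs)
  refine ⟨z, n, hz, mem_locKer.mpr ⟨u * (t * s),
    Submonoid.mul_mem _ hu (Submonoid.mul_mem _ ht hs), ?_⟩⟩
  rw [smul_sub, mul_smul, ← map_smul, ← map_smul, huz, map_smul, map_smul, hgw, ← mul_smul,
    ← mul_smul, mul_assoc, sub_self]

include hT hmin in
/-- the global lifting step. -/
lemma exists_global_lift (E N : Type u) [AddCommGroup E] [Module R E] [Module.Injective R E]
    [AddCommGroup N] [Module R N] (g : E →ₗ[R] N) (y : N) (hy : y ∈ torsT T N)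
    (h : ∀ p : PrimeSpectrum R, p ∈ T → p ∉ T' →
      ∃ w ∈ torsT T E, ∃ s ∈ p.asIdeal.primeCompl, g w = s • y) :
    ∃ w ∈ torsT T E, ∀ p : PrimeSpectrum R, p ∈ T → p ∉ T' →
      y - g w ∈ locKer p.asIdeal.primeCompl N := by
  classical
  -- local data
  have step1 : ∀ p : PrimeSpectrum R, ∃ z : E, ∃ n : ℕ, p ∈ T → p ∉ T' →
      (∀ a ∈ p.asIdeal ^ n, a • z = 0) ∧ g z - y ∈ locKer p.asIdeal.primeCompl N := by
    intro p
    by_cases hp : p ∈ T ∧ p ∉ T'
    · obtain ⟨w, hw, s, hs, hgw⟩ := h p hp.1 hp.2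
      obtain ⟨z, n, h1, h2⟩ := exists_local_lift hT hmin E N g y p hp.1 hp.2 w hw s hs hgw
      exact ⟨z, n, fun _ _ => ⟨h1, h2⟩⟩
    · exact ⟨0, 0, fun h1 h2 => absurd ⟨h1, h2⟩ hp⟩
  choose z n hz using step1
  -- the annihilator of `y`
  let 𝔠 : Ideal R := LinearMap.ker (LinearMap.toSpanSingleton R N y)
  have h𝔠 : ∀ a, a ∈ 𝔠 ↔ a • y = 0 := fun a => by
    rw [LinearMap.mem_ker, LinearMap.toSpanSingleton_apply]
  obtain ⟨𝔞, h𝔞, hk⟩ := hy
  have h𝔞𝔠 : 𝔞 ≤ 𝔠 := fun a ha => (h𝔠 a).mpr (hk a ha)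
  have hfin : {q : PrimeSpectrum R | q.asIdeal ∈ 𝔠.minimalPrimes}.Finite :=
    Set.Finite.preimage (fun a _ b _ hab => PrimeSpectrum.ext hab)
      (Ideal.finite_minimalPrimes_of_isNoetherianRing R 𝔠)
  let P : Finset (PrimeSpectrum R) := hfin.toFinset.filter (fun q => q ∈ T ∧ q ∉ T')
  have hP : ∀ q, q ∈ P ↔ q.asIdeal ∈ 𝔠.minimalPrimes ∧ q ∈ T ∧ q ∉ T' := by
    intro q
    simp only [P, Finset.mem_filter, Set.Finite.mem_toFinset, Set.mem_ofPred_eq]
  refine ⟨∑ q ∈ P, z q, ?_, ?_⟩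
  · refine Submodule.sum_mem _ (fun q hq => ?_)
    obtain ⟨-, hqT, hqT'⟩ := (hP q).mp hq
    exact ⟨q.asIdeal ^ n q, zeroLocus_pow_asIdeal_subset hT hqT (n q), (hz q hqT hqT').1⟩
  · intro p₀ hp₀ hp₀'
    -- the other summands vanish at `p₀`
    have hother : ∀ q ∈ P, q ≠ p₀ → g (z q) ∈ locKer p₀.asIdeal.primeCompl N := by
      intro q hq hne
      obtain ⟨-, hqT, hqT'⟩ := (hP q).mp hq
      have hnle : ¬ q.asIdeal ≤ p₀.asIdeal := fun hle =>
        hne (hmin p₀ hp₀ hp₀' q hqT hle)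
      obtain ⟨a, haq, hap⟩ := Set.not_subset.mp hnle
      refine mem_locKer.mpr ⟨a ^ n q, ?_, ?_⟩
      · exact fun hmem => hap (p₀.isPrime.mem_of_pow_mem _ hmem)
      · rw [← map_smul, (hz q hqT hqT').1 _ (Ideal.pow_mem_pow haq (n q)), map_zero]
    rw [map_sum]
    by_cases hmem : p₀ ∈ P
    · rw [← Finset.add_sum_erase P _ hmem, ← sub_sub]
      refine Submodule.sub_mem _ ?_ (Submodule.sum_mem _ (fun q hq => ?_))
      · have := (hz p₀ hp₀ hp₀').2
        rw [← neg_sub]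
        exact Submodule.neg_mem _ this
      · exact hother q (Finset.mem_of_mem_erase hq) (Finset.ne_of_mem_erase hq)
    · refine Submodule.sub_mem _ ?_ (Submodule.sum_mem _ (fun q hq => ?_))
      · by_cases hle : 𝔠 ≤ p₀.asIdeal
        · exfalso
          obtain ⟨q, hq, hqle⟩ := Ideal.exists_minimalPrimes_le hle
          have hqprime : q.IsPrime := hq.1.1
          let q' : PrimeSpectrum R := ⟨q, hqprime⟩
          have hq'T : q' ∈ T := h𝔞 (by
            rw [PrimeSpectrum.mem_zeroLocus]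
            exact fun a ha => hq.1.2 (h𝔞𝔠 ha))
          have heq : q' = p₀ := hmin p₀ hp₀ hp₀' q' hq'T hqle
          apply hmem
          rw [hP]
          refine ⟨?_, hp₀, hp₀'⟩
          rw [← heq]
          exact hq
        · obtain ⟨a, ha𝔠, hap⟩ := Set.not_subset.mp hle
          exact mem_locKer.mpr ⟨a, hap, (h𝔠 a).mp ha𝔠⟩
      · exact hother q hq (fun heq => hmem (heq ▸ hq))

include hT hmin in
/-- the induction step of `cousin_exact`, for a short exact sequence with injective middle term. -/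
lemma cousin_step (i : ℕ)
    (ih : ∀ (M : ModuleCat.{u} R) (x : (HTf T i).obj M),
      (∀ p : PrimeSpectrum R, p ∈ T → p ∉ T' →
        x ∈ locKer p.asIdeal.primeCompl ((HTf T i).obj M)) →
      ∃ y : (HTf T' i).obj M, tIncl hTT' i M y = x)
    (S : ShortComplex (ModuleCat.{u} R)) (hS : S.ShortExact) [Injective S.X₂]
    (x : (HTf T (i + 1)).obj S.X₁)
    (hx : ∀ p : PrimeSpectrum R, p ∈ T → p ∉ T' →
      x ∈ locKer p.asIdeal.primeCompl ((HTf T (i + 1)).obj S.X₁)) :
    ∃ y : (HTf T' (i + 1)).obj S.X₁, tIncl hTT' (i + 1) S.X₁ y = x := by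
  have hEm : Module.Injective R S.X₂ := Module.injective_module_of_injective_object R S.X₂
  have hsub : Subsingleton ((HTf T (i + 1)).obj S.X₂) :=
    t_subsingleton_of_injective T _ (i + 1) (Nat.succ_pos i)
  obtain ⟨y, hy⟩ := t_exact₁ T hS i x (@Subsingleton.elim _ hsub _ _)
  have hloc : ∀ p : PrimeSpectrum R, p ∈ T → p ∉ T' →
      ∃ w : (HTf T i).obj S.X₂, ∃ s ∈ p.asIdeal.primeCompl,
        ((HTf T i).map S.g).hom w = s • y := by
    intro p hp hp'
    obtain ⟨s, hs, h0⟩ := mem_locKer.mp (hx p hp hp')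
    have h1 : tDelta T hS i (s • y) = 0 := by rw [map_smul, hy, h0]
    obtain ⟨w, hw⟩ := t_exact₃ T hS i (s • y) h1
    exact ⟨w, s, hs, hw⟩
  have hkey : ∃ w : (HTf T i).obj S.X₂,
      ∀ p : PrimeSpectrum R, p ∈ T → p ∉ T' →
        y - ((HTf T i).map S.g).hom w ∈
          locKer p.asIdeal.primeCompl ((HTf T i).obj S.X₃) := by
    rcases Nat.eq_zero_or_pos i with rfl | hi
    · obtain ⟨wb, hwb, hwb2⟩ := exists_global_lift hT hmin S.X₂ S.X₃ S.g.hom
        (tH0Map T S.X₃ y) (tH0Map_mem_torsT T _ y)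
        (fun p hp hp' => by
          obtain ⟨w, s, hs, hw⟩ := hloc p hp hp'
          refine ⟨tH0Map T S.X₂ w, tH0Map_mem_torsT T _ w, s, hs, ?_⟩
          have := tH0Map_naturality T S.g w
          rw [hw, map_smul] at this
          exact this.symm)
      obtain ⟨𝔞, h𝔞, hk⟩ := hwb
      obtain ⟨w, hw⟩ := exists_tH0Map_eq T S.X₂ wb 𝔞 h𝔞 hk
      refine ⟨w, fun p hp hp' => ?_⟩
      obtain ⟨s, hs, h0⟩ := mem_locKer.mp (hwb2 p hp hp')
      refine mem_locKer.mpr ⟨s, hs, tH0Map_injective T S.X₃ ?_⟩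
      rw [map_smul, map_sub, tH0Map_naturality, hw, map_zero]
      exact h0
    · have hsub' : Subsingleton ((HTf T i).obj S.X₂) :=
        t_subsingleton_of_injective T _ i hi
      refine ⟨0, fun p hp hp' => ?_⟩
      obtain ⟨w, s, hs, hw⟩ := hloc p hp hp'
      rw [map_zero, sub_zero]
      refine mem_locKer.mpr ⟨s, hs, ?_⟩
      rw [← hw, @Subsingleton.elim _ hsub' w 0, map_zero]
  obtain ⟨w, hw⟩ := hkey
  obtain ⟨y'', hy''⟩ := ih S.X₃ _ hw
  refine ⟨tDelta T' hS i y'', ?_⟩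
  rw [tIncl_tDelta, hy'', map_sub, tDelta_comp_map, sub_zero, hy]

include hT hmin in
/-- **The Cousin-type three term exact sequence**: an element of `H^i_T(M)` vanishing at all points
of `T ∖ T'` comes from `H^i_{T'}(M)`. -/
theorem cousin_exact (i : ℕ) : ∀ (M : ModuleCat.{u} R) (x : (HTf T i).obj M),
    (∀ p : PrimeSpectrum R, p ∈ T → p ∉ T' →
      x ∈ locKer p.asIdeal.primeCompl ((HTf T i).obj M)) →
    ∃ y : (HTf T' i).obj M, tIncl hTT' i M y = x := by
  induction i with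
  | zero =>
    intro M x hx
    have h1 : tH0Map T M x ∈ torsT T' M :=
      mem_torsT_of_locKer M _ (tH0Map_mem_torsT T M x) (fun p hp hp' => by
        obtain ⟨s, hs, h0⟩ := mem_locKer.mp (hx p hp hp')
        exact mem_locKer.mpr ⟨s, hs, by rw [← map_smul, h0, map_zero]⟩)
    obtain ⟨𝔞, h𝔞, hk⟩ := h1
    obtain ⟨y, hy⟩ := exists_tH0Map_eq T' M _ 𝔞 h𝔞 hk
    refine ⟨y, tH0Map_injective T M ?_⟩
    rw [tH0Map_tIncl, hy]
  | succ i ih =>
    intro M x hx
    let E := Injective.under M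
    let ι : M ⟶ E := Injective.ι M
    have hι : Function.Injective ι.hom := (ModuleCat.mono_iff_injective ι).mp inferInstance
    have hS := sesOfInjective_shortExact ι.hom hι
    have hE : Injective (ModuleCat.of R E) := (inferInstance : Injective E)
    have hE2 : Injective (sesOfInjective ι.hom).X₂ := hE
    exact cousin_step hT hTT' hmin i ih (sesOfInjective ι.hom) hS x hx

end Main

end Groth.Agent.Lib.Helper60.HTCousin
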