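import Groth.Agent.Lib.Helper47.HTTorsion
import Groth.Agent.Lib.Helper60.LocalCohLES
import Groth.Agent.Lib.Helper60.LocalCohBasic
import Groth.Agent.Lib.Helper4.DeltaFamily
import Groth.Agent.S6773
import Groth.Agent.S6774

/-!
# `H^i_T` and `H^i_I` as cohomological δ-functors (helper60)

* `htDelta T` : `DeltaF.CohDeltaFunctor (ModuleCat R) (ModuleCat R) ℕ` with `F i = H^i_T`.
* `lcDeltaF I` : the same for `localCohomology I i`.
Both are effaceable, hence universal.
-/

set_option autoImplicit false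
universe u
open CategoryTheory CategoryTheory.Limits Opposite Abelian

namespace Groth.Agent.Lib.Helper60.HTDelta

open Groth.Agent.Lib.Helper60 Groth.Agent.Lib.Helper47.HTLib localCohomology

variable {R : Type u} [CommRing R]

section HT

variable (T : Set (PrimeSpectrum R))

instance htf_additive (i : ℕ) : (HTf T i).Additive where
  map_add {M N f g} := by
    apply ModuleCat.hom_ext
    apply LinearMap.ext
    intro y
    obtain ⟨a, x, rfl⟩ := tMk_surj T i M y
    rw [ModuleCat.hom_add, LinearMap.add_apply, tMap_tMk, tMap_tMk, tMap_tMk, Ext.mk₀_add,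
      Ext.comp_add, tMk_add]

/-- the connecting morphism of `H^•_T` for a general pair of consecutive degrees. -/
noncomputable def tδ {S : ShortComplex (ModuleCat.{u} R)} (hS : S.ShortExact) (n₀ n₁ : ℕ)
    (h : n₀ + 1 = n₁) : (HTf T n₀).obj S.X₃ ⟶ (HTf T n₁).obj S.X₁ :=
  ModuleCat.ofHom (tPostcomp T hS.extClass n₀ n₁ h)

lemma tδ_tMk {S : ShortComplex (ModuleCat.{u} R)} (hS : S.ShortExact) (n₀ n₁ : ℕ)
    (h : n₀ + 1 = n₁) (a : Dual2.IdealsIn T) (x : Abelian.Ext (quotObj a.obj) S.X₃ n₀) :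
    (tδ T hS n₀ n₁ h).hom (tMk T n₀ S.X₃ a x) = tMk T n₁ S.X₁ a (x.comp hS.extClass h) :=
  tPostcomp_tMk T hS.extClass n₀ n₁ h a x

lemma tδ_eq_tDelta {S : ShortComplex (ModuleCat.{u} R)} (hS : S.ShortExact) (n : ℕ) :
    (tδ T hS n (n + 1) rfl).hom = tDelta T hS n := rfl

/-- `H^•_T` as a cohomological δ-functor. -/
noncomputable def htDelta : DeltaF.CohDeltaFunctor (ModuleCat.{u} R) (ModuleCat.{u} R) ℕ where
  F i := HTf T i
  additive i := htf_additive T i
  δ S hS n₀ n₁ h := tδ T hS n₀ n₁ h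
  δ_natural {S S'} hS hS' φ n₀ n₁ h := by
    apply ModuleCat.hom_ext
    apply LinearMap.ext
    intro y
    obtain ⟨a, x, rfl⟩ := tMk_surj T n₀ S.X₃ y
    rw [ModuleCat.hom_comp, ModuleCat.hom_comp, LinearMap.comp_apply, LinearMap.comp_apply,
      tMap_tMk, tδ_tMk, tδ_tMk, tMap_tMk]
    congr 1
    rw [Ext.comp_assoc_of_second_deg_zero, Ext.comp_assoc_of_third_deg_zero,
      ShortComplex.ShortExact.extClass_naturality hS hS' φ]
  exact₂ S hS n := by
    rw [ShortComplex.moduleCat_exact_iff]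
    intro y hy
    exact t_exact₂ T hS n y hy
  comp_δ S hS n₀ n₁ h := by
    subst h
    apply ModuleCat.hom_ext
    apply LinearMap.ext
    intro y
    rw [ModuleCat.hom_comp, LinearMap.comp_apply, tδ_eq_tDelta, tDelta_comp_map]
    rfl
  exact₃ S hS n₀ n₁ h := by
    subst h
    rw [ShortComplex.moduleCat_exact_iff]
    intro y hy
    exact t_exact₃ T hS n₀ y hy
  δ_comp S hS n₀ n₁ h := by
    subst h
    apply ModuleCat.hom_ext
    apply LinearMap.ext
    intro y
    rw [ModuleCat.hom_comp, LinearMap.comp_apply, tδ_eq_tDelta, tMap_comp_delta]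
    rfl
  exact₁ S hS n₀ n₁ h := by
    subst h
    rw [ShortComplex.moduleCat_exact_iff]
    intro y hy
    exact t_exact₁ T hS n₀ y hy

lemma htDelta_isEffaceable : (htDelta T).IsEffaceable := by
  intro n X
  refine ⟨Injective.under X, Injective.ι X, inferInstance, ?_⟩
  have hz : Subsingleton ((HTf T (n + 1)).obj (Injective.under X)) :=
    t_subsingleton_of_injective T _ (n + 1) (Nat.succ_pos n)
  apply ModuleCat.hom_ext
  apply LinearMap.ext
  intro y
  exact @Subsingleton.elim _ hz _ _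

theorem htDelta_isUniversal : (htDelta T).IsUniversal :=
  Groth.Agent.S6773.result _ (htDelta_isEffaceable T)

end HT

section LC

variable (J : Ideal R)

instance lc_additive (i : ℕ) : (localCohomology J i).Additive where
  map_add {M N f g} := by
    apply ModuleCat.hom_ext
    apply LinearMap.ext
    intro y
    obtain ⟨n, x, rfl⟩ := lcMk_surj J i M y
    rw [ModuleCat.hom_add, LinearMap.add_apply, lcMap_lcMk, lcMap_lcMk, lcMap_lcMk, Ext.mk₀_add,
      Ext.comp_add, lcMk_add]

/-- the connecting morphism of `H^•_J` for a general pair of consecutive degrees. -/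
noncomputable def lδ {S : ShortComplex (ModuleCat.{u} R)} (hS : S.ShortExact) (n₀ n₁ : ℕ)
    (h : n₀ + 1 = n₁) : (localCohomology J n₀).obj S.X₃ ⟶ (localCohomology J n₁).obj S.X₁ :=
  ModuleCat.ofHom (lcPostcomp J hS.extClass n₀ n₁ h)

lemma lδ_lcMk {S : ShortComplex (ModuleCat.{u} R)} (hS : S.ShortExact) (n₀ n₁ : ℕ)
    (h : n₀ + 1 = n₁) (n : ℕ) (x : Abelian.Ext (quotPow J n) S.X₃ n₀) :
    (lδ J hS n₀ n₁ h).hom (lcMk J n₀ S.X₃ n x) = lcMk J n₁ S.X₁ n (x.comp hS.extClass h) :=
  lcPostcomp_lcMk J hS.extClass n₀ n₁ h n x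

lemma lδ_eq_lcDelta {S : ShortComplex (ModuleCat.{u} R)} (hS : S.ShortExact) (n : ℕ) :
    (lδ J hS n (n + 1) rfl).hom = lcDelta J hS n := rfl

/-- `H^•_J` as a cohomological δ-functor. -/
noncomputable def lcDeltaF : DeltaF.CohDeltaFunctor (ModuleCat.{u} R) (ModuleCat.{u} R) ℕ where
  F i := localCohomology J i
  additive i := lc_additive J i
  δ S hS n₀ n₁ h := lδ J hS n₀ n₁ h
  δ_natural {S S'} hS hS' φ n₀ n₁ h := by
    apply ModuleCat.hom_ext
    apply LinearMap.ext
    intro y
    obtain ⟨n, x, rfl⟩ := lcMk_surj J n₀ S.X₃ y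
    rw [ModuleCat.hom_comp, ModuleCat.hom_comp, LinearMap.comp_apply, LinearMap.comp_apply,
      lcMap_lcMk, lδ_lcMk, lδ_lcMk, lcMap_lcMk]
    congr 1
    rw [Ext.comp_assoc_of_second_deg_zero, Ext.comp_assoc_of_third_deg_zero,
      ShortComplex.ShortExact.extClass_naturality hS hS' φ]
  exact₂ S hS n := by
    rw [ShortComplex.moduleCat_exact_iff]
    intro y hy
    exact lc_exact₂ J hS n y hy
  comp_δ S hS n₀ n₁ h := by
    subst h
    apply ModuleCat.hom_ext
    apply LinearMap.ext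
    intro y
    rw [ModuleCat.hom_comp, LinearMap.comp_apply, lδ_eq_lcDelta, lcDelta_comp_map]
    rfl
  exact₃ S hS n₀ n₁ h := by
    subst h
    rw [ShortComplex.moduleCat_exact_iff]
    intro y hy
    exact lc_exact₃ J hS n₀ y hy
  δ_comp S hS n₀ n₁ h := by
    subst h
    apply ModuleCat.hom_ext
    apply LinearMap.ext
    intro y
    rw [ModuleCat.hom_comp, LinearMap.comp_apply, lδ_eq_lcDelta, lcMap_comp_delta]
    rfl
  exact₁ S hS n₀ n₁ h := by
    subst h
    rw [ShortComplex.moduleCat_exact_iff]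
    intro y hy
    exact lc_exact₁ J hS n₀ y hy

end LC

end Groth.Agent.Lib.Helper60.HTDelta
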