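import Groth.Agent.Lib.Helper60.HTFour
import Groth.Agent.Lib.Helper60.HTComp

/-!
# Mittag-Leffler type injectivity for `H^i_T` of an inverse system from pointwise conditions
(helper60)
-/

set_option autoImplicit false
set_option linter.unusedSectionVars false
universe u
open CategoryTheory CategoryTheory.Limits Opposite Abelian

namespace Groth.Agent.Lib.Helper60.HTImgInj

open Groth.Agent.Lib.Helper60 Groth.Agent.Lib.Helper47.HTLib localCohomology
  Groth.Agent.Lib.Helper60.HTDelta Groth.Agent.Lib.Helper60.HTLoc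
  Groth.Agent.Lib.Helper60.HTCousin Groth.Agent.Lib.Helper60.HTProZero
  Groth.Agent.Lib.Helper60.HTFour Groth.Agent.Lib.Helper60.HTComp

variable {R : Type u} [CommRing R]

lemma locF_map_mk (S : Submonoid R) {N₁ N₂ : ModuleCat.{u} R} (f : N₁ ⟶ N₂) (x : N₁) (s : S) :
    ((locF S).map f).hom (LocalizedModule.mk x s) = LocalizedModule.mk (f.hom x) s :=
  LocalizedModule.map_mk _ _ _ _

/-- local cohomology at the closed point of `R_p`. -/
noncomputable abbrev lcp (p : PrimeSpectrum R) (j : ℕ) :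
    ModuleCat.{u} (Localization.AtPrime p.asIdeal) ⥤ ModuleCat.{u} (Localization.AtPrime p.asIdeal) :=
  localCohomology (IsLocalRing.maximalIdeal (Localization.AtPrime p.asIdeal)) j

section Local

variable [IsNoetherianRing R] (i : ℕ)

/-- the pointwise conditions put the image of `H^i_T(f)` (restricted to the kernel towards `N₀`)
in the kernel of localization at a minimal point `p` of `T`. -/
lemma map_mem_locKer' {T : Set (PrimeSpectrum R)} (hT : StableUnderSpecialization T)
    {p : PrimeSpectrum R} (hp : p ∈ T) (hmin : ∀ q ∈ T, q ≤ p → q = p)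
    {N₁ N₁' N₂ N₀ : ModuleCat.{u} R} (f : N₁ ⟶ N₂) (f' : N₁' ⟶ N₂) (g : N₂ ⟶ N₀)
    (hrange : LinearMap.range ((lcp p i).map ((locF p.asIdeal.primeCompl).map f)).hom ≤
      LinearMap.range ((lcp p i).map ((locF p.asIdeal.primeCompl).map f')).hom)
    (hinj : ∀ x, x ∈ LinearMap.range ((lcp p i).map ((locF p.asIdeal.primeCompl).map f')).hom →
      ((lcp p i).map ((locF p.asIdeal.primeCompl).map g)).hom x = 0 → x = 0)
    (c : (HTf T i).obj N₁) (hc : ((HTf T i).map g).hom (((HTf T i).map f).hom c) = 0) :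
    ((HTf T i).map f).hom c ∈ locKer p.asIdeal.primeCompl ((HTf T i).obj N₂) := by
  obtain ⟨ψ⟩ := nonempty_natIso hT hp hmin i
  have h1 := congrArg (fun k => k.hom (LocalizedModule.mk c 1)) (ψ.hom.naturality f)
  simp only [Functor.comp_map, ModuleCat.hom_comp, LinearMap.comp_apply] at h1
  rw [locF_map_mk] at h1
  have h2 := congrArg (fun k => k.hom (LocalizedModule.mk (((HTf T i).map f).hom c) 1))
    (ψ.hom.naturality g)
  simp only [Functor.comp_map, ModuleCat.hom_comp, LinearMap.comp_apply] at h2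
  rw [locF_map_mk, hc] at h2
  have h3 : (ψ.hom.app N₂).hom (LocalizedModule.mk (((HTf T i).map f).hom c) 1) = 0 := by
    apply hinj
    · apply hrange
      rw [h1]
      exact LinearMap.mem_range_self _ _
    · rw [← h2]
      exact (congrArg (ψ.hom.app N₀).hom
        (LocalizedModule.zero_mk (1 : p.asIdeal.primeCompl))).trans (map_zero _)
  have h4 : Function.Injective (ψ.hom.app N₂).hom :=
    (ModuleCat.mono_iff_injective (ψ.hom.app N₂)).mp inferInstance
  rw [LinearMap.mem_ker]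
  exact h4 (h3.trans (map_zero _).symm)

end Local

section Main

variable [IsNoetherianRing R] (M : ℕ → ModuleCat.{u} R) (φ : ∀ k m : ℕ, m ≤ k → (M k ⟶ M m))
  (hφ : ∀ (k l m : ℕ) (h₁ : m ≤ l) (h₂ : l ≤ k), φ k m (h₁.trans h₂) = φ k l h₂ ≫ φ l m h₁)
  (i : ℕ) (m' : ℕ → ℕ) (hm' : ∀ m, m ≤ m' m)

include hφ in
lemma map_map_apply (T : Set (PrimeSpectrum R)) (k l m : ℕ) (h₁ : m ≤ l) (h₂ : l ≤ k)
    (x : (HTf T i).obj (M k)) :
    ((HTf T i).map (φ l m h₁)).hom (((HTf T i).map (φ k l h₂)).hom x) =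
      ((HTf T i).map (φ k m (h₁.trans h₂))).hom x := by
  rw [hφ k l m h₁ h₂, Functor.map_comp, ModuleCat.hom_comp, LinearMap.comp_apply]

include hφ hm' in
theorem imgInj_aux : ∀ (n : ℕ) (T : Set (PrimeSpectrum R)) (_ : StableUnderSpecialization T),
    Order.krullDim ↥T < (n : WithBot ℕ∞) →
    (0 < i → ∀ (p : PrimeSpectrum R), p ∈ T → ∀ (m k : ℕ) (h : m ≤ k), m' m ≤ k →
      (lcp p (i - 1)).map ((locF p.asIdeal.primeCompl).map (φ k m h)) = 0) →
    (∀ (p : PrimeSpectrum R), p ∈ T → ∀ (m k : ℕ) (h : m ≤ k), m' m ≤ k →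
      LinearMap.range ((lcp p i).map ((locF p.asIdeal.primeCompl).map (φ k m h))).hom =
        LinearMap.range
          ((lcp p i).map ((locF p.asIdeal.primeCompl).map (φ (m' m) m (hm' m)))).hom) →
    (∀ (p : PrimeSpectrum R), p ∈ T → ∀ (m : ℕ)
      (x : (lcp p i).obj ((locF p.asIdeal.primeCompl).obj (M m))),
      x ∈ LinearMap.range
          ((lcp p i).map ((locF p.asIdeal.primeCompl).map (φ (m' m) m (hm' m)))).hom →
      ((lcp p i).map ((locF p.asIdeal.primeCompl).map (φ m 0 (Nat.zero_le m)))).hom x = 0 →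
        x = 0) →
    ∃ m₀ : ℕ, ∀ (m : ℕ) (hm : m₀ ≤ m), ∃ m'' : ℕ, m ≤ m'' ∧ ∀ (k : ℕ) (h : m ≤ k), m'' ≤ k →
      ∀ x : (HTf T i).obj (M m), x ∈ LinearMap.range ((HTf T i).map (φ k m h)).hom →
        ((HTf T i).map (φ m m₀ hm)).hom x = 0 → x = 0 := by
  intro n
  induction n with
  | zero =>
    intro T hT hdim h1 h2 h3
    have hempty : T = ∅ := by
      rw [Set.eq_empty_iff_forall_notMem]
      intro p hp
      rw [Order.krullDim_lt_coe_iff] at hdim
      exact absurd (hdim (RelSeries.singleton _ ⟨p, hp⟩)) (by simp)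
    refine ⟨0, fun m hm => ⟨m, le_rfl, fun k h hk x _ _ => ?_⟩⟩
    have := subsingleton_of_empty hempty i (M m)
    exact Subsingleton.elim _ _
  | succ n ih =>
    intro T hT hdim h1 h2 h3
    obtain ⟨n₀, hB⟩ := ih (nonMin T) (nonMin_stable hT) (krullDim_nonMin_lt n hdim)
      (fun hi p hp => h1 hi p hp.1) (fun p hp => h2 p hp.1) (fun p hp => h3 p hp.1)
    refine ⟨m' n₀, fun m hm => ?_⟩
    have hn₀m : n₀ ≤ m := (hm' n₀).trans hm
    obtain ⟨l, hml, hl⟩ := hB m hn₀m
    refine ⟨m' l, hml.trans (hm' l), fun k h hk x hx hx0 => ?_⟩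
    have hlk : l ≤ k := (hm' l).trans hk
    obtain ⟨ck, rfl⟩ := hx
    -- the element `c_l`
    have hcl : ∀ p : PrimeSpectrum R, p ∈ T → p ∉ nonMin T →
        ((HTf T i).map (φ k l hlk)).hom ck ∈
          locKer p.asIdeal.primeCompl ((HTf T i).obj (M l)) := by
      intro p hp hp'
      refine map_mem_locKer' i hT hp (nonMin_min p hp hp') (φ k l hlk) (φ (m' l) l (hm' l))
        (φ l 0 (Nat.zero_le l)) (le_of_eq (h2 p hp l k hlk hk)) (h3 p hp l) ck ?_
      have e1 : φ l 0 (Nat.zero_le l) = φ l m hml ≫ φ m 0 (Nat.zero_le m) :=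
        hφ l m 0 (Nat.zero_le m) hml
      have e2 : φ m 0 (Nat.zero_le m) = φ m (m' n₀) hm ≫ φ (m' n₀) 0 (Nat.zero_le _) :=
        hφ m (m' n₀) 0 (Nat.zero_le _) hm
      rw [e1, Functor.map_comp, ModuleCat.hom_comp, LinearMap.comp_apply,
        map_map_apply M φ hφ i T k l m hml hlk, e2, Functor.map_comp, ModuleCat.hom_comp,
        LinearMap.comp_apply, hx0, map_zero]
    obtain ⟨bl, hbl⟩ := cousin_exact hT (nonMin_subset T) nonMin_min i (M l) _ hcl
    -- `b_l` dies in `H^i_{T'}(M_{n₀})`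
    have hbn₀ : ((HTf (nonMin T) i).map (φ l n₀ (hn₀m.trans hml))).hom bl = 0 := by
      have hl0 : m' n₀ ≤ l := hm.trans hml
      have e3 : φ l n₀ (hn₀m.trans hml) = φ l (m' n₀) hl0 ≫ φ (m' n₀) n₀ (hm' n₀) :=
        hφ l (m' n₀) n₀ (hm' n₀) hl0
      have hinc : tIncl (nonMin_subset T) i (M (m' n₀))
          (((HTf (nonMin T) i).map (φ l (m' n₀) hl0)).hom bl) = 0 := by
        rw [tIncl_naturality, hbl, map_map_apply M φ hφ i T k l (m' n₀) hl0 hlk,
          ← map_map_apply M φ hφ i T k m (m' n₀) hm h, hx0]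
      rw [e3, Functor.map_comp, ModuleCat.hom_comp, LinearMap.comp_apply]
      rcases Nat.eq_zero_or_pos i with rfl | hi
      · rw [tIncl_injective_zero T (nonMin_subset T) _ (hinc.trans (map_zero _).symm), map_zero]
      · obtain ⟨j, rfl⟩ := Nat.exists_eq_succ_of_ne_zero hi.ne'
        refine map_eq_zero_of_tIncl_eq_zero hT (nonMin_subset T) nonMin_min j
          (φ (m' n₀) n₀ (hm' n₀)) ?_ _ hinc
        intro p hp hp' y
        exact map_mem_locKer j hT hp (nonMin_min p hp hp') _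
          (h1 hi p hp n₀ (m' n₀) (hm' n₀) le_rfl) y
    -- apply the induction hypothesis to `b_m`
    have hbm : ((HTf (nonMin T) i).map (φ l m hml)).hom bl = 0 := by
      refine hl l hml le_rfl _ (LinearMap.mem_range_self _ _) ?_
      rw [map_map_apply M φ hφ i (nonMin T) l m n₀ hn₀m hml]
      exact hbn₀
    rw [← map_map_apply M φ hφ i T k l m hml hlk, ← hbl, ← tIncl_naturality, hbm, map_zero]

end Main

end Groth.Agent.Lib.Helper60.HTImgInj
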