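import Groth.Agent.Lib.Helper60.HTDelta
import Mathlib.RingTheory.LocalProperties.Injective
import Mathlib.Algebra.Module.LocalizedModule.Exact
import Mathlib.RingTheory.Localization.Module

/-!
# Localization of `H^i_T` at a minimal point of `T` (helper60)

For `R` Noetherian, `T ⊆ Spec R` stable under specialization and `p` a minimal element of `T`
there are natural isomorphisms `(H^i_T M)_p ≅ H^i_{pR_p}(M_p)`, compatible with the connecting
homomorphisms (uniqueness of universal δ-functors).
-/

set_option autoImplicit false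
set_option linter.unusedSectionVars false
universe u
open CategoryTheory CategoryTheory.Limits Opposite Abelian

namespace Groth.Agent.Lib.Helper60.HTLoc

open Groth.Agent.Lib.Helper60 Groth.Agent.Lib.Helper47.HTLib localCohomology
  Groth.Agent.Lib.Helper60.HTDelta

variable {R : Type u} [CommRing R]

section LocF

variable (S : Submonoid R)

lemma localizedModule_map_comp {M N P : Type u} [AddCommGroup M] [Module R M] [AddCommGroup N]
    [Module R N] [AddCommGroup P] [Module R P] (f : M →ₗ[R] N) (g : N →ₗ[R] P) :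
    LocalizedModule.map S (g ∘ₗ f) = LocalizedModule.map S g ∘ₗ LocalizedModule.map S f := by
  apply LinearMap.ext
  intro x
  induction x using LocalizedModule.induction_on with
  | h m s => simp

/-- the localization functor `M ↦ S⁻¹M` with values in `S⁻¹R`-modules. -/
noncomputable def locF : ModuleCat.{u} R ⥤ ModuleCat.{u} (Localization S) where
  obj M := ModuleCat.of (Localization S) (LocalizedModule S M)
  map f := ModuleCat.ofHom (LocalizedModule.map S f.hom)
  map_id M := by
    apply ModuleCat.hom_ext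
    simp
  map_comp f g := by
    apply ModuleCat.hom_ext
    rw [ModuleCat.hom_comp, ModuleCat.hom_ofHom, ModuleCat.hom_comp, ModuleCat.hom_ofHom,
      ModuleCat.hom_ofHom, localizedModule_map_comp]

@[simp] lemma locF_obj (M : ModuleCat.{u} R) :
    (locF S).obj M = ModuleCat.of (Localization S) (LocalizedModule S M) := rfl

@[simp] lemma locF_map_hom {M N : ModuleCat.{u} R} (f : M ⟶ N) :
    ((locF S).map f).hom = LocalizedModule.map S f.hom := rfl

instance : (locF S).Additive where
  map_add {M N f g} := by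
    apply ModuleCat.hom_ext
    rw [ModuleCat.hom_add, locF_map_hom, locF_map_hom, locF_map_hom, ModuleCat.hom_add, map_add]
    rfl

lemma locF_map_exact (X : ShortComplex (ModuleCat.{u} R)) (h : X.Exact) :
    (X.map (locF S)).Exact := by
  rw [CategoryTheory.ShortComplex.ShortExact.moduleCat_exact_iff_function_exact] at h ⊢
  exact LocalizedModule.map_exact S _ _ h

instance : PreservesFiniteLimits (locF S) := by
  have := ((Functor.exact_tfae (locF S)).out 1 3).mp (locF_map_exact S)
  exact this.1

instance : PreservesFiniteColimits (locF S) := by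
  have := ((Functor.exact_tfae (locF S)).out 1 3).mp (locF_map_exact S)
  exact this.2

end LocF

section Algebra

variable [IsNoetherianRing R] {T : Set (PrimeSpectrum R)} {p : PrimeSpectrum R}

/-- `p` is a minimal point of `T`: for `V(𝔞) ⊆ T` the ideal `𝔞R_p` is `pR_p`-primary or the unit
ideal. -/
lemma maximalIdeal_le_radical_map (hmin : ∀ q ∈ T, q ≤ p → q = p) {𝔞 : Ideal R}
    (h𝔞 : PrimeSpectrum.zeroLocus (𝔞 : Set R) ⊆ T) :
    IsLocalRing.maximalIdeal (Localization.AtPrime p.asIdeal) ≤
      (𝔞.map (algebraMap R (Localization.AtPrime p.asIdeal))).radical := by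
  rw [Ideal.radical_eq_sInf]
  apply le_sInf
  rintro P ⟨hP, hPprime⟩
  have := hPprime
  let q : PrimeSpectrum R := ⟨P.comap (algebraMap R (Localization.AtPrime p.asIdeal)), inferInstance⟩
  have hq𝔞 : 𝔞 ≤ q.asIdeal := Ideal.map_le_iff_le_comap.mp hP
  have hqT : q ∈ T := h𝔞 (by
    rw [PrimeSpectrum.mem_zeroLocus]
    exact hq𝔞)
  have hPm : P ≤ IsLocalRing.maximalIdeal (Localization.AtPrime p.asIdeal) :=
    IsLocalRing.le_maximalIdeal hPprime.ne_top
  have hqp : q ≤ p := by
    change q.asIdeal ≤ p.asIdeal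
    have h1 : q.asIdeal ≤ (IsLocalRing.maximalIdeal (Localization.AtPrime p.asIdeal)).comap
        (algebraMap R (Localization.AtPrime p.asIdeal)) := Ideal.comap_mono hPm
    exact h1.trans (le_of_eq
      (IsLocalization.AtPrime.under_maximalIdeal (Localization.AtPrime p.asIdeal) p.asIdeal))
  have hqeq : q = p := hmin q hqT hqp
  have h2 : P = (q.asIdeal).map (algebraMap R (Localization.AtPrime p.asIdeal)) :=
    (IsLocalization.map_under p.asIdeal.primeCompl (Localization.AtPrime p.asIdeal) P).symm
  rw [h2, hqeq, Localization.AtPrime.map_eq_maximalIdeal]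

variable (M : Type u) [AddCommGroup M] [Module R M]

lemma mk_mem_torsionSub_of_mem_torsT (hmin : ∀ q ∈ T, q ≤ p → q = p) (x : M)
    (hx : x ∈ torsT T M) (s : p.asIdeal.primeCompl) :
    LocalizedModule.mk x s ∈ DRing.torsionSub
      (IsLocalRing.maximalIdeal (Localization.AtPrime p.asIdeal))
      (LocalizedModule p.asIdeal.primeCompl M) := by
  obtain ⟨𝔞, h𝔞, hkill⟩ := hx
  have hNoeth : IsNoetherianRing (Localization.AtPrime p.asIdeal) :=
    IsLocalization.isNoetherianRing p.asIdeal.primeCompl _ inferInstance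
  obtain ⟨n, hn⟩ := Ideal.exists_pow_le_of_le_radical_of_fg
    (maximalIdeal_le_radical_map hmin h𝔞)
    ((isNoetherianRing_iff_ideal_fg _).mp hNoeth _)
  refine ⟨n, fun a ha => ?_⟩
  have ha' := hn ha
  rw [Ideal.map] at ha'
  clear ha
  induction ha' using Submodule.span_induction with
  | mem b hb =>
    obtain ⟨r, hr, rfl⟩ := hb
    rw [algebraMap_smul, LocalizedModule.smul'_mk, hkill r hr, LocalizedModule.zero_mk]
  | zero => rw [zero_smul]
  | add b c _ _ hb hc => rw [add_smul, hb, hc, add_zero]
  | smul c b _ hb => rw [smul_eq_mul, mul_smul, hb, smul_zero]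

lemma exists_smul_eq_zero_of_fg_le_ker (S : Submonoid R) (N : Submodule R M) (hN : N.FG)
    (h : ∀ y ∈ N, ∃ t ∈ S, t • y = 0) : ∃ t ∈ S, ∀ y ∈ N, t • y = 0 := by
  classical
  obtain ⟨s, rfl⟩ := hN
  choose! t ht using fun y (hy : y ∈ (s : Set M)) => h y (Submodule.subset_span hy)
  refine ⟨∏ g ∈ s, t g, Submonoid.prod_mem S (fun g hg => (ht g hg).1), fun y hy => ?_⟩
  induction hy using Submodule.span_induction with
  | mem g hg =>
    have hg' : g ∈ s := hg
    rw [← Finset.mul_prod_erase s t hg', mul_comm, mul_smul, (ht g hg).2, smul_zero]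
  | zero => rw [smul_zero]
  | add b c _ _ hb hc => rw [smul_add, hb, hc, add_zero]
  | smul c b _ hb => rw [smul_comm, hb, smul_zero]

/-- if `x/s ∈ M_p` is `pR_p`-power torsion then `p^n (t x) = 0` for some `n` and `t ∉ p`. -/
lemma exists_pow_smul_of_mem_torsionSub (x : M) (s : p.asIdeal.primeCompl)
    (hy : LocalizedModule.mk x s ∈
      DRing.torsionSub (IsLocalRing.maximalIdeal (Localization.AtPrime p.asIdeal))
      (LocalizedModule p.asIdeal.primeCompl M)) :
    ∃ n : ℕ, ∃ t ∈ p.asIdeal.primeCompl, ∀ a ∈ p.asIdeal ^ n, a • (t • x) = 0 := by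
  obtain ⟨n, hn⟩ := hy
  refine ⟨n, ?_⟩
  -- every element of `p^n • x` dies in the localization
  let N : Submodule R M := (p.asIdeal ^ n) • (Submodule.span R {x})
  have hNfg : N.FG := Submodule.FG.smul
    ((isNoetherianRing_iff_ideal_fg R).mp inferInstance _) (Submodule.fg_span_singleton x)
  have hkill : ∀ a ∈ p.asIdeal ^ n, ∃ t ∈ p.asIdeal.primeCompl, t • (a • x) = 0 := by
    intro a ha
    have h1 : algebraMap R (Localization.AtPrime p.asIdeal) a ∈
        (IsLocalRing.maximalIdeal (Localization.AtPrime p.asIdeal)) ^ n := by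
      rw [← Localization.AtPrime.map_eq_maximalIdeal, ← Ideal.map_pow]
      exact Ideal.mem_map_of_mem _ ha
    have h2 := hn _ h1
    rw [algebraMap_smul, LocalizedModule.smul'_mk, ← LocalizedModule.zero_mk s,
      LocalizedModule.mk_eq] at h2
    obtain ⟨u, hu⟩ := h2
    rw [smul_zero, smul_zero] at hu
    refine ⟨u * s, Submonoid.mul_mem _ u.2 s.2, ?_⟩
    rw [mul_smul]
    exact hu
  have hN : ∀ y ∈ N, ∃ t ∈ p.asIdeal.primeCompl, t • y = 0 := by
    intro y hy
    refine Submodule.smul_induction_on hy ?_ ?_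
    · intro a ha z hz
      obtain ⟨c, rfl⟩ := Submodule.mem_span_singleton.mp hz
      obtain ⟨t, ht, h0⟩ := hkill a ha
      refine ⟨t, ht, ?_⟩
      rw [smul_comm a c x, smul_comm t c, h0, smul_zero]
    · intro y z hy hz
      obtain ⟨t, ht, h0⟩ := hy
      obtain ⟨t', ht', h0'⟩ := hz
      refine ⟨t * t', Submonoid.mul_mem _ ht ht', ?_⟩
      rw [smul_add, mul_smul t t' z, h0', smul_zero, mul_comm, mul_smul, h0, smul_zero, add_zero]
  obtain ⟨t, ht, htN⟩ := exists_smul_eq_zero_of_fg_le_ker M p.asIdeal.primeCompl N hNfg hN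
  refine ⟨t, ht, fun a ha => ?_⟩
  rw [smul_comm]
  exact htN _ (Submodule.smul_mem_smul ha (Submodule.mem_span_singleton_self x))

lemma zeroLocus_pow_asIdeal_subset (hT : StableUnderSpecialization T) (hp : p ∈ T) (n : ℕ) :
    PrimeSpectrum.zeroLocus ((p.asIdeal ^ n : Ideal R) : Set R) ⊆ T := by
  apply zeroLocus_pow_subset T
  intro q hq
  rw [PrimeSpectrum.mem_zeroLocus] at hq
  have hpq : p ≤ q := hq
  exact hT ((PrimeSpectrum.le_iff_specializes p q).mp hpq) hp

lemma exists_mem_torsT_of_mem_torsionSub (hT : StableUnderSpecialization T) (hp : p ∈ T)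
    (y : LocalizedModule p.asIdeal.primeCompl M)
    (hy : y ∈ DRing.torsionSub (IsLocalRing.maximalIdeal (Localization.AtPrime p.asIdeal))
      (LocalizedModule p.asIdeal.primeCompl M)) :
    ∃ x ∈ torsT T M, ∃ s : p.asIdeal.primeCompl, y = LocalizedModule.mk x s := by
  induction y using LocalizedModule.induction_on with
  | h x s =>
    obtain ⟨n, t, ht, hk⟩ := exists_pow_smul_of_mem_torsionSub M x s hy
    refine ⟨t • x, ⟨p.asIdeal ^ n, zeroLocus_pow_asIdeal_subset hT hp n, hk⟩, ⟨t, ht⟩ * s, ?_⟩
    exact (LocalizedModule.mk_cancel_common_left ⟨t, ht⟩ s x).symm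

end Algebra

section Compare

variable [IsNoetherianRing R] (T : Set (PrimeSpectrum R)) (p : PrimeSpectrum R)

/-- the δ-functor `M ↦ (H^•_T M)_p`. -/
noncomputable def T1 : DeltaF.CohDeltaFunctor (ModuleCat.{u} R)
    (ModuleCat.{u} (Localization.AtPrime p.asIdeal)) ℕ :=
  Groth.Agent.Lib.Helper4.DeltaFamily.postcompExact (locF p.asIdeal.primeCompl) (htDelta T)

/-- the δ-functor `M ↦ H^•_{pR_p}(M_p)`. -/
noncomputable def T2 : DeltaF.CohDeltaFunctor (ModuleCat.{u} R)
    (ModuleCat.{u} (Localization.AtPrime p.asIdeal)) ℕ :=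
  Groth.Agent.Lib.Lead.ExtDelta.precompExact (locF p.asIdeal.primeCompl)
    (lcDeltaF (IsLocalRing.maximalIdeal (Localization.AtPrime p.asIdeal)))

lemma T1_F (i : ℕ) : (T1 T p).F i = HTf T i ⋙ locF p.asIdeal.primeCompl := rfl

lemma T2_F (i : ℕ) : (T2 p).F i = locF p.asIdeal.primeCompl ⋙
    localCohomology (IsLocalRing.maximalIdeal (Localization.AtPrime p.asIdeal)) i := rfl

lemma T1_isEffaceable : (T1 T p).IsEffaceable := by
  intro n X
  refine ⟨Injective.under X, Injective.ι X, inferInstance, ?_⟩
  have hz : Subsingleton ((HTf T (n + 1)).obj (Injective.under X)) :=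
    t_subsingleton_of_injective T _ (n + 1) (Nat.succ_pos n)
  have h0 : (HTf T (n + 1)).map (Injective.ι X) = 0 := by
    apply ModuleCat.hom_ext
    apply LinearMap.ext
    intro y
    exact @Subsingleton.elim _ hz _ _
  change (locF p.asIdeal.primeCompl).map ((HTf T (n + 1)).map (Injective.ι X)) = 0
  rw [h0, Functor.map_zero]

lemma T2_isEffaceable : (T2 p).IsEffaceable := by
  intro n X
  refine ⟨Injective.under X, Injective.ι X, inferInstance, ?_⟩
  let E : ModuleCat.{u} R := Injective.under X
  have hE0 : Injective (ModuleCat.of R E) := (inferInstance : Injective (Injective.under X))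
  have hE : Module.Injective R E :=
    Module.injective_module_of_injective_object R E
  have hE' : Module.Injective (Localization.AtPrime p.asIdeal)
      (LocalizedModule p.asIdeal.primeCompl E) :=
    Module.injective_of_isLocalizedModule p.asIdeal.primeCompl
      (LocalizedModule.mkLinearMap p.asIdeal.primeCompl E)
  have hE'' : Injective ((locF p.asIdeal.primeCompl).obj E) :=
    Module.injective_object_of_injective_module (Localization.AtPrime p.asIdeal)
      (LocalizedModule p.asIdeal.primeCompl E)
  have hz : Subsingleton ((localCohomology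
      (IsLocalRing.maximalIdeal (Localization.AtPrime p.asIdeal)) (n + 1)).obj
        ((locF p.asIdeal.primeCompl).obj E)) :=
    lc_subsingleton_of_injective _ _ (n + 1) (Nat.succ_pos n)
  apply ModuleCat.hom_ext
  apply LinearMap.ext
  intro y
  exact @Subsingleton.elim _ hz _ _

theorem T1_isUniversal : (T1 T p).IsUniversal :=
  Groth.Agent.S6773.result _ (T1_isEffaceable T p)

theorem T2_isUniversal : (T2 p).IsUniversal :=
  Groth.Agent.S6773.result _ (T2_isEffaceable p)

variable {T p}
variable (hT : StableUnderSpecialization T) (hp : p ∈ T) (hmin : ∀ q ∈ T, q ≤ p → q = p)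

/-- the map `(H^0_T M)_p → M_p`. -/
noncomputable def psi (M : ModuleCat.{u} R) :
    LocalizedModule p.asIdeal.primeCompl ((HTf T 0).obj M) →ₗ[Localization.AtPrime p.asIdeal]
      LocalizedModule p.asIdeal.primeCompl M :=
  LocalizedModule.map p.asIdeal.primeCompl (tH0Map T M)

lemma psi_injective (M : ModuleCat.{u} R) : Function.Injective (psi (T := T) (p := p) M) :=
  LocalizedModule.map_injective _ _ (tH0Map_injective T M)

lemma psi_naturality {M N : ModuleCat.{u} R} (f : M ⟶ N)
    (z : LocalizedModule p.asIdeal.primeCompl ((HTf T 0).obj M)) :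
    psi (T := T) (p := p) N (LocalizedModule.map p.asIdeal.primeCompl ((HTf T 0).map f).hom z) =
      LocalizedModule.map p.asIdeal.primeCompl f.hom (psi M z) := by
  induction z using LocalizedModule.induction_on with
  | h y s =>
    unfold psi
    rw [LocalizedModule.map_mk, LocalizedModule.map_mk, LocalizedModule.map_mk,
      LocalizedModule.map_mk, tH0Map_naturality]

include hmin in
lemma psi_mem (M : ModuleCat.{u} R)
    (z : LocalizedModule p.asIdeal.primeCompl ((HTf T 0).obj M)) :
    psi M z ∈ DRing.torsionSub (IsLocalRing.maximalIdeal (Localization.AtPrime p.asIdeal))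
      (LocalizedModule p.asIdeal.primeCompl M) := by
  induction z using LocalizedModule.induction_on with
  | h y s =>
    unfold psi
    rw [LocalizedModule.map_mk]
    exact mk_mem_torsionSub_of_mem_torsT M hmin _ (tH0Map_mem_torsT T M y) s

include hT hp in
lemma psi_surj (M : ModuleCat.{u} R) (y : LocalizedModule p.asIdeal.primeCompl M)
    (hy : y ∈ DRing.torsionSub (IsLocalRing.maximalIdeal (Localization.AtPrime p.asIdeal))
      (LocalizedModule p.asIdeal.primeCompl M)) :
    ∃ z, psi (T := T) M z = y := by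
  obtain ⟨x, hx, s, rfl⟩ := exists_mem_torsT_of_mem_torsionSub M hT hp y hy
  refine ⟨LocalizedModule.mk ((tH0Equiv T M).symm ⟨x, hx⟩) s, ?_⟩
  unfold psi
  rw [LocalizedModule.map_mk]
  congr 1
  have := (tH0Equiv T M).apply_symm_apply ⟨x, hx⟩
  exact congrArg Subtype.val this

/-- the degree-zero comparison, first step: `(H^0_T M)_p ≃ Γ_{pR_p}(M_p)`. -/
noncomputable def e0a (M : ModuleCat.{u} R) :
    LocalizedModule p.asIdeal.primeCompl ((HTf T 0).obj M) ≃ₗ[Localization.AtPrime p.asIdeal]
      DRing.torsionSub (IsLocalRing.maximalIdeal (Localization.AtPrime p.asIdeal))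
        (LocalizedModule p.asIdeal.primeCompl M) :=
  LinearEquiv.ofBijective ((psi (T := T) (p := p) M).codRestrict
      (DRing.torsionSub (IsLocalRing.maximalIdeal (Localization.AtPrime p.asIdeal))
        (LocalizedModule p.asIdeal.primeCompl M)) (psi_mem hmin M))
    ⟨fun a b h => psi_injective M (congrArg Subtype.val h), by
      rintro ⟨y, hy⟩
      obtain ⟨z, hz⟩ := psi_surj hT hp M y hy
      exact ⟨z, Subtype.ext hz⟩⟩

lemma e0a_coe (M : ModuleCat.{u} R)
    (z : LocalizedModule p.asIdeal.primeCompl ((HTf T 0).obj M)) :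
    ((e0a hT hp hmin M z : DRing.torsionSub _ _) : LocalizedModule p.asIdeal.primeCompl M) =
      psi M z := rfl

/-- the degree-zero comparison `(H^0_T M)_p ≃ H^0_{pR_p}(M_p)`. -/
noncomputable def e0 (M : ModuleCat.{u} R) :
    LocalizedModule p.asIdeal.primeCompl ((HTf T 0).obj M) ≃ₗ[Localization.AtPrime p.asIdeal]
      (localCohomology (IsLocalRing.maximalIdeal (Localization.AtPrime p.asIdeal)) 0).obj
        ((locF p.asIdeal.primeCompl).obj M) :=
  (e0a hT hp hmin M).trans
  (lcH0Equiv (IsLocalRing.maximalIdeal (Localization.AtPrime p.asIdeal))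
    ((locF p.asIdeal.primeCompl).obj M)).symm

lemma lcH0Map_e0 (M : ModuleCat.{u} R)
    (z : LocalizedModule p.asIdeal.primeCompl ((HTf T 0).obj M)) :
    lcH0Map (IsLocalRing.maximalIdeal (Localization.AtPrime p.asIdeal))
      ((locF p.asIdeal.primeCompl).obj M) (e0 hT hp hmin M z) = psi M z := by
  have h1 : lcH0Equiv (IsLocalRing.maximalIdeal (Localization.AtPrime p.asIdeal))
      ((locF p.asIdeal.primeCompl).obj M) (e0 hT hp hmin M z) = e0a hT hp hmin M z :=
    LinearEquiv.apply_symm_apply _ _
  have h2 := congrArg Subtype.val h1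
  rw [lcH0Equiv_coe] at h2
  exact h2.trans (e0a_coe hT hp hmin M z)

/-- the degree-zero natural isomorphism. -/
noncomputable def e0Iso : (T1 T p).F 0 ≅ (T2 p).F 0 :=
  NatIso.ofComponents (fun M => (e0 hT hp hmin M).toModuleIso) (by
    intro M N f
    apply ModuleCat.hom_ext
    apply LinearMap.ext
    intro z
    apply lcH0Map_injective (IsLocalRing.maximalIdeal (Localization.AtPrime p.asIdeal))
      ((locF p.asIdeal.primeCompl).obj N)
    change lcH0Map _ _ (e0 hT hp hmin N (LocalizedModule.map p.asIdeal.primeCompl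
        ((HTf T 0).map f).hom z)) =
      lcH0Map _ _ (((localCohomology (IsLocalRing.maximalIdeal (Localization.AtPrime p.asIdeal))
        0).map ((locF p.asIdeal.primeCompl).map f)).hom (e0 hT hp hmin M z))
    rw [lcH0Map_e0, lcH0Map_naturality, lcH0Map_e0]
    exact psi_naturality f z)

include hT hp hmin in
/-- **Localization of `H^•_T` at a minimal point of `T`**, as an isomorphism of δ-functors. -/
theorem nonempty_deltaIso : Nonempty (T1 T p ≅ T2 p) := by
  obtain ⟨φ, -, -⟩ := Groth.Agent.S6774.result (T1 T p) (T2 p) (T1_isUniversal T p)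
    (T2_isUniversal p) (e0Iso hT hp hmin)
  exact ⟨φ⟩

end Compare

section Extract

variable {A : Type*} [Category A] [Abelian A] {B : Type*} [Category B] [Abelian B]

/-- the degree-`i` component of an isomorphism of δ-functors. -/
noncomputable def deltaIsoApp {X Y : DeltaF.CohDeltaFunctor A B ℕ} (φ : X ≅ Y) (i : ℕ) :
    X.F i ≅ Y.F i where
  hom := φ.hom.app i
  inv := φ.inv.app i
  hom_inv_id := by
    rw [← DeltaF.CohDeltaFunctor.comp_app, φ.hom_inv_id, DeltaF.CohDeltaFunctor.id_app]
  inv_hom_id := by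
    rw [← DeltaF.CohDeltaFunctor.comp_app, φ.inv_hom_id, DeltaF.CohDeltaFunctor.id_app]

end Extract

section Main

variable [IsNoetherianRing R] {T : Set (PrimeSpectrum R)} {p : PrimeSpectrum R}

/-- natural isomorphisms `(H^i_T M)_p ≅ H^i_{pR_p}(M_p)` for `p` a minimal point of `T`. -/
theorem nonempty_natIso (hT : StableUnderSpecialization T) (hp : p ∈ T)
    (hmin : ∀ q ∈ T, q ≤ p → q = p) (i : ℕ) :
    Nonempty (HTf T i ⋙ locF p.asIdeal.primeCompl ≅ locF p.asIdeal.primeCompl ⋙
      localCohomology (IsLocalRing.maximalIdeal (Localization.AtPrime p.asIdeal)) i) := by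
  obtain ⟨φ⟩ := nonempty_deltaIso hT hp hmin
  exact ⟨deltaIsoApp φ i⟩

end Main

end Groth.Agent.Lib.Helper60.HTLoc
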