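import Groth.Agent.Lib.Helper60.HTCousin

/-!
# Pro-vanishing of `H^i_T` of an inverse system from pointwise pro-vanishing (helper60)

`A` Noetherian, `T ⊆ Spec A` stable under specialization of finite dimension, `(M_n)` an inverse
system.  If the maps `H^i_{pA_p}(M_{k,p}) → H^i_{pA_p}(M_{m,p})` vanish for `k ≥ m'(m)` and all
`p ∈ T`, then `H^i_T(M_k) → H^i_T(M_m)` vanishes for `k ≥ m'^[dim T + 1](m)`.
-/

set_option autoImplicit false
set_option linter.unusedSectionVars false
universe u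
open CategoryTheory CategoryTheory.Limits Opposite Abelian

namespace Groth.Agent.Lib.Helper60.HTProZero

open Groth.Agent.Lib.Helper60 Groth.Agent.Lib.Helper47.HTLib localCohomology
  Groth.Agent.Lib.Helper60.HTDelta Groth.Agent.Lib.Helper60.HTLoc
  Groth.Agent.Lib.Helper60.HTCousin

variable {R : Type u} [CommRing R]

/-- the set of non-minimal points of `T`. -/
def nonMin (T : Set (PrimeSpectrum R)) : Set (PrimeSpectrum R) :=
  {p | p ∈ T ∧ ∃ q ∈ T, q < p}

lemma nonMin_subset (T : Set (PrimeSpectrum R)) : nonMin T ⊆ T := fun _ hp => hp.1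

lemma nonMin_stable {T : Set (PrimeSpectrum R)} (hT : StableUnderSpecialization T) :
    StableUnderSpecialization (nonMin T) := by
  rintro p p' hpp' ⟨hp, q, hq, hqp⟩
  exact ⟨hT hpp' hp, q, hq, lt_of_lt_of_le hqp ((PrimeSpectrum.le_iff_specializes p p').mpr hpp')⟩

lemma nonMin_min {T : Set (PrimeSpectrum R)} :
    ∀ p ∈ T, p ∉ nonMin T → ∀ q ∈ T, q ≤ p → q = p := by
  intro p hp hp' q hq hqp
  by_contra hne
  exact hp' ⟨hp, q, hq, lt_of_le_of_ne hqp hne⟩

lemma krullDim_nonMin_lt {T : Set (PrimeSpectrum R)} (n : ℕ)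
    (h : Order.krullDim ↥T < ((n + 1 : ℕ) : WithBot ℕ∞)) :
    Order.krullDim ↥(nonMin T) < (n : WithBot ℕ∞) := by
  rw [Order.krullDim_lt_coe_iff] at h ⊢
  intro l
  obtain ⟨q, hq, hql⟩ := l.head.2.2
  let ι : ↥(nonMin T) → ↥T := fun x => ⟨x.1, x.2.1⟩
  have hι : StrictMono ι := fun a b hab => hab
  let l' : LTSeries ↥T := (l.map ι hι).cons ⟨q, hq⟩ (by
    rw [LTSeries.head_map]
    exact hql)
  have := h l'
  simp only [l', RelSeries.cons_length, LTSeries.map_length] at this
  omega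

lemma subsingleton_of_empty [IsNoetherianRing R] {T : Set (PrimeSpectrum R)} (hT : T = ∅) (i : ℕ)
    (M : ModuleCat.{u} R) : Subsingleton ((HTf T i).obj M) := by
  refine ⟨fun a b => ?_⟩
  have key : ∀ y : (HTf T i).obj M, y = 0 := by
    intro y
    obtain ⟨𝔞, h𝔞, hk⟩ := t_isTorsion T i M y
    have h1 : 𝔞 = ⊤ := by
      rw [← PrimeSpectrum.zeroLocus_empty_iff_eq_top]
      rw [hT] at h𝔞
      exact Set.subset_empty_iff.mp h𝔞
    have := hk 1 (h1 ▸ Submodule.mem_top)
    rwa [one_smul] at this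
  rw [key a, key b]

lemma le_iterate (m' : ℕ → ℕ) (hm' : ∀ m, m ≤ m' m) (c x : ℕ) : x ≤ m'^[c] x := by
  induction c with
  | zero => exact le_rfl
  | succ c ih =>
    rw [Function.iterate_succ_apply']
    exact ih.trans (hm' _)

lemma iterate_mono_count (m' : ℕ → ℕ) (hm' : ∀ m, m ≤ m' m) {a b : ℕ} (hab : a ≤ b) (x : ℕ) :
    m'^[a] x ≤ m'^[b] x := by
  obtain ⟨c, rfl⟩ := Nat.exists_eq_add_of_le hab
  rw [add_comm, Function.iterate_add_apply]
  exact le_iterate m' hm' c _

section Main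

variable [IsNoetherianRing R] (M : ℕ → ModuleCat.{u} R) (φ : ∀ k m : ℕ, m ≤ k → (M k ⟶ M m))
  (hφ : ∀ (k l m : ℕ) (h₁ : m ≤ l) (h₂ : l ≤ k), φ k m (h₁.trans h₂) = φ k l h₂ ≫ φ l m h₁)
  (i : ℕ) (m' : ℕ → ℕ) (hm' : ∀ m, m ≤ m' m)

/-- pointwise vanishing at a minimal point `p` of `T` puts the image of `H^i_T(f)` in the kernel
of localization at `p`. -/
lemma map_mem_locKer {T : Set (PrimeSpectrum R)} (hT : StableUnderSpecialization T)
    {p : PrimeSpectrum R} (hp : p ∈ T) (hmin : ∀ q ∈ T, q ≤ p → q = p) {N₁ N₂ : ModuleCat.{u} R}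
    (f : N₁ ⟶ N₂)
    (hf : (localCohomology (IsLocalRing.maximalIdeal (Localization.AtPrime p.asIdeal)) i).map
      ((locF p.asIdeal.primeCompl).map f) = 0) (x : (HTf T i).obj N₁) :
    ((HTf T i).map f).hom x ∈ locKer p.asIdeal.primeCompl ((HTf T i).obj N₂) := by
  obtain ⟨ψ⟩ := nonempty_natIso hT hp hmin i
  have h1 := ψ.hom.naturality f
  rw [Functor.comp_map, Functor.comp_map, hf, comp_zero] at h1
  have h2 : (locF p.asIdeal.primeCompl).map ((HTf T i).map f) = 0 := by
    rw [← cancel_mono (ψ.hom.app N₂), h1, zero_comp]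
  have h3 : LocalizedModule.map p.asIdeal.primeCompl ((HTf T i).map f).hom
      (LocalizedModule.mk x 1) = 0 := by
    have h3 := congrArg (fun g => g.hom (LocalizedModule.mk x 1)) h2
    exact h3
  rw [LocalizedModule.map_mk] at h3
  rw [LinearMap.mem_ker]
  exact h3

include hφ hm' in
theorem proZero_aux : ∀ (n : ℕ) (T : Set (PrimeSpectrum R)) (_ : StableUnderSpecialization T),
    Order.krullDim ↥T < (n : WithBot ℕ∞) →
    (∀ (p : PrimeSpectrum R), p ∈ T → ∀ (m k : ℕ) (h : m ≤ k), m' m ≤ k →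
      (localCohomology (IsLocalRing.maximalIdeal (Localization.AtPrime p.asIdeal)) i).map
        ((locF p.asIdeal.primeCompl).map (φ k m h)) = 0) →
    ∀ (m k : ℕ) (h : m ≤ k), m'^[n] m ≤ k → (HTf T i).map (φ k m h) = 0 := by
  intro n
  induction n with
  | zero =>
    intro T hT hdim hloc m k h hk
    have hempty : T = ∅ := by
      rw [Set.eq_empty_iff_forall_notMem]
      intro p hp
      rw [Order.krullDim_lt_coe_iff] at hdim
      exact absurd (hdim (RelSeries.singleton _ ⟨p, hp⟩)) (by simp)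
    have := subsingleton_of_empty hempty i (M m)
    apply ModuleCat.hom_ext
    apply LinearMap.ext
    intro x
    exact Subsingleton.elim _ _
  | succ n ih =>
    intro T hT hdim hloc m k h hk
    set l := m'^[n] m with hl
    have hml : m ≤ l := le_iterate m' hm' n m
    have hlk' : m' l ≤ k := by
      rw [hl]
      rw [Function.iterate_succ_apply'] at hk
      exact hk
    have hlk : l ≤ k := (hm' l).trans hlk'
    rw [hφ k l m hml hlk, Functor.map_comp]
    apply ModuleCat.hom_ext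
    apply LinearMap.ext
    intro x
    rw [ModuleCat.hom_comp, LinearMap.comp_apply]
    have hx : ∀ p : PrimeSpectrum R, p ∈ T → p ∉ nonMin T →
        ((HTf T i).map (φ k l hlk)).hom x ∈ locKer p.asIdeal.primeCompl ((HTf T i).obj (M l)) :=
      fun p hp hp' => map_mem_locKer i hT hp (nonMin_min p hp hp') _ (hloc p hp l k hlk hlk') x
    obtain ⟨y, hy⟩ := cousin_exact hT (nonMin_subset T) nonMin_min i (M l) _ hx
    rw [← hy, ← tIncl_naturality]
    have h0 := ih (nonMin T) (nonMin_stable hT) (krullDim_nonMin_lt n hdim)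
      (fun p hp => hloc p hp.1) m l hml le_rfl
    rw [h0]
    simp
end Main

end Groth.Agent.Lib.Helper60.HTProZero
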