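/-
Copyright (c) 2026. Released under Apache 2.0 license.
# Artinianness of local cohomology (helper60)

Uses helper16's Melkersson lemma.

* `lc_isArtinian_succ_of_regular` : if `r ∈ a` is `M`-regular and `H^i_a(M/rM)` is Artinian then
  `H^{i+1}_a(M)` is Artinian.
* `isArtinian_of_finite_of_pow_smul_eq_zero` : finite module over a Noetherian local ring killed by
  a power of the maximal ideal is Artinian.
* `lc_maximalIdeal_isArtinian` : `H^i_m(M)` is Artinian for finite `M` over a Noetherian local ring.
* `lc_top_isArtinian` : `H^n_a(M)` is Artinian for finite `M` with `dim M ≤ n`.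
-/
import Groth.Agent.Lib.Helper60.LocalCohFinite
import Groth.Agent.Lib.Helper60.ExtFG
import Groth.Agent.Lib.Helper16.Melkersson

set_option autoImplicit false
universe u
open CategoryTheory

namespace Groth.Agent.Lib.Helper60

variable {R : Type u} [CommRing R]

/-- **Melkersson step**: if `r ∈ a` is `M`-regular and `H^i_a(M/rM)` is Artinian then
`H^{i+1}_a(M)` is Artinian. -/
theorem lc_isArtinian_succ_of_regular (a : Ideal R) (i : ℕ) (M : Type u) [AddCommGroup M]
    [Module R M] (r : R) (hr : r ∈ a) (hreg : IsSMulRegular M r)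
    (hA : IsArtinian R ((localCohomology a i).obj (ModuleCat.of R (QuotSMulTop r M)))) :
    IsArtinian R ((localCohomology a (i + 1)).obj (ModuleCat.of R M)) := by
  have hS := hreg.smulShortComplex_shortExact (M := ModuleCat.of R M)
  have hA' : IsArtinian R ((localCohomology a i).obj
      ((ModuleCat.of R M).smulShortComplex r).X₃) := hA
  suffices H : IsArtinian R ((localCohomology a (i + 1)).obj
      ((ModuleCat.of R M).smulShortComplex r).X₁) from H
  -- the `r`-torsion is contained in the range of `δ`
  have hle : Submodule.torsionBy R ((localCohomology a (i + 1)).obj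
      ((ModuleCat.of R M).smulShortComplex r).X₁) r ≤ LinearMap.range (lcDelta a hS i) := by
    intro y hy
    rw [Submodule.mem_torsionBy_iff] at hy
    apply lc_exact₁ a hS i y
    have h1 : ((localCohomology a (i + 1)).map (r • 𝟙 (ModuleCat.of R M))).hom y = r • y :=
      lcMap_smul_id a (i + 1) _ r y
    exact h1.trans hy
  have : IsArtinian R (LinearMap.range (lcDelta a hS i)) :=
    isArtinian_of_surjective _ (lcDelta a hS i).rangeRestrict
      (lcDelta a hS i).surjective_rangeRestrict
  have : IsArtinian R (Submodule.torsionBy R ((localCohomology a (i + 1)).obj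
      ((ModuleCat.of R M).smulShortComplex r).X₁) r) := isArtinian_of_le hle
  apply Groth.Agent.Lib.Helper16.isArtinian_of_torsionBy r
  intro y
  obtain ⟨n, hn⟩ := lc_isPowerTorsion a (i + 1) (ModuleCat.of R M) y
  exact ⟨n, hn _ (Ideal.pow_mem_pow hr n)⟩

/-- Melkersson's lemma for a finitely generated ideal (wrapper around helper16's lemma). -/
theorem isArtinian_of_powerTorsion (a : Ideal R) (ha : a.FG) (M : Type*) [AddCommGroup M]
    [Module R M] (hM : ∀ m : M, ∃ n : ℕ, ∀ x ∈ a ^ n, x • m = 0)
    (hA : IsArtinian R (Submodule.torsionBySet R M (a : Set R))) : IsArtinian R M := by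
  obtain ⟨s, rfl⟩ := ha
  exact Groth.Agent.Lib.Helper16.isArtinian_of_torsionBySet_span s M hM hA

/-- a finite module over a Noetherian local ring all of whose elements are killed by powers of the
maximal ideal is Artinian. -/
theorem isArtinian_of_finite_of_powerTorsion [IsNoetherianRing R] [IsLocalRing R] (N : Type*)
    [AddCommGroup N] [Module R N] [Module.Finite R N]
    (h : ∀ x : N, ∃ n : ℕ, ∀ a ∈ (IsLocalRing.maximalIdeal R) ^ n, a • x = 0) :
    IsArtinian R N := by
  apply isArtinian_of_powerTorsion (IsLocalRing.maximalIdeal R) (IsNoetherian.noetherian _) N h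
  have : IsNoetherian R N := isNoetherian_of_isNoetherianRing_of_finite R N
  let _ : Field (R ⧸ IsLocalRing.maximalIdeal R) := Ideal.Quotient.field _
  have : Module.Finite (R ⧸ IsLocalRing.maximalIdeal R)
      (Submodule.torsionBySet R N (IsLocalRing.maximalIdeal R : Set R)) :=
    Module.Finite.of_restrictScalars_finite R _ _
  have : IsArtinian (R ⧸ IsLocalRing.maximalIdeal R)
      (Submodule.torsionBySet R N (IsLocalRing.maximalIdeal R : Set R)) :=
    isArtinian_of_fg_of_artinian'
  exact isArtinian_of_surjective_algebraMap (S := R) (R := R ⧸ IsLocalRing.maximalIdeal R)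
    Ideal.Quotient.mk_surjective

/-- `H^i_m(M)` is Artinian for a finite module `M` over a Noetherian local ring `(R, m)`. -/
theorem lc_maximalIdeal_isArtinian [IsNoetherianRing R] [IsLocalRing R] (i : ℕ) :
    ∀ (M : Type u) [AddCommGroup M] [Module R M] [Module.Finite R M],
      IsArtinian R ((localCohomology (IsLocalRing.maximalIdeal R) i).obj (ModuleCat.of R M)) := by
  induction i with
  | zero =>
    intro M _ _ _
    have := lc_zero_finite (IsLocalRing.maximalIdeal R) M
    exact isArtinian_of_finite_of_powerTorsion _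
      (lc_isPowerTorsion (IsLocalRing.maximalIdeal R) 0 (ModuleCat.of R M))
  | succ i ih =>
    intro M _ _ _
    have hbij := lcMap_mkQ_torsionSub_bijective (IsLocalRing.maximalIdeal R) M (i + 1)
      (Nat.succ_pos i)
    obtain ⟨r, hr, hreg⟩ := exists_isSMulRegular_of_torsionSub_eq_bot (IsLocalRing.maximalIdeal R)
      (M ⧸ DRing.torsionSub (IsLocalRing.maximalIdeal R) M)
      (torsionSub_quotient_eq_bot (IsLocalRing.maximalIdeal R) M)
    have h1 := lc_isArtinian_succ_of_regular (IsLocalRing.maximalIdeal R) i
      (M ⧸ DRing.torsionSub (IsLocalRing.maximalIdeal R) M) r hr hreg (ih _)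
    exact isArtinian_of_linearEquiv (LinearEquiv.ofBijective _ hbij).symm

/-- arithmetic in `WithBot ℕ∞`. -/
lemma le_of_add_one_le_natCast {a : WithBot ℕ∞} {n : ℕ}
    (h : a + 1 ≤ ((n + 1 : ℕ) : WithBot ℕ∞)) : a ≤ (n : WithBot ℕ∞) := by
  induction a using WithBot.recBotCoe with
  | bot => exact bot_le
  | coe x =>
    induction x using ENat.recTopCoe with
    | top =>
      exfalso
      have : ((⊤ : ℕ∞) : WithBot ℕ∞) + 1 = ((⊤ : ℕ∞) : WithBot ℕ∞) := by
        rw [← WithBot.coe_one, ← WithBot.coe_add, top_add]
      rw [this] at h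
      have h' : ((⊤ : ℕ∞) : WithBot ℕ∞) ≤ (((n + 1 : ℕ) : ℕ∞) : WithBot ℕ∞) := h
      rw [WithBot.coe_le_coe] at h'
      exact absurd h' (by simp)
    | coe k =>
      have h' : (((k + 1 : ℕ) : ℕ∞) : WithBot ℕ∞) ≤ (((n + 1 : ℕ) : ℕ∞) : WithBot ℕ∞) := by
        simpa using h
      rw [WithBot.coe_le_coe, Nat.cast_le] at h'
      have : ((k : ℕ∞) : WithBot ℕ∞) ≤ ((n : ℕ∞) : WithBot ℕ∞) := by
        rw [WithBot.coe_le_coe, Nat.cast_le]; omega
      exact this

/-- a finite module with support of dimension `≤ 0` over a Noetherian local ring is Artinian. -/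
theorem isArtinian_of_supportDim_le_zero [IsNoetherianRing R] [IsLocalRing R] (M : Type u)
    [AddCommGroup M] [Module R M] [Module.Finite R M] (h : Module.supportDim R M ≤ 0) :
    IsArtinian R M := by
  apply isArtinian_of_finite_of_powerTorsion
  rcases subsingleton_or_nontrivial M with hM | hM
  · intro x
    exact ⟨0, fun a _ => Subsingleton.elim _ _⟩
  have h0 : Module.supportDim R M = 0 := by
    refine le_antisymm h ?_
    have hne := Module.supportDim_ne_bot_of_nontrivial R M
    obtain ⟨d, hd⟩ := WithBot.ne_bot_iff_exists.mp hne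
    rw [← hd]
    exact WithBot.coe_le_coe.mpr (by simp)
  have hsupp := support_of_supportDim_eq_zero (R := R) (N := M) h0
  rw [Module.support_eq_zeroLocus] at hsupp
  have hle : IsLocalRing.maximalIdeal R ≤ (Module.annihilator R M).radical := by
    rw [← PrimeSpectrum.zeroLocus_subset_zeroLocus_iff, hsupp]
  obtain ⟨k, hk⟩ := Ideal.exists_pow_le_of_le_radical_of_fg hle (IsNoetherian.noetherian _)
  intro x
  exact ⟨k, fun a ha => Module.mem_annihilator.mp (hk ha) x⟩

/-- `H^n_a(M)` is Artinian for a finite module `M` with `dim M ≤ n` over a Noetherian local ring. -/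
theorem lc_top_isArtinian [IsNoetherianRing R] [IsLocalRing R] (a : Ideal R) (n : ℕ) :
    ∀ (M : Type u) [AddCommGroup M] [Module R M] [Module.Finite R M],
      Module.supportDim R M ≤ (n : WithBot ℕ∞) →
      IsArtinian R ((localCohomology a n).obj (ModuleCat.of R M)) := by
  induction n with
  | zero =>
    intro M _ _ _ hdim
    have := isArtinian_of_supportDim_le_zero M (by simpa using hdim)
    exact isArtinian_of_injective (lcH0Map a (ModuleCat.of R M)) (lcH0Map_injective a _)
  | succ n ih =>
    intro M _ _ _ hdim
    by_cases ha : a = ⊤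
    · -- `H^i_⊤ = 0`
      have hsub : Subsingleton ((localCohomology a (n + 1)).obj (ModuleCat.of R M)) := by
        refine ⟨fun y z => ?_⟩
        suffices H : ∀ y : (localCohomology a (n + 1)).obj (ModuleCat.of R M), y = 0 by
          rw [H y, H z]
        intro y
        obtain ⟨k, hk⟩ := lc_isPowerTorsion a (n + 1) (ModuleCat.of R M) y
        have := hk 1 (by rw [ha, Ideal.top_pow]; exact Submodule.mem_top)
        rwa [one_smul] at this
      infer_instance
    have ham : a ≤ IsLocalRing.maximalIdeal R := IsLocalRing.le_maximalIdeal ha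
    have hbij := lcMap_mkQ_torsionSub_bijective a M (n + 1) (Nat.succ_pos n)
    obtain ⟨r, hr, hreg⟩ := exists_isSMulRegular_of_torsionSub_eq_bot a
      (M ⧸ DRing.torsionSub a M) (torsionSub_quotient_eq_bot a M)
    have hdim' : Module.supportDim R (QuotSMulTop r (M ⧸ DRing.torsionSub a M)) ≤
        (n : WithBot ℕ∞) := by
      apply le_of_add_one_le_natCast
      rw [Module.supportDim_quotSMulTop_succ_eq_supportDim hreg (ham hr)]
      exact (Module.supportDim_le_of_surjective _ (DRing.torsionSub a M).mkQ_surjective).trans hdim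
    have h1 := lc_isArtinian_succ_of_regular a n (M ⧸ DRing.torsionSub a M) r hr hreg
      (ih _ hdim')
    exact isArtinian_of_linearEquiv (LinearEquiv.ofBijective _ hbij).symm

end Groth.Agent.Lib.Helper60
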