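import Groth.Agent.Lib.Helper60.LocalCohTop2
import Groth.Agent.Lib.Helper28.RegularCM

/-!
# Local cohomology of Cohen–Macaulay modules; non-finiteness of top local cohomology (helper60)

* `lc_nontrivial_of_depth_eq` : `H^{depth M}_m(M) ≠ 0`.
* `lc_nontrivial_of_isCohenMacaulayModule` : `H^{dim M}_m(M) ≠ 0` for CM `M`.
* `exists_mem_maximalIdeal_notMem_minimalPrimes` : prime avoidance, `dim R > 0`.
* `lc_top_not_finite` : if `H^d_m(M) ≠ 0` with `d = dim R > 0`, then `H^d_m(M)` is not finite.
-/

set_option autoImplicit false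
universe u
open CategoryTheory CategoryTheory.Limits Opposite Abelian Order IsLocalRing

namespace Groth.Agent.Lib.Helper60

variable {R : Type u} [CommRing R]

/-- `H^n_m(M) ≠ 0` for `n = depth M` (finite nonzero `M` over a local ring). -/
theorem lc_nontrivial_of_depth_eq [IsNoetherianRing R] [IsLocalRing R] (M : Type u) [AddCommGroup M]
    [Module R M] [Module.Finite R M] [Nontrivial M] (n : ℕ) (hn : LocCoh.depth R M = n) :
    Nontrivial ((localCohomology (maximalIdeal R) n).obj (ModuleCat.of R M)) :=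
  ((idealDepth_eq_iff_lc (maximalIdeal R) M
    (Groth.Agent.Lib.Helper29.maximalIdeal_smul_top_ne_top R M) n).mp hn).2

/-- `H^n_m(M) ≠ 0` for a Cohen–Macaulay module of dimension `n`. -/
theorem lc_nontrivial_of_isCohenMacaulayModule [IsNoetherianRing R] [IsLocalRing R] (M : Type u) [AddCommGroup M]
    [Module R M] [Module.Finite R M] [Nontrivial M] (hCM : LocCoh.IsCohenMacaulayModule R M)
    (n : ℕ) (hn : Module.supportDim R M = n) :
    Nontrivial ((localCohomology (maximalIdeal R) n).obj (ModuleCat.of R M)) := by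
  apply lc_nontrivial_of_depth_eq M n
  unfold LocCoh.IsCohenMacaulayModule at hCM
  rw [hn] at hCM
  have h : ((n : ℕ∞) : WithBot ℕ∞) = ((LocCoh.depth R M : ℕ∞) : WithBot ℕ∞) := by
    rw [← hCM]; rfl
  exact (WithBot.coe_injective h).symm

/-- In a Noetherian local ring of positive dimension, the maximal ideal contains an element lying
in no minimal prime. -/
lemma exists_mem_maximalIdeal_notMem_minimalPrimes [IsNoetherianRing R] [IsLocalRing R]
    (hdim : 0 < ringKrullDim R) :
    ∃ r ∈ maximalIdeal R, ∀ p ∈ minimalPrimes R, r ∉ p := by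
  classical
  by_contra hcon
  push Not at hcon
  have hfin : (minimalPrimes R).Finite := minimalPrimes.finite_of_isNoetherianRing R
  have hsub : (maximalIdeal R : Set R) ⊆ ⋃ p ∈ hfin.toFinset, (p : Set R) := by
    intro r hr
    obtain ⟨p, hp, hrp⟩ := hcon r hr
    simp only [Set.mem_iUnion]
    exact ⟨p, hfin.mem_toFinset.mpr hp, hrp⟩
  have hprime : ∀ p ∈ hfin.toFinset, p.IsPrime := by
    intro p hp
    exact (hfin.mem_toFinset.mp hp).1.1
  obtain ⟨p, hp, hle⟩ := (Ideal.subset_union_prime_finite hfin.toFinset.finite_toSet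
    (f := id) ⊥ ⊥ (fun p hp _ _ => hprime p hp)).mp (by simpa using hsub)
  have hpmin : p ∈ minimalPrimes R := hfin.mem_toFinset.mp hp
  have hpp : p.IsPrime := hpmin.1.1
  have heq : p = maximalIdeal R := le_antisymm (le_maximalIdeal hpp.ne_top) hle
  -- then `maximalIdeal R` is minimal: dimension zero
  have : ringKrullDim R ≤ 0 := by
    rw [ringKrullDim, Order.krullDim_nonpos_iff_forall_isMax]
    intro q q' hqq'
    have h1 : q.asIdeal ≤ maximalIdeal R := le_maximalIdeal q.2.ne_top
    have h2 : q'.asIdeal ≤ maximalIdeal R := le_maximalIdeal q'.2.ne_top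
    rw [← heq] at h1 h2
    have h3 : p ≤ q.asIdeal := hpmin.2 ⟨q.2, bot_le⟩ h1
    show q'.asIdeal ≤ q.asIdeal
    exact h2.trans h3
  exact absurd hdim (not_lt.mpr this)

/-- If `d = dim R > 0` and `H^d_m(M) ≠ 0` then `H^d_m(M)` is not a finite module. -/
theorem lc_top_not_finite [IsNoetherianRing R] [IsLocalRing R] {d : ℕ} (hd0 : 0 < d)
    (hd : ringKrullDim R = d) (M : Type u) [AddCommGroup M] [Module R M]
    (hnt : Nontrivial ((localCohomology (maximalIdeal R) d).obj (ModuleCat.of R M))) :
    ¬ Module.Finite R ((localCohomology (maximalIdeal R) d).obj (ModuleCat.of R M)) := by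
  intro hfin
  have hdim : 0 < ringKrullDim R := by rw [hd]; exact_mod_cast hd0
  obtain ⟨r, hrm, hr⟩ := exists_mem_maximalIdeal_notMem_minimalPrimes (R := R) hdim
  have hsurj := lc_top_smul_surjective (maximalIdeal R) hd r (fun p hp _ => hr p hp) M
  have htop : (⊤ : Submodule R ((localCohomology (maximalIdeal R) d).obj (ModuleCat.of R M))) = ⊥ := by
    apply Submodule.eq_bot_of_le_smul_of_le_jacobson_bot (Ideal.span {r}) ⊤ Module.Finite.fg_top
    · intro y _
      obtain ⟨w, rfl⟩ := hsurj y
      exact Submodule.smul_mem_smul (Ideal.subset_span rfl) trivial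
    · rw [Ideal.span_singleton_le_iff_mem]
      exact IsLocalRing.maximalIdeal_le_jacobson _ hrm
  obtain ⟨x, y, hxy⟩ := hnt
  apply hxy
  have hx : x ∈ (⊤ : Submodule R _) := trivial
  have hy : y ∈ (⊤ : Submodule R _) := trivial
  rw [htop, Submodule.mem_bot] at hx hy
  rw [hx, hy]

end Groth.Agent.Lib.Helper60
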