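import Groth.Agent.Lib.Helper60.LocalCohCompare

/-!
# Reduction of top vanishing to primes of dimension one (helper60)
-/

set_option autoImplicit false
universe u
open CategoryTheory CategoryTheory.Limits Opposite Abelian Order IsLocalRing

namespace Groth.Agent.Lib.Helper60

lemma exists_prime_ge_ringKrullDim_quotient_eq_one {R : Type*} [CommRing R] [IsNoetherianRing R]
    [IsLocalRing R] (I : Ideal R) (hI : 0 < ringKrullDim (R ⧸ I)) :
    ∃ p : Ideal R, p.IsPrime ∧ I ≤ p ∧ ringKrullDim (R ⧸ p) = 1 := by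
  rw [ringKrullDim_quotient] at hI
  obtain ⟨x, y, hxy⟩ := krullDim_pos_iff.mp hI
  set q₀ := x.1 with hq₀
  set q₁ := y.1 with hq₁
  have hIq₀ : I ≤ q₀.asIdeal := (PrimeSpectrum.mem_zeroLocus _ _).mp x.2
  have hq₀m : q₀.asIdeal < maximalIdeal R :=
    lt_of_lt_of_le (show q₀.asIdeal < q₁.asIdeal from hxy) (le_maximalIdeal q₁.2.ne_top)
  let S : Set (Ideal R) := {p | p.IsPrime ∧ q₀.asIdeal ≤ p ∧ p < maximalIdeal R}
  have hSne : S.Nonempty := ⟨q₀.asIdeal, q₀.2, le_rfl, hq₀m⟩
  obtain ⟨p, ⟨hpp, hq₀p, hpm⟩, hmax⟩ :=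
    (set_has_maximal_iff_noetherian (R := R) (M := R)).mpr inferInstance S hSne
  refine ⟨p, hpp, hIq₀.trans hq₀p, ?_⟩
  rw [ringKrullDim_quotient]
  apply le_antisymm
  · rw [krullDim_le_one_iff]
    intro z
    have hpz : p ≤ z.1.asIdeal := (PrimeSpectrum.mem_zeroLocus _ _).mp z.2
    rcases eq_or_lt_of_le hpz with heq | hlt
    · left
      intro w hw
      have hpw : p ≤ w.1.asIdeal := (PrimeSpectrum.mem_zeroLocus _ _).mp w.2
      show z.1.asIdeal ≤ w.1.asIdeal
      rw [← heq]; exact hpw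
    · right
      intro w hw
      have hzm : z.1.asIdeal = maximalIdeal R := by
        by_contra hne
        have hzlt : z.1.asIdeal < maximalIdeal R :=
          lt_of_le_of_ne (le_maximalIdeal z.1.2.ne_top) hne
        exact hmax _ ⟨z.1.2, hq₀p.trans hpz, hzlt⟩ hlt
      show w.1.asIdeal ≤ z.1.asIdeal
      rw [hzm]; exact le_maximalIdeal w.1.2.ne_top
  · rw [one_le_krullDim_iff]
    exact ⟨⟨⟨p, hpp⟩, (PrimeSpectrum.mem_zeroLocus _ _).mpr le_rfl⟩,
      ⟨⟨maximalIdeal R, inferInstance⟩, (PrimeSpectrum.mem_zeroLocus _ _).mpr hpm.le⟩, hpm⟩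

variable {R : Type u} [CommRing R]

/-- In a Noetherian local ring of dimension `d`: if `H^d_p(R) = 0` for every prime `p` with
`dim R/p = 1`, then `H^d_I(N) = 0` for every ideal `I` with `dim R/I > 0` and every module `N`. -/
theorem lc_top_subsingleton_of_dim_one [IsNoetherianRing R] [IsLocalRing R] {d : ℕ}
    (hd : ringKrullDim R = d)
    (h : ∀ (p : Ideal R) [p.IsPrime], ringKrullDim (R ⧸ p) = 1 →
      Subsingleton ((localCohomology p d).obj (ModuleCat.of R R)))
    (I : Ideal R) (hI : 0 < ringKrullDim (R ⧸ I)) (N : Type u) [AddCommGroup N] [Module R N] :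
    Subsingleton ((localCohomology I d).obj (ModuleCat.of R N)) := by
  obtain ⟨p, hpp, hIp, hdim⟩ := exists_prime_ge_ringKrullDim_quotient_eq_one I hI
  have hp := h p hdim
  have hall : ∀ (N : Type u) [AddCommGroup N] [Module R N],
      Subsingleton ((localCohomology p d).obj (ModuleCat.of R N)) := by
    intro N _ _
    refine lc_top_subsingleton_of_support p hd R ?_ hp N
    intro q _ _ hq
    rw [Module.mem_support_iff_of_finite, Module.annihilator_eq_bot.mpr inferInstance]
    exact bot_le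
  have hjac : p ≤ (⊥ : Ideal R).jacobson := by
    rw [IsLocalRing.jacobson_eq_maximalIdeal ⊥ bot_ne_top]
    exact le_maximalIdeal hpp.ne_top
  exact lc_top_subsingleton_of_le hIp hjac hd hall N

end Groth.Agent.Lib.Helper60
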