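import Groth.Agent.Lib.Helper60.LocalCohCd

/-!
# Top local cohomology (helper60)

* `head_minimal_of_length_eq` : a chain of primes of maximal length starts at a minimal prime of
  maximal dimension.
* `supportDim_lt_of_mem_annihilator` : a module killed by an element avoiding all top-dimensional
  minimal primes has support of dimension `< dim R`.
* `lc_top_smul_surjective` : multiplication by such an element is surjective on `H^d_J(M)`.
-/

set_option autoImplicit false
universe u
open CategoryTheory CategoryTheory.Limits Opposite Abelian Order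

namespace Groth.Agent.Lib.Helper60

lemma head_minimal_of_length_eq {R : Type*} [CommRing R] {d : ℕ} (hd : ringKrullDim R = d)
    (l : LTSeries (PrimeSpectrum R)) (hl : d ≤ l.length) :
    l.head.asIdeal ∈ minimalPrimes R ∧ ringKrullDim (R ⧸ l.head.asIdeal) = d := by
  have hlen : l.length = d := by
    have h1 : (l.length : WithBot ℕ∞) ≤ ringKrullDim R := LTSeries.length_le_krullDim l
    rw [hd] at h1
    have : l.length ≤ d := by exact_mod_cast h1
    omega
  constructor
  · obtain ⟨q, hq, hqle⟩ := Ideal.exists_minimalPrimes_le (bot_le : (⊥ : Ideal R) ≤ l.head.asIdeal)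
    rcases eq_or_lt_of_le hqle with heq | hlt
    · rw [← heq]; exact hq
    · exfalso
      have hqp : q.IsPrime := hq.1.1
      let q' : PrimeSpectrum R := ⟨q, hqp⟩
      have hlt' : q' < l.head := hlt
      have h1 : ((l.cons q' hlt').length : WithBot ℕ∞) ≤ ringKrullDim R :=
        LTSeries.length_le_krullDim _
      rw [hd, RelSeries.cons_length, hlen] at h1
      have : d + 1 ≤ d := by exact_mod_cast h1
      omega
  · apply le_antisymm
    · rw [← hd]; exact ringKrullDim_quotient_le _
    · rw [ringKrullDim_quotient]
      have hmem : ∀ i, l i ∈ PrimeSpectrum.zeroLocus (R := R) (l.head.asIdeal : Set R) := by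
        intro i
        rw [PrimeSpectrum.mem_zeroLocus]
        exact (LTSeries.head_le l i : l.head ≤ l i)
      let l' : LTSeries (PrimeSpectrum.zeroLocus (R := R) (l.head.asIdeal : Set R)) :=
        { length := l.length
          toFun := fun i => ⟨l i, hmem i⟩
          step := fun i => l.step i }
      have := LTSeries.length_le_krullDim l'
      rw [show l'.length = d from hlen] at this
      exact this

lemma supportDim_lt_of_mem_annihilator {R : Type*} [CommRing R] {d : ℕ}
    (hd : ringKrullDim R = d) (f : R)
    (hf : ∀ p ∈ minimalPrimes R, ringKrullDim (R ⧸ p) = d → f ∉ p)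
    (N : Type*) [AddCommGroup N] [Module R N] (hfN : f ∈ Module.annihilator R N) :
    Module.supportDim R N < (d : WithBot ℕ∞) := by
  rw [Module.supportDim, krullDim_lt_coe_iff]
  intro l
  by_contra h
  rw [not_lt] at h
  let l' : LTSeries (PrimeSpectrum R) := l.map Subtype.val (fun _ _ hab => hab)
  have hl' : d ≤ l'.length := h
  obtain ⟨hmin, hdim⟩ := head_minimal_of_length_eq hd l' hl'
  apply hf _ hmin hdim
  have hhead : l'.head = l.head.1 := LTSeries.head_map _ _ _
  rw [hhead]
  exact Module.annihilator_le_of_mem_support l.head.2 hfN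

variable {R : Type u} [CommRing R]

/-- Over a Noetherian ring of dimension `d`, multiplication by an element lying in no minimal prime
`p` with `dim R/p = d` is surjective on `H^d_J(M)` for every module `M`. -/
theorem lc_top_smul_surjective [IsNoetherianRing R] (J : Ideal R) {d : ℕ}
    (hd : ringKrullDim R = d) (f : R)
    (hf : ∀ p ∈ minimalPrimes R, ringKrullDim (R ⧸ p) = d → f ∉ p)
    (M : Type u) [AddCommGroup M] [Module R M]
    (y : (localCohomology J d).obj (ModuleCat.of R M)) :
    ∃ w : (localCohomology J d).obj (ModuleCat.of R M), f • w = y := by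
  set φ : M →ₗ[R] M := LinearMap.lsmul R M f with hφ
  set N' := LinearMap.range φ with hN'
  have hSa := sesOfSurjective_shortExact φ.rangeRestrict φ.surjective_rangeRestrict
  have hSb := sesOfSubmodule_shortExact N'
  -- `H^d(M/fM) = 0`
  have h3 : Subsingleton ((localCohomology J d).obj (sesOfSubmodule N').X₃) := by
    apply lc_subsingleton_of_supportDim_lt J d (M ⧸ N')
    apply supportDim_lt_of_mem_annihilator hd f hf
    rw [Module.mem_annihilator]
    intro x
    obtain ⟨m, rfl⟩ := Submodule.Quotient.mk_surjective _ x
    rw [← Submodule.Quotient.mk_smul, Submodule.Quotient.mk_eq_zero]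
    exact ⟨m, rfl⟩
  -- `H^{d+1}(K) = 0`
  have h1 : Subsingleton ((localCohomology J (d + 1)).obj (sesOfSurjective φ.rangeRestrict).X₁) := by
    apply lc_subsingleton_of_supportDim_lt J (d + 1) (LinearMap.ker φ.rangeRestrict)
    refine lt_of_le_of_lt ((Module.supportDim_le_ringKrullDim R _).trans hd.le) ?_
    exact_mod_cast Nat.lt_succ_self d
  obtain ⟨z, hz⟩ := lc_exact₂ J hSb d y (Subsingleton.elim _ _)
  obtain ⟨w, hw⟩ := lc_exact₃ J hSa d z (Subsingleton.elim _ _)
  let a : ModuleCat.of R M ⟶ ModuleCat.of R N' := ModuleCat.ofHom φ.rangeRestrict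
  let b : ModuleCat.of R N' ⟶ ModuleCat.of R M := ModuleCat.ofHom N'.subtype
  have hz' : ((localCohomology J d).map b).hom z = y := hz
  have hw' : ((localCohomology J d).map a).hom w = z := hw
  have hcomp : a ≫ b = f • 𝟙 (ModuleCat.of R M) := by
    ext m
    rfl
  refine ⟨w, ?_⟩
  have key := lcMap_smul_id J d (ModuleCat.of R M) f w
  rw [← hcomp, Functor.map_comp] at key
  rw [← key, ← hz', ← hw']
  rfl

end Groth.Agent.Lib.Helper60
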