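import Groth.Agent.Lib.Helper60.SchDual11

/-!
# Dualizing complexes on schemes are local

* `HasChart K R k`: `K|_{Spec R}` is the derived tilde of a dualizing complex of `R`;
* `chart_transfer`, `HasChart.of_range_eq`, `HasChart.basicOpen`: transfer of charts along
  localizations / isomorphisms;
* `isDualizing_G_of_hasChart`: identification of the base change of `ω` with the dualizing complex
  of a smaller chart (uses `D(R) ≃ D_QCoh(Spec R)`, helper30);
* `hasChart_of_cover`: if `K` has charts on an affine open cover, it has a chart on every affine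
  open (uses the local-to-global principle for dualizing complexes of helper6).
-/

set_option autoImplicit false
set_option linter.style.haveILetI false
universe u
open CategoryTheory CategoryTheory.Limits AlgebraicGeometry TensorProduct
attribute [local instance] HasDerivedCategory.standard

namespace Groth.Agent.Lib.Helper60.SchDual

open Groth.Agent.Lib.Helper6 Groth.Agent.Lib.Helper35 Groth.Agent.Lib.Helper30.PerfRestrict

section Transfer

/-- every cyclic module over a localization is extended from a finite module. -/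
lemma hcyc_of_isLocalization {A B : Type u} [CommRing A] [CommRing B] [Algebra A B]
    (M : Submonoid A) [IsLocalization M B] (J : Ideal B) :
    ∃ (N : Type u) (_ : AddCommGroup N) (_ : Module A N) (_ : Module.Finite A N),
      Nonempty ((B ⊗[A] N) ≃ₗ[B] (B ⧸ J)) := by
  let I : Ideal A := J.comap (algebraMap A B)
  have hIJ : I.map (algebraMap A B) = J := IsLocalization.map_under M B J
  refine ⟨A ⧸ I, inferInstance, inferInstance, inferInstance, ⟨?_⟩⟩
  exact (Algebra.TensorProduct.quotIdealMapEquivTensorQuot B I).symm.toLinearEquiv ≪≫ₗ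
    Submodule.quotEquivOfEq _ _ hIJ

variable {X : Scheme.{u}}
  [∀ (R : CommRingCat.{u}), PreservesFiniteLimits (tilde.functor R)]

theorem chart_transfer (K : DCoh.D X) {R S : CommRingCat.{u}} (φ : R ⟶ S)
    (k : Spec (CommRingCat.of R) ⟶ X) (k' : Spec (CommRingCat.of S) ⟶ X)
    [IsOpenImmersion k] [IsOpenImmersion k'] [IsOpenImmersion (specMap φ)]
    (hk : specMap φ ≫ k = k') (M : Submonoid R)
    (hloc : @IsLocalization R _ M S _ φ.hom.toAlgebra)
    (ω : Dual.D R) (hω : Dual.IsDualizing R ω)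
    (e : (DCoh.restrictD k).obj K ≅ (DCoh.tildeD R).obj ω) :
    ∃ ω' : Dual.D S, Dual.IsDualizing S ω' ∧
      Nonempty ((DCoh.restrictD k').obj K ≅ (DCoh.tildeD S).obj ω') := by
  letI : Algebra R S := φ.hom.toAlgebra
  haveI : IsLocalization M S := hloc
  haveI : Module.Flat R S := IsLocalization.flat S M
  haveI hN := hω.isNoetherianRing
  haveI : IsNoetherianRing S := IsLocalization.isNoetherianRing M S hN
  haveI : PreservesFiniteLimits (ModuleCat.extendScalars.{u, u, u} φ.hom) :=
    inferInstanceAs (PreservesFiniteLimits (FlatBC.ext R S))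
  refine ⟨(FlatBC.G R S).obj ω, HomBC.isDualizing_G (B := S) (hcyc_of_isLocalization M) ω hω, ⟨?_⟩⟩
  exact rDFac (specMap φ) k k' hk K ≪≫ (DCoh.restrictD (specMap φ)).mapIso e ≪≫
    (tildeDRestrictIso φ).app ω

/-- `K|_{Spec R}` is the derived tilde of a dualizing complex. -/
def HasChart (K : DCoh.D X) (R : CommRingCat.{u}) (k : Spec (CommRingCat.of R) ⟶ X)
    [IsOpenImmersion k] : Prop :=
  ∃ ω : Dual.D R, Dual.IsDualizing R ω ∧
    Nonempty ((DCoh.restrictD k).obj K ≅ (DCoh.tildeD R).obj ω)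

/-- charts with the same image. -/
theorem HasChart.of_range_eq (K : DCoh.D X) {R S : CommRingCat.{u}}
    (k : Spec (CommRingCat.of R) ⟶ X) (k' : Spec (CommRingCat.of S) ⟶ X)
    [IsOpenImmersion k] [IsOpenImmersion k'] (h : Set.range k' = Set.range k)
    (hR : HasChart K R k) : HasChart K S k' := by
  obtain ⟨ω, hω, ⟨e⟩⟩ := hR
  let θ : Spec (CommRingCat.of S) ≅ Spec (CommRingCat.of R) := IsOpenImmersion.isoOfRangeEq k' k h
  have hθ : θ.hom ≫ k = k' := IsOpenImmersion.isoOfRangeEq_hom_fac k' k h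
  let φ : R ⟶ S := Spec.preimage θ.hom
  let ψ : S ⟶ R := Spec.preimage θ.inv
  have hφ : specMap φ = θ.hom := Spec.map_preimage θ.hom
  have hφψ : φ ≫ ψ = 𝟙 R := by
    apply Spec.map_injective
    rw [Spec.map_comp, Spec.map_preimage, Spec.map_preimage, Iso.inv_hom_id, Spec.map_id]
  have hψφ : ψ ≫ φ = 𝟙 S := by
    apply Spec.map_injective
    rw [Spec.map_comp, Spec.map_preimage, Spec.map_preimage, Iso.hom_inv_id, Spec.map_id]
  have hbij : Function.Bijective φ.hom := by
    refine Function.bijective_iff_has_inverse.mpr ⟨ψ.hom, fun r => ?_, fun s => ?_⟩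
    · have := congrArg (fun g => g.hom r) hφψ
      simpa using this
    · have := congrArg (fun g => g.hom s) hψφ
      simpa using this
  haveI : IsOpenImmersion (specMap φ) := by rw [hφ]; infer_instance
  have hloc : @IsLocalization R _ (⊥ : Submonoid R) S _ φ.hom.toAlgebra := by
    letI : Algebra R S := φ.hom.toAlgebra
    refine IsLocalization.of_le_isUnit_of_bijective ?_ hbij
    rintro _ ⟨r, hr, rfl⟩
    rw [Submonoid.mem_bot.mp hr, map_one]
    exact isUnit_one
  exact chart_transfer K φ k k' (by rw [hφ]; exact hθ) ⊥ hloc ω hω e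

/-- restricting a chart on an affine open `V` to a basic open of `V`. -/
theorem HasChart.basicOpen (K : DCoh.D X) {V D : X.Opens} (hV : IsAffineOpen V)
    (hD : IsAffineOpen D) (g : Γ(X, V)) (i : D ⟶ V) (hDg : D = X.basicOpen g)
    (h : HasChart K Γ(X, V) hV.fromSpec) : HasChart K Γ(X, D) hD.fromSpec := by
  obtain ⟨ω, hω, ⟨e⟩⟩ := h
  let φ : Γ(X, V) ⟶ Γ(X, D) := X.presheaf.map i.op
  have hk : specMap φ ≫ hV.fromSpec = hD.fromSpec := hV.map_fromSpec hD i.op
  haveI : IsOpenImmersion (specMap φ ≫ hV.fromSpec) := by rw [hk]; infer_instance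
  haveI : IsOpenImmersion (specMap φ) := IsOpenImmersion.of_comp (specMap φ) hV.fromSpec
  exact chart_transfer K φ hV.fromSpec hD.fromSpec hk (Submonoid.powers g)
    (hV.isLocalization_of_eq_basicOpen g i hDg) ω hω e

/-- if `ω~ ≅ K|_{Spec R}` and `Spec S ⊆ Spec R` carries a chart, then `S ⊗_R ω` is dualizing. -/
theorem isDualizing_G_of_hasChart (K : DCoh.D X) {R S : CommRingCat.{u}} (φ : R ⟶ S)
    (k : Spec (CommRingCat.of R) ⟶ X) (k' : Spec (CommRingCat.of S) ⟶ X)
    [IsOpenImmersion k] [IsOpenImmersion k'] [IsOpenImmersion (specMap φ)]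
    (hk : specMap φ ≫ k = k')
    (hflat : @Module.Flat R S _ _ φ.hom.toAlgebra.toModule)
    (ω : Dual.D R) (e : (DCoh.tildeD R).obj ω ≅ (DCoh.restrictD k).obj K)
    (h : HasChart K S k') :
    Dual.IsDualizing S ((@FlatBC.G R S _ _ φ.hom.toAlgebra hflat).obj ω) := by
  letI : Algebra R S := φ.hom.toAlgebra
  haveI : Module.Flat R S := hflat
  haveI : PreservesFiniteLimits (ModuleCat.extendScalars.{u, u, u} φ.hom) :=
    inferInstanceAs (PreservesFiniteLimits (FlatBC.ext R S))
  obtain ⟨ω', hω', ⟨e'⟩⟩ := h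
  let c : (DCoh.tildeD S).obj ((FlatBC.G R S).obj ω) ≅ (DCoh.tildeD S).obj ω' :=
    ((tildeDRestrictIso φ).app ω).symm ≪≫ (DCoh.restrictD (specMap φ)).mapIso e ≪≫
      (rDFac (specMap φ) k k' hk K).symm ≪≫ e'
  obtain ⟨hfull, hfaith, -⟩ := Groth.Agent.Lib.Helper30.DQC.TildeFF.main S
  exact HomBC.isDualizing_of_iso ((DCoh.tildeD S).preimageIso c).symm hω'

end Transfer

section Cover

open Groth.Agent.Lib.Helper49

variable {X : Scheme.{u}}
  [∀ (R : CommRingCat.{u}), PreservesFiniteLimits (tilde.functor R)]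

/-- the restriction of a complex with quasi-coherent cohomology to an affine chart is a derived
tilde. -/
theorem exists_tildeD_iso_restrict (K : DCoh.D X) (hqc : ∀ n : ℤ, (DCoh.HD K n).IsQuasicoherent)
    (R : CommRingCat.{u}) (k : Spec (CommRingCat.of R) ⟶ X) [IsOpenImmersion k] :
    ∃ ω : Dual.D R, Nonempty ((DCoh.tildeD R).obj ω ≅ (DCoh.restrictD k).obj K) := by
  refine ((Groth.Agent.Lib.Helper30.DQC.TildeFF.main R).2.2 ((DCoh.restrictD k).obj K)).mp ?_
  intro n
  have := hqc n
  exact isQuasicoherent_of_iso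
    ((ExactDC.homologyIso (Scheme.Modules.restrictFunctor k) n).app K).symm
    (Scheme.Modules.isQuasicoherent_restrictFunctor k (DCoh.HD K n))

variable (K : DCoh.D X) {ι : Type u} (A : ι → Type u) [∀ i, CommRing (A i)]
  (j : ∀ i, Spec (CommRingCat.of (A i)) ⟶ X) [∀ i, IsOpenImmersion (j i)]

/-- quasi-coherence of the cohomology sheaves from a cover by charts. -/
theorem isQuasicoherent_HD_of_cover (hcov : ∀ x : X, ∃ i, x ∈ Set.range (j i))
    (hK : ∀ i, HasChart K (CommRingCat.of (A i)) (j i)) (n : ℤ) :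
    (DCoh.HD K n).IsQuasicoherent := by
  refine isQuasicoherent_of_forall_restrict (DCoh.HD K n)
    (fun i => Spec (CommRingCat.of (A i))) j hcov fun i => ?_
  obtain ⟨ω, -, ⟨e⟩⟩ := hK i
  exact isQuasicoherent_of_iso
    (restrictHDIsoTilde (CommRingCat.of (A i)) (j i) K ω e n).symm inferInstance

/-- every point of an affine open `U` has a basic open neighbourhood in `U` carrying a chart. -/
theorem exists_basicOpen_hasChart (hcov : ∀ x : X, ∃ i, x ∈ Set.range (j i))
    (hK : ∀ i, HasChart K (CommRingCat.of (A i)) (j i)) {U : X.Opens} (hU : IsAffineOpen U)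
    (x : X) (hxU : x ∈ U) :
    ∃ f : Γ(X, U), x ∈ X.basicOpen f ∧
      HasChart K Γ(X, X.basicOpen f) (hU.basicOpen f).fromSpec := by
  obtain ⟨i, hi⟩ := hcov x
  let V : X.Opens := (j i).opensRange
  have hV : IsAffineOpen V := isAffineOpen_opensRange (j i)
  have hxV : x ∈ V := hi
  have hr : Set.range hV.fromSpec = Set.range (j i) := by rw [hV.range_fromSpec]; rfl
  have hcV : HasChart K Γ(X, V) hV.fromSpec :=
    HasChart.of_range_eq K (R := CommRingCat.of (A i)) (S := Γ(X, V)) (j i) hV.fromSpec hr (hK i)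
  obtain ⟨f, g, hfg, hxf⟩ := exists_basicOpen_le_affine_inter hU hV x ⟨hxU, hxV⟩
  refine ⟨f, hxf, ?_⟩
  have hle : X.basicOpen f ≤ V := by rw [hfg]; exact X.basicOpen_le g
  exact HasChart.basicOpen K (V := V) (D := X.basicOpen f) hV (hU.basicOpen f) g (homOfLE hle) hfg hcV

/-- **a complex which is locally the derived tilde of dualizing complexes is so on every affine
open.** -/
theorem hasChart_of_cover [IsLocallyNoetherian X] (hcov : ∀ x : X, ∃ i, x ∈ Set.range (j i))
    (hK : ∀ i, HasChart K (CommRingCat.of (A i)) (j i)) {U : X.Opens} (hU : IsAffineOpen U) :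
    HasChart K Γ(X, U) hU.fromSpec := by
  classical
  have hqc := isQuasicoherent_HD_of_cover K A j hcov hK
  obtain ⟨ω, ⟨e⟩⟩ := exists_tildeD_iso_restrict K hqc Γ(X, U) hU.fromSpec
  haveI hN : IsNoetherianRing Γ(X, U) := IsLocallyNoetherian.component_noetherian ⟨U, hU⟩
  refine ⟨ω, ?_, ⟨e.symm⟩⟩
  have h1 : ∀ x : U, ∃ f : Γ(X, U), (x : X) ∈ X.basicOpen f ∧
      HasChart K Γ(X, X.basicOpen f) (hU.basicOpen f).fromSpec :=
    fun x => exists_basicOpen_hasChart K A j hcov hK hU x x.2
  choose F hF1 hF2 using h1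
  have hspan : Ideal.span (Set.range F) = ⊤ := by
    by_contra hne
    obtain ⟨m, hm, hle⟩ := Ideal.exists_le_maximal _ hne
    let p : PrimeSpectrum Γ(X, U) := ⟨m, hm.isPrime⟩
    have hpU : hU.fromSpec p ∈ U := by
      have : hU.fromSpec p ∈ Set.range hU.fromSpec := ⟨p, rfl⟩
      rw [hU.range_fromSpec] at this
      exact this
    let x : U := ⟨hU.fromSpec p, hpU⟩
    have h2 : p ∈ hU.fromSpec ⁻¹ᵁ X.basicOpen (F x) := hF1 x
    rw [hU.fromSpec_preimage_basicOpen] at h2
    exact h2 (hle (Ideal.subset_span ⟨x, rfl⟩))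
  obtain ⟨s, hs1, hs2⟩ := (Ideal.span_eq_top_iff_finite _).mp hspan
  have hchart : ∀ f : s, HasChart K Γ(X, X.basicOpen f.1) (hU.basicOpen f.1).fromSpec := by
    rintro ⟨f, hf⟩
    obtain ⟨x, rfl⟩ := hs1 hf
    exact hF2 x
  -- the family of localizations
  let B : s → Type u := fun f => Γ(X, X.basicOpen f.1)
  letI instCR : ∀ f : s, CommRing (B f) := fun f =>
    inferInstanceAs (CommRing Γ(X, X.basicOpen f.1))
  letI instAlg : ∀ f : s, Algebra Γ(X, U) (B f) := fun f =>
    inferInstanceAs (Algebra Γ(X, U) Γ(X, X.basicOpen f.1))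
  haveI instLoc : ∀ f : s, IsLocalization.Away f.1 (B f) := fun f =>
    hU.isLocalization_basicOpen f.1
  haveI instFlat : ∀ f : s, Module.Flat Γ(X, U) (B f) := fun f =>
    IsLocalization.flat (B f) (Submonoid.powers f.1)
  have hG : ∀ f : s, Dual.IsDualizing (B f) ((FlatBC.G Γ(X, U) (B f)).obj ω) := by
    intro f
    let φ : Γ(X, U) ⟶ Γ(X, X.basicOpen f.1) :=
      X.presheaf.map (homOfLE (X.basicOpen_le f.1)).op
    have hk : specMap φ ≫ hU.fromSpec = (hU.basicOpen f.1).fromSpec :=
      hU.map_fromSpec (hU.basicOpen f.1) (homOfLE (X.basicOpen_le f.1)).op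
    haveI : IsOpenImmersion (specMap φ ≫ hU.fromSpec) := by rw [hk]; infer_instance
    haveI : IsOpenImmersion (specMap φ) := IsOpenImmersion.of_comp (specMap φ) hU.fromSpec
    exact isDualizing_G_of_hasChart K φ hU.fromSpec (hU.basicOpen f.1).fromSpec hk (instFlat f) ω e
      (hchart f)
  -- joint faithfulness
  have hZ : ∀ (M : Type (u + 1)) [AddCommGroup M] [Module Γ(X, U) M],
      (∀ f : s, Subsingleton (B f ⊗[Γ(X, U)] M)) → Subsingleton M := by
    intro M _ _ hM
    refine ⟨fun x y => ?_⟩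
    refine Module.eq_of_isLocalized_span (↑s : Set Γ(X, U)) hs2
      (fun f => B f ⊗[Γ(X, U)] M)
      (fun f => TensorProduct.mk Γ(X, U) (B f) M 1) x y ?_
    intro f
    exact (hM f).elim _ _
  -- finiteness of cohomology
  have hfin : ∀ k : ℤ, Module.Finite Γ(X, U) (Dual.HD Γ(X, U) ω k) := by
    intro k
    refine Module.Finite.of_localizationSpan' (↑s : Set Γ(X, U)) hs2
      (Mₚ := fun f => B f ⊗[Γ(X, U)] (Dual.HD Γ(X, U) ω k))
      (Rₚ := fun f => B f)
      (fun f => TensorProduct.mk Γ(X, U) (B f) (Dual.HD Γ(X, U) ω k) 1) ?_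
    intro f
    have := (hG f).finite_cohomology k
    exact Module.Finite.equiv (HomBC.homologyGEquiv (B := B f) ω k)
  -- uniform bounds
  have hbd : ∀ f : s, ∃ a b : ℤ, ∀ (M : Type u) [AddCommGroup M] [Module (B f) M] (k : ℤ),
      (k < a ∨ b < k) → Subsingleton (Dual.inD (B f) M ⟶
        ((FlatBC.G Γ(X, U) (B f)).obj ω)⟦k⟧) := fun f => (hG f).finite_injective_dimension
  choose a b hab using hbd
  have hunif : ∃ a' b' : ℤ, ∀ (f : s) (M : Type u) [AddCommGroup M] [Module (B f) M] (k : ℤ),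
      (k < a' ∨ b' < k) → Subsingleton (Dual.inD (B f) M ⟶
        ((FlatBC.G Γ(X, U) (B f)).obj ω)⟦k⟧) := by
    refine ⟨-(∑ i, |a i|), ∑ i, |b i|, fun i M _ _ k hk => hab i M k ?_⟩
    have h1 : |a i| ≤ ∑ j, |a j| :=
      Finset.single_le_sum (f := fun j => |a j|) (fun j _ => abs_nonneg (a j)) (Finset.mem_univ i)
    have h2 : |b i| ≤ ∑ j, |b j| :=
      Finset.single_le_sum (f := fun j => |b j|) (fun j _ => abs_nonneg (b j)) (Finset.mem_univ i)
    have h3 := neg_abs_le (a i)
    have h4 := le_abs_self (b i)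
    rcases hk with hk | hk
    · left; omega
    · right; omega
  exact HomBC.isDualizing_of_family' B hZ ω hfin hunif hG

end Cover

end Groth.Agent.Lib.Helper60.SchDual
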