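import Mathlib
import Groth.Agent.Lib.Helper24.GorenAt
import Groth.Agent.Lib.Helper29.FlatAscent
import Groth.Agent.Lib.Helper28.LpullTilde
import Groth.Agent.Lib.Helper28.LpullComp
import Groth.Agent.Lib.Helper28.LpullRestrict
import Groth.Agent.Lib.Helper35.NilTA
import Groth.Agent.Lib.Helper60.SchDual12

/-!
# Derived pullback of dualizing complexes: affine charts (helper60)

* `isGorensteinRing_fiber_chart`: a Gorenstein morphism has Gorenstein fibre rings on every pair of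
  affine charts.
* `nonempty_restrict_Lpull_iso`: `(Lf^* K)|_{Spec S} ≅ (ω ⊗^L_R S)~` when `K|_{Spec R} ≅ ω~`.
-/

set_option autoImplicit false
set_option linter.style.haveILetI false
universe u
open CategoryTheory CategoryTheory.Limits AlgebraicGeometry
attribute [local instance] HasDerivedCategory.standard

namespace Groth.Agent.Lib.Helper60.LpullDual

theorem nonempty_quot_equiv
    {A B : Type u} [CommRing A] [CommRing B] [Algebra A B]
    (p : Ideal A) [p.IsPrime] (q : Ideal B) [q.IsPrime]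
    (S T : Type u) [CommRing S] [CommRing T] [Algebra A S] [Algebra B T] [IsLocalRing S]
    [IsLocalization.AtPrime S p] [IsLocalization.AtPrime T q]
    (ψ : S →+* T) (hψ : ψ.comp (algebraMap A S) = (algebraMap B T).comp (algebraMap A B)) :
    Nonempty ((Localization.AtPrime q ⧸ p.map (algebraMap A (Localization.AtPrime q))) ≃+*
      (T ⧸ (IsLocalRing.maximalIdeal S).map ψ)) := by
  let e : Localization.AtPrime q ≃ₐ[B] T := IsLocalization.algEquiv q.primeCompl _ _
  refine ⟨Ideal.quotientEquiv _ _ e.toRingEquiv ?_⟩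
  rw [← IsLocalization.AtPrime.map_eq_maximalIdeal p S, Ideal.map_map, hψ]
  have h1 : (algebraMap B T).comp (algebraMap A B) =
      (e.toRingEquiv : Localization.AtPrime q →+* T).comp
        (algebraMap A (Localization.AtPrime q)) := by
    ext a
    simp [IsScalarTower.algebraMap_apply A B (Localization.AtPrime q)]
  rw [h1, ← Ideal.map_map]

open Groth.Agent.Lib.Helper24 in
theorem isGorensteinLocalRing_chart {X Y : Scheme.{u}} (f : X ⟶ Y)
    {U : X.Opens} (hU : IsAffineOpen U) {V : Y.Opens} (hV : IsAffineOpen V) (e : U ≤ f ⁻¹ᵁ V)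
    (x : X) (hx : x ∈ U) (hfx : Dual3.IsGorensteinAt f x)
    (q : PrimeSpectrum Γ(X, U)) (p : PrimeSpectrum Γ(Y, V))
    (hq : hU.primeIdealOf ⟨x, hx⟩ = q) (hp : hV.primeIdealOf ⟨f x, e hx⟩ = p) :
    letI := (f.appLE V U e).hom.toAlgebra
    LocCoh.IsGorensteinLocalRing (Localization.AtPrime q.asIdeal ⧸
      (p.asIdeal).map (algebraMap Γ(Y, V) (Localization.AtPrime q.asIdeal))) := by
  subst hq hp
  letI := (f.appLE V U e).hom.toAlgebra
  rw [isGorensteinAt_iff] at hfx
  obtain ⟨-, hG⟩ := hfx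
  letI := Y.presheaf.algebra_section_stalk ⟨f x, e hx⟩
  haveI := hV.isLocalization_stalk ⟨f x, e hx⟩
  letI := X.presheaf.algebra_section_stalk ⟨x, hx⟩
  haveI := hU.isLocalization_stalk ⟨x, hx⟩
  have hψ : (f.stalkMap x).hom.comp (algebraMap Γ(Y, V) (Y.presheaf.stalk (f x))) =
      (algebraMap Γ(X, U) (X.presheaf.stalk x)).comp (algebraMap Γ(Y, V) Γ(X, U)) := by
    ext a
    simp only [RingHom.algebraMap_toAlgebra, RingHom.coe_comp, Function.comp_apply,
      Scheme.Hom.germ_stalkMap_apply, Scheme.Hom.appLE,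
      homOfLE_leOfHom, CommRingCat.hom_comp, X.presheaf.germ_res_apply]
  obtain ⟨eq⟩ := nonempty_quot_equiv (hV.primeIdealOf ⟨f x, e hx⟩).asIdeal
    (hU.primeIdealOf ⟨x, hx⟩).asIdeal (Y.presheaf.stalk (f x)) (X.presheaf.stalk x)
    (f.stalkMap x).hom hψ
  exact isGorensteinLocalRing_of_ringEquiv eq.symm hG

theorem primeIdealOf_fromSpec {X : Scheme.{u}} {U : X.Opens} (hU : IsAffineOpen U)
    (q : PrimeSpectrum Γ(X, U)) (h : hU.fromSpec q ∈ U) :
    hU.primeIdealOf ⟨hU.fromSpec q, h⟩ = q := by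
  apply hU.fromSpec.isOpenEmbedding.injective
  exact hU.fromSpec_primeIdealOf ⟨hU.fromSpec q, h⟩

theorem fromSpec_mem {X : Scheme.{u}} {U : X.Opens} (hU : IsAffineOpen U)
    (q : PrimeSpectrum Γ(X, U)) : hU.fromSpec q ∈ U := by
  have : hU.fromSpec q ∈ hU.fromSpec.opensRange := ⟨q, rfl⟩
  rwa [hU.opensRange_fromSpec] at this

/-- **A Gorenstein morphism has Gorenstein fibre rings on affine charts.** -/
theorem isGorensteinRing_fiber_chart {X Y : Scheme.{u}} (f : X ⟶ Y)
    (hf : Dual3.IsGorensteinMor f)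
    {U : X.Opens} (hU : IsAffineOpen U) {V : Y.Opens} (hV : IsAffineOpen V) (e : U ≤ f ⁻¹ᵁ V)
    [IsNoetherianRing Γ(X, U)] :
    letI := (f.appLE V U e).hom.toAlgebra
    ∀ (p : Ideal Γ(Y, V)) [p.IsPrime], LocCoh.IsGorensteinRing (p.Fiber Γ(X, U)) := by
  letI := (f.appLE V U e).hom.toAlgebra
  intro p hp
  haveI hN : IsNoetherianRing (p.Fiber Γ(X, U)) :=
    Groth.Agent.Lib.Helper29.isNoetherianRing_fiber _ _ p
  refine { isGorensteinLocalRing_localization := fun q' hq' => ?_ }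
  haveI hlies : (q'.comap (Algebra.TensorProduct.includeRight :
      Γ(X, U) →ₐ[Γ(Y, V)] p.Fiber Γ(X, U))).LiesOver p := by infer_instance
  let q : PrimeSpectrum Γ(X, U) := ⟨q'.comap (Algebra.TensorProduct.includeRight :
      Γ(X, U) →ₐ[Γ(Y, V)] p.Fiber Γ(X, U)), inferInstance⟩
  have hx : hU.fromSpec q ∈ U := fromSpec_mem hU q
  have hq : hU.primeIdealOf ⟨hU.fromSpec q, hx⟩ = q := primeIdealOf_fromSpec hU q hx
  have hp' : hV.primeIdealOf ⟨f (hU.fromSpec q), e hx⟩ = ⟨p, hp⟩ := by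
    rw [← IsAffineOpen.comap_primeIdealOf_appLE V hV U hU e hx, hq]
    apply PrimeSpectrum.ext
    exact (hlies.over).symm
  have h := isGorensteinLocalRing_chart f hU hV e (hU.fromSpec q) hx (hf _) q ⟨p, hp⟩ hq hp'
  exact Groth.Agent.Lib.Helper24.isGorensteinLocalRing_of_ringEquiv
    (Groth.Agent.Lib.Helper29.fiberLocalizationEquiv p q').symm h

open Groth.Agent.Lib.Helper28 Groth.Agent.Lib.Helper28.LpullCompute
  Groth.Agent.Lib.Helper28.LpullRestrict Groth.Agent.Lib.Helper28.LpullComp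
  Groth.Agent.Lib.Helper35

variable [∀ (U V : Scheme.{u}) (j : U ⟶ V) [IsOpenImmersion j],
    PreservesFiniteLimits (Scheme.Modules.restrictFunctor j)]
  [∀ (R : CommRingCat.{u}), PreservesFiniteLimits (tilde.functor R)]

/-- a commutative square `k' ≫ f = Spec.map φ ≫ k` of charts: `(Lf^* K)|_{Spec S}` is the tilde of
the derived base change of the complex computing `K|_{Spec R}`. -/
theorem nonempty_restrict_Lpull_iso {X Y : Scheme.{u}} (f : X ⟶ Y) [DCoh.HasLpull f]
    {R S : CommRingCat.{u}} (φ : R ⟶ S)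
    (k : Spec (CommRingCat.of R) ⟶ Y) (k' : Spec (CommRingCat.of S) ⟶ X)
    [IsOpenImmersion k] [IsOpenImmersion k']
    (hsq : k' ≫ f = LpullTilde.specMap φ ≫ k)
    (K : DCoh.D Y) (ω : Dual.D R)
    (eω : (DCoh.tildeD R).obj ω ≅ (DCoh.restrictD k).obj K)
    [DRing.HasLBaseChange φ.hom] :
    Nonempty ((DCoh.restrictD k').obj ((DCoh.Lpull f).obj K) ≅
      (DCoh.tildeD S).obj ((DRing.LBaseChange φ.hom).obj ω)) := by
  haveI := hasLpull k
  haveI := hasLpull k'
  haveI := hasLpull (LpullTilde.specMap φ)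
  haveI := hasLpull (k' ≫ f)
  haveI := hasLpull (LpullTilde.specMap φ ≫ k)
  obtain ⟨eT⟩ := LpullTilde.nonempty_iso φ
  refine ⟨?_⟩
  exact ((lpullRestrictIso k').symm.app _) ≪≫ ((compIso k' f).app K) ≪≫
    ((lpullCongr hsq).app K) ≪≫ ((compIso (LpullTilde.specMap φ) k).symm.app K) ≪≫
    (DCoh.Lpull (LpullTilde.specMap φ)).mapIso (((lpullRestrictIso k).app K) ≪≫ eω.symm) ≪≫
    (eT.symm.app ω)

end Groth.Agent.Lib.Helper60.LpullDual
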