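import Mathlib
import Groth.Agent.Lib.Helper60.LpullDual1
import Groth.Agent.Lib.Helper6.FlatGor5
import Groth.Agent.S1780
import Groth.Agent.S3662

set_option autoImplicit false
set_option linter.style.haveILetI false
universe u
open CategoryTheory CategoryTheory.Limits AlgebraicGeometry
attribute [local instance] HasDerivedCategory.standard

namespace Groth.Agent.Lib.Helper60.LpullDual

open Groth.Agent.Lib.Helper60.SchDual Groth.Agent.Lib.Helper6 Groth.Agent.Lib.Helper35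

variable [∀ (U V : Scheme.{u}) (j : U ⟶ V) [IsOpenImmersion j],
    PreservesFiniteLimits (Scheme.Modules.restrictFunctor j)]
  [∀ (R : CommRingCat.{u}), PreservesFiniteLimits (tilde.functor R)]

theorem hasChart_Lpull {X Y : Scheme.{u}} (f : X ⟶ Y) [DCoh.HasLpull f] (K : DCoh.D Y)
    {U : X.Opens} (hU : IsAffineOpen U) {V : Y.Opens} (hV : IsAffineOpen V) (e : U ≤ f ⁻¹ᵁ V)
    (hKV : HasChart K Γ(Y, V) hV.fromSpec)
    [IsNoetherianRing Γ(Y, V)] [IsNoetherianRing Γ(X, U)]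
    (hflat : @Module.Flat Γ(Y, V) Γ(X, U) _ _ (f.appLE V U e).hom.toAlgebra.toModule)
    (hft : @Algebra.FiniteType Γ(Y, V) Γ(X, U) _ _ (f.appLE V U e).hom.toAlgebra)
    (hfib : letI := (f.appLE V U e).hom.toAlgebra
      ∀ (p : Ideal Γ(Y, V)) [p.IsPrime], LocCoh.IsGorensteinRing (p.Fiber Γ(X, U))) :
    HasChart ((DCoh.Lpull f).obj K) Γ(X, U) hU.fromSpec := by
  letI := (f.appLE V U e).hom.toAlgebra
  haveI := hflat
  haveI := hft
  obtain ⟨ω, hω, ⟨eω⟩⟩ := hKV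
  haveI : DRing.HasLBaseChange (f.appLE V U e).hom := TA.hasLBaseChange _
  haveI : DRing.HasLBaseChange (algebraMap Γ(Y, V) Γ(X, U)) := TA.hasLBaseChange _
  obtain ⟨iso⟩ := nonempty_restrict_Lpull_iso f (f.appLE V U e) hV.fromSpec hU.fromSpec
    (IsAffineOpen.SpecMap_appLE_fromSpec f hV hU e).symm K ω eω.symm
  refine ⟨_, ?_, ⟨iso⟩⟩
  have hG := FlatGor.isDualizing_G_of_gorenstein_fibres (B := Γ(X, U)) hfib ω hω
  exact HomBC.isDualizing_of_iso ((HomBC.lbcIsoG Γ(Y, V) Γ(X, U)).app ω).symm hG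

omit [∀ (U V : Scheme.{u}) (j : U ⟶ V) [IsOpenImmersion j],
    PreservesFiniteLimits (Scheme.Modules.restrictFunctor j)]
  [∀ (R : CommRingCat.{u}), PreservesFiniteLimits (tilde.functor R)] in
theorem exists_affine_charts {X Y : Scheme.{u}} (f : X ⟶ Y) (x : X) :
    ∃ (U : X.Opens) (V : Y.Opens), IsAffineOpen U ∧ IsAffineOpen V ∧ U ≤ f ⁻¹ᵁ V ∧ x ∈ U := by
  obtain ⟨V, hV, hxV, -⟩ := exists_isAffineOpen_mem_and_subset (X := Y) (x := f x)
    (U := ⊤) trivial
  obtain ⟨U, hU, hxU, hUV⟩ := exists_isAffineOpen_mem_and_subset (X := X) (x := x)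
    (U := f ⁻¹ᵁ V) hxV
  exact ⟨U, V, hU, hV, hUV, hxU⟩

theorem hasChart_of_isDualizingSch {Y : Scheme.{u}} (K : DCoh.D Y)
    (hK : Dual2.IsDualizingSch Y K) {V : Y.Opens} (hV : IsAffineOpen V) :
    HasChart K Γ(Y, V) hV.fromSpec :=
  hK Γ(Y, V) hV.fromSpec

theorem isDualizingSch_Lpull {X Y : Scheme.{u}} [IsLocallyNoetherian X] [IsLocallyNoetherian Y]
    (f : X ⟶ Y) [Flat f] [LocallyOfFiniteType f] [DCoh.HasLpull f]
    (hfib : ∀ (U : X.Opens) (V : Y.Opens) (_ : IsAffineOpen U) (_ : IsAffineOpen V)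
      (e : U ≤ f ⁻¹ᵁ V),
      letI := (f.appLE V U e).hom.toAlgebra
      ∀ (p : Ideal Γ(Y, V)) [p.IsPrime], LocCoh.IsGorensteinRing (p.Fiber Γ(X, U)))
    (K : DCoh.D Y) (hK : Dual2.IsDualizingSch Y K) :
    Dual2.IsDualizingSch X ((DCoh.Lpull f).obj K) := by
  choose U V hU hV e hx using exists_affine_charts f
  refine Groth.Agent.S3662.result X _ X (fun x => Γ(X, U x)) (fun x => (hU x).fromSpec) ?_ ?_
  · intro x
    exact ⟨x, by rw [(hU x).range_fromSpec]; exact hx x⟩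
  · intro x
    haveI : IsNoetherianRing Γ(Y, V x) := IsLocallyNoetherian.component_noetherian ⟨V x, hV x⟩
    haveI : IsNoetherianRing Γ(X, U x) := IsLocallyNoetherian.component_noetherian ⟨U x, hU x⟩
    exact hasChart_Lpull f K (hU x) (hV x) (e x) (hasChart_of_isDualizingSch K hK (hV x))
      (HasRingHomProperty.appLE @Flat f inferInstance ⟨V x, hV x⟩ ⟨U x, hU x⟩ (e x))
      (f.finiteType_appLE (hV x) (hU x) (e x))
      (hfib (U x) (V x) (hU x) (hV x) (e x))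

end Groth.Agent.Lib.Helper60.LpullDual
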