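import Mathlib
import Groth.Agent.Lib.Helper60.LpullDual2

set_option autoImplicit false
set_option linter.style.haveILetI false
universe u
open CategoryTheory CategoryTheory.Limits AlgebraicGeometry
attribute [local instance] HasDerivedCategory.standard

namespace Groth.Agent.Lib.Helper60.LpullDual

open Groth.Agent.Lib.Helper60.SchDual Groth.Agent.Lib.Helper6 Groth.Agent.Lib.Helper35

theorem primeIdealOf_eq_of_fromSpec_eq {X : Scheme.{u}} {U : X.Opens} (hU : IsAffineOpen U)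
    (y : U) (q : PrimeSpectrum Γ(X, U)) (h : hU.fromSpec q = y.1) : hU.primeIdealOf y = q := by
  apply hU.fromSpec.isOpenEmbedding.injective
  rw [hU.fromSpec_primeIdealOf y]
  exact h.symm

/-- a flat chart which is surjective on points is faithfully flat. -/
theorem faithfullyFlat_chart {X Y : Scheme.{u}} (f : X ⟶ Y) [Flat f]
    {U : X.Opens} (hU : IsAffineOpen U) {V : Y.Opens} (hV : IsAffineOpen V) (e : U ≤ f ⁻¹ᵁ V)
    (hsurj : ∀ y ∈ V, ∃ x ∈ U, f x = y) :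
    @Module.FaithfullyFlat Γ(Y, V) Γ(X, U) _ _ (f.appLE V U e).hom.toAlgebra.toModule := by
  letI := (f.appLE V U e).hom.toAlgebra
  haveI : Module.Flat Γ(Y, V) Γ(X, U) :=
    HasRingHomProperty.appLE @Flat f inferInstance ⟨V, hV⟩ ⟨U, hU⟩ e
  refine Module.FaithfullyFlat.of_comap_surjective fun p => ?_
  obtain ⟨x, hx, hfx⟩ := hsurj (hV.fromSpec p) (fromSpec_mem hV p)
  refine ⟨hU.primeIdealOf ⟨x, hx⟩, ?_⟩
  have h1 := IsAffineOpen.comap_primeIdealOf_appLE V hV U hU e hx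
  have h2 : hV.primeIdealOf ⟨f x, e hx⟩ = p :=
    primeIdealOf_eq_of_fromSpec_eq hV ⟨f x, e hx⟩ p hfx.symm
  rw [← h2, ← h1]
  rfl

/-- around the image of any point, a flat morphism locally of finite presentation has a pair of
affine charts which is surjective on points. -/
theorem exists_surjective_charts {X Y : Scheme.{u}} (f : X ⟶ Y) [Flat f]
    [LocallyOfFinitePresentation f] (x : X) :
    ∃ (U : X.Opens) (V : Y.Opens) (_ : IsAffineOpen U) (_ : IsAffineOpen V) (_ : U ≤ f ⁻¹ᵁ V),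
      f x ∈ V ∧ ∀ y ∈ V, ∃ x' ∈ U, f x' = y := by
  obtain ⟨U₀, V₀, hU₀, hV₀, e₀, hx⟩ := exists_affine_charts f x
  let W : Y.Opens := ⟨f '' (U₀ : Set X), f.isOpenMap _ U₀.2⟩
  have hyW : f x ∈ W := ⟨x, hx, rfl⟩
  obtain ⟨g, hgW, hyg⟩ := hV₀.exists_basicOpen_le (V := W) ⟨f x, hyW⟩ (e₀ hx)
  have hU : X.basicOpen (f.appLE V₀ U₀ e₀ g) = U₀ ⊓ f ⁻¹ᵁ (Y.basicOpen g) :=
    Scheme.basicOpen_appLE f U₀ V₀ e₀ g
  refine ⟨X.basicOpen (f.appLE V₀ U₀ e₀ g), Y.basicOpen g, hU₀.basicOpen _, hV₀.basicOpen _, ?_,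
    hyg, ?_⟩
  · rw [hU]
    exact inf_le_right
  · intro y hy
    obtain ⟨x', hx', rfl⟩ := hgW hy
    refine ⟨x', ?_, rfl⟩
    rw [hU]
    exact ⟨hx', hy⟩

variable [∀ (U V : Scheme.{u}) (j : U ⟶ V) [IsOpenImmersion j],
    PreservesFiniteLimits (Scheme.Modules.restrictFunctor j)]
  [∀ (R : CommRingCat.{u}), PreservesFiniteLimits (tilde.functor R)]

theorem hasChart_of_Lpull {X Y : Scheme.{u}} (f : X ⟶ Y) [DCoh.HasLpull f] (K : DCoh.D Y)
    (hqc : ∀ n : ℤ, (DCoh.HD K n).IsQuasicoherent)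
    {U : X.Opens} (hU : IsAffineOpen U) {V : Y.Opens} (hV : IsAffineOpen V) (e : U ≤ f ⁻¹ᵁ V)
    [IsNoetherianRing Γ(Y, V)] [IsNoetherianRing Γ(X, U)]
    (hff : @Module.FaithfullyFlat Γ(Y, V) Γ(X, U) _ _ (f.appLE V U e).hom.toAlgebra.toModule)
    (hL : HasChart ((DCoh.Lpull f).obj K) Γ(X, U) hU.fromSpec) :
    HasChart K Γ(Y, V) hV.fromSpec := by
  letI := (f.appLE V U e).hom.toAlgebra
  haveI := hff
  obtain ⟨ω, ⟨eω⟩⟩ := exists_tildeD_iso_restrict K hqc Γ(Y, V) hV.fromSpec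
  obtain ⟨ω', hω', ⟨e'⟩⟩ := hL
  haveI : DRing.HasLBaseChange (f.appLE V U e).hom := TA.hasLBaseChange _
  haveI : DRing.HasLBaseChange (algebraMap Γ(Y, V) Γ(X, U)) := TA.hasLBaseChange _
  obtain ⟨iso⟩ := nonempty_restrict_Lpull_iso f (f.appLE V U e) hV.fromSpec hU.fromSpec
    (IsAffineOpen.SpecMap_appLE_fromSpec f hV hU e).symm K ω eω
  obtain ⟨hfull, hfaith, -⟩ := Groth.Agent.Lib.Helper30.DQC.TildeFF.main Γ(X, U)
  have i3 : (DRing.LBaseChange (f.appLE V U e).hom).obj ω ≅ ω' :=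
    (DCoh.tildeD Γ(X, U)).preimageIso (iso.symm ≪≫ e')
  have hdual : Dual.IsDualizing Γ(X, U)
      ((DRing.LBaseChange (algebraMap Γ(Y, V) Γ(X, U))).obj ω) :=
    HomBC.isDualizing_of_iso i3.symm hω'
  exact ⟨ω, Groth.Agent.S1780.result Γ(Y, V) Γ(X, U) ω hdual, ⟨eω.symm⟩⟩

theorem isDualizingSch_of_Lpull {X Y : Scheme.{u}} [IsLocallyNoetherian X]
    [IsLocallyNoetherian Y] (f : X ⟶ Y) [Flat f] [LocallyOfFiniteType f] [Surjective f]
    [DCoh.HasLpull f] (K : DCoh.D Y) (hqc : ∀ n : ℤ, (DCoh.HD K n).IsQuasicoherent)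
    (hL : Dual2.IsDualizingSch X ((DCoh.Lpull f).obj K)) : Dual2.IsDualizingSch Y K := by
  have hch : ∀ y : Y, ∃ (U : X.Opens) (V : Y.Opens) (_ : IsAffineOpen U) (_ : IsAffineOpen V)
      (_ : U ≤ f ⁻¹ᵁ V), y ∈ V ∧ ∀ y' ∈ V, ∃ x' ∈ U, f x' = y' := by
    intro y
    obtain ⟨x, rfl⟩ := f.surjective y
    exact exists_surjective_charts f x
  choose U V hU hV e hy hsurj using hch
  refine Groth.Agent.S3662.result Y K Y (fun y => Γ(Y, V y)) (fun y => (hV y).fromSpec) ?_ ?_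
  · intro y
    exact ⟨y, by rw [(hV y).range_fromSpec]; exact hy y⟩
  · intro y
    haveI : IsNoetherianRing Γ(Y, V y) := IsLocallyNoetherian.component_noetherian ⟨V y, hV y⟩
    haveI : IsNoetherianRing Γ(X, U y) := IsLocallyNoetherian.component_noetherian ⟨U y, hU y⟩
    exact hasChart_of_Lpull f K hqc (hU y) (hV y) (e y)
      (faithfullyFlat_chart f (hU y) (hV y) (e y) (hsurj y))
      (hasChart_of_isDualizingSch _ hL (hU y))

end Groth.Agent.Lib.Helper60.LpullDual
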