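import Groth.Agent.Lib.Helper60.LocalCohOf
import Groth.Agent.Lib.Helper60.LocalCohTorsion
import Groth.Agent.Lib.Helper60.IdealPowers

/-!
# Mayer–Vietoris sequence for local cohomology (helper60)
-/

set_option autoImplicit false
universe u
open CategoryTheory CategoryTheory.Limits Opposite Abelian

namespace Groth.Agent.Lib.Helper60

variable {R : Type u} [CommRing R]

namespace MV

variable (𝔞 𝔟 : Ideal R)

/-- the product `R/𝔞 × R/𝔟`. -/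
abbrev prodObj : ModuleCat.{u} R := ModuleCat.of R ((R ⧸ 𝔞) × (R ⧸ 𝔟))

/-- `R/(𝔞 ∩ 𝔟) → R/𝔞 × R/𝔟`, `x ↦ (x, -x)`. -/
def α : quotObj (𝔞 ⊓ 𝔟) ⟶ prodObj 𝔞 𝔟 :=
  ModuleCat.ofHom (LinearMap.prod (Submodule.mapQ _ _ LinearMap.id inf_le_left)
    (-(Submodule.mapQ _ _ LinearMap.id inf_le_right)))

/-- `R/𝔞 × R/𝔟 → R/(𝔞 + 𝔟)`, `(x, y) ↦ x + y`. -/
def β : prodObj 𝔞 𝔟 ⟶ quotObj (𝔞 ⊔ 𝔟) :=
  ModuleCat.ofHom (LinearMap.coprod (Submodule.mapQ _ _ LinearMap.id le_sup_left)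
    (Submodule.mapQ _ _ LinearMap.id le_sup_right))

def inl : quotObj 𝔞 ⟶ prodObj 𝔞 𝔟 := ModuleCat.ofHom (LinearMap.inl R _ _)
def inr : quotObj 𝔟 ⟶ prodObj 𝔞 𝔟 := ModuleCat.ofHom (LinearMap.inr R _ _)
def fst : prodObj 𝔞 𝔟 ⟶ quotObj 𝔞 := ModuleCat.ofHom (LinearMap.fst R _ _)
def snd : prodObj 𝔞 𝔟 ⟶ quotObj 𝔟 := ModuleCat.ofHom (LinearMap.snd R _ _)

lemma inl_fst : inl 𝔞 𝔟 ≫ fst 𝔞 𝔟 = 𝟙 _ := rfl
lemma inr_snd : inr 𝔞 𝔟 ≫ snd 𝔞 𝔟 = 𝟙 _ := rfl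
lemma inl_snd : inl 𝔞 𝔟 ≫ snd 𝔞 𝔟 = 0 := rfl
lemma inr_fst : inr 𝔞 𝔟 ≫ fst 𝔞 𝔟 = 0 := rfl
lemma total : fst 𝔞 𝔟 ≫ inl 𝔞 𝔟 + snd 𝔞 𝔟 ≫ inr 𝔞 𝔟 = 𝟙 _ := by
  apply ModuleCat.hom_ext
  apply LinearMap.ext
  rintro ⟨x, y⟩
  simp [fst, snd, inl, inr]

lemma α_fst : α 𝔞 𝔟 ≫ fst 𝔞 𝔟 = qmap inf_le_left := rfl
lemma α_snd : α 𝔞 𝔟 ≫ snd 𝔞 𝔟 = -qmap inf_le_right := rfl
lemma inl_β : inl 𝔞 𝔟 ≫ β 𝔞 𝔟 = qmap le_sup_left := by
  apply quotObj_hom_ext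
  simp [inl, β, qmap]
lemma inr_β : inr 𝔞 𝔟 ≫ β 𝔞 𝔟 = qmap le_sup_right := by
  apply quotObj_hom_ext
  simp [inr, β, qmap]

/-- the Mayer–Vietoris short complex `0 → R/(𝔞∩𝔟) → R/𝔞 × R/𝔟 → R/(𝔞+𝔟) → 0`. -/
noncomputable abbrev ses : ShortComplex (ModuleCat.{u} R) :=
  ShortComplex.mk (α 𝔞 𝔟) (β 𝔞 𝔟) (by
    apply quotObj_hom_ext
    simp [α, β])

lemma ses_shortExact : (ses 𝔞 𝔟).ShortExact := by
  apply ModuleCat.shortComplex_shortExact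
  · rintro ⟨x, y⟩
    obtain ⟨x, rfl⟩ := Submodule.Quotient.mk_surjective _ x
    obtain ⟨y, rfl⟩ := Submodule.Quotient.mk_surjective _ y
    constructor
    · intro h
      have h' : (Submodule.Quotient.mk (x + y) : R ⧸ (𝔞 ⊔ 𝔟)) = 0 := h
      rw [Submodule.Quotient.mk_eq_zero, Submodule.mem_sup] at h'
      obtain ⟨a, ha, b, hb, hab⟩ := h'
      refine ⟨Submodule.Quotient.mk (x - a), ?_⟩
      show ((Submodule.Quotient.mk (x - a) : R ⧸ 𝔞), -(Submodule.Quotient.mk (x - a) : R ⧸ 𝔟)) = _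
      apply Prod.ext
      · show (Submodule.Quotient.mk (x - a) : R ⧸ 𝔞) = Submodule.Quotient.mk x
        rw [Submodule.Quotient.eq]
        simpa using 𝔞.neg_mem ha
      · show -(Submodule.Quotient.mk (x - a) : R ⧸ 𝔟) = Submodule.Quotient.mk y
        rw [← Submodule.Quotient.mk_neg, Submodule.Quotient.eq]
        have : -(x - a) - y = -b := by
          have : x + y = a + b := hab.symm
          linear_combination -this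
        rw [this]
        exact 𝔟.neg_mem hb
    · rintro ⟨z, hz⟩
      obtain ⟨z, rfl⟩ := Submodule.Quotient.mk_surjective _ z
      have h1 : (Submodule.Quotient.mk z : R ⧸ 𝔞) = Submodule.Quotient.mk x :=
        congrArg Prod.fst hz
      have h2 : -(Submodule.Quotient.mk z : R ⧸ 𝔟) = Submodule.Quotient.mk y :=
        congrArg Prod.snd hz
      show (Submodule.Quotient.mk (x + y) : R ⧸ (𝔞 ⊔ 𝔟)) = 0
      rw [Submodule.Quotient.eq] at h1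
      rw [← Submodule.Quotient.mk_neg, Submodule.Quotient.eq] at h2
      rw [Submodule.Quotient.mk_eq_zero]
      have : x + y = -(z - x) + -(-z - y) := by ring
      rw [this]
      exact add_mem (le_sup_left (a := 𝔞) (b := 𝔟) (𝔞.neg_mem h1))
        (le_sup_right (a := 𝔞) (b := 𝔟) (𝔟.neg_mem h2))
  · intro z w hzw
    obtain ⟨z, rfl⟩ := Submodule.Quotient.mk_surjective _ z
    obtain ⟨w, rfl⟩ := Submodule.Quotient.mk_surjective _ w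
    have h1 : (Submodule.Quotient.mk z : R ⧸ 𝔞) = Submodule.Quotient.mk w :=
      congrArg Prod.fst hzw
    have h2 : -(Submodule.Quotient.mk z : R ⧸ 𝔟) = -Submodule.Quotient.mk w :=
      congrArg Prod.snd hzw
    rw [Submodule.Quotient.eq] at h1
    rw [neg_inj, Submodule.Quotient.eq] at h2
    exact (Submodule.Quotient.eq _).mpr ⟨h1, h2⟩
  · intro z
    obtain ⟨z, rfl⟩ := Submodule.Quotient.mk_surjective _ z
    exact ⟨(Submodule.Quotient.mk z, 0), by simp [β]⟩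


section pairExt

variable {𝔞 𝔟} {M : ModuleCat.{u} R} {i : ℕ}

/-- the class on `R/𝔞 × R/𝔟` with given components. -/
noncomputable def pairExt (y : Abelian.Ext (quotObj 𝔞) M i) (z : Abelian.Ext (quotObj 𝔟) M i) :
    Abelian.Ext (prodObj 𝔞 𝔟) M i :=
  (Ext.mk₀ (fst 𝔞 𝔟)).comp y (zero_add i) + (Ext.mk₀ (snd 𝔞 𝔟)).comp z (zero_add i)

lemma inl_pairExt (y : Abelian.Ext (quotObj 𝔞) M i) (z : Abelian.Ext (quotObj 𝔟) M i) :
    (Ext.mk₀ (inl 𝔞 𝔟)).comp (pairExt y z) (zero_add i) = y := by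
  unfold pairExt
  rw [Ext.comp_add, ← Ext.comp_assoc _ _ _ (zero_add 0) (zero_add i) (by omega),
    ← Ext.comp_assoc _ _ _ (zero_add 0) (zero_add i) (by omega), Ext.mk₀_comp_mk₀,
    Ext.mk₀_comp_mk₀, inl_fst, inl_snd, Ext.mk₀_id_comp, Ext.mk₀_zero, Ext.zero_comp, add_zero]

lemma inr_pairExt (y : Abelian.Ext (quotObj 𝔞) M i) (z : Abelian.Ext (quotObj 𝔟) M i) :
    (Ext.mk₀ (inr 𝔞 𝔟)).comp (pairExt y z) (zero_add i) = z := by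
  unfold pairExt
  rw [Ext.comp_add, ← Ext.comp_assoc _ _ _ (zero_add 0) (zero_add i) (by omega),
    ← Ext.comp_assoc _ _ _ (zero_add 0) (zero_add i) (by omega), Ext.mk₀_comp_mk₀,
    Ext.mk₀_comp_mk₀, inr_fst, inr_snd, Ext.mk₀_id_comp, Ext.mk₀_zero, Ext.zero_comp, zero_add]

lemma pairExt_components (e : Abelian.Ext (prodObj 𝔞 𝔟) M i) :
    pairExt ((Ext.mk₀ (inl 𝔞 𝔟)).comp e (zero_add i)) ((Ext.mk₀ (inr 𝔞 𝔟)).comp e (zero_add i)) =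
      e := by
  unfold pairExt
  rw [← Ext.comp_assoc _ _ _ (zero_add 0) (zero_add i) (by omega),
    ← Ext.comp_assoc _ _ _ (zero_add 0) (zero_add i) (by omega), Ext.mk₀_comp_mk₀,
    Ext.mk₀_comp_mk₀, ← Ext.add_comp, ← Ext.mk₀_add, total, Ext.mk₀_id_comp]

lemma α_pairExt (y : Abelian.Ext (quotObj 𝔞) M i) (z : Abelian.Ext (quotObj 𝔟) M i) :
    (Ext.mk₀ (α 𝔞 𝔟)).comp (pairExt y z) (zero_add i) =
      qres inf_le_left y - qres inf_le_right z := by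
  unfold pairExt qres
  rw [Ext.comp_add, ← Ext.comp_assoc _ _ _ (zero_add 0) (zero_add i) (by omega),
    ← Ext.comp_assoc _ _ _ (zero_add 0) (zero_add i) (by omega), Ext.mk₀_comp_mk₀,
    Ext.mk₀_comp_mk₀, α_fst, α_snd, Ext.mk₀_neg, Ext.neg_comp, sub_eq_add_neg]

lemma β_comp (w : Abelian.Ext (quotObj (𝔞 ⊔ 𝔟)) M i) :
    (Ext.mk₀ (β 𝔞 𝔟)).comp w (zero_add i) = pairExt (qres le_sup_left w) (qres le_sup_right w) := by
  rw [← pairExt_components ((Ext.mk₀ (β 𝔞 𝔟)).comp w (zero_add i))]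
  congr 1
  · rw [← Ext.comp_assoc _ _ _ (zero_add 0) (zero_add i) (by omega), Ext.mk₀_comp_mk₀, inl_β]
    rfl
  · rw [← Ext.comp_assoc _ _ _ (zero_add 0) (zero_add i) (by omega), Ext.mk₀_comp_mk₀, inr_β]
    rfl

lemma pairExt_eq_zero (y : Abelian.Ext (quotObj 𝔞) M i) (z : Abelian.Ext (quotObj 𝔟) M i)
    (hy : y = 0) (hz : z = 0) : pairExt y z = 0 := by
  unfold pairExt
  rw [hy, hz, Ext.comp_zero, Ext.comp_zero, add_zero]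

end pairExt


section naturality

variable {𝔞 𝔟} {𝔞' 𝔟' : Ideal R} (h1 : 𝔞' ≤ 𝔞) (h2 : 𝔟' ≤ 𝔟)

/-- the map on products induced by `𝔞' ≤ 𝔞`, `𝔟' ≤ 𝔟`. -/
def prodMap : prodObj 𝔞' 𝔟' ⟶ prodObj 𝔞 𝔟 :=
  ModuleCat.ofHom (LinearMap.prodMap (Submodule.mapQ _ _ LinearMap.id h1)
    (Submodule.mapQ _ _ LinearMap.id h2))

/-- the map of Mayer–Vietoris short complexes induced by `𝔞' ≤ 𝔞`, `𝔟' ≤ 𝔟`. -/
noncomputable def sesMap : ses 𝔞' 𝔟' ⟶ ses 𝔞 𝔟 where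
  τ₁ := qmap (inf_le_inf h1 h2)
  τ₂ := prodMap h1 h2
  τ₃ := qmap (sup_le_sup h1 h2)
  comm₁₂ := by
    apply quotObj_hom_ext
    rfl
  comm₂₃ := by
    apply ModuleCat.hom_ext
    apply LinearMap.ext
    rintro ⟨x, y⟩
    obtain ⟨x, rfl⟩ := Submodule.Quotient.mk_surjective _ x
    obtain ⟨y, rfl⟩ := Submodule.Quotient.mk_surjective _ y
    rfl

/-- the Mayer–Vietoris extension class. -/
noncomputable def eps (𝔞 𝔟 : Ideal R) : Abelian.Ext (quotObj (𝔞 ⊔ 𝔟)) (quotObj (𝔞 ⊓ 𝔟)) 1 :=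
  (ses_shortExact 𝔞 𝔟).extClass

lemma eps_naturality :
    (eps 𝔞' 𝔟').comp (Ext.mk₀ (qmap (inf_le_inf h1 h2))) (add_zero 1) =
      (Ext.mk₀ (qmap (sup_le_sup h1 h2))).comp (eps 𝔞 𝔟) (zero_add 1) :=
  ShortComplex.ShortExact.extClass_naturality (ses_shortExact 𝔞' 𝔟') (ses_shortExact 𝔞 𝔟)
    (sesMap h1 h2)

end naturality

section mvD

variable {𝔞 𝔟} {M : ModuleCat.{u} R} {i : ℕ}

/-- the connecting map `Ext^i(R/(𝔞∩𝔟), M) → Ext^{i+1}(R/(𝔞+𝔟), M)`. -/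
noncomputable def mvD (x : Abelian.Ext (quotObj (𝔞 ⊓ 𝔟)) M i) :
    Abelian.Ext (quotObj (𝔞 ⊔ 𝔟)) M (i + 1) :=
  (eps 𝔞 𝔟).comp x (add_comm 1 i)

lemma mvD_add (x y : Abelian.Ext (quotObj (𝔞 ⊓ 𝔟)) M i) :
    mvD (x + y) = mvD x + mvD y := by
  unfold mvD
  rw [Ext.comp_add]

lemma mvD_smul (r : R) (x : Abelian.Ext (quotObj (𝔞 ⊓ 𝔟)) M i) :
    mvD (r • x) = r • mvD x := by
  unfold mvD
  rw [Ext.comp_smul]

lemma mvD_zero : mvD (0 : Abelian.Ext (quotObj (𝔞 ⊓ 𝔟)) M i) = 0 := by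
  unfold mvD
  rw [Ext.comp_zero]

lemma qres_mvD {𝔞' 𝔟' : Ideal R} (h1 : 𝔞' ≤ 𝔞) (h2 : 𝔟' ≤ 𝔟)
    (x : Abelian.Ext (quotObj (𝔞 ⊓ 𝔟)) M i) :
    qres (sup_le_sup h1 h2) (mvD x) = mvD (qres (inf_le_inf h1 h2) x) := by
  unfold mvD qres
  rw [← Ext.comp_assoc _ _ _ (zero_add 1) (add_comm 1 i) (by omega), ← eps_naturality h1 h2,
    Ext.comp_assoc _ _ _ (add_zero 1) (zero_add i) (by omega)]

/-- `mvD` kills the image of `α`. -/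
lemma mvD_α_comp (e : Abelian.Ext (prodObj 𝔞 𝔟) M i) :
    mvD ((Ext.mk₀ (α 𝔞 𝔟)).comp e (zero_add i)) = 0 := by
  unfold mvD eps
  exact (ses_shortExact 𝔞 𝔟).extClass_comp_assoc e

/-- the image of `mvD` is killed by `β`. -/
lemma β_comp_mvD (x : Abelian.Ext (quotObj (𝔞 ⊓ 𝔟)) M i) :
    (Ext.mk₀ (β 𝔞 𝔟)).comp (mvD x) (zero_add (i + 1)) = 0 := by
  unfold mvD eps
  exact (ses_shortExact 𝔞 𝔟).comp_extClass_assoc x (add_comm 1 i)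

lemma exists_of_mvD_eq_zero (x : Abelian.Ext (quotObj (𝔞 ⊓ 𝔟)) M i) (hx : mvD x = 0) :
    ∃ (y : Abelian.Ext (quotObj 𝔞) M i) (z : Abelian.Ext (quotObj 𝔟) M i),
      qres inf_le_left y - qres inf_le_right z = x := by
  obtain ⟨e, he⟩ := Ext.contravariant_sequence_exact₁ (ses_shortExact 𝔞 𝔟) M x (add_comm 1 i) hx
  refine ⟨(Ext.mk₀ (inl 𝔞 𝔟)).comp e (zero_add i), (Ext.mk₀ (inr 𝔞 𝔟)).comp e (zero_add i), ?_⟩
  rw [← α_pairExt, pairExt_components]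
  exact he

lemma exists_of_qres_sub_eq_zero (y : Abelian.Ext (quotObj 𝔞) M i)
    (z : Abelian.Ext (quotObj 𝔟) M i) (h : qres inf_le_left y - qres inf_le_right z = 0) :
    ∃ w : Abelian.Ext (quotObj (𝔞 ⊔ 𝔟)) M i, qres le_sup_left w = y ∧ qres le_sup_right w = z := by
  rw [← α_pairExt] at h
  obtain ⟨w, hw⟩ := Ext.contravariant_sequence_exact₂ (ses_shortExact 𝔞 𝔟) M (pairExt y z) h
  refine ⟨w, ?_, ?_⟩
  · have := congrArg (fun e => (Ext.mk₀ (inl 𝔞 𝔟)).comp e (zero_add i)) hw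
    simp only at this
    rw [inl_pairExt] at this
    rw [← this]
    have h2 : (Ext.mk₀ (β 𝔞 𝔟)).comp w (zero_add i) = _ := β_comp w
    change _ = (Ext.mk₀ (inl 𝔞 𝔟)).comp ((Ext.mk₀ (β 𝔞 𝔟)).comp w (zero_add i)) (zero_add i)
    rw [h2, inl_pairExt]
  · have := congrArg (fun e => (Ext.mk₀ (inr 𝔞 𝔟)).comp e (zero_add i)) hw
    simp only at this
    rw [inr_pairExt] at this
    rw [← this]
    have h2 : (Ext.mk₀ (β 𝔞 𝔟)).comp w (zero_add i) = _ := β_comp w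
    change _ = (Ext.mk₀ (inr 𝔞 𝔟)).comp ((Ext.mk₀ (β 𝔞 𝔟)).comp w (zero_add i)) (zero_add i)
    rw [h2, inr_pairExt]

lemma exists_mvD_eq (w : Abelian.Ext (quotObj (𝔞 ⊔ 𝔟)) M (i + 1))
    (h1 : qres le_sup_left w = 0) (h2 : qres le_sup_right w = 0) :
    ∃ x : Abelian.Ext (quotObj (𝔞 ⊓ 𝔟)) M i, mvD x = w := by
  have h : (Ext.mk₀ (β 𝔞 𝔟)).comp w (zero_add (i + 1)) = 0 := by
    rw [β_comp, pairExt_eq_zero _ _ h1 h2]
  exact Ext.contravariant_sequence_exact₃ (ses_shortExact 𝔞 𝔟) M w h (add_comm 1 i)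

lemma eq_zero_of_qres_eq_zero (w : Abelian.Ext (quotObj (𝔞 ⊔ 𝔟)) M 0)
    (h1 : qres le_sup_left w = 0) (h2 : qres le_sup_right w = 0) : w = 0 := by
  have h : (Ext.mk₀ (β 𝔞 𝔟)).comp w (zero_add 0) = 0 := by
    rw [β_comp, pairExt_eq_zero _ _ h1 h2]
  have : Epi (β 𝔞 𝔟) := (ses_shortExact 𝔞 𝔟).epi_g
  apply Ext.precomp_mk₀_injective_of_epi M (β 𝔞 𝔟)
  rw [map_zero]
  exact h

end mvD

end MV

end Groth.Agent.Lib.Helper60
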