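import Groth.Agent.Lib.Helper60.BA
import Mathlib.RingTheory.Depth.Rees

set_option autoImplicit false
universe u
open CategoryTheory CategoryTheory.Limits Opposite Abelian RingTheory.Sequence

namespace Groth.Agent.Lib.Helper60

section rees

variable {R : Type u} [CommRing R] [IsNoetherianRing R]

/-- Rees vanishing below the length of a regular sequence killing `L`. -/
theorem ext_subsingleton_of_isRegular_of_kills (L : Type u) [AddCommGroup L] [Module R L]
    [Module.Finite R L] (M : Type u) [AddCommGroup M] [Module R M] [Module.Finite R M]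
    (rs : List R) (hreg : IsRegular M rs) (hL : ∀ r ∈ rs, ∀ l : L, r • l = 0) (i : ℕ)
    (hi : i < rs.length) :
    Subsingleton (Abelian.Ext (ModuleCat.of R L) (ModuleCat.of R M) i) := by
  have hsupp : Module.support R L ⊆ PrimeSpectrum.zeroLocus (Ideal.ofList rs : Set R) := by
    rw [Module.support_eq_zeroLocus]
    apply PrimeSpectrum.zeroLocus_anti_mono
    intro a ha
    have : Ideal.ofList rs ≤ Module.annihilator R L := by
      rw [Ideal.ofList, Ideal.span_le]
      intro r hr
      exact Module.mem_annihilator.mpr (hL r hr)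
    exact this ha
  have hlt : Ideal.ofList rs • (⊤ : Submodule R M) < ⊤ := lt_top_iff_ne_top.mpr hreg.2.symm
  exact ModuleCat.subsingleton_ext_of_exists_isRegular (Ideal.ofList rs) (ModuleCat.of R L) hsupp
    (ModuleCat.of R M) hlt rs (fun r hr => Ideal.subset_span hr) hreg i hi

/-- **Rees injectivity**: if `s` kills `Ext^g(L, M)` for a regular sequence of length `g` killing
`L`, then `s` kills `Hom(L, M/(rs)M)`. -/
theorem smul_hom_eq_zero_of_smul_ext_eq_zero (L : Type u) [AddCommGroup L] [Module R L]
    [Module.Finite R L] (s : R) (rs : List R) :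
    ∀ (M : Type u) [AddCommGroup M] [Module R M] [Module.Finite R M],
      IsRegular M rs → (∀ r ∈ rs, ∀ l : L, r • l = 0) →
      (∀ e : Abelian.Ext (ModuleCat.of R L) (ModuleCat.of R M) rs.length, s • e = 0) →
      ∀ φ : L →ₗ[R] (M ⧸ Ideal.ofList rs • (⊤ : Submodule R M)), s • φ = 0 := by
  induction rs with
  | nil =>
    intro M _ _ _ hreg hL hs φ
    let e : (M ⧸ Ideal.ofList ([] : List R) • (⊤ : Submodule R M)) ≃ₗ[R] M :=
      Submodule.quotEquivOfEqBot _ (by rw [Ideal.ofList_nil, Submodule.bot_smul])
    have h1 := hs (Ext.mk₀ (ModuleCat.ofHom (e.toLinearMap ∘ₗ φ)))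
    have h2 : Ext.mk₀ (s • ModuleCat.ofHom (e.toLinearMap ∘ₗ φ)) = 0 := by
      rw [Ext.mk₀_smul]; exact h1
    have h3 : s • ModuleCat.ofHom (e.toLinearMap ∘ₗ φ) = 0 := by
      apply (Ext.mk₀_bijective _ _).1
      rw [h2, Ext.mk₀_zero]
    apply LinearMap.ext
    intro l
    have h4 := congrArg (fun f => f.hom l) h3
    have h5 : s • e (φ l) = 0 := h4
    rw [← map_smul, LinearEquiv.map_eq_zero_iff] at h5
    exact h5
  | cons y rs' ih =>
    intro M _ _ _ hreg hL hs φ
    obtain ⟨hy, hreg'⟩ := (isRegular_cons_iff M y rs').mp hreg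
    have hS : (ModuleCat.smulShortComplex (ModuleCat.of R M) y).ShortExact :=
      IsSMulRegular.smulShortComplex_shortExact (M := ModuleCat.of R M) hy
    have hfin' : Module.Finite R (QuotSMulTop y M) := inferInstance
    have hvan : Subsingleton (Abelian.Ext (ModuleCat.of R L) (ModuleCat.of R M) rs'.length) :=
      ext_subsingleton_of_isRegular_of_kills L M (y :: rs') hreg hL rs'.length (by simp)
    have hs' : ∀ e : Abelian.Ext (ModuleCat.of R L)
        (ModuleCat.smulShortComplex (ModuleCat.of R M) y).X₃ rs'.length, s • e = 0 := by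
      intro e
      have h1 : (s • e).comp hS.extClass rfl = 0 := by
        rw [Ext.smul_comp]
        exact hs _
      obtain ⟨x₂, hx₂⟩ := Ext.covariant_sequence_exact₃ (ModuleCat.of R L) hS (s • e) rfl h1
      have h2 : Subsingleton (Abelian.Ext (ModuleCat.of R L)
          (ModuleCat.smulShortComplex (ModuleCat.of R M) y).X₂ rs'.length) := hvan
      rw [← hx₂, Subsingleton.elim x₂ 0, Ext.zero_comp]
    have hs'' : ∀ e : Abelian.Ext (ModuleCat.of R L) (ModuleCat.of R (QuotSMulTop y M))
        rs'.length, s • e = 0 := hs'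
    have key := ih (QuotSMulTop y M) hreg' (fun r hr => hL r (List.mem_cons_of_mem _ hr)) hs''
    let e := Submodule.quotOfListConsSMulTopEquivQuotSMulTopInner M y rs'
    have h3 := key (e.toLinearMap ∘ₗ φ)
    apply LinearMap.ext
    intro l
    have h4 := congrArg (fun f => f l) h3
    have h5 : s • e (φ l) = 0 := h4
    rw [← map_smul, LinearEquiv.map_eq_zero_iff] at h5
    exact h5

end rees

end Groth.Agent.Lib.Helper60
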