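import Groth.Agent.Lib.Helper60.NV3
import Groth.Agent.Lib.Helper60.LocalCohBC
import Groth.Agent.S0580
import Groth.Agent.Lib.Helper28.RegularCM
import Groth.Agent.Lib.Helper73.RegularPowerSeries

set_option autoImplicit false
universe u
open CategoryTheory CategoryTheory.Limits Opposite Abelian RingTheory.Sequence IsLocalRing
open Groth.Agent.Lib.Helper29

namespace Groth.Agent.Lib.Helper60

section complete

/-- the image of the maximal ideal under a surjection onto a nontrivial ring. -/
theorem map_maximalIdeal_of_surjective {S R : Type u} [CommRing S] [IsLocalRing S] [CommRing R]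
    [IsLocalRing R] (f : S →+* R) (hf : Function.Surjective f) :
    (maximalIdeal S).map f = maximalIdeal R := by
  rcases Ideal.map_eq_top_or_isMaximal_of_surjective f hf (maximalIdeal.isMaximal S) with h | h
  · exfalso
    have h1 : (1 : R) ∈ (maximalIdeal S).map f := by rw [h]; trivial
    obtain ⟨x, hx, hx1⟩ := (Ideal.mem_map_iff_of_surjective f hf).mp h1
    have hu : IsUnit (1 - x) := by
      by_contra hnu
      have h2 : (1 - x) ∈ maximalIdeal S := (mem_maximalIdeal _).mpr hnu
      have h3 : (1 : S) ∈ maximalIdeal S := by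
        have h6 := Ideal.add_mem _ h2 hx
        rw [sub_add_cancel] at h6
        exact h6
      exact (maximalIdeal.isMaximal S).ne_top ((Ideal.eq_top_iff_one _).mpr h3)
    have h4 : f (1 - x) = 0 := by rw [map_sub, map_one, hx1, sub_self]
    have h5 : IsUnit (f (1 - x)) := hu.map f
    rw [h4] at h5
    exact not_isUnit_zero h5
  · exact IsLocalRing.eq_maximalIdeal h

/-- **Grothendieck non-vanishing for complete local rings.** -/
theorem lc_top_nontrivial_of_complete (R : Type u) [CommRing R] [IsLocalRing R]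
    [IsNoetherianRing R] [IsAdicComplete (maximalIdeal R) R] (d : ℕ) (hd : ringKrullDim R = d) :
    Nontrivial (LocCoh.H (maximalIdeal R) d R) := by
  obtain ⟨Λ, _, n, f, hΛ, hf⟩ := Groth.Agent.S0580.result R (IsNoetherian.noetherian _)
  have hreg : IsRegularRing Λ := by
    rcases hΛ with hΛ | hΛ
    · let _ := hΛ.toField
      infer_instance
    · obtain ⟨_, _, _⟩ := hΛ
      infer_instance
  have hloc : IsLocalRing Λ := by
    rcases hΛ with hΛ | hΛ
    · let _ := hΛ.toField
      infer_instance
    · obtain ⟨_, _, _⟩ := hΛ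
      infer_instance
  have hS : IsRegularRing (MvPowerSeries (Fin n) Λ) :=
    Groth.Agent.Lib.Helper73.RegularRing.isRegularRing_mvPowerSeries Λ n
  have hRLR : IsRegularLocalRing (MvPowerSeries (Fin n) Λ) :=
    IsRegularLocalRing.of_isRegularRing_of_isLocalRing _
  have hCM : LocCoh.IsCohenMacaulayModule (MvPowerSeries (Fin n) Λ) (MvPowerSeries (Fin n) Λ) :=
    Groth.Agent.Lib.Helper28.isCohenMacaulayModule_self_of_isRegularLocalRing _
  let _ : Algebra (MvPowerSeries (Fin n) Λ) R := f.toAlgebra
  have hf' : Function.Surjective (Algebra.ofId (MvPowerSeries (Fin n) Λ) R) := hf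
  let J : Ideal (MvPowerSeries (Fin n) Λ) :=
    RingHom.ker (Algebra.ofId (MvPowerSeries (Fin n) Λ) R)
  let e := Ideal.quotientKerAlgEquivOfSurjective hf'
  have hJ : J ≠ ⊤ := by
    intro h
    have h1 : (1 : MvPowerSeries (Fin n) Λ) ∈ J := by rw [h]; trivial
    have h2 : (Algebra.ofId (MvPowerSeries (Fin n) Λ) R) 1 = 0 := h1
    rw [map_one] at h2
    exact one_ne_zero h2
  have hdimJ : Module.supportDim (MvPowerSeries (Fin n) Λ) (MvPowerSeries (Fin n) Λ ⧸ J) = d := by
    rw [Module.supportDim_quotient_eq_ringKrullDim, ← hd]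
    exact ringKrullDim_eq_of_ringEquiv e.toRingEquiv
  have h1 := lc_quotient_nontrivial_of_isCohenMacaulay hCM J hJ d hdimJ
  have h2 : Nontrivial ((localCohomology (maximalIdeal (MvPowerSeries (Fin n) Λ)) d).obj
      (ModuleCat.of (MvPowerSeries (Fin n) Λ) R)) := by
    let iso := (localCohomology (maximalIdeal (MvPowerSeries (Fin n) Λ)) d).mapIso
      e.toLinearEquiv.toModuleIso
    exact iso.toLinearEquiv.symm.toEquiv.nontrivial
  obtain ⟨φ, -⟩ := exists_lc_baseChange (R := MvPowerSeries (Fin n) Λ) (R' := R)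
    (maximalIdeal (MvPowerSeries (Fin n) Λ)) d R
  have h3 : Nontrivial (LocCoh.H ((maximalIdeal (MvPowerSeries (Fin n) Λ)).map
      (algebraMap (MvPowerSeries (Fin n) Λ) R)) d R) := φ.toEquiv.nontrivial
  have h4 : (maximalIdeal (MvPowerSeries (Fin n) Λ)).map
      (algebraMap (MvPowerSeries (Fin n) Λ) R) = maximalIdeal R :=
    map_maximalIdeal_of_surjective f hf
  rw [h4] at h3
  exact h3

end complete

end Groth.Agent.Lib.Helper60
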