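import Groth.Agent.Lib.Helper60.NV6
import Groth.Agent.Lib.Helper60.LocalCohCM

set_option autoImplicit false
universe u
open CategoryTheory CategoryTheory.Limits Opposite Abelian RingTheory.Sequence IsLocalRing
open Groth.Agent.Lib.Helper29

namespace Groth.Agent.Lib.Helper60

section semilin

/-- finiteness transfers along a semilinear additive equivalence. -/
theorem finite_of_semilinear_addEquiv {A B : Type*} [CommRing A] [CommRing B] [Algebra A B]
    {X Y : Type*} [AddCommGroup X] [Module B X] [AddCommGroup Y] [Module A Y] (φ : X ≃+ Y)
    (hφ : ∀ (r : A) (x : X), φ (algebraMap A B r • x) = r • φ x) [hfin : Module.Finite A Y] :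
    Module.Finite B X := by
  classical
  obtain ⟨s, hs⟩ := hfin.fg_top
  refine ⟨⟨s.image φ.symm, ?_⟩⟩
  rw [eq_top_iff]
  intro x _
  have hx : φ x ∈ Submodule.span A (s : Set Y) := by rw [hs]; trivial
  have key : ∀ y ∈ Submodule.span A (s : Set Y),
      φ.symm y ∈ Submodule.span B ((s.image φ.symm : Finset X) : Set X) := by
    intro y hy
    induction hy using Submodule.span_induction with
    | mem y hy =>
      apply Submodule.subset_span
      rw [Finset.coe_image]
      exact ⟨y, hy, rfl⟩
    | zero => rw [map_zero]; exact Submodule.zero_mem _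
    | add y z _ _ hy hz => rw [map_add]; exact Submodule.add_mem _ hy hz
    | smul a y _ hy =>
      have h1 : φ.symm (a • y) = algebraMap A B a • φ.symm y := by
        apply φ.injective
        rw [hφ, AddEquiv.apply_symm_apply, AddEquiv.apply_symm_apply]
      rw [h1]
      exact Submodule.smul_mem _ _ hy
  have := key (φ x) hx
  rwa [AddEquiv.symm_apply_apply] at this

end semilin

section modules

variable (A : Type u) [CommRing A] [IsLocalRing A] [IsNoetherianRing A]

/-- `H^n_m(M)` is not finitely generated for `n = dim M > 0`. -/
theorem lc_not_finite_of_supportDim_eq (M : Type u) [AddCommGroup M] [Module A M]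
    [Module.Finite A M] (n : ℕ) (hn0 : 0 < n) (hn : Module.supportDim A M = n) :
    ¬ Module.Finite A (LocCoh.H (maximalIdeal A) n M) := by
  have hM : Nontrivial M := by
    by_contra hcon
    rw [not_nontrivial_iff_subsingleton] at hcon
    rw [Module.supportDim_eq_bot_of_subsingleton] at hn
    exact WithBot.bot_ne_coe hn
  have hI : Module.annihilator A M ≠ ⊤ := by
    intro h
    obtain ⟨m, hm⟩ := exists_ne (0 : M)
    apply hm
    have h1 : (1 : A) ∈ Module.annihilator A M := by rw [h]; trivial
    have h2 := Module.mem_annihilator.mp h1 m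
    rwa [one_smul] at h2
  have hnt : Nontrivial (A ⧸ Module.annihilator A M) := Ideal.Quotient.nontrivial_iff.mpr hI
  have hloc : IsLocalRing (A ⧸ Module.annihilator A M) :=
    IsLocalRing.of_surjective' _ Ideal.Quotient.mk_surjective
  let _ : Module (A ⧸ Module.annihilator A M) M := Module.quotientAnnihilator
  have hdimB : ringKrullDim (A ⧸ Module.annihilator A M) = n := by
    rw [← hn, Module.supportDim_eq_ringKrullDim_quotient_annihilator]
  intro hfinH
  obtain ⟨φ, hφ⟩ := exists_lc_baseChange (R := A) (R' := A ⧸ Module.annihilator A M)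
    (maximalIdeal A) n M
  have h3 : (maximalIdeal A).map (algebraMap A (A ⧸ Module.annihilator A M)) =
      maximalIdeal (A ⧸ Module.annihilator A M) :=
    map_maximalIdeal_of_surjective (Ideal.Quotient.mk (Module.annihilator A M))
      Ideal.Quotient.mk_surjective
  have h4 : Module.Finite (A ⧸ Module.annihilator A M) (LocCoh.H ((maximalIdeal A).map
      (algebraMap A (A ⧸ Module.annihilator A M))) n M) :=
    finite_of_semilinear_addEquiv φ hφ
  have h5 : Nontrivial (LocCoh.H ((maximalIdeal A).map
      (algebraMap A (A ⧸ Module.annihilator A M))) n M) := by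
    have := lc_nontrivial_of_supportDim_eq A M n hn
    exact φ.toEquiv.nontrivial
  rw [h3] at h4 h5
  exact lc_top_not_finite hn0 hdimB M h5 h4

end modules

end Groth.Agent.Lib.Helper60
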