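import Groth.Agent.Lib.Helper60.NV7

set_option autoImplicit false
universe u
open CategoryTheory CategoryTheory.Limits Opposite Abelian RingTheory.Sequence IsLocalRing
open Groth.Agent.Lib.Helper29

namespace Groth.Agent.Lib.Helper60

section cm

variable (A : Type u) [CommRing A] [IsLocalRing A] [IsNoetherianRing A]

/-- a nonzero finite module is Cohen–Macaulay iff exactly one local cohomology module is nonzero. -/
theorem existsUnique_lc_nontrivial_iff_isCohenMacaulayModule (M : Type u) [AddCommGroup M]
    [Module A M] [Module.Finite A M] [Nontrivial M] :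
    (∃! i : ℕ, Nontrivial (LocCoh.H (maximalIdeal A) i M)) ↔ LocCoh.IsCohenMacaulayModule A M := by
  obtain ⟨n, hn⟩ := exists_nat_supportDim_eq A M
  obtain ⟨t, ht⟩ := ENat.ne_top_iff_exists.mp (depth_ne_top A M)
  have hmM := maximalIdeal_smul_top_ne_top A M
  have hdepth := (idealDepth_eq_iff_lc (maximalIdeal A) M hmM t).mp ht.symm
  have hdim := lc_nontrivial_of_supportDim_eq A M n hn
  constructor
  · rintro ⟨i, hi, huniq⟩
    have h1 : t = i := huniq t hdepth.2
    have h2 : n = i := huniq n hdim
    unfold LocCoh.IsCohenMacaulayModule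
    rw [hn, ← ht, h1, h2]
    rfl
  · intro hCM
    unfold LocCoh.IsCohenMacaulayModule at hCM
    rw [hn, ← ht] at hCM
    have htn : n = t := by exact_mod_cast hCM
    subst htn
    refine ⟨n, hdim, fun j hj => ?_⟩
    by_contra hne
    rcases lt_or_gt_of_ne hne with hlt | hgt
    · exact not_subsingleton _ (hdepth.1 j hlt)
    · have := lc_subsingleton_of_supportDim_lt (maximalIdeal A) j M (by
        rw [hn]
        exact_mod_cast hgt)
      exact not_subsingleton _ this

end cm

end Groth.Agent.Lib.Helper60
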