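import Mathlib
import Groth.Agent.Lib.Helper60.DualReg4
import Groth.Agent.Lib.Helper93.GrothFin2
import Groth.Agent.Lib.Helper29.RelCodim

set_option autoImplicit false
set_option linter.unusedSectionVars false
universe u
open CategoryTheory CategoryTheory.Limits Opposite Abelian IsLocalRing

namespace Groth.Agent.Lib.Helper60.DualReg

section GPD

variable (R : Type u) [CommRing R] [IsNoetherianRing R] (P : Ideal R) [P.IsPrime]

/-- the iso `R_P ≅ (R)_P` of `R_P`-modules (no regularity assumption). -/
noncomputable def selfLocIso' :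
    ModuleCat.of (Localization.AtPrime P) (Localization.AtPrime P) ≅
      (ExtLoc.LF P.primeCompl).obj (ModuleCat.of R R) := by
  have hL : IsLocalizedModule P.primeCompl
      ((ModuleCat.of R R).localizedModuleMkLinearMap P.primeCompl) :=
    ModuleCat.localizedModule_isLocalizedModule (ModuleCat.of R R) P.primeCompl
  let e0 := IsLocalizedModule.linearEquiv P.primeCompl
    (Algebra.linearMap R (Localization.AtPrime P))
    ((ModuleCat.of R R).localizedModuleMkLinearMap P.primeCompl)
  exact (LinearEquiv.extendScalarsOfIsLocalization P.primeCompl (Localization.AtPrime P)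
    e0).toModuleIso

/-- per-prime duality over a Noetherian ring whose localization at `P` is regular. -/
theorem lc_localizedModule_subsingleton_iff_of_regular
    [hreg : IsRegularLocalRing (Localization.AtPrime P)]
    (X : Type u) [AddCommGroup X] [Module R X]
    [Module.Finite R X] (h : ℕ) (hh : ringKrullDim (Localization.AtPrime P) = h) (j : ℕ)
    (hj : j ≤ h) :
    Subsingleton (LocCoh.H (maximalIdeal (Localization.AtPrime P)) j
        ((ModuleCat.of R X).localizedModule P.primeCompl)) ↔
      ∀ x : Abelian.Ext (ModuleCat.of R X) (ModuleCat.of R R) (h - j),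
        ∃ s ∈ P.primeCompl, s • x = 0 := by
  have hL : IsLocalizedModule P.primeCompl
      ((ModuleCat.of R X).localizedModuleMkLinearMap P.primeCompl) :=
    ModuleCat.localizedModule_isLocalizedModule (ModuleCat.of R X) P.primeCompl
  have hfin : Module.Finite (Localization.AtPrime P)
      ((ModuleCat.of R X).localizedModule P.primeCompl) :=
    Module.Finite.of_isLocalizedModule P.primeCompl
      ((ModuleCat.of R X).localizedModuleMkLinearMap P.primeCompl)
  rw [lc_subsingleton_iff_ext_subsingleton (Localization.AtPrime P) h hh _ j hj,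
    ← ExtLoc.subsingleton_iff P.primeCompl (h - j) (ModuleCat.of R X) (ModuleCat.of R R)]
  constructor
  · intro hs
    have hs' : Subsingleton (Abelian.Ext ((ExtLoc.LF P.primeCompl).obj (ModuleCat.of R X))
        (ModuleCat.of (Localization.AtPrime P) (Localization.AtPrime P)) (h - j)) := hs
    exact ExtLoc.subsingleton_of_iso (Iso.refl _) (selfLocIso' R P) (h - j)
  · intro hs
    have hs' : Subsingleton (Abelian.Ext ((ExtLoc.LF P.primeCompl).obj (ModuleCat.of R X))
        (ModuleCat.of (Localization.AtPrime P) (Localization.AtPrime P)) (h - j)) :=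
      ExtLoc.subsingleton_of_iso (Iso.refl _) (selfLocIso' R P).symm (h - j)
    exact hs'

end GPD

section heights

variable {A : Type u} [CommRing A]

/-- `dim A_q/pA_q` is the height of `q` above `p`. -/
theorem ringKrullDim_localization_quotient (p q : PrimeSpectrum A) (hpq : p ≤ q) :
    ringKrullDim (Localization.AtPrime q.asIdeal ⧸
        p.asIdeal.map (algebraMap A (Localization.AtPrime q.asIdeal))) =
      ((Order.height (⟨q, hpq⟩ : Set.Ici p) : ℕ∞) : WithBot ℕ∞) := by
  rw [← Groth.Agent.Lib.Helper93.HeightQuot.height_map_eq_height_Ici p q hpq]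
  have hqp : p.asIdeal ≤ q.asIdeal := hpq
  have hprime : (q.asIdeal.map (Ideal.Quotient.mk p.asIdeal)).IsPrime :=
    Ideal.map_isPrime_of_surjective Ideal.Quotient.mk_surjective (by rwa [Ideal.mk_ker])
  have hcomap : (q.asIdeal.map (Ideal.Quotient.mk p.asIdeal)).comap
      (algebraMap A (A ⧸ p.asIdeal)) = q.asIdeal := by
    rw [Ideal.Quotient.algebraMap_eq, Ideal.comap_map_of_surjective _ Ideal.Quotient.mk_surjective,
      ← RingHom.ker_eq_comap_bot, Ideal.mk_ker, sup_eq_left.2 hqp]
  have hlies : (q.asIdeal.map (Ideal.Quotient.mk p.asIdeal)).LiesOver q.asIdeal :=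
    ⟨hcomap.symm⟩
  have h1 : Algebra.algebraMapSubmonoid (A ⧸ p.asIdeal) q.asIdeal.primeCompl =
      (q.asIdeal.map (Ideal.Quotient.mk p.asIdeal)).primeCompl :=
    Ideal.algebraMapSubmonoid_primeCompl_of_liesOver_surjective (p := q.asIdeal)
      (P := q.asIdeal.map (Ideal.Quotient.mk p.asIdeal)) Ideal.Quotient.mk_surjective
  have h2 : IsLocalization (Algebra.algebraMapSubmonoid (A ⧸ p.asIdeal) q.asIdeal.primeCompl)
      (Localization.AtPrime q.asIdeal ⧸
        p.asIdeal.map (algebraMap A (Localization.AtPrime q.asIdeal))) := inferInstance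
  rw [h1] at h2
  exact IsLocalization.AtPrime.ringKrullDim_eq_height
    (q.asIdeal.map (Ideal.Quotient.mk p.asIdeal)) _

/-- in a regular ring, a covering `P ⋖ Q` of primes raises the dimension of the local ring by
one. -/
theorem exists_dims_of_covBy (R : Type u) [CommRing R] [IsRegularRing R] (P Q : PrimeSpectrum R)
    (hcov : P ⋖ Q) :
    ∃ hP hQ : ℕ, ringKrullDim (Localization.AtPrime P.asIdeal) = hP ∧
      ringKrullDim (Localization.AtPrime Q.asIdeal) = hQ ∧ hQ = hP + 1 := by
  obtain ⟨dQ, hdQ⟩ : ∃ d : ℕ, ringKrullDim (Localization.AtPrime Q.asIdeal) = d :=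
    ⟨(maximalIdeal (Localization.AtPrime Q.asIdeal)).spanFinrank,
      IsRegularLocalRing.spanFinrank_maximalIdeal.symm⟩
  have hPQ : P ≤ Q := hcov.le
  have hdisj : Disjoint (Q.asIdeal.primeCompl : Set R) (P.asIdeal : Set R) := by
    rw [Set.disjoint_left]
    intro x hx hxP
    exact hx (hPQ hxP)
  have hprime : (P.asIdeal.map (algebraMap R (Localization.AtPrime Q.asIdeal))).IsPrime :=
    IsLocalization.isPrime_of_isPrime_disjoint Q.asIdeal.primeCompl _ P.asIdeal P.2 hdisj
  obtain ⟨h, e, hh, he, hsum⟩ := exists_dims (Localization.AtPrime Q.asIdeal) dQ hdQ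
    (P.asIdeal.map (algebraMap R (Localization.AtPrime Q.asIdeal)))
  have he1 : e = 1 := by
    rw [ringKrullDim_localization_quotient P Q hPQ] at he
    have h1 : Order.height (⟨Q, hPQ⟩ : Set.Ici P) = 1 :=
      le_antisymm (Groth.Agent.Lib.Helper29.height_Ici_le_one_of_covBy hcov)
        (Groth.Agent.Lib.Helper29.one_le_height_Ici_of_lt hcov.lt)
    rw [h1] at he
    exact_mod_cast he.symm
  have hhP : ringKrullDim (Localization.AtPrime P.asIdeal) = h := by
    rw [IsLocalization.AtPrime.ringKrullDim_eq_height P.asIdeal,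
      ← IsLocalization.height_map_of_disjoint Q.asIdeal.primeCompl P.asIdeal hdisj
        (S := Localization.AtPrime Q.asIdeal),
      ← IsLocalization.AtPrime.ringKrullDim_eq_height
        (P.asIdeal.map (algebraMap R (Localization.AtPrime Q.asIdeal)))
        (Localization.AtPrime (P.asIdeal.map (algebraMap R (Localization.AtPrime Q.asIdeal))))]
    exact hh
  exact ⟨h, dQ, hhP, hdQ, by omega⟩

/-- coverings of primes of a quotient lift to coverings of the preimages. -/
theorem comap_covBy {R : Type u} [CommRing R] (π : R →+* A) (hπ : Function.Surjective π)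
    (p q : PrimeSpectrum A) (hcov : p ⋖ q) :
    PrimeSpectrum.comap π p ⋖ PrimeSpectrum.comap π q := by
  have hmapcomap : ∀ r : PrimeSpectrum A, (r.asIdeal.comap π).map π = r.asIdeal := fun r =>
    Ideal.map_comap_of_surjective π hπ r.asIdeal
  constructor
  · refine lt_of_le_of_ne (Ideal.comap_mono hcov.le) ?_
    intro h
    apply hcov.lt.ne
    apply PrimeSpectrum.ext
    have h' : p.asIdeal.comap π = q.asIdeal.comap π := congrArg PrimeSpectrum.asIdeal h
    rw [← hmapcomap p, ← hmapcomap q, h']
  · intro r hpr hrq
    have hker : RingHom.ker π ≤ r.asIdeal := by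
      intro x hx
      apply hpr.le
      show π x ∈ p.asIdeal
      rw [(RingHom.mem_ker).mp hx]
      exact zero_mem _
    have hrprime : (r.asIdeal.map π).IsPrime := Ideal.map_isPrime_of_surjective hπ hker
    have hcomap : (r.asIdeal.map π).comap π = r.asIdeal := by
      rw [Ideal.comap_map_of_surjective π hπ]
      exact sup_eq_left.mpr (by rwa [← RingHom.ker_eq_comap_bot])
    let r' : PrimeSpectrum A := ⟨r.asIdeal.map π, hrprime⟩
    have hr'eq : PrimeSpectrum.comap π r' = r := PrimeSpectrum.ext hcomap
    have h1 : p < r' := by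
      refine lt_of_le_of_ne ?_ ?_
      · show p.asIdeal ≤ r.asIdeal.map π
        rw [← hmapcomap p]
        exact Ideal.map_mono hpr.le
      · intro h
        rw [← h] at hr'eq
        exact hpr.ne hr'eq
    have h2 : r' < q := by
      refine lt_of_le_of_ne ?_ ?_
      · show r.asIdeal.map π ≤ q.asIdeal
        rw [← hmapcomap q]
        exact Ideal.map_mono hrq.le
      · intro h
        rw [h] at hr'eq
        exact hrq.ne hr'eq.symm
    exact hcov.2 h1 h2

end heights

end Groth.Agent.Lib.Helper60.DualReg
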