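import Mathlib
import Groth.Agent.Lib.Helper60.DualReg4
import Groth.Agent.Lib.Helper93.GrothFin2
import Groth.Agent.Lib.Helper29.RelCodim

set_option autoImplicit false
set_option linter.unusedSectionVars false
universe u
open CategoryTheory CategoryTheory.Limits Opposite Abelian IsLocalRing

namespace Groth.Agent.Lib.Helper60.DualReg

section K1

variable {A : Type u} [CommRing A] [IsNoetherianRing A]

/-- in a catenary ring, a prime `p ⊉ I` with `c(p) = c + 1 ≥ 2` has an immediate specialization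
`q ⊉ I` with `c(q) = c`. -/
theorem exists_covBy_relCodim (hcat : CAlg.IsCatenary A) (I : Ideal A) (p : PrimeSpectrum A)
    (c : ℕ) (hc : 1 ≤ c) (hrel : SGA2.relCodim I p = ((c + 1 : ℕ) : ℕ∞)) :
    ∃ q : PrimeSpectrum A, p ⋖ q ∧ ¬ I ≤ q.asIdeal ∧ SGA2.relCodim I q = (c : ℕ∞) := by
  unfold SGA2.relCodim at hrel
  have hne : Nonempty {q : PrimeSpectrum A // p ≤ q ∧ I ≤ q.asIdeal} := by
    by_contra hemp
    rw [not_nonempty_iff] at hemp
    rw [iInf_of_empty] at hrel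
    exact ENat.top_ne_natCast _ hrel
  obtain ⟨⟨q₀, hpq₀, hIq₀⟩, hq₀⟩ := ENat.exists_eq_iInf
    (fun q : {q : PrimeSpectrum A // p ≤ q ∧ I ≤ q.asIdeal} =>
      Order.height (⟨q.1, q.2.1⟩ : Set.Ici p))
  rw [hrel] at hq₀
  have hq₀' : Order.height (⟨q₀, hpq₀⟩ : Set.Ici p) = ((c + 1 : ℕ) : ℕ∞) := hq₀
  have hIp : ¬ I ≤ p.asIdeal := by
    intro hIp
    have h1 : (⨅ q : {q : PrimeSpectrum A // p ≤ q ∧ I ≤ q.asIdeal},
        Order.height (⟨q.1, q.2.1⟩ : Set.Ici p)) ≤ Order.height (⟨p, le_refl p⟩ : Set.Ici p) :=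
      iInf_le _ (⟨p, le_refl p, hIp⟩ : {q : PrimeSpectrum A // p ≤ q ∧ I ≤ q.asIdeal})
    have h2 : Order.height (⟨p, le_refl p⟩ : Set.Ici p) = 0 := by
      rw [Order.height_eq_zero]
      intro y _
      exact y.2
    rw [hrel, h2] at h1
    have : ((c + 1 : ℕ) : ℕ∞) = 0 := le_antisymm h1 bot_le
    exact absurd this (by exact_mod_cast Nat.succ_ne_zero c)
  have hlt : p < q₀ := lt_of_le_of_ne hpq₀ (fun heq => hIp (heq ▸ hIq₀))
  obtain ⟨q, hcov, hqq₀⟩ := Groth.Agent.Lib.Helper29.exists_covBy_le_of_lt hlt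
  have hq1 : Order.height (⟨q, hcov.le⟩ : Set.Ici p) = 1 :=
    le_antisymm (Groth.Agent.Lib.Helper29.height_Ici_le_one_of_covBy hcov)
      (Groth.Agent.Lib.Helper29.one_le_height_Ici_of_lt hcov.lt)
  have hIq : ¬ I ≤ q.asIdeal := by
    intro hIq
    have h1 : (⨅ q : {q : PrimeSpectrum A // p ≤ q ∧ I ≤ q.asIdeal},
        Order.height (⟨q.1, q.2.1⟩ : Set.Ici p)) ≤ Order.height (⟨q, hcov.le⟩ : Set.Ici p) :=
      iInf_le _ (⟨q, hcov.le, hIq⟩ : {q : PrimeSpectrum A // p ≤ q ∧ I ≤ q.asIdeal})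
    rw [hrel, hq1] at h1
    have : c + 1 ≤ 1 := by exact_mod_cast h1
    omega
  refine ⟨q, hcov, hIq, ?_⟩
  unfold SGA2.relCodim
  apply le_antisymm
  · refine (iInf_le _ (⟨q₀, hqq₀, hIq₀⟩ : {q' : PrimeSpectrum A // q ≤ q' ∧ I ≤ q'.asIdeal})).trans ?_
    have hadd := Groth.Agent.Lib.Helper93.GrothFin.height_Ici_add hcat p q q₀ hcov.le hqq₀
    rw [hq₀', hq1] at hadd
    -- `c + 1 = 1 + x`
    show Order.height (⟨q₀, hqq₀⟩ : Set.Ici q) ≤ (c : ℕ∞)
    have hfin := Groth.Agent.Lib.Helper93.GrothFin.height_Ici_ne_top q q₀ hqq₀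
    obtain ⟨m, hm⟩ := ENat.ne_top_iff_exists.mp hfin
    rw [← hm] at hadd ⊢
    have : c + 1 = 1 + m := by exact_mod_cast hadd
    exact_mod_cast (by omega : m ≤ c)
  · refine le_iInf ?_
    rintro ⟨q', hqq', hIq'⟩
    have hadd := Groth.Agent.Lib.Helper93.GrothFin.height_Ici_add hcat p q q' hcov.le hqq'
    have h1 : (⨅ q : {q : PrimeSpectrum A // p ≤ q ∧ I ≤ q.asIdeal},
        Order.height (⟨q.1, q.2.1⟩ : Set.Ici p)) ≤
        Order.height (⟨q', hcov.le.trans hqq'⟩ : Set.Ici p) :=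
      iInf_le _ (⟨q', hcov.le.trans hqq', hIq'⟩ :
        {q : PrimeSpectrum A // p ≤ q ∧ I ≤ q.asIdeal})
    rw [hrel, hadd, hq1] at h1
    show (c : ℕ∞) ≤ Order.height (⟨q', hqq'⟩ : Set.Ici q)
    have hfin := Groth.Agent.Lib.Helper93.GrothFin.height_Ici_ne_top q q' hqq'
    obtain ⟨m, hm⟩ := ENat.ne_top_iff_exists.mp hfin
    rw [← hm] at h1 ⊢
    have : c + 1 ≤ 1 + m := by exact_mod_cast h1
    exact_mod_cast (by omega : c ≤ m)

end K1

end Groth.Agent.Lib.Helper60.DualReg
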