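import Mathlib
import Groth.Agent.Lib.Helper60.RelCodim1
import Groth.Agent.Lib.Helper60.RelCodim2

set_option autoImplicit false
set_option linter.unusedSectionVars false
universe u
open CategoryTheory CategoryTheory.Limits Opposite Abelian IsLocalRing

namespace Groth.Agent.Lib.Helper60.DualReg

section char

variable (R : Type u) [CommRing R] [IsRegularRing R] (A : Type u) [CommRing A]
  [IsNoetherianRing A] [Algebra R A]
  (M : Type u) [AddCommGroup M] [Module A M] [Module R M] [IsScalarTower R A M]
  [Module.Finite A M]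

/-- vanishing of `H^j_{pA_p}(M_p)` in terms of `Ext` over the regular ring `R`. -/
lemma van_iff (hsurj : Function.Surjective (algebraMap R A)) (p : Ideal A) [p.IsPrime] (h : ℕ)
    (hh : ringKrullDim (Localization.AtPrime (p.comap (algebraMap R A))) = h) (j : ℕ)
    (hj : j ≤ h) :
    Subsingleton (LocCoh.H (maximalIdeal (Localization.AtPrime p)) j
        (LocalizedModule p.primeCompl M)) ↔
      ∀ x : Abelian.Ext (ModuleCat.of R M) (ModuleCat.of R R) (h - j),
        ∃ s : R, s ∉ p.comap (algebraMap R A) ∧ s • x = 0 := by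
  have hfinRA : Module.Finite R A := Module.Finite.of_surjective (Algebra.linearMap R A) hsurj
  have hfinM : Module.Finite R M := Module.Finite.trans A M
  rw [lc_localization_subsingleton_iff hsurj M p (p.comap (algebraMap R A)) rfl j,
    lc_localizedModule_subsingleton_iff_of_regular R (p.comap (algebraMap R A)) M h hh j hj]
  constructor
  · intro H x
    obtain ⟨s, hs, hsx⟩ := H x
    exact ⟨s, hs, hsx⟩
  · intro H x
    obtain ⟨s, hs, hsx⟩ := H x
    exact ⟨s, hs, hsx⟩

/-- vanishing above the dimension. -/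
lemma van_of_lt (hsurj : Function.Surjective (algebraMap R A)) (p : Ideal A) [p.IsPrime] (h : ℕ)
    (hh : ringKrullDim (Localization.AtPrime (p.comap (algebraMap R A))) = h) (j : ℕ)
    (hj : h < j) :
    Subsingleton (LocCoh.H (maximalIdeal (Localization.AtPrime p)) j
        (LocalizedModule p.primeCompl M)) := by
  rw [lc_localization_subsingleton_iff hsurj M p (p.comap (algebraMap R A)) rfl j]
  apply lc_subsingleton_of_supportDim_lt
  refine lt_of_le_of_lt (Module.supportDim_le_ringKrullDim _ _) ?_
  rw [hh]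
  exact_mod_cast hj

/-- descent of vanishing along an immediate generization. -/
lemma van_of_covBy (hsurj : Function.Surjective (algebraMap R A)) (p q : PrimeSpectrum A)
    (hcov : p ⋖ q) (j : ℕ)
    (hq : Subsingleton (LocCoh.H (maximalIdeal (Localization.AtPrime q.asIdeal)) (j + 1)
        (LocalizedModule q.asIdeal.primeCompl M))) :
    Subsingleton (LocCoh.H (maximalIdeal (Localization.AtPrime p.asIdeal)) j
        (LocalizedModule p.asIdeal.primeCompl M)) := by
  have hcov' := comap_covBy (algebraMap R A) hsurj p q hcov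
  obtain ⟨hP, hQ, hhP, hhQ, hsum⟩ := exists_dims_of_covBy R _ _ hcov'
  by_cases hj : j ≤ hP
  · rw [van_iff R A M hsurj p.asIdeal hP hhP j hj]
    rw [van_iff R A M hsurj q.asIdeal hQ hhQ (j + 1) (by omega)] at hq
    have hidx : hQ - (j + 1) = hP - j := by omega
    rw [hidx] at hq
    intro x
    obtain ⟨s, hs, hsx⟩ := hq x
    refine ⟨s, fun hsp => hs ?_, hsx⟩
    exact Ideal.comap_mono hcov.le hsp
  · exact van_of_lt R A M hsurj p.asIdeal hP hhP j (not_le.mp hj)

/-- the codimension-one vanishing condition implies the full shifted vanishing condition. -/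
theorem van_of_relCodim_one (hsurj : Function.Surjective (algebraMap R A)) (I : Ideal A) (i : ℕ)
    (H1 : ∀ p : PrimeSpectrum A, ¬ I ≤ p.asIdeal → SGA2.relCodim I p = 1 → ∀ j : ℕ, j + 1 = i →
      Subsingleton (LocCoh.H (maximalIdeal (Localization.AtPrime p.asIdeal)) j
        (LocalizedModule p.asIdeal.primeCompl M))) :
    ∀ (c : ℕ) (p : PrimeSpectrum A), ¬ I ≤ p.asIdeal → ∀ j : ℕ, SGA2.relCodim I p = c →
      j + c = i →
      Subsingleton (LocCoh.H (maximalIdeal (Localization.AtPrime p.asIdeal)) j
        (LocalizedModule p.asIdeal.primeCompl M)) := by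
  have hcat : CAlg.IsCatenary A :=
    Groth.Agent.Lib.Helper93.GrothFin.isCatenary_of_surjective R (algebraMap R A) hsurj
  intro c
  induction c with
  | zero =>
    intro p hIp j hrel _
    exfalso
    -- `c(p) = 0` forces `I ≤ p`
    unfold SGA2.relCodim at hrel
    have hne : Nonempty {q : PrimeSpectrum A // p ≤ q ∧ I ≤ q.asIdeal} := by
      by_contra hemp
      rw [not_nonempty_iff] at hemp
      rw [iInf_of_empty] at hrel
      exact ENat.top_ne_natCast _ hrel
    obtain ⟨⟨q₀, hpq₀, hIq₀⟩, hq₀⟩ := ENat.exists_eq_iInf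
      (fun q : {q : PrimeSpectrum A // p ≤ q ∧ I ≤ q.asIdeal} =>
        Order.height (⟨q.1, q.2.1⟩ : Set.Ici p))
    rw [hrel] at hq₀
    have hlt : p < q₀ := lt_of_le_of_ne hpq₀ (fun heq => hIp (heq ▸ hIq₀))
    have h1 := Groth.Agent.Lib.Helper29.one_le_height_Ici_of_lt hlt
    have hq₀' : Order.height (⟨q₀, hpq₀⟩ : Set.Ici p) = ((0 : ℕ) : ℕ∞) := hq₀
    rw [hq₀'] at h1
    simp at h1
  | succ c ih =>
    intro p hIp j hrel hj
    rcases Nat.eq_zero_or_pos c with rfl | hc
    · exact H1 p hIp (by rw [hrel]; rfl) j hj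
    · obtain ⟨q, hcov, hIq, hrelq⟩ := exists_covBy_relCodim hcat I p c hc hrel
      have hq := ih q hIq (j + 1) hrelq (by omega)
      exact van_of_covBy R A M hsurj p q hcov j hq

end char

end Groth.Agent.Lib.Helper60.DualReg
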