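import Groth.Prelude.Def_DualSch
import Groth.Prelude.Def_CAlg

/-!
# Scheme-level dualizing complexes: bridge from stalks of `X` to localizations of an affine chart
-/

set_option autoImplicit false
universe u
open CategoryTheory CategoryTheory.Limits AlgebraicGeometry
attribute [local instance] HasDerivedCategory.standard

namespace Groth.Agent.Lib.Helper60.SchDual

/-- the stalk of `X` at the image of `p` under an open immersion `Spec A ⟶ X` is `A_p`. -/
noncomputable def stalkEquiv {X : Scheme.{u}} (A : Type u) [CommRing A]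
    (j : Spec (CommRingCat.of A) ⟶ X) [IsOpenImmersion j] (p : PrimeSpectrum A) :
    X.presheaf.stalk (j p) ≃+* Localization.AtPrime p.asIdeal :=
  haveI : IsIso (j.stalkMap p) :=
    inferInstanceAs (IsIso (j.stalkMap (show ↥(Spec (CommRingCat.of A)) from p)))
  ((asIso (j.stalkMap p)).commRingCatIsoToRingEquiv).trans
    (Spec.stalkIso (CommRingCat.of A) p).commRingCatIsoToRingEquiv

/-- A property of local rings invariant under ring isomorphism, which is open on `Spec` of every
ring in a class containing the affine charts of `X`, is open on `X`. -/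
theorem isOpen_setOf_stalk {X : Scheme.{u}} (P : ∀ (R : Type u) [CommRing R], Prop)
    (hP : ∀ (R S : Type u) [CommRing R] [CommRing S], (R ≃+* S) → P R → P S)
    (hopen : ∀ (U : X.Opens), IsAffineOpen U →
      IsOpen {p : PrimeSpectrum Γ(X, U) | P (Localization.AtPrime p.asIdeal)}) :
    IsOpen {x : X | P (X.presheaf.stalk x)} := by
  rw [isOpen_iff_forall_mem_open]
  intro x hx
  obtain ⟨U, hU, hxU, -⟩ := exists_isAffineOpen_mem_and_subset (x := x) (U := ⊤) trivial
  have key : ∀ p : PrimeSpectrum Γ(X, U),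
      P (X.presheaf.stalk (hU.fromSpec p)) ↔ P (Localization.AtPrime p.asIdeal) := fun p =>
    ⟨hP _ _ (stalkEquiv _ hU.fromSpec p), hP _ _ (stalkEquiv _ hU.fromSpec p).symm⟩
  refine ⟨hU.fromSpec '' {p : PrimeSpectrum Γ(X, U) | P (Localization.AtPrime p.asIdeal)},
    ?_, hU.fromSpec.isOpenEmbedding.isOpenMap _ (hopen U hU), ?_⟩
  · rintro _ ⟨p, hp, rfl⟩
    exact (key p).2 hp
  · refine ⟨hU.primeIdealOf ⟨x, hxU⟩, ?_, hU.fromSpec_primeIdealOf ⟨x, hxU⟩⟩
    have := key (hU.primeIdealOf ⟨x, hxU⟩)
    rw [hU.fromSpec_primeIdealOf ⟨x, hxU⟩] at this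
    exact this.1 hx

end Groth.Agent.Lib.Helper60.SchDual
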