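import Groth.Agent.Lib.Helper60.SchDual9

/-!
# A locally Noetherian scheme with a dualizing complex `K` is Gorenstein iff `K` is invertible

* `isQuasicoherent_HD`: the cohomology sheaves of a dualizing complex are quasi-coherent;
* `isInvertibleD_of_gorenstein`: at a point with Gorenstein local rings everywhere, `K` is locally a
  shift of the structure sheaf;
* `gorenstein_of_isInvertibleD`: conversely.
-/

set_option autoImplicit false
universe u
open CategoryTheory CategoryTheory.Limits AlgebraicGeometry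
attribute [local instance] HasDerivedCategory.standard

namespace Groth.Agent.Lib.Helper60.SchDual

open Groth.Agent.Lib.Helper6 Groth.Agent.Lib.Helper45 Groth.Agent.Lib.Helper49

variable {X : Scheme.{u}}
  [∀ (U : Scheme.{u}) (j : U ⟶ X) [IsOpenImmersion j],
    PreservesFiniteLimits (Scheme.Modules.restrictFunctor j)]
  [∀ (R : CommRingCat.{u}), PreservesFiniteLimits (tilde.functor R)]

/-- the cohomology sheaves of a dualizing complex are quasi-coherent. -/
theorem isQuasicoherent_HD (K : DCoh.D X) (hK : Dual2.IsDualizingSch X K) (i : ℤ) :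
    (DCoh.HD K i).IsQuasicoherent := by
  refine isQuasicoherent_of_forall_fromSpec _ fun U => ?_
  have hU : IsAffineOpen U.1 := U.2
  obtain ⟨ω, -, ⟨e⟩⟩ := hK Γ(X, U.1) hU.fromSpec
  exact isQuasicoherent_of_iso (restrictHDIsoTilde Γ(X, U.1) hU.fromSpec K ω e i).symm
    inferInstance

/-- **Gorenstein ⟹ the dualizing complex is invertible.** -/
theorem isInvertibleD_of_gorenstein (K : DCoh.D X) (hK : Dual2.IsDualizingSch X K)
    (hX : ∀ x : X, LocCoh.IsGorensteinLocalRing (X.presheaf.stalk x)) (x : X) :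
    ∃ (U : X.Opens) (n : ℤ), x ∈ U ∧
      Nonempty ((DCoh.restrictD U.ι).obj K ≅
        (DCoh.inD (U : Scheme.{u}) (Coh.structureModule (U : Scheme.{u})))⟦n⟧) := by
  obtain ⟨U, hU, hxU, -⟩ := exists_isAffineOpen_mem_and_subset (x := x) (U := ⊤) trivial
  obtain ⟨ω, hω, ⟨e⟩⟩ := hK Γ(X, U) hU.fromSpec
  have hN := hω.isNoetherianRing
  have eN : ∀ i, Γ(DCoh.HD K i, U) ≃ₗ[Γ(X, U)] Dual.HD Γ(X, U) ω i := fun i =>
    sectionsEquiv hU (DCoh.HD K i) (ModuleCat.of Γ(X, U) (Dual.HD Γ(X, U) ω i))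
      (restrictHDIsoTilde Γ(X, U) hU.fromSpec K ω e i)
  have hqc : ∀ i, (DCoh.HD K i).IsQuasicoherent := isQuasicoherent_HD K hK
  have hfin : ∀ i, Module.Finite Γ(X, U) (Dual.HD Γ(X, U) ω i) := hω.finite_cohomology
  obtain ⟨y, rfl⟩ : ∃ y : U, (y : X) = x := ⟨⟨x, hxU⟩, rfl⟩
  let p : PrimeSpectrum Γ(X, U) := hU.primeIdealOf y
  have hp : hU.fromSpec p = (y : X) := hU.fromSpec_primeIdealOf y
  have hG : LocCoh.IsGorensteinLocalRing (Localization.AtPrime p.asIdeal) := by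
    have h1 := hX (hU.fromSpec p)
    exact Groth.Agent.Lib.Helper24.isGorensteinLocalRing_of_ringEquiv
      (stalkEquiv Γ(X, U) hU.fromSpec p) h1
  obtain ⟨n, hn⟩ := GorLocus.exists_mem_V hω p hG
  have hV := GorLocus.isOpen_V hω n
  obtain ⟨_, ⟨_, ⟨g0, rfl⟩, rfl⟩, hpg0, hsub⟩ :=
    PrimeSpectrum.isBasis_basic_opens.exists_subset_of_mem_open hn hV
  obtain ⟨g1, h, hg1, c1, c2⟩ := exists_gen_near_prime (Dual.HD Γ(X, U) ω n) p hn.2.1 hn.2.2
  have hg0 : g0 ∉ p.asIdeal := hpg0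
  let g : Γ(X, U) := g0 * g1
  have hg : g ∉ p.asIdeal := fun hmem =>
    (p.isPrime.mem_or_mem hmem).elim hg0 hg1
  have hyg : (y : X) ∈ X.basicOpen g := (mem_basicOpen_iff_not_mem_primeIdealOf hU y g).mpr hg
  -- the generator
  have d1 : ∀ r : Γ(X, U), r • (eN n).symm h = 0 → ∃ k : ℕ, g ^ k • r = 0 := by
    intro r hr
    have hr' : r • h = 0 := by
      have := congrArg (eN n) hr
      rw [map_smul, LinearEquiv.apply_symm_apply, map_zero] at this
      exact this
    obtain ⟨k, hk⟩ := c1 r hr'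
    refine ⟨k, ?_⟩
    rw [smul_eq_mul] at hk ⊢
    rw [mul_pow, mul_assoc, hk, mul_zero]
  have d2 : ∀ m : Γ(DCoh.HD K n, U), ∃ (k : ℕ) (r : Γ(X, U)), g ^ k • m = r • (eN n).symm h := by
    intro m
    obtain ⟨k, r, hr⟩ := c2 (eN n m)
    refine ⟨k, g0 ^ k * r, ?_⟩
    apply (eN n).injective
    rw [map_smul, map_smul, LinearEquiv.apply_symm_apply, mul_pow, mul_smul, hr, mul_smul]
  have d3 : ∀ i : ℤ, i ≠ n → ∀ m : Γ(DCoh.HD K i, U), ∃ k : ℕ, g ^ k • m = 0 := by
    intro i hi m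
    obtain ⟨k, hk⟩ := exists_pow_smul_eq_zero_of_support (Dual.HD Γ(X, U) ω i) g (by
      intro q hq
      have hq0 : g0 ∉ q.asIdeal := fun hmem => hq (q.asIdeal.mul_mem_right g1 hmem)
      exact (hsub hq0).1 i hi)
    refine ⟨k, ?_⟩
    apply (eN i).injective
    rw [map_smul, hk, map_zero]
  have hz : ∀ i : ℤ, i ≠ n → IsZero ((DCoh.HD K i).restrict (X.basicOpen g).ι) :=
    fun i hi => isZero_restrict_basicOpen hU (DCoh.HD K i) g (d3 i hi)
  obtain ⟨φ⟩ := nonempty_restrict_basicOpen_iso_unit hU (DCoh.HD K n) g ((eN n).symm h) d1 d2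
  -- the derived assembly
  let K' : DCoh.D (X.basicOpen g : Scheme.{u}) := (DCoh.restrictD (X.basicOpen g).ι).obj K
  have hH : ∀ i : ℤ, (DerivedCategory.homologyFunctor _ i).obj K' ≅
      (DCoh.HD K i).restrict (X.basicOpen g).ι := fun i =>
    (ExactDC.homologyIso (Scheme.Modules.restrictFunctor (X.basicOpen g).ι) i).app K
  have hGE : K'.IsGE n := by
    rw [DerivedCategory.isGE_iff]
    intro i hi
    exact (hz i (by omega)).of_iso (hH i)
  have hLE : K'.IsLE n := by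
    rw [DerivedCategory.isLE_iff]
    intro i hi
    exact (hz i (by omega)).of_iso (hH i)
  obtain ⟨ψ⟩ := nonempty_iso_single_gen K' n (Coh.structureModule (X.basicOpen g : Scheme.{u}))
    (hH n ≪≫ φ)
  exact ⟨X.basicOpen g, -n, hyg, ⟨ψ ≪≫ (singleShiftIso _ n).symm⟩⟩

end Groth.Agent.Lib.Helper60.SchDual

namespace Groth.Agent.Lib.Helper60.SchDual

open Groth.Agent.Lib.Helper6 Groth.Agent.Lib.Helper45 Groth.Agent.Lib.Helper49
open Groth.Agent.Lib.Helper30.PerfRestrict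

variable {X : Scheme.{u}}
  [∀ (U : Scheme.{u}) (j : U ⟶ X) [IsOpenImmersion j],
    PreservesFiniteLimits (Scheme.Modules.restrictFunctor j)]
  [∀ (R : CommRingCat.{u}), PreservesFiniteLimits (tilde.functor R)]

/-- **the dualizing complex is invertible near `x` ⟹ the local ring at `x` is Gorenstein.** -/
theorem gorenstein_of_isInvertibleD (K : DCoh.D X) (hK : Dual2.IsDualizingSch X K) (x : X)
    (U : X.Opens) (m : ℤ) (hxU : x ∈ U)
    (ε : (DCoh.restrictD U.ι).obj K ≅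
      (DCoh.inD (U : Scheme.{u}) (Coh.structureModule (U : Scheme.{u})))⟦m⟧) :
    LocCoh.IsGorensteinLocalRing (X.presheaf.stalk x) := by
  obtain ⟨W, hW, hxW, hWU⟩ := exists_isAffineOpen_mem_and_subset (x := x) (U := U) hxU
  obtain ⟨ω, hω, ⟨e⟩⟩ := hK Γ(X, W) hW.fromSpec
  have hN := hω.isNoetherianRing
  have hrange : Set.range hW.fromSpec ⊆ Set.range U.ι := by
    rw [hW.range_fromSpec, Scheme.Opens.range_ι]
    exact hWU
  let k : Spec Γ(X, W) ⟶ (U : Scheme.{u}) := IsOpenImmersion.lift U.ι hW.fromSpec hrange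
  have hk : k ≫ U.ι = hW.fromSpec := IsOpenImmersion.lift_fac _ _ _
  have : IsOpenImmersion k := IsOpenImmersion.of_comp k U.ι
  let R : CommRingCat.{u} := Γ(X, W)
  -- the chain of isomorphisms
  let c1 : (DCoh.restrictD hW.fromSpec).obj K ≅ (DCoh.restrictD k).obj ((DCoh.restrictD U.ι).obj K) :=
    rDFac k U.ι hW.fromSpec hk K
  let c2 : (DCoh.restrictD k).obj ((DCoh.restrictD U.ι).obj K) ≅
      ((DCoh.restrictD k).obj (DCoh.inD (U : Scheme.{u}) (Coh.structureModule (U : Scheme.{u}))))⟦m⟧ :=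
    (DCoh.restrictD k).mapIso ε ≪≫ ((DCoh.restrictD k).commShiftIso m).app _
  let c3 : ((DCoh.restrictD k).obj (DCoh.inD (U : Scheme.{u}) (Coh.structureModule (U : Scheme.{u}))))⟦m⟧ ≅
      (DCoh.tildeD R).obj ((Dual.inD R R)⟦m⟧) :=
    (shiftFunctor _ m).mapIso (restrictInDIso R k) ≪≫
      (((DCoh.tildeD R).commShiftIso m).app _).symm
  let c : (DCoh.tildeD R).obj ω ≅ (DCoh.tildeD R).obj ((Dual.inD R R)⟦m⟧) :=
    e.symm ≪≫ c1 ≪≫ c2 ≪≫ c3
  have hHi : ∀ i : ℤ, Nonempty (Dual.HD R ω i ≃ₗ[R] Dual.HD R ((Dual.inD R R)⟦m⟧) i) := by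
    intro i
    let t1 : (tilde.functor R).obj ((DerivedCategory.homologyFunctor _ i).obj ω) ≅
        (tilde.functor R).obj ((DerivedCategory.homologyFunctor _ i).obj ((Dual.inD R R)⟦m⟧)) :=
      ((ExactDC.homologyIso (tilde.functor R) i).app ω).symm ≪≫
        (DerivedCategory.homologyFunctor _ i).mapIso c ≪≫
        (ExactDC.homologyIso (tilde.functor R) i).app _
    exact ⟨(tilde.fullyFaithfulFunctor.preimageIso t1).toLinearEquiv⟩
  have hsub : ∀ i : ℤ, i ≠ -m → Subsingleton (Dual.HD R ω i) := by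
    intro i hi
    obtain ⟨l⟩ := hHi i
    have := GorLocus.HD_single_shift_subsingleton (B := R) m i (by omega)
    exact l.toEquiv.subsingleton
  obtain ⟨l⟩ : Nonempty (Dual.HD R ω (-m) ≃ₗ[R] R) := by
    obtain ⟨l⟩ := hHi (-m)
    obtain ⟨l2⟩ := GorLocus.nonempty_HD_single_shift_equiv (B := R) m (-m) (by omega)
    exact ⟨l.trans l2⟩
  obtain ⟨y, rfl⟩ : ∃ y : W, (y : X) = x := ⟨⟨x, hxW⟩, rfl⟩
  let p : PrimeSpectrum Γ(X, W) := hW.primeIdealOf y
  have hp : hW.fromSpec p = (y : X) := hW.fromSpec_primeIdealOf y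
  have hpV : p ∈ GorLocus.V Γ(X, W) ω (-m) := by
    refine ⟨fun i hi => ?_, ?_, ?_⟩
    · have := hsub i hi
      rw [Module.notMem_support_iff]
      infer_instance
    · have : Module.Free Γ(X, W) (Dual.HD Γ(X, W) ω (-m)) := Module.Free.of_equiv l.symm
      have : Module.Finite Γ(X, W) (Dual.HD Γ(X, W) ω (-m)) := Module.Finite.equiv l.symm
      rw [Module.freeLocus_eq_univ]
      trivial
    · have hnt : Nontrivial Γ(X, W) := by
        have : Nonempty (PrimeSpectrum Γ(X, W)) := ⟨p⟩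
        exact (PrimeSpectrum.nonempty_iff_nontrivial).mp this
      rw [Module.rankAtStalk_eq_of_equiv l, Module.rankAtStalk_self]
      rfl
  have hG := GorLocus.gorenstein_of_mem_V hω (-m) p hpV
  have h2 := Groth.Agent.Lib.Helper24.isGorensteinLocalRing_of_ringEquiv
    (stalkEquiv Γ(X, W) hW.fromSpec p).symm hG
  rw [hp] at h2
  exact h2

end Groth.Agent.Lib.Helper60.SchDual
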