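import Groth.Agent.Lib.Helper60.SchDual10
import Groth.Agent.Lib.Helper11.TildePullback
import Groth.Agent.Lib.Helper6.HomBC10
import Groth.Agent.Lib.Helper30.DQC.TildeFF

/-!
# Restriction of derived tildes along open immersions of affine schemes; transfer of charts

* `mapDerivedCategoryIso`, `mapDerivedCategoryComp`: functoriality of `Functor.mapDerivedCategory`;
* `tildeRestrictIso`, `tildeDRestrictIso`: `(ω~)|_{Spec S} ≅ (S ⊗_R ω)~` for an open immersion
  `Spec S ⟶ Spec R`;
* `chart_transfer`: if `K|_{Spec R} ≅ ω~` with `ω` dualizing and `S` is a localization of `R` with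
  `Spec S ⟶ Spec R` an open immersion, then `K|_{Spec S}` is the derived tilde of a dualizing complex.
-/

set_option autoImplicit false
universe w₁ w₂ w₃ v₁ v₂ v₃ u₁ u₂ u₃ u
open CategoryTheory CategoryTheory.Limits AlgebraicGeometry

namespace Groth.Agent.Lib.Helper60.SchDual

section DerComp

variable {C₁ : Type u₁} [Category.{v₁} C₁] [Abelian C₁] [HasDerivedCategory.{w₁} C₁]
  {C₂ : Type u₂} [Category.{v₂} C₂] [Abelian C₂] [HasDerivedCategory.{w₂} C₂]
  {C₃ : Type u₃} [Category.{v₃} C₃] [Abelian C₃] [HasDerivedCategory.{w₃} C₃]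

/-- isomorphic exact functors induce isomorphic functors on derived categories. -/
noncomputable def mapDerivedCategoryIso {F F' : C₁ ⥤ C₂} [F.Additive] [F'.Additive]
    [PreservesFiniteLimits F] [PreservesFiniteColimits F]
    [PreservesFiniteLimits F'] [PreservesFiniteColimits F'] (e : F ≅ F') :
    F.mapDerivedCategory ≅ F'.mapDerivedCategory :=
  Localization.liftNatIso DerivedCategory.Q
    (HomologicalComplex.quasiIso C₁ (ComplexShape.up ℤ))
    (F.mapHomologicalComplex (ComplexShape.up ℤ) ⋙ DerivedCategory.Q)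
    (F'.mapHomologicalComplex (ComplexShape.up ℤ) ⋙ DerivedCategory.Q) _ _
    (Functor.isoWhiskerRight (NatIso.mapHomologicalComplex e (ComplexShape.up ℤ))
      DerivedCategory.Q)

/-- the functor induced on derived categories by a composition of exact functors. -/
noncomputable def mapDerivedCategoryComp (F : C₁ ⥤ C₂) (G : C₂ ⥤ C₃) [F.Additive] [G.Additive]
    [PreservesFiniteLimits F] [PreservesFiniteColimits F]
    [PreservesFiniteLimits G] [PreservesFiniteColimits G] :
    (F ⋙ G).mapDerivedCategory ≅ F.mapDerivedCategory ⋙ G.mapDerivedCategory := by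
  letI : Localization.Lifting DerivedCategory.Q
      (HomologicalComplex.quasiIso C₁ (ComplexShape.up ℤ))
      ((F.mapHomologicalComplex (ComplexShape.up ℤ) ⋙
        G.mapHomologicalComplex (ComplexShape.up ℤ)) ⋙ DerivedCategory.Q)
      (F.mapDerivedCategory ⋙ G.mapDerivedCategory) :=
    ⟨(Functor.associator _ _ _).symm ≪≫
      Functor.isoWhiskerRight F.mapDerivedCategoryFactors G.mapDerivedCategory ≪≫
      Functor.associator _ _ _ ≪≫
      Functor.isoWhiskerLeft (F.mapHomologicalComplex (ComplexShape.up ℤ))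
        G.mapDerivedCategoryFactors ≪≫
      (Functor.associator _ _ _).symm⟩
  exact Localization.liftNatIso DerivedCategory.Q
    (HomologicalComplex.quasiIso C₁ (ComplexShape.up ℤ))
    ((F ⋙ G).mapHomologicalComplex (ComplexShape.up ℤ) ⋙ DerivedCategory.Q)
    ((F.mapHomologicalComplex (ComplexShape.up ℤ) ⋙
        G.mapHomologicalComplex (ComplexShape.up ℤ)) ⋙ DerivedCategory.Q) _ _
    (Functor.isoWhiskerRight (Functor.mapHomologicalComplexCompIso (Iso.refl (F ⋙ G))
      (ComplexShape.up ℤ)) DerivedCategory.Q)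

end DerComp

section TildeRestrict

attribute [local instance] HasDerivedCategory.standard

variable {R S : CommRingCat.{u}} (φ : R ⟶ S)

/-- `Spec.map φ`, typed so as to be composable with `tilde.functor`. -/
noncomputable abbrev specMap : Spec (CommRingCat.of S) ⟶ Spec (CommRingCat.of R) := Spec.map φ

variable [IsOpenImmersion (specMap φ)]

/-- restriction of `M~` along an open immersion `Spec S ⟶ Spec R` is `(S ⊗_R M)~`. -/
noncomputable def tildeRestrictIso :
    tilde.functor R ⋙ Scheme.Modules.restrictFunctor (specMap φ) ≅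
      ModuleCat.extendScalars.{u, u, u} φ.hom ⋙ tilde.functor S :=
  Functor.isoWhiskerLeft (tilde.functor R) (Scheme.Modules.restrictFunctorIsoPullback _) ≪≫
    Groth.Agent.Lib.Helper11.tildePullbackIso φ

variable [PreservesFiniteLimits (tilde.functor R)] [PreservesFiniteLimits (tilde.functor S)]
  [PreservesFiniteLimits (Scheme.Modules.restrictFunctor (specMap φ))]
  [PreservesFiniteLimits (ModuleCat.extendScalars.{u, u, u} φ.hom)]

instance : (ModuleCat.extendScalars.{u, u, u} φ.hom).Additive :=
  (ModuleCat.extendRestrictScalarsAdj.{u, u, u} φ.hom).left_adjoint_additive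

/-- derived version: `(ω~)|_{Spec S} ≅ (S ⊗_R ω)~`. -/
noncomputable def tildeDRestrictIso :
    DCoh.tildeD R ⋙ DCoh.restrictD (specMap φ) ≅
      (ModuleCat.extendScalars.{u, u, u} φ.hom).mapDerivedCategory ⋙ DCoh.tildeD S :=
  (mapDerivedCategoryComp _ _).symm ≪≫ mapDerivedCategoryIso (tildeRestrictIso φ) ≪≫
    mapDerivedCategoryComp _ _

end TildeRestrict

end Groth.Agent.Lib.Helper60.SchDual
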