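import Groth.Agent.Lib.Helper60.SkDual1
import Groth.Agent.Lib.Helper6.HomSingle
import Groth.Agent.Lib.Helper29.DepthSelf
import Groth.Agent.S1722

/-!
# `A_p` is Cohen–Macaulay iff exactly one `H^i(ω)_p` is nonzero
-/

set_option autoImplicit false
universe u
open CategoryTheory CategoryTheory.Limits DerivedCategory
attribute [local instance] HasDerivedCategory.standard

namespace Groth.Agent.Lib.Helper60.SchDual

open Groth.Agent.Lib.Helper6 Groth.Agent.Lib.Helper29 Groth.Agent.Lib.Helper60.SkDual

theorem nontrivial_loc_HD_iff {A : Type u} [CommRing A] (ω : Dual.D A) (p : Ideal A) [p.IsPrime]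
    (t : ℤ) :
    Nontrivial (LocalizedModule p.primeCompl (Dual.HD A ω t)) ↔
      Nontrivial (LocalizedModule p.primeCompl (Dual.inD A A ⟶ ω⟦t⟧)) := by
  obtain ⟨e⟩ := HomSingle.nonempty_homSingleEquiv ω t
  have e' := IsLocalizedModule.mapEquiv p.primeCompl
    (LocalizedModule.mkLinearMap p.primeCompl (Dual.inD A A ⟶ ω⟦t⟧))
    (LocalizedModule.mkLinearMap p.primeCompl (Dual.HD A ω t)) (Localization.AtPrime p) e
  exact ⟨fun h => e'.toEquiv.nontrivial, fun h => e'.symm.toEquiv.nontrivial⟩

theorem isCohenMacaulayLocalRing_localization_iff {A : Type u} [CommRing A] [IsNoetherianRing A]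
    (ω : Dual.D A) (hω : Dual.IsDualizing A ω) (p : PrimeSpectrum A) :
    LocCoh.IsCohenMacaulayLocalRing (Localization.AtPrime p.asIdeal) ↔
      ∃! i : ℤ, Nontrivial (LocalizedModule p.asIdeal.primeCompl (Dual.HD A ω i)) := by
  obtain ⟨δ, hδ, -⟩ := Groth.Agent.S1722.result A ω hω
  have hd := hδ p
  have hNB : IsNoetherianRing (Localization.AtPrime p.asIdeal) :=
    IsLocalization.isNoetherianRing p.asIdeal.primeCompl (Localization.AtPrime p.asIdeal)
      inferInstance
  have hnt : Nontrivial (LocalizedModule p.asIdeal.primeCompl A) :=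
    (localizedModuleSelfEquiv A p.asIdeal).toEquiv.nontrivial
  obtain ⟨n, hn⟩ := exists_nat_supportDim_eq (Localization.AtPrime p.asIdeal)
    (LocalizedModule p.asIdeal.primeCompl A)
  obtain ⟨k, hk⟩ := ENat.ne_top_iff_exists.1
    (depth_ne_top (Localization.AtPrime p.asIdeal) (LocalizedModule p.asIdeal.primeCompl A))
  have hcm : LocCoh.IsCohenMacaulayLocalRing (Localization.AtPrime p.asIdeal) ↔ n = k := by
    constructor
    · intro h
      have h1 := h.supportDim_eq_depth
      rw [← Module.supportDim_eq_of_equiv (localizedModuleSelfEquiv A p.asIdeal),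
        ← depth_localizedModule_self, hn, ← hk] at h1
      exact_mod_cast h1
    · intro h
      refine { supportDim_eq_depth := ?_ }
      rw [← Module.supportDim_eq_of_equiv (localizedModuleSelfEquiv A p.asIdeal),
        ← depth_localizedModule_self, hn, ← hk, h]
      rfl
  have h1 := loc_ext_nontrivial_dim ω hω p.asIdeal (δ p) hd A n hn
  have h2 := loc_ext_nontrivial_depth ω hω p.asIdeal (δ p) hd A k hk.symm
  rw [hcm]
  constructor
  · intro h
    refine ⟨-δ p - (n : ℤ), (nontrivial_loc_HD_iff ω p.asIdeal _).2 h1, ?_⟩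
    intro t ht
    have := loc_ext_range ω hω p.asIdeal (δ p) hd A n k hn hk.symm t
      ((nontrivial_loc_HD_iff ω p.asIdeal _).1 ht)
    omega
  · rintro ⟨t, -, ht⟩
    have e1 := ht _ ((nontrivial_loc_HD_iff ω p.asIdeal _).2 h1)
    have e2 := ht _ ((nontrivial_loc_HD_iff ω p.asIdeal _).2 h2)
    omega

/-- some cohomology module of a dualizing complex is nonzero at any given prime. -/
theorem exists_nontrivial_loc_HD {A : Type u} [CommRing A] [IsNoetherianRing A]
    (ω : Dual.D A) (hω : Dual.IsDualizing A ω) (p : PrimeSpectrum A) :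
    ∃ i : ℤ, Nontrivial (LocalizedModule p.asIdeal.primeCompl (Dual.HD A ω i)) := by
  obtain ⟨δ, hδ, -⟩ := Groth.Agent.S1722.result A ω hω
  have hd := hδ p
  have hNB : IsNoetherianRing (Localization.AtPrime p.asIdeal) :=
    IsLocalization.isNoetherianRing p.asIdeal.primeCompl (Localization.AtPrime p.asIdeal)
      inferInstance
  have hnt : Nontrivial (LocalizedModule p.asIdeal.primeCompl A) :=
    (localizedModuleSelfEquiv A p.asIdeal).toEquiv.nontrivial
  obtain ⟨n, hn⟩ := exists_nat_supportDim_eq (Localization.AtPrime p.asIdeal)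
    (LocalizedModule p.asIdeal.primeCompl A)
  exact ⟨_, (nontrivial_loc_HD_iff ω p.asIdeal _).2
    (loc_ext_nontrivial_dim ω hω p.asIdeal (δ p) hd A n hn)⟩

end Groth.Agent.Lib.Helper60.SchDual
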