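import Groth.Agent.Lib.Helper60.SchDual1
import Groth.Agent.Lib.Helper6.ExactDC

/-!
# Stalks of cohomology sheaves of `K` on an affine chart where `K` is a derived tilde
-/

set_option autoImplicit false
universe u
open CategoryTheory CategoryTheory.Limits AlgebraicGeometry
attribute [local instance] HasDerivedCategory.standard

namespace Groth.Agent.Lib.Helper60.SchDual

open Groth.Agent.Lib.Helper6

/-- an isomorphism of `O_X`-modules induces a bijection on stalks. -/
noncomputable def stalkEquivOfIso {Y : Scheme.{u}} {M N : Y.Modules} (e : M ≅ N) (y : Y) :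
    M.presheaf.stalk y ≃ N.presheaf.stalk y :=
  (((TopCat.Presheaf.stalkFunctor Ab y).mapIso
    ((Scheme.Modules.toPresheaf Y).mapIso e)).addCommGroupIsoToAddEquiv).toEquiv

section

variable {X : Scheme.{u}} (R : CommRingCat.{u})
  (j : Spec (CommRingCat.of R) ⟶ X) [IsOpenImmersion j]
  [PreservesFiniteLimits (Scheme.Modules.restrictFunctor j)]
  [PreservesFiniteLimits (tilde.functor R)]

theorem nontrivial_stalk_HD_iff' (K : DCoh.D X) (ω : Dual.D R)
    (e : (DCoh.restrictD j).obj K ≅ (DCoh.tildeD R).obj ω)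
    (p : PrimeSpectrum R) (i : ℤ) :
    Nontrivial ((DCoh.HD K i).presheaf.stalk (j p)) ↔
      Nontrivial (LocalizedModule p.asIdeal.primeCompl (Dual.HD R ω i)) := by
  -- step 1: restriction
  have e1 : (DCoh.HD K i).presheaf.stalk (j p) ≃
      ((Scheme.Modules.restrictFunctor j).obj (DCoh.HD K i)).presheaf.stalk p :=
    (((Scheme.Modules.restrictStalkNatIso j p).app (DCoh.HD K i)).symm.addCommGroupIsoToAddEquiv).toEquiv
  have e2 : ((Scheme.Modules.restrictFunctor j).obj (DCoh.HD K i)).presheaf.stalk p ≃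
      (DCoh.HD ((DCoh.restrictD j).obj K) i).presheaf.stalk p :=
    stalkEquivOfIso ((ExactDC.homologyIso (Scheme.Modules.restrictFunctor j) i).app K).symm p
  have e3 : (DCoh.HD ((DCoh.restrictD j).obj K) i).presheaf.stalk p ≃
      (DCoh.HD ((DCoh.tildeD R).obj ω) i).presheaf.stalk p :=
    stalkEquivOfIso ((DerivedCategory.homologyFunctor _ i).mapIso e) p
  have e4 : (DCoh.HD ((DCoh.tildeD R).obj ω) i).presheaf.stalk p ≃
      ((tilde.functor R).obj (ModuleCat.of R (Dual.HD R ω i))).presheaf.stalk p :=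
    stalkEquivOfIso ((ExactDC.homologyIso (tilde.functor R) i).app ω) p
  have e5 : ((tilde.functor R).obj (ModuleCat.of R (Dual.HD R ω i))).presheaf.stalk p ≃
      LocalizedModule p.asIdeal.primeCompl (Dual.HD R ω i) :=
    (IsLocalizedModule.iso (PrimeSpectrum.asIdeal (show PrimeSpectrum.Top R from p)).primeCompl
      (tilde.toStalk (ModuleCat.of R (Dual.HD R ω i))
        (show PrimeSpectrum.Top R from p)).hom).symm.toEquiv
  have eT := ((e1.trans e2).trans e3).trans (e4.trans e5)
  exact ⟨fun h => eT.symm.nontrivial, fun h => eT.nontrivial⟩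

end

/-- the stalks of a zero module are trivial. -/
theorem subsingleton_stalk_of_isZero {Y : Scheme.{u}} (M : Y.Modules) (hM : IsZero M) (y : Y) :
    Subsingleton (M.presheaf.stalk y) := by
  have h1 : IsZero ((Scheme.Modules.toPresheaf Y ⋙ TopCat.Presheaf.stalkFunctor Ab.{u} y).obj M) :=
    Functor.map_isZero _ hM
  exact AddCommGrpCat.subsingleton_of_isZero h1

/-- the cohomology sheaves of a module placed in degree `0` vanish in nonzero degrees. -/
theorem isZero_HD_inD {Y : Scheme.{u}} (M : Y.Modules) (i : ℤ) (hi : i ≠ 0) :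
    IsZero (DCoh.HD (DCoh.inD Y M) i) := by
  rcases lt_or_gt_of_ne hi with h | h
  · exact DerivedCategory.isZero_of_isGE (DCoh.inD Y M) 0 i h
  · exact DerivedCategory.isZero_of_isLE (DCoh.inD Y M) 0 i h

end Groth.Agent.Lib.Helper60.SchDual
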