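import Groth.Agent.Lib.Helper60.SkDual4
import Groth.Agent.Lib.Helper35.DCExt
import Groth.Agent.Lib.Helper35.KLHeart
import Groth.Agent.Lib.Helper6.HomSingle

/-!
# Depth of the lowest cohomology module of a complex (helper60)

`depth_HD_zero_ge` : for `K ∈ D^{≥0}(B)` over a Noetherian local ring with `H⁰(K)` finite nonzero,
if `Hom(κ, K[i]) = 0` for `i < r ≤ 2` then `depth H⁰(K) ≥ r`.
-/

set_option autoImplicit false
set_option linter.unusedSectionVars false
universe u v
open CategoryTheory CategoryTheory.Limits DerivedCategory Pretriangulated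
attribute [local instance] HasDerivedCategory.standard

namespace Groth.Agent.Lib.Helper60.SkDual

open Groth.Agent.Lib.Helper35

section tri

variable {C : Type u} [Category.{v} C] [Abelian C] [HasDerivedCategory.{max u v} C]

/-- `Hom(S, (τ_{≤0}K)[1]) → Hom(S, K[1])` is injective for `S ∈ D^{≤0}`. -/
theorem eq_zero_of_comp_truncLTι_shift_one (S K : DerivedCategory C) [S.IsLE 0]
    (φ : S ⟶ ((TStructure.t.truncLT 1).obj K)⟦(1 : ℤ)⟧)
    (h : φ ≫ ((TStructure.t.truncLTι 1).app K)⟦(1 : ℤ)⟧' = 0) : φ = 0 := by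
  have hT := TStructure.t.triangleLTGE_distinguished 1 K
  have hrot := rot_of_distTriang _ hT
  have h' : φ ≫ ((TStructure.t.triangleLTGE 1).obj K).rotate.mor₃ = 0 := by
    change φ ≫ (-((TStructure.t.truncLTι 1).app K)⟦(1 : ℤ)⟧') = 0
    rw [Preadditive.comp_neg, h, neg_zero]
  obtain ⟨ψ, hψ⟩ := Triangle.coyoneda_exact₃ _ hrot φ h'
  have h1 : TStructure.t.IsGE ((TStructure.t.triangleLTGE 1).obj K).obj₃ 1 := inferInstance
  have hψ0 : ψ = 0 := by
    have ψ' : S ⟶ ((TStructure.t.triangleLTGE 1).obj K).obj₃ := ψ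
    exact TStructure.t.zero (X := S) (Y := ((TStructure.t.triangleLTGE 1).obj K).obj₃) ψ 0 1
  rw [hψ, hψ0]
  exact zero_comp

/-- `Hom(S, (τ_{≤0}K)[n]) → Hom(S, K[n])` is injective for `S ∈ D^{≤0}` and `n ≤ 1`. -/
theorem eq_zero_of_comp_truncLTι_shift (S K : DerivedCategory C) [S.IsLE 0] (n : ℤ) (hn : n ≤ 1)
    (φ : S ⟶ ((TStructure.t.truncLT 1).obj K)⟦n⟧)
    (h : φ ≫ ((TStructure.t.truncLTι 1).app K)⟦n⟧' = 0) : φ = 0 := by
  have hT := TStructure.t.triangleLTGE_distinguished 1 K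
  have hTn := Triangle.shift_distinguished _ hT n
  have hinv := inv_rot_of_distTriang _ hTn
  have h' : φ ≫ ((Triangle.shiftFunctor (DerivedCategory C) n).obj
      ((TStructure.t.triangleLTGE 1).obj K)).invRotate.mor₂ = 0 := by
    change φ ≫ (n.negOnePow • ((TStructure.t.truncLTι 1).app K)⟦n⟧') = 0
    rw [Units.smul_def, Preadditive.comp_zsmul, h, smul_zero]
  obtain ⟨ψ, hψ⟩ := Triangle.coyoneda_exact₂ _ hinv φ h'
  have h1 : TStructure.t.IsGE ((TStructure.t.triangleLTGE 1).obj K).obj₃ 1 := inferInstance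
  have h2 : TStructure.t.IsGE ((((TStructure.t.triangleLTGE 1).obj K).obj₃)⟦n⟧) (1 - n) :=
    TStructure.t.isGE_shift _ 1 n (1 - n) (by omega)
  have h3 : TStructure.t.IsGE (((((TStructure.t.triangleLTGE 1).obj K).obj₃)⟦n⟧)⟦(-1 : ℤ)⟧)
      (2 - n) := TStructure.t.isGE_shift _ (1 - n) (-1) (2 - n) (by omega)
  have hψ0 : ψ = 0 :=
    TStructure.t.zero (X := S)
      (Y := ((((TStructure.t.triangleLTGE 1).obj K).obj₃)⟦n⟧)⟦(-1 : ℤ)⟧) ψ 0 (2 - n) (by omega)
  rw [hψ, hψ0]
  exact zero_comp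

end tri

section depth

variable {B : Type u} [CommRing B] [IsLocalRing B] [IsNoetherianRing B]

/-- **Depth of the lowest cohomology module**: for `K ∈ D^{≥0}(B)` with `H⁰(K)` finite and nonzero,
if `Hom(κ, K[i]) = 0` for all `i < r` (`r ≤ 2`) then `depth H⁰(K) ≥ r`. -/
theorem depth_HD_zero_ge (K : Dual.D B) [K.IsGE 0] (hfin : Module.Finite B (Dual.HD B K 0))
    (hnt : Nontrivial (Dual.HD B K 0)) (r : ℕ) (hr : r ≤ 2)
    (hvan : ∀ i : ℕ, i < r →
      Subsingleton (Dual.inD B (B ⧸ IsLocalRing.maximalIdeal B) ⟶ K⟦(i : ℤ)⟧)) :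
    (r : ℕ∞) ≤ LocCoh.depth B (Dual.HD B K 0) := by
  have hGE : TStructure.t.IsGE ((TStructure.t.truncLT 1).obj K) 0 := inferInstance
  have hLE : TStructure.t.IsLE ((TStructure.t.truncLT 1).obj K) 0 :=
    TStructure.t.isLE_truncLT_obj _ 1 0
  obtain ⟨H, ⟨e⟩⟩ := exists_iso_singleFunctor_obj_of_isGE_of_isLE
    ((TStructure.t.truncLT 1).obj K) 0
  have hib := KL.isIso_homology_map_truncLTι K
  let i6 : H ≅ (homologyFunctor (ModuleCat.{u} B) 0).obj K :=
    ((singleFunctorCompHomologyFunctorIso (ModuleCat.{u} B) 0).app H).symm ≪≫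
    (homologyFunctor (ModuleCat.{u} B) 0).mapIso e.symm ≪≫
    asIso ((homologyFunctor (ModuleCat.{u} B) 0).map ((TStructure.t.truncLTι 1).app K))
  let eH : H ≃ₗ[B] Dual.HD B K 0 := i6.toLinearEquiv
  have hfinH : Module.Finite B H := Module.Finite.equiv eH.symm
  have hntH : Nontrivial H := eH.toEquiv.nontrivial
  have hdepth : LocCoh.depth B (Dual.HD B K 0) = LocCoh.depth B H :=
    Groth.Agent.Lib.Helper29.idealDepth_congr _ eH.symm
  rw [hdepth]
  unfold LocCoh.depth
  rw [Groth.Agent.Lib.Helper29.le_idealDepth_iff_ext (IsLocalRing.maximalIdeal B) H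
    (Groth.Agent.Lib.Helper29.maximalIdeal_smul_top_ne_top B H) r]
  intro i hi
  have key : Subsingleton ((singleFunctor (ModuleCat.{u} B) 0).obj
      (ModuleCat.of B (B ⧸ IsLocalRing.maximalIdeal B)) ⟶
      ((singleFunctor (ModuleCat.{u} B) 0).obj H)⟦(i : ℤ)⟧) := by
    refine ⟨fun φ ψ => ?_⟩
    have hz : ∀ χ : (singleFunctor (ModuleCat.{u} B) 0).obj
        (ModuleCat.of B (B ⧸ IsLocalRing.maximalIdeal B)) ⟶
        ((singleFunctor (ModuleCat.{u} B) 0).obj H)⟦(i : ℤ)⟧, χ = 0 := by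
      intro χ
      have hS : ((singleFunctor (ModuleCat.{u} B) 0).obj
        (ModuleCat.of B (B ⧸ IsLocalRing.maximalIdeal B))).IsLE 0 := inferInstance
      have h1 : χ ≫ (e.inv)⟦(i : ℤ)⟧' = 0 := by
        apply eq_zero_of_comp_truncLTι_shift _ K (i : ℤ) (by omega)
        have hsub := hvan i hi
        exact @Subsingleton.elim _ hsub _ _
      have h2 : χ = (χ ≫ (e.inv)⟦(i : ℤ)⟧') ≫ (e.hom)⟦(i : ℤ)⟧' := by
        rw [Category.assoc, ← Functor.map_comp, e.inv_hom_id, CategoryTheory.Functor.map_id,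
          Category.comp_id]
      rw [h2, h1, zero_comp]
    rw [hz φ, hz ψ]
  exact (DC.subsingleton_hom_shift_iff_ext (ModuleCat.of B (B ⧸ IsLocalRing.maximalIdeal B))
    (ModuleCat.of B H) i).1 key

end depth

section loc

open Groth.Agent.Lib.Helper6 Groth.Agent.Lib.Helper6.LocDual

variable {A : Type u} [CommRing A] [IsNoetherianRing A]
  (ω : Dual.D A) (hω : Dual.IsDualizing A ω) (p : Ideal A) [p.IsPrime] (δp : ℤ)
  (hd : ∀ i : ℤ, Nontrivial (LocalizedModule p.primeCompl (Dual.inD A (A ⧸ p) ⟶ ω⟦i⟧)) ↔ i = -δp)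

include hω hd

/-- **Depth of the localized lowest cohomology module of a dualizing complex**: if `H^i(ω) = 0` for
`i < t`, `H^t(ω)_p ≠ 0` and `t + r ≤ -δ(p)` with `r ≤ 2` then `depth H^t(ω)_p ≥ r`. -/
theorem depth_HD_localization_ge (t : ℤ) (ht : ∀ i : ℤ, i < t → Subsingleton (Dual.HD A ω i))
    (hnt : Nontrivial (LocalizedModule p.primeCompl (Dual.HD A ω t)))
    (r : ℕ) (hr : r ≤ 2) (htr : t + (r : ℤ) ≤ -δp) :
    (r : ℕ∞) ≤ LocCoh.depth (Localization.AtPrime p)
      (LocalizedModule p.primeCompl (Dual.HD A ω t)) := by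
  have hNB : IsNoetherianRing (Localization.AtPrime p) :=
    IsLocalization.isNoetherianRing p.primeCompl (Localization.AtPrime p) inferInstance
  have hG : Dual.IsDualizing (Localization.AtPrime p) (Gat p ω) := isDualizing_Gat p ω hω
  have hGge : (Gat p ω).IsGE t := by
    rw [DerivedCategory.isGE_iff]
    intro i hi
    have h1 := ht i hi
    have h2 := CMChar.subsingleton_localizedModule_of_subsingleton p.primeCompl (Dual.HD A ω i)
    obtain ⟨e1⟩ := nonempty_locHDEquiv ω p i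
    have h3 : Subsingleton (Dual.HD (Localization.AtPrime p) (Gat p ω) i) :=
      e1.symm.toEquiv.subsingleton
    exact ModuleCat.isZero_of_subsingleton _
  have hKge : ((Gat p ω)⟦t⟧).IsGE 0 := TStructure.t.isGE_shift (Gat p ω) t t 0 (by omega)
  obtain ⟨e1⟩ := nonempty_locHDEquiv ω p t
  let e2 : Dual.HD (Localization.AtPrime p) ((Gat p ω)⟦t⟧) 0 ≃ₗ[Localization.AtPrime p]
      Dual.HD (Localization.AtPrime p) (Gat p ω) t :=
    (((homologyFunctor (ModuleCat.{u} (Localization.AtPrime p)) 0).shiftIso t 0 t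
      (by omega)).app (Gat p ω)).toLinearEquiv
  have hfin0 : Module.Finite (Localization.AtPrime p)
      (Dual.HD (Localization.AtPrime p) (Gat p ω) t) := hG.finite_cohomology t
  have hfin : Module.Finite (Localization.AtPrime p)
      (Dual.HD (Localization.AtPrime p) ((Gat p ω)⟦t⟧) 0) := Module.Finite.equiv e2.symm
  have hnt' : Nontrivial (Dual.HD (Localization.AtPrime p) ((Gat p ω)⟦t⟧) 0) :=
    (e2.trans e1.symm).toEquiv.nontrivial
  have hvan : ∀ i : ℕ, i < r → Subsingleton (Dual.inD (Localization.AtPrime p)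
      (Localization.AtPrime p ⧸ IsLocalRing.maximalIdeal (Localization.AtPrime p)) ⟶
      ((Gat p ω)⟦t⟧)⟦(i : ℤ)⟧) := by
    intro i hi
    obtain ⟨e3⟩ := nonempty_locHomEquiv_residue ω hω p (t + (i : ℤ))
    have h1 : Subsingleton (LocalizedModule p.primeCompl
        (Dual.inD A (A ⧸ p) ⟶ ω⟦t + (i : ℤ)⟧)) := by
      rw [← not_nontrivial_iff_subsingleton, hd]
      omega
    have h2 : Subsingleton (Dual.inD (Localization.AtPrime p)
      (Localization.AtPrime p ⧸ IsLocalRing.maximalIdeal (Localization.AtPrime p)) ⟶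
      (Gat p ω)⟦t + (i : ℤ)⟧) := e3.symm.subsingleton
    exact (Iso.homCongr (Iso.refl _)
      ((shiftFunctorAdd' (Dual.D (Localization.AtPrime p)) t (i : ℤ) (t + (i : ℤ)) rfl).app
        (Gat p ω))).symm.subsingleton
  have hA := depth_HD_zero_ge ((Gat p ω)⟦t⟧) hfin hnt' r hr hvan
  have hcongr : LocCoh.depth (Localization.AtPrime p)
      (LocalizedModule p.primeCompl (Dual.HD A ω t)) =
      LocCoh.depth (Localization.AtPrime p)
        (Dual.HD (Localization.AtPrime p) ((Gat p ω)⟦t⟧) 0) :=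
    Groth.Agent.Lib.Helper29.idealDepth_congr _ (e1.trans e2.symm)
  rw [hcongr]
  exact hA

end loc

end Groth.Agent.Lib.Helper60.SkDual
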