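import Groth.Agent.Lib.Helper60.SchDual2
import Groth.Agent.Lib.Helper60.SkDual5
import Groth.Agent.Lib.Helper29.DepthLoc2

/-!
# The lowest cohomology module of a dualizing complex over a Noetherian ring is `(S_2)`,
# and torsion-free over a domain
-/

set_option autoImplicit false
universe u
open CategoryTheory CategoryTheory.Limits DerivedCategory
attribute [local instance] HasDerivedCategory.standard

namespace Groth.Agent.Lib.Helper60.SchDual

open Groth.Agent.Lib.Helper6 Groth.Agent.Lib.Helper29 Groth.Agent.Lib.Helper60.SkDual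

variable {A : Type u} [CommRing A] [IsNoetherianRing A]
  (ω : Dual.D A) (hω : Dual.IsDualizing A ω) (t : ℤ)
  (ht : ∀ i : ℤ, i < t → Subsingleton (Dual.HD A ω i))

include hω ht

/-- if `H^i(ω) = 0` for `i < t` and `H^t(ω)_p ≠ 0` then `t = -δ(p) - dim A_p`. -/
theorem lowest_degree_eq (p : Ideal A) [p.IsPrime] (d : ℤ)
    (hd : ∀ i : ℤ, Nontrivial (LocalizedModule p.primeCompl (Dual.inD A (A ⧸ p) ⟶ ω⟦i⟧)) ↔ i = -d)
    (hnt : Nontrivial (LocalizedModule p.primeCompl (Dual.HD A ω t))) (D : ℕ)
    (hD : Module.supportDim (Localization.AtPrime p) (LocalizedModule p.primeCompl A) = D) :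
    t = -d - (D : ℤ) := by
  have hNB : IsNoetherianRing (Localization.AtPrime p) :=
    IsLocalization.isNoetherianRing p.primeCompl (Localization.AtPrime p) inferInstance
  have hntA : Nontrivial (LocalizedModule p.primeCompl A) :=
    (localizedModuleSelfEquiv A p).toEquiv.nontrivial
  obtain ⟨k, hk⟩ := ENat.ne_top_iff_exists.1
    (depth_ne_top (Localization.AtPrime p) (LocalizedModule p.primeCompl A))
  have h1 := loc_ext_nontrivial_dim ω hω p d hd A D hD
  have h1' := (nontrivial_loc_HD_iff ω p _).2 h1
  have h2 := loc_ext_range ω hω p d hd A D k hD hk.symm t ((nontrivial_loc_HD_iff ω p _).1 hnt)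
  have h3 : ¬ (-d - (D : ℤ) < t) := by
    intro hlt
    have := ht _ hlt
    have hs : Subsingleton (LocalizedModule p.primeCompl (Dual.HD A ω (-d - (D : ℤ)))) :=
      inferInstance
    exact not_subsingleton _ hs
  omega

/-- **The lowest cohomology module of a dualizing complex is `(S_2)`.** -/
theorem hasSk_two_HD : LocCoh.HasSk 2 A (Dual.HD A ω t) := by
  intro p hp
  have hNB : IsNoetherianRing (Localization.AtPrime p) :=
    IsLocalization.isNoetherianRing p.primeCompl (Localization.AtPrime p) inferInstance
  have hfin : Module.Finite A (Dual.HD A ω t) := hω.finite_cohomology t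
  by_cases hnt : Nontrivial (LocalizedModule p.primeCompl (Dual.HD A ω t))
  · obtain ⟨δ, hδ, -⟩ := Groth.Agent.S1722.result A ω hω
    have hd := hδ ⟨p, hp⟩
    have hntA : Nontrivial (LocalizedModule p.primeCompl A) :=
      (localizedModuleSelfEquiv A p).toEquiv.nontrivial
    obtain ⟨D, hD⟩ := exists_nat_supportDim_eq (Localization.AtPrime p)
      (LocalizedModule p.primeCompl A)
    have hteq := lowest_degree_eq ω hω t ht p (δ ⟨p, hp⟩) hd hnt D hD
    obtain ⟨m, hm⟩ := exists_nat_supportDim_eq (Localization.AtPrime p)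
      (LocalizedModule p.primeCompl (Dual.HD A ω t))
    have hmD : m ≤ D := by
      have h1 := Module.supportDim_le_ringKrullDim (Localization.AtPrime p)
        (LocalizedModule p.primeCompl (Dual.HD A ω t))
      have h2 : Module.supportDim (Localization.AtPrime p) (LocalizedModule p.primeCompl A) =
          ringKrullDim (Localization.AtPrime p) := by
        rw [Module.supportDim_eq_of_equiv (localizedModuleSelfEquiv A p),
          Module.supportDim_self_eq_ringKrullDim]
      rw [← h2, hD, hm] at h1
      exact_mod_cast h1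
    have h5 := depth_HD_localization_ge ω hω p (δ ⟨p, hp⟩) hd t ht hnt (min 2 m)
      (min_le_left _ _) (by have := min_le_right 2 m; omega)
    rw [hm]
    have h6 : ((min 2 m : ℕ) : WithBot ℕ∞) ≤
        ((LocCoh.depth (Localization.AtPrime p)
          (LocalizedModule p.primeCompl (Dual.HD A ω t)) : ℕ∞) : WithBot ℕ∞) := by
      exact_mod_cast h5
    refine le_trans (le_of_eq ?_) h6
    rcases le_total 2 m with h | h
    · rw [min_eq_left h, min_eq_left (by exact_mod_cast h)]
    · rw [min_eq_right h, min_eq_right (by exact_mod_cast h)]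
  · rw [not_nontrivial_iff_subsingleton] at hnt
    rw [Module.supportDim_eq_bot_of_subsingleton, min_bot_right]
    exact bot_le

/-- **Over a domain, the lowest cohomology module of a dualizing complex is torsion-free.** -/
theorem isTorsionFree_HD [IsDomain A] : Module.IsTorsionFree A (Dual.HD A ω t) := by
  have hfin : Module.Finite A (Dual.HD A ω t) := hω.finite_cohomology t
  refine ⟨fun r hr => ?_⟩
  have hr0 : r ≠ 0 := hr.ne_zero
  by_contra hnreg
  -- `r` lies in an associated prime
  have hmem : r ∈ ⋃ q ∈ associatedPrimes A (Dual.HD A ω t), (q : Set A) := by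
    rw [biUnion_associatedPrimes_eq_compl_regular]
    exact hnreg
  simp only [Set.mem_iUnion, SetLike.mem_coe] at hmem
  obtain ⟨q, hq, hrq⟩ := hmem
  have hqp : q.IsPrime := IsAssociatedPrime.isPrime hq
  have hNB : IsNoetherianRing (Localization.AtPrime q) :=
    IsLocalization.isNoetherianRing q.primeCompl (Localization.AtPrime q) inferInstance
  have h0 := depth_localizedModule_eq_zero_of_mem_associatedPrimes A (Dual.HD A ω t) q hq
  have hsupp : (⟨q, hqp⟩ : PrimeSpectrum A) ∈ Module.support A (Dual.HD A ω t) :=
    mem_support_of_mem_associatedPrimes A hq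
  have hnt : Nontrivial (LocalizedModule q.primeCompl (Dual.HD A ω t)) :=
    Module.mem_support_iff.1 hsupp
  obtain ⟨δ, hδ, -⟩ := Groth.Agent.S1722.result A ω hω
  have hd := hδ ⟨q, hqp⟩
  have hntA : Nontrivial (LocalizedModule q.primeCompl A) :=
    (localizedModuleSelfEquiv A q).toEquiv.nontrivial
  obtain ⟨D, hD⟩ := exists_nat_supportDim_eq (Localization.AtPrime q)
    (LocalizedModule q.primeCompl A)
  have hteq := lowest_degree_eq ω hω t ht q (δ ⟨q, hqp⟩) hd hnt D hD
  -- `D ≥ 1` since `q ≠ 0`
  have hDpos : 1 ≤ D := by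
    by_contra hcon
    have hD0 : D = 0 := by omega
    rw [supportDim_localizedModule_self, hD0] at hD
    have hh : q.height = 0 := by exact_mod_cast hD
    rw [Ideal.height_eq_zero_iff] at hh
    have hbot : q = ⊥ := by
      have hmin : (⊥ : Ideal A) ∈ minimalPrimes A := by
        rw [IsDomain.minimalPrimes_eq_singleton_bot]
        rfl
      have := hh
      rw [IsDomain.minimalPrimes_eq_singleton_bot] at this
      exact this
    rw [hbot] at hrq
    exact hr0 (by simpa using hrq)
  have h5 := depth_HD_localization_ge ω hω q (δ ⟨q, hqp⟩) hd t ht hnt 1 (by omega) (by omega)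
  rw [h0] at h5
  simp at h5

end Groth.Agent.Lib.Helper60.SchDual
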