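import Groth.Agent.Lib.Helper45.LocalizingOn
import Groth.Agent.Lib.Helper87.GrDepth3
import Groth.Agent.Lib.Helper29.SkEmbedded

/-!
# Modules on a scheme whose restriction to an affine chart is a tilde
-/

set_option autoImplicit false
universe u
open CategoryTheory CategoryTheory.Limits AlgebraicGeometry TopologicalSpace

namespace Groth.Agent.Lib.Helper60.SchDual

open Groth.Agent.Lib.Helper45

variable {X : Scheme.{u}} {U : X.Opens} (hU : IsAffineOpen U) (F : X.Modules)

set_option backward.isDefEq.respectTransparency.types false in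
include hU in
theorem exists_restrict_eq_pow_smul'
    (hM : IsLocalizing (modulesSpecToSheaf.obj (F.restrict hU.fromSpec)))
    (f : Γ(X, U)) (s : Γ(F, X.basicOpen f)) :
    ∃ (n : ℕ) (t : Γ(F, U)), F.presheaf.map (homOfLE (X.basicOpen_le f)).op t =
      (X.presheaf.map (homOfLE (X.basicOpen_le f)).op f) ^ n • s := by
  have hloc := hM f
  have eT : hU.fromSpec ''ᵁ ⊤ = U := by
    rw [Scheme.Hom.image_top_eq_opensRange, hU.opensRange_fromSpec]
  have eD : hU.fromSpec ''ᵁ (PrimeSpectrum.basicOpen f) = X.basicOpen f :=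
    hU.fromSpec_image_basicOpen f
  let s' : Γ(F.restrict hU.fromSpec, (PrimeSpectrum.basicOpen f : (Spec Γ(X, U)).Opens)) :=
    (F.restrictAppIso hU.fromSpec _).inv (F.presheaf.map (eqToHom eD).op s)
  obtain ⟨⟨t', ⟨_, n, rfl⟩⟩, ht'⟩ := hloc.surj s'
  refine ⟨n, F.presheaf.map (eqToHom eT.symm).op ((F.restrictAppIso hU.fromSpec _).hom t'), ?_⟩
  have hinj : Function.Injective (F.presheaf.map (eqToHom eD).op) := by
    have : IsIso (F.presheaf.map (eqToHom eD).op) := inferInstance
    exact ((ConcreteCategory.isIso_iff_bijective _).mp this).1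
  apply hinj
  have h1 : F.presheaf.map (eqToHom eD).op
      (F.presheaf.map (homOfLE (X.basicOpen_le f)).op
        (F.presheaf.map (eqToHom eT.symm).op ((F.restrictAppIso hU.fromSpec _).hom t'))) =
      ((modulesSpecToSheaf.obj (F.restrict hU.fromSpec)).obj.map
        (PrimeSpectrum.basicOpen f).leTop.op).hom t' := by
    rw [← ConcreteCategory.comp_apply, ← ConcreteCategory.comp_apply, ← Functor.map_comp,
      ← Functor.map_comp]
    rfl
  rw [h1, ← ht']
  change f ^ n • s' = _
  rw [smul_restrict_fromSpec, Scheme.Modules.map_smul]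
  change (X.presheaf.map (homOfLE (image_le hU (PrimeSpectrum.basicOpen f))).op (f ^ n)) •
      (F.presheaf.map (eqToHom eD).op s) = _
  congr 1
  rw [map_pow, map_pow]
  congr 1
  rw [← ConcreteCategory.comp_apply, ← Functor.map_comp]
  rfl

set_option backward.isDefEq.respectTransparency.types false in
include hU in
theorem exists_pow_smul_eq_zero_of_restrict_eq_zero'
    (hM : IsLocalizing (modulesSpecToSheaf.obj (F.restrict hU.fromSpec)))
    (f : Γ(X, U)) (t : Γ(F, U))
    (ht : F.presheaf.map (homOfLE (X.basicOpen_le f)).op t = 0) : ∃ n : ℕ, f ^ n • t = 0 := by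
  have hloc := hM f
  have eT : hU.fromSpec ''ᵁ ⊤ = U := by
    rw [Scheme.Hom.image_top_eq_opensRange, hU.opensRange_fromSpec]
  have eD : hU.fromSpec ''ᵁ (PrimeSpectrum.basicOpen f) = X.basicOpen f :=
    hU.fromSpec_image_basicOpen f
  let t' : Γ(F.restrict hU.fromSpec, (⊤ : (Spec Γ(X, U)).Opens)) :=
    (F.restrictAppIso hU.fromSpec _).inv (F.presheaf.map (eqToHom eT).op t)
  have h0 : ((modulesSpecToSheaf.obj (F.restrict hU.fromSpec)).obj.map
        (PrimeSpectrum.basicOpen f).leTop.op).hom t' = 0 := by
    have h1 : ((modulesSpecToSheaf.obj (F.restrict hU.fromSpec)).obj.map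
        (PrimeSpectrum.basicOpen f).leTop.op).hom t' =
        F.presheaf.map (eqToHom eD).op (F.presheaf.map (homOfLE (X.basicOpen_le f)).op t) := by
      rw [← ConcreteCategory.comp_apply, ← Functor.map_comp]
      change F.presheaf.map _ (F.presheaf.map (eqToHom eT).op t) = _
      rw [← ConcreteCategory.comp_apply, ← Functor.map_comp]
      rfl
    rw [h1, ht]
    exact map_zero _
  obtain ⟨⟨_, n, rfl⟩, hn⟩ := (IsLocalizedModule.eq_zero_iff (.powers f) _).mp h0
  refine ⟨n, ?_⟩
  have hinj : Function.Injective (F.presheaf.map (eqToHom eT).op) := by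
    have : IsIso (F.presheaf.map (eqToHom eT).op) := inferInstance
    exact ((ConcreteCategory.isIso_iff_bijective _).mp this).1
  apply hinj
  rw [map_zero, Scheme.Modules.map_smul]
  change f ^ n • t' = 0 at hn
  rw [smul_restrict_fromSpec] at hn
  exact hn

include hU in
/-- if the restriction of `F` to the affine chart `Spec Γ(X, U)` is a tilde, then `F` localizes
correctly on `U`. -/
theorem isLocalizingOn_of_iso_tilde (H : ModuleCat.{u} Γ(X, U))
    (φ : F.restrict hU.fromSpec ≅ tilde H) : IsLocalizingOn F U := by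
  have hM : IsLocalizing (modulesSpecToSheaf.obj (F.restrict hU.fromSpec)) :=
    isLocalizing_of_iso (modulesSpecToSheaf.mapIso φ.symm) (isLocalizing_tilde H)
  exact ⟨exists_restrict_eq_pow_smul' hU F hM, exists_pow_smul_eq_zero_of_restrict_eq_zero' hU F hM⟩

theorem image_top_eq : hU.fromSpec ''ᵁ ⊤ = U := by
  rw [Scheme.Hom.image_top_eq_opensRange, hU.opensRange_fromSpec]

/-- sections over `U` are the global sections of the restriction to the chart. -/
noncomputable def sectionsRestrictEquiv :
    Γ(F, U) ≃ₗ[Γ(X, U)] Γ(F.restrict hU.fromSpec, (⊤ : (Spec Γ(X, U)).Opens)) where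
  toFun m := (F.restrictAppIso hU.fromSpec _).inv (F.presheaf.map (eqToHom (image_top_eq hU)).op m)
  invFun m' := F.presheaf.map (eqToHom (image_top_eq hU).symm).op
    ((F.restrictAppIso hU.fromSpec _).hom m')
  map_add' m₁ m₂ := by simp
  map_smul' r m := by
    rw [RingHom.id_apply, smul_restrict_fromSpec, Scheme.Modules.map_smul]
    rfl
  left_inv m := by
    simp
  right_inv m' := by
    simp


/-- global sections of a module on `Spec R` isomorphic to a tilde. -/
noncomputable def sectionsTildeEquiv {R : CommRingCat.{u}} (G : (Spec R).Modules) (H : ModuleCat.{u} R)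
    (φ : G ≅ tilde H) : Γ(G, (⊤ : (Spec R).Opens)) ≃ₗ[R] H :=
  (moduleSpecΓFunctor.mapIso φ ≪≫ (tilde.isoTop H).symm).toLinearEquiv

/-- sections over `U` of a module whose restriction to the chart is `tilde H`. -/
noncomputable def sectionsEquiv (H : ModuleCat.{u} Γ(X, U))
    (φ : F.restrict hU.fromSpec ≅ tilde H) : Γ(F, U) ≃ₗ[Γ(X, U)] H :=
  (sectionsRestrictEquiv hU F).trans (sectionsTildeEquiv _ H φ)


end Groth.Agent.Lib.Helper60.SchDual

namespace Groth.Agent.Lib.Helper60.SchDual

open Groth.Agent.Lib.Helper29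

/-- `(S_k)` transfers along semilinear isomorphisms. -/
theorem hasSk_of_semilinearEquiv {A A' : Type u} [CommRing A] [CommRing A'] [IsNoetherianRing A]
    (e : A ≃+* A') {M M' : Type u} [AddCommGroup M] [Module A M] [Module.Finite A M]
    [AddCommGroup M'] [Module A' M'] (f : M ≃+ M')
    (hf : ∀ (a : A) (m : M), f (a • m) = e a • f m) (k : ℕ) (h : LocCoh.HasSk k A M) :
    LocCoh.HasSk k A' M' := by
  intro Q hQ
  have hP : (Q.comap (e : A →+* A')).IsPrime := Ideal.comap_isPrime _ _
  obtain ⟨h1, h2⟩ := Groth.Agent.Lib.Helper87.GrDepth.depth_and_supportDim_eq_of_semilinearEquiv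
    e f hf Q (Q.comap (e : A →+* A')) rfl
  rw [h1, h2]
  exact h (Q.comap (e : A →+* A'))

/-- `(S_k)` passes to any model of the localization at a prime. -/
theorem hasSk_of_isLocalizedModule {R : Type u} [CommRing R] [IsNoetherianRing R] (p : Ideal R)
    [p.IsPrime] (S : Type u) [CommRing S] [Algebra R S] [IsLocalization.AtPrime S p]
    {M : Type u} [AddCommGroup M] [Module R M] [Module.Finite R M]
    {N : Type u} [AddCommGroup N] [Module R N] [Module S N] [IsScalarTower R S N]
    (g : M →ₗ[R] N) [IsLocalizedModule p.primeCompl g] (k : ℕ) (h : LocCoh.HasSk k R M) :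
    LocCoh.HasSk k S N := by
  have hNB : IsNoetherianRing (Localization.AtPrime p) :=
    IsLocalization.isNoetherianRing p.primeCompl (Localization.AtPrime p) inferInstance
  have h1 : LocCoh.HasSk k (Localization.AtPrime p) (LocalizedModule p.primeCompl M) :=
    hasSk_localizedModule R k p.primeCompl M h
  let e : Localization.AtPrime p ≃ₐ[R] S := IsLocalization.algEquiv p.primeCompl _ _
  let f : LocalizedModule p.primeCompl M ≃ₗ[R] N := IsLocalizedModule.iso p.primeCompl g
  refine hasSk_of_semilinearEquiv e.toRingEquiv f.toAddEquiv ?_ k h1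
  intro a m
  change f (a • m) = e a • f m
  obtain ⟨⟨r, s⟩, hrs⟩ := IsLocalization.surj p.primeCompl a
  have hunit := IsLocalizedModule.map_units g s
  rw [Module.End.isUnit_iff] at hunit
  apply hunit.injective
  change (s : R) • f (a • m) = (s : R) • (e a • f m)
  have h2 : (s : R) • f (a • m) = r • f m := by
    rw [← map_smul, ← algebraMap_smul (Localization.AtPrime p) (s : R) (a • m), smul_smul,
      mul_comm, hrs, algebraMap_smul, map_smul]
  have h3 : (s : R) • (e a • f m) = r • f m := by
    rw [← algebraMap_smul S (s : R) (e a • f m), smul_smul, ← e.commutes, ← map_mul, mul_comm, hrs,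
      e.commutes, algebraMap_smul]
  rw [h2, h3]


end Groth.Agent.Lib.Helper60.SchDual
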