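import Groth.Agent.Lib.Helper60.SchDual3
import Groth.Agent.Lib.Helper60.SchDual4
import Groth.Agent.Lib.Helper60.SchDual5

/-!
# Charts for the cohomology sheaves of a dualizing complex on a scheme
-/

set_option autoImplicit false
universe u
open CategoryTheory CategoryTheory.Limits AlgebraicGeometry
attribute [local instance] HasDerivedCategory.standard

namespace Groth.Agent.Lib.Helper60.SchDual

open Groth.Agent.Lib.Helper6 Groth.Agent.Lib.Helper45 Groth.Agent.Lib.Helper29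

section

variable {X : Scheme.{u}} (R : CommRingCat.{u})
  (j : Spec (CommRingCat.of R) ⟶ X) [IsOpenImmersion j]
  [PreservesFiniteLimits (Scheme.Modules.restrictFunctor j)]
  [PreservesFiniteLimits (tilde.functor R)]

/-- the restriction of a cohomology sheaf of `K` to a chart where `K` is the derived tilde of `ω`
is the tilde of the cohomology module of `ω`. -/
noncomputable def restrictHDIsoTilde (K : DCoh.D X) (ω : Dual.D R)
    (e : (DCoh.restrictD j).obj K ≅ (DCoh.tildeD R).obj ω) (i : ℤ) :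
    (Scheme.Modules.restrictFunctor j).obj (DCoh.HD K i) ≅
      tilde (ModuleCat.of R (Dual.HD R ω i)) :=
  ((ExactDC.homologyIso (Scheme.Modules.restrictFunctor j) i).app K).symm ≪≫
    (DerivedCategory.homologyFunctor _ i).mapIso e ≪≫
    (ExactDC.homologyIso (tilde.functor R) i).app ω

end

/-- sections of a zero module are trivial. -/
theorem subsingleton_sections_of_isZero {Y : Scheme.{u}} (M : Y.Modules) (hM : IsZero M)
    (V : Y.Opens) : Subsingleton Γ(M, V) := by
  have h0 : (𝟙 M : M ⟶ M) = 0 := hM.eq_of_src _ _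
  have hz : ∀ s : Γ(M, V), s = 0 := by
    intro s
    have h1 : (𝟙 M : M ⟶ M).app V s = (0 : M ⟶ M).app V s := by rw [h0]
    simpa using h1
  exact ⟨fun a b => (hz a).trans (hz b).symm⟩

variable {X : Scheme.{u}}
  [∀ (U : Scheme.{u}) (j : U ⟶ X) [IsOpenImmersion j],
    PreservesFiniteLimits (Scheme.Modules.restrictFunctor j)]
  [∀ (R : CommRingCat.{u}), PreservesFiniteLimits (tilde.functor R)]

/-- chart data for the lowest cohomology sheaf of a dualizing complex. -/
theorem exists_chart_data (K : DCoh.D X) (hK : Dual2.IsDualizingSch X K) (n : ℤ)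
    (hlt : ∀ i : ℤ, i < n → IsZero (DCoh.HD K i)) {U : X.Opens} (hU : IsAffineOpen U) :
    ∃ ωA : Dual.D Γ(X, U), Dual.IsDualizing Γ(X, U) ωA ∧
      (∀ i : ℤ, i < n → Subsingleton (Dual.HD Γ(X, U) ωA i)) ∧
      Nonempty (Γ(DCoh.HD K n, U) ≃ₗ[Γ(X, U)] Dual.HD Γ(X, U) ωA n) ∧
      IsLocalizingOn (DCoh.HD K n) U := by
  obtain ⟨ωA, hωA, ⟨e⟩⟩ := hK Γ(X, U) hU.fromSpec
  refine ⟨ωA, hωA, ?_, ?_, ?_⟩
  · intro i hi
    have φ := restrictHDIsoTilde Γ(X, U) hU.fromSpec K ωA e i
    have e1 := sectionsEquiv hU (DCoh.HD K i) (ModuleCat.of Γ(X, U) (Dual.HD Γ(X, U) ωA i)) φ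
    have := subsingleton_sections_of_isZero (DCoh.HD K i) (hlt i hi) U
    exact e1.symm.toEquiv.subsingleton
  · exact ⟨sectionsEquiv hU (DCoh.HD K n) (ModuleCat.of Γ(X, U) (Dual.HD Γ(X, U) ωA n))
      (restrictHDIsoTilde Γ(X, U) hU.fromSpec K ωA e n)⟩
  · exact isLocalizingOn_of_iso_tilde hU (DCoh.HD K n) _
      (restrictHDIsoTilde Γ(X, U) hU.fromSpec K ωA e n)

attribute [local instance] stalkModuleSections

/-- **The lowest cohomology sheaf of a dualizing complex is `(S_2)` at every point.** -/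
theorem hasSk_two_stalk_HD (K : DCoh.D X) (hK : Dual2.IsDualizingSch X K) (n : ℤ)
    (hlt : ∀ i : ℤ, i < n → IsZero (DCoh.HD K i)) (x : X) :
    LocCoh.HasSk 2 (X.presheaf.stalk x) ((DCoh.HD K n).presheaf.stalk x) := by
  obtain ⟨U, hU, hxU, -⟩ := exists_isAffineOpen_mem_and_subset (x := x) (U := ⊤) trivial
  obtain ⟨ωA, hωA, ht, ⟨eN⟩, hloc⟩ := exists_chart_data K hK n hlt hU
  have hN := hωA.isNoetherianRing
  have hfinH : Module.Finite Γ(X, U) (Dual.HD Γ(X, U) ωA n) := hωA.finite_cohomology n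
  have hfinN : Module.Finite Γ(X, U) Γ(DCoh.HD K n, U) := Module.Finite.equiv eN.symm
  have h1 : LocCoh.HasSk 2 Γ(X, U) Γ(DCoh.HD K n, U) :=
    hasSk_of_linearEquiv Γ(X, U) 2 eN.symm (hasSk_two_HD ωA hωA n ht)
  obtain ⟨y, rfl⟩ : ∃ y : U, (y : X) = x := ⟨⟨x, hxU⟩, rfl⟩
  have hlocS := hU.isLocalization_stalk y
  have hlocM := isLocalizedModule_germₗ_of_isLocalizingOn hU (DCoh.HD K n) y hloc
  exact hasSk_of_isLocalizedModule (hU.primeIdealOf y).asIdeal (X.presheaf.stalk (y : X))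
    (germₗ (DCoh.HD K n) y) 2 h1

/-- **On an integral scheme the lowest cohomology sheaf of a dualizing complex is torsion-free.** -/
theorem isTorsionFree_stalk_HD [IsIntegral X] (K : DCoh.D X) (hK : Dual2.IsDualizingSch X K)
    (n : ℤ) (hlt : ∀ i : ℤ, i < n → IsZero (DCoh.HD K i)) (x : X) :
    Module.IsTorsionFree (X.presheaf.stalk x) ((DCoh.HD K n).presheaf.stalk x) := by
  obtain ⟨U, hU, hxU, -⟩ := exists_isAffineOpen_mem_and_subset (x := x) (U := ⊤) trivial
  obtain ⟨ωA, hωA, ht, ⟨eN⟩, hloc⟩ := exists_chart_data K hK n hlt hU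
  have hN := hωA.isNoetherianRing
  have hne : Nonempty U := ⟨⟨x, hxU⟩⟩
  have hdom : IsDomain Γ(X, U) := inferInstance
  have h0 : Module.IsTorsionFree Γ(X, U) (Dual.HD Γ(X, U) ωA n) := isTorsionFree_HD ωA hωA n ht
  have h1 : Module.IsTorsionFree Γ(X, U) Γ(DCoh.HD K n, U) :=
    Function.Injective.moduleIsTorsionFree eN eN.injective (fun r m => map_smul eN r m)
  obtain ⟨y, rfl⟩ : ∃ y : U, (y : X) = x := ⟨⟨x, hxU⟩, rfl⟩
  have hlocS := hU.isLocalization_stalk y
  have hlocM := isLocalizedModule_germₗ_of_isLocalizingOn hU (DCoh.HD K n) y hloc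
  exact IsLocalizedModule.isTorsionFree (germₗ (DCoh.HD K n) y)
    (hU.primeIdealOf y).asIdeal.primeCompl

end Groth.Agent.Lib.Helper60.SchDual
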