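import Groth.Agent.Lib.Helper60.SchDual6

/-!
# Torsion-freeness and finiteness of the stalks of the lowest cohomology sheaf of a dualizing
# complex, at points whose local ring is a domain
-/

set_option autoImplicit false
universe u
open CategoryTheory CategoryTheory.Limits AlgebraicGeometry
attribute [local instance] HasDerivedCategory.standard

namespace Groth.Agent.Lib.Helper60.SchDual

open Groth.Agent.Lib.Helper6 Groth.Agent.Lib.Helper6.LocDual Groth.Agent.Lib.Helper45
  Groth.Agent.Lib.Helper29

/-- localized version of `isTorsionFree_HD`: it suffices that `A_p` is a domain. -/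
theorem isTorsionFree_loc_HD {A : Type u} [CommRing A] [IsNoetherianRing A]
    (ω : Dual.D A) (hω : Dual.IsDualizing A ω) (t : ℤ)
    (ht : ∀ i : ℤ, i < t → Subsingleton (Dual.HD A ω i)) (p : Ideal A) [p.IsPrime]
    [IsDomain (Localization.AtPrime p)] :
    Module.IsTorsionFree (Localization.AtPrime p)
      (LocalizedModule p.primeCompl (Dual.HD A ω t)) := by
  have hNB : IsNoetherianRing (Localization.AtPrime p) :=
    IsLocalization.isNoetherianRing p.primeCompl (Localization.AtPrime p) inferInstance
  have hG : Dual.IsDualizing (Localization.AtPrime p) (Gat p ω) := isDualizing_Gat p ω hω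
  have htG : ∀ i : ℤ, i < t → Subsingleton (Dual.HD (Localization.AtPrime p) (Gat p ω) i) := by
    intro i hi
    obtain ⟨e⟩ := nonempty_locHDEquiv ω p i
    have := ht i hi
    exact e.symm.toEquiv.subsingleton
  have h0 := isTorsionFree_HD (Gat p ω) hG t htG
  obtain ⟨e⟩ := nonempty_locHDEquiv ω p t
  exact Function.Injective.moduleIsTorsionFree e e.injective (fun r m => map_smul e r m)

/-- a model `(S, N)` of the localization of `M` at `p` is semilinearly isomorphic to the standard
one. -/
theorem exists_semilinear_of_isLocalizedModule {R : Type u} [CommRing R] (p : Ideal R)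
    [p.IsPrime] (S : Type u) [CommRing S] [Algebra R S] [IsLocalization.AtPrime S p]
    {M : Type u} [AddCommGroup M] [Module R M]
    {N : Type u} [AddCommGroup N] [Module R N] [Module S N] [IsScalarTower R S N]
    (g : M →ₗ[R] N) [IsLocalizedModule p.primeCompl g] :
    ∃ (e : Localization.AtPrime p ≃+* S) (f : LocalizedModule p.primeCompl M ≃+ N),
      ∀ (a : Localization.AtPrime p) (m : LocalizedModule p.primeCompl M),
        f (a • m) = e a • f m := by
  let e : Localization.AtPrime p ≃ₐ[R] S := IsLocalization.algEquiv p.primeCompl _ _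
  let f : LocalizedModule p.primeCompl M ≃ₗ[R] N := IsLocalizedModule.iso p.primeCompl g
  refine ⟨e.toRingEquiv, f.toAddEquiv, ?_⟩
  intro a m
  change f (a • m) = e a • f m
  obtain ⟨⟨r, s⟩, hrs⟩ := IsLocalization.surj p.primeCompl a
  have hunit := IsLocalizedModule.map_units g s
  rw [Module.End.isUnit_iff] at hunit
  apply hunit.injective
  change (s : R) • f (a • m) = (s : R) • (e a • f m)
  have h2 : (s : R) • f (a • m) = r • f m := by
    rw [← map_smul, ← algebraMap_smul (Localization.AtPrime p) (s : R) (a • m), smul_smul,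
      mul_comm, hrs, algebraMap_smul, map_smul]
  have h3 : (s : R) • (e a • f m) = r • f m := by
    rw [← algebraMap_smul S (s : R) (e a • f m), smul_smul, ← e.commutes, ← map_mul, mul_comm, hrs,
      e.commutes, algebraMap_smul]
  rw [h2, h3]

/-- torsion-freeness transfers along semilinear isomorphisms. -/
theorem isTorsionFree_of_semilinearEquiv {A A' : Type u} [CommRing A] [CommRing A']
    (e : A ≃+* A') {M M' : Type u} [AddCommGroup M] [Module A M]
    [AddCommGroup M'] [Module A' M'] (f : M ≃+ M')
    (hf : ∀ (a : A) (m : M), f (a • m) = e a • f m) (h : Module.IsTorsionFree A M) :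
    Module.IsTorsionFree A' M' := by
  refine ⟨fun r hr => ?_⟩
  have hr' : IsRegular (e.symm r) := by
    constructor
    · intro a b hab
      have h1 : r * e a = r * e b := by
        have := congrArg e hab
        simpa using this
      exact e.injective (hr.left h1)
    · intro a b hab
      have h1 : e a * r = e b * r := by
        have := congrArg e hab
        simpa using this
      exact e.injective (hr.right h1)
  have hreg := h.isSMulRegular hr'
  intro m₁ m₂ hm
  have h2 : e.symm r • f.symm m₁ = e.symm r • f.symm m₂ := by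
    apply f.injective
    rw [hf, hf, e.apply_symm_apply, f.apply_symm_apply, f.apply_symm_apply]
    exact hm
  have := hreg h2
  exact f.symm.injective this

variable {X : Scheme.{u}}
  [∀ (U : Scheme.{u}) (j : U ⟶ X) [IsOpenImmersion j],
    PreservesFiniteLimits (Scheme.Modules.restrictFunctor j)]
  [∀ (R : CommRingCat.{u}), PreservesFiniteLimits (tilde.functor R)]

attribute [local instance] stalkModuleSections

/-- the stalks of the cohomology sheaves of a dualizing complex are finite modules, and the local
rings are Noetherian. -/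
theorem finite_stalk_HD (K : DCoh.D X) (hK : Dual2.IsDualizingSch X K) (n : ℤ) (x : X) :
    IsNoetherianRing (X.presheaf.stalk x) ∧
      Module.Finite (X.presheaf.stalk x) ((DCoh.HD K n).presheaf.stalk x) := by
  obtain ⟨U, hU, hxU, -⟩ := exists_isAffineOpen_mem_and_subset (x := x) (U := ⊤) trivial
  obtain ⟨ωA, hωA, ⟨e⟩⟩ := hK Γ(X, U) hU.fromSpec
  have hN := hωA.isNoetherianRing
  have φ := restrictHDIsoTilde Γ(X, U) hU.fromSpec K ωA e n
  have eN := sectionsEquiv hU (DCoh.HD K n) (ModuleCat.of Γ(X, U) (Dual.HD Γ(X, U) ωA n)) φ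
  have hloc := isLocalizingOn_of_iso_tilde hU (DCoh.HD K n) _ φ
  have hfinH : Module.Finite Γ(X, U) (Dual.HD Γ(X, U) ωA n) := hωA.finite_cohomology n
  have hfinN : Module.Finite Γ(X, U) Γ(DCoh.HD K n, U) := Module.Finite.equiv eN.symm
  obtain ⟨y, rfl⟩ : ∃ y : U, (y : X) = x := ⟨⟨x, hxU⟩, rfl⟩
  have hlocS := hU.isLocalization_stalk y
  have hlocM := isLocalizedModule_germₗ_of_isLocalizingOn hU (DCoh.HD K n) y hloc
  exact ⟨IsLocalization.isNoetherianRing (hU.primeIdealOf y).asIdeal.primeCompl _ hN,
    Module.Finite.of_isLocalizedModule (hU.primeIdealOf y).asIdeal.primeCompl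
      (germₗ (DCoh.HD K n) y)⟩

/-- at a point whose local ring is a domain, the stalk of the lowest cohomology sheaf of a
dualizing complex is torsion-free. -/
theorem isTorsionFree_stalk_HD' (K : DCoh.D X) (hK : Dual2.IsDualizingSch X K)
    (n : ℤ) (hlt : ∀ i : ℤ, i < n → IsZero (DCoh.HD K i)) (x : X)
    [IsDomain (X.presheaf.stalk x)] :
    Module.IsTorsionFree (X.presheaf.stalk x) ((DCoh.HD K n).presheaf.stalk x) := by
  obtain ⟨U, hU, hxU, -⟩ := exists_isAffineOpen_mem_and_subset (x := x) (U := ⊤) trivial
  obtain ⟨ωA, hωA, ht, ⟨eN⟩, hloc⟩ := exists_chart_data K hK n hlt hU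
  have hN := hωA.isNoetherianRing
  obtain ⟨y, rfl⟩ : ∃ y : U, (y : X) = x := ⟨⟨x, hxU⟩, rfl⟩
  have hlocS := hU.isLocalization_stalk y
  have hlocM := isLocalizedModule_germₗ_of_isLocalizingOn hU (DCoh.HD K n) y hloc
  obtain ⟨e, f, hf⟩ := exists_semilinear_of_isLocalizedModule (hU.primeIdealOf y).asIdeal
    (X.presheaf.stalk (y : X)) (germₗ (DCoh.HD K n) y)
  have hdom : IsDomain (Localization.AtPrime (hU.primeIdealOf y).asIdeal) :=
    e.toMulEquiv.isDomain _
  have h0 := isTorsionFree_loc_HD ωA hωA n ht (hU.primeIdealOf y).asIdeal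
  -- transfer along `Γ(H^n K, U) ≃ H^n(ω_A)`
  have eL := IsLocalizedModule.mapEquiv (hU.primeIdealOf y).asIdeal.primeCompl
    (LocalizedModule.mkLinearMap (hU.primeIdealOf y).asIdeal.primeCompl Γ(DCoh.HD K n, U))
    (LocalizedModule.mkLinearMap (hU.primeIdealOf y).asIdeal.primeCompl
      (Dual.HD Γ(X, U) ωA n)) (Localization.AtPrime (hU.primeIdealOf y).asIdeal) eN
  have h1 : Module.IsTorsionFree (Localization.AtPrime (hU.primeIdealOf y).asIdeal)
      (LocalizedModule (hU.primeIdealOf y).asIdeal.primeCompl Γ(DCoh.HD K n, U)) :=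
    Function.Injective.moduleIsTorsionFree eL eL.injective (fun r m => map_smul eL r m)
  exact isTorsionFree_of_semilinearEquiv e f hf h1

end Groth.Agent.Lib.Helper60.SchDual
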