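import Groth.Agent.Lib.Helper60.SchDual1
import Groth.Agent.Lib.Helper60.GorDual
import Groth.Agent.Lib.Helper24.GorenEquiv

/-!
# On a Gorenstein scheme with a dualizing complex the structure sheaf is dualizing
-/

set_option autoImplicit false
universe u
open CategoryTheory CategoryTheory.Limits AlgebraicGeometry
attribute [local instance] HasDerivedCategory.standard

namespace Groth.Agent.Lib.Helper60.SchDual

section

variable {X : Scheme.{u}} (R : CommRingCat.{u})
  (j : Spec (CommRingCat.of R) ⟶ X) [IsOpenImmersion j]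
  [PreservesFiniteLimits (Scheme.Modules.restrictFunctor j)]
  [PreservesFiniteLimits (tilde.functor R)]

/-- the restriction of `O_X[0]` to an affine chart is the derived tilde of `R[0]`. -/
noncomputable def restrictInDIso :
    (DCoh.restrictD j).obj (DCoh.inD X (Coh.structureModule X)) ≅
      (DCoh.tildeD R).obj (Dual.inD R R) :=
  ((Scheme.Modules.restrictFunctor j).mapDerivedCategorySingleFunctor 0).app
      (Coh.structureModule X) ≪≫
    (DerivedCategory.singleFunctor _ 0).mapIso
      (Scheme.Modules.restrictUnitIso j ≪≫ (tildeSelf (R := R)).symm) ≪≫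
    (((tilde.functor R).mapDerivedCategorySingleFunctor 0).app (ModuleCat.of R R)).symm

end

variable {X : Scheme.{u}}
  [∀ (U : Scheme.{u}) (j : U ⟶ X) [IsOpenImmersion j],
    PreservesFiniteLimits (Scheme.Modules.restrictFunctor j)]
  [∀ (R : CommRingCat.{u}), PreservesFiniteLimits (tilde.functor R)]

theorem isDualizingSch_structureSheaf
    (hX : ∀ x : X, LocCoh.IsGorensteinLocalRing (X.presheaf.stalk x)) (K : DCoh.D X)
    (hK : Dual2.IsDualizingSch X K) :
    Dual2.IsDualizingSch X (DCoh.inD X (Coh.structureModule X)) := by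
  intro A _ j _
  obtain ⟨ω, hω, -⟩ := hK A j
  have hN := hω.isNoetherianRing
  refine ⟨Dual.inD A A, ?_, ⟨restrictInDIso (CommRingCat.of A) j⟩⟩
  refine Groth.Agent.Lib.Helper60.GorDual.isDualizing_inD_self ω hω ?_
  intro p hp
  exact Groth.Agent.Lib.Helper24.isGorensteinLocalRing_of_ringEquiv (stalkEquiv A j ⟨p, hp⟩)
    (hX (j ⟨p, hp⟩))

end Groth.Agent.Lib.Helper60.SchDual
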