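import Groth.Agent.Lib.Helper60.SchDual6
import Groth.Agent.Lib.Helper60.SchDual8
import Groth.Agent.Lib.Helper6.GorLocus
import Groth.Agent.Lib.Helper49.LocalizeNearPrime
import Groth.Agent.Lib.Helper49.AffineHom
import Groth.Agent.Lib.Helper49.FreeMod
import Groth.Agent.Lib.Helper49.SupportSplit2
import Groth.Agent.Lib.Helper49.QCohLocal
import Groth.Agent.Lib.Helper45.LocalizingOn
import Groth.Agent.Lib.Helper30.PerfRestrict

/-!
# Gorenstein schemes and invertible dualizing complexes: auxiliary results

* ring level: `exists_gen_near_prime`, `exists_pow_smul_eq_zero_of_support`;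
* sheaf level: `nonempty_restrict_basicOpen_iso_unit`, `isZero_restrict_basicOpen`;
* derived categories: `nonempty_iso_single_gen`, `isZero_homology_single_shift`,
  `homologySingleShiftIso`, `singleShiftIso`;
* `isQuasicoherent_HD`: the cohomology sheaves of a dualizing complex are quasi-coherent.
-/

set_option autoImplicit false
universe w v u
open CategoryTheory CategoryTheory.Limits AlgebraicGeometry

namespace Groth.Agent.Lib.Helper60.SchDual

section Ring

/-- a finite module over a Noetherian ring which is free of rank one at `p` has, near `p`, a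
generator: some `h` with `r ↦ r • h` an isomorphism after inverting some `g ∉ p`. -/
theorem exists_gen_near_prime {R : Type u} [CommRing R] [IsNoetherianRing R]
    (H : Type u) [AddCommGroup H] [Module R H] [Module.Finite R H] (p : PrimeSpectrum R)
    (hfree : p ∈ Module.freeLocus R H) (hrank : Module.rankAtStalk H p = 1) :
    ∃ (g : R) (h : H), g ∉ p.asIdeal ∧
      (∀ r : R, r • h = 0 → ∃ k : ℕ, g ^ k • r = 0) ∧
      (∀ m : H, ∃ (k : ℕ) (r : R), g ^ k • m = r • h) := by
  classical
  have hfree' : Module.Free (Localization.AtPrime p.asIdeal)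
      (LocalizedModule p.asIdeal.primeCompl H) := hfree
  have hfp : Module.FinitePresentation R H := Module.finitePresentation_of_finite R H
  obtain ⟨l⟩ : Nonempty (LocalizedModule p.asIdeal.primeCompl H
      ≃ₗ[Localization.AtPrime p.asIdeal] Localization.AtPrime p.asIdeal) :=
    FiniteDimensional.nonempty_linearEquiv_of_finrank_eq (by rw [Module.finrank_self]; exact hrank)
  let a : R →ₗ[R] Localization.AtPrime p.asIdeal := Algebra.linearMap R _
  let b : H →ₗ[R] LocalizedModule p.asIdeal.primeCompl H :=
    LocalizedModule.mkLinearMap p.asIdeal.primeCompl H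
  obtain ⟨⟨h, s⟩, hb⟩ := IsLocalizedModule.surj p.asIdeal.primeCompl b (l.symm 1)
  let ψ : R →ₗ[R] H := LinearMap.toSpanSingleton R H h
  have hu : IsUnit (algebraMap R (Localization.AtPrime p.asIdeal) (s : R)) :=
    IsLocalization.map_units _ s
  let Ψ : Localization.AtPrime p.asIdeal →ₗ[R] LocalizedModule p.asIdeal.primeCompl H :=
    (l.symm.toLinearMap.restrictScalars R).comp
      (LinearMap.mulRight R (algebraMap R (Localization.AtPrime p.asIdeal) (s : R)))
  have hΨ : IsLocalizedModule.map p.asIdeal.primeCompl a b ψ = Ψ := by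
    apply IsLocalizedModule.linearMap_ext p.asIdeal.primeCompl a b
    ext
    rw [LinearMap.comp_apply, LinearMap.comp_apply, IsLocalizedModule.map_apply]
    have e1 : ψ 1 = h := by simp [ψ]
    have e2 : Ψ (a 1) = (algebraMap R (Localization.AtPrime p.asIdeal) (s : R)) • l.symm 1 := by
      simp only [Ψ, a, LinearMap.comp_apply, LinearMap.mulRight_apply, Algebra.linearMap_apply,
        map_one, one_mul, LinearMap.coe_restrictScalars, LinearEquiv.coe_coe]
      rw [← map_smul, smul_eq_mul, mul_one]
    rw [e1, e2, algebraMap_smul]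
    exact hb.symm
  have hbij : Function.Bijective (IsLocalizedModule.map p.asIdeal.primeCompl a b ψ) := by
    rw [hΨ]
    have hm : Function.Bijective (LinearMap.mulRight R
        (algebraMap R (Localization.AtPrime p.asIdeal) (s : R))) := by
      constructor
      · intro x y hxy
        simp only [LinearMap.mulRight_apply] at hxy
        exact hu.mul_left_injective hxy
      · intro y
        obtain ⟨v, hv⟩ := hu
        refine ⟨y * ↑v⁻¹, ?_⟩
        simp only [LinearMap.mulRight_apply, ← hv, mul_assoc, Units.inv_mul, mul_one]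
    exact l.symm.bijective.comp hm
  obtain ⟨g, hg, h1, h2⟩ := Groth.Agent.Lib.Helper49.exists_of_map_bijective ψ p.asIdeal a b hbij
  refine ⟨g, h, hg, ?_, ?_⟩
  · intro r hr
    exact h1 r (by simpa [ψ] using hr)
  · intro m
    obtain ⟨k, r, hr⟩ := h2 m
    exact ⟨k, r, by simpa [ψ] using hr⟩

/-- a finite module whose support avoids `D(g)` is killed by a power of `g`. -/
theorem exists_pow_smul_eq_zero_of_support {R : Type u} [CommRing R] (H : Type u)
    [AddCommGroup H] [Module R H] [Module.Finite R H] (g : R)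
    (hg : ∀ q : PrimeSpectrum R, g ∉ q.asIdeal → q ∉ Module.support R H) :
    ∃ k : ℕ, ∀ m : H, g ^ k • m = 0 := by
  have h1 : g ∈ (Module.annihilator R H).radical := by
    rw [← PrimeSpectrum.vanishingIdeal_zeroLocus_eq_radical, PrimeSpectrum.mem_vanishingIdeal]
    intro q hq
    by_contra hgq
    apply hg q hgq
    rw [Module.support_eq_zeroLocus]
    exact hq
  obtain ⟨k, hk⟩ := h1
  exact ⟨k, fun m => Module.mem_annihilator.mp hk m⟩

end Ring

section Sheaf

open Groth.Agent.Lib.Helper45 Groth.Agent.Lib.Helper49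

variable {X : Scheme.{u}}

/-- a quasi-coherent module with a section over an affine `U` generating it freely after inverting
`g` is isomorphic to the structure sheaf on `D(g)`. -/
theorem nonempty_restrict_basicOpen_iso_unit {U : X.Opens} (hU : IsAffineOpen U) (F : X.Modules)
    [F.IsQuasicoherent] (g : Γ(X, U)) (h : Γ(F, U))
    (h1 : ∀ r : Γ(X, U), r • h = 0 → ∃ k : ℕ, g ^ k • r = 0)
    (h2 : ∀ m : Γ(F, U), ∃ (k : ℕ) (r : Γ(X, U)), g ^ k • m = r • h) :
    Nonempty (F.restrict (X.basicOpen g).ι ≅ Coh.structureModule (X.basicOpen g : Scheme.{u})) := by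
  have hU' : IsAffineOpen (X.basicOpen g) := hU.basicOpen g
  have hF := isLocalizingOn_of_isQuasicoherent hU F
  have hO := isLocalizingOn_of_isQuasicoherent hU (Coh.structureModule X)
  let i := homOfLE (X.basicOpen_le g)
  let h' : Γ(F, X.basicOpen g) := F.presheaf.map i.op h
  let u : Γ(X, X.basicOpen g) := X.presheaf.map i.op g
  have hu : IsUnit u := RingedSpace.isUnit_res_basicOpen _ g
  let T : Γ(X, X.basicOpen g) →ₗ[Γ(X, X.basicOpen g)] Γ(F, X.basicOpen g) :=
    LinearMap.toSpanSingleton _ _ h'
  have hres : ∀ (r : Γ(X, U)) (m : Γ(F, U)),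
      F.presheaf.map i.op (r • m) = X.presheaf.map i.op r • F.presheaf.map i.op m :=
    fun r m => Scheme.Modules.map_smul _ _ _ _
  have hT : Function.Bijective T := by
    constructor
    · rw [injective_iff_map_eq_zero]
      intro r' hr'
      have hr'' : r' • h' = 0 := hr'
      obtain ⟨n, t0, ht⟩ := hO.exists_restrict_eq_pow_smul g r'
      obtain ⟨t, rfl⟩ : ∃ t : Γ(X, U), t = t0 := ⟨t0, rfl⟩
      have ht' : X.presheaf.map i.op t = u ^ n * r' := ht
      have e1 : F.presheaf.map i.op (t • h) = 0 := by
        rw [hres, ht', mul_smul, hr'', smul_zero]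
      obtain ⟨n', hn'⟩ := hF.exists_pow_smul_eq_zero g (t • h) e1
      rw [← mul_smul] at hn'
      obtain ⟨k, hk⟩ := h1 _ hn'
      have e2 : u ^ k * (u ^ n' * (u ^ n * r')) = 0 := by
        rw [← ht']
        have := congrArg (X.presheaf.map i.op) hk
        simpa [u, smul_eq_mul] using this
      have hu3 : IsUnit (u ^ k * (u ^ n' * u ^ n)) := (hu.pow k).mul ((hu.pow n').mul (hu.pow n))
      have e3 : (u ^ k * (u ^ n' * u ^ n)) * r' = 0 := by
        rw [← e2]; ring
      exact (hu3.mul_right_eq_zero).mp e3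
    · intro m'
      obtain ⟨n, t, ht⟩ := hF.exists_restrict_eq_pow_smul g m'
      obtain ⟨k, r, hr⟩ := h2 t
      have e1 : u ^ k • (u ^ n • m') = X.presheaf.map i.op r • h' := by
        rw [← ht]
        have := congrArg (F.presheaf.map i.op) hr
        rw [hres, hres, map_pow] at this
        exact this
      obtain ⟨v, hv⟩ := (hu.pow k).mul (hu.pow n)
      refine ⟨↑v⁻¹ * X.presheaf.map i.op r, ?_⟩
      change (↑v⁻¹ * X.presheaf.map i.op r) • h' = m'
      rw [mul_smul, ← e1, ← mul_smul, ← mul_smul, mul_assoc, ← hv, Units.inv_mul, one_smul]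
  let e : Γ(F, X.basicOpen g) ≃ₗ[Γ(X, X.basicOpen g)] Γ(Coh.structureModule X, X.basicOpen g) :=
    (LinearEquiv.ofBijective T hT).symm
  obtain ⟨φ, -⟩ := exists_iso_restrict_of_linearEquiv hU' F (Coh.structureModule X) e
  exact ⟨φ ≪≫ Scheme.Modules.restrictUnitIso (X.basicOpen g).ι⟩

/-- a quasi-coherent module whose sections over an affine `U` are killed by powers of `g`
vanishes on `D(g)`. -/
theorem isZero_restrict_basicOpen {U : X.Opens} (hU : IsAffineOpen U) (F : X.Modules)
    [F.IsQuasicoherent] (g : Γ(X, U)) (h : ∀ m : Γ(F, U), ∃ n : ℕ, g ^ n • m = 0) :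
    IsZero (F.restrict (X.basicOpen g).ι) :=
  isZero_restrict_of_stalk (M := F) (U := X.basicOpen g) fun y hy =>
    subsingleton_stalk_of_forall_pow_smul (M := F) hU g h y hy

end Sheaf

section Derived

open DerivedCategory

variable {C : Type u} [Category.{v} C] [Abelian C] [HasDerivedCategory.{w} C]

/-- an object concentrated in degree `n` is the single object of its `n`-th cohomology. -/
lemma nonempty_iso_single_gen (Y : DerivedCategory C) (n : ℤ) [Y.IsGE n] [Y.IsLE n] (N : C)
    (e : (DerivedCategory.homologyFunctor C n).obj Y ≅ N) :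
    Nonempty (Y ≅ (DerivedCategory.singleFunctor C n).obj N) := by
  obtain ⟨H, ⟨e0⟩⟩ := exists_iso_singleFunctor_obj_of_isGE_of_isLE Y n
  let i1 : H ≅ (homologyFunctor C n).obj Y :=
    ((DerivedCategory.singleFunctorCompHomologyFunctorIso C n).app H).symm ≪≫
      (homologyFunctor C n).mapIso e0.symm
  exact ⟨e0 ≪≫ (DerivedCategory.singleFunctor C n).mapIso (i1 ≪≫ e)⟩

lemma isZero_homology_single_shift (M : C) (m i : ℤ) (hi : i + m ≠ 0) :
    IsZero ((homologyFunctor C i).obj (((singleFunctor C 0).obj M)⟦m⟧)) := by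
  let e : (homologyFunctor C i).obj (((singleFunctor C 0).obj M)⟦m⟧) ≅
      (homologyFunctor C (i + m)).obj ((singleFunctor C 0).obj M) :=
    ((homologyFunctor C 0).shiftIso m i (i + m) (add_comm m i)).app _
  refine IsZero.of_iso ?_ e
  rcases lt_or_gt_of_ne hi with h | h
  · exact DerivedCategory.isZero_of_isGE _ 0 _ h
  · exact DerivedCategory.isZero_of_isLE _ 0 _ h

/-- `H^i(M[0][m]) ≅ M` for `i + m = 0`. -/
noncomputable def homologySingleShiftIso (M : C) (m i : ℤ) (hi : i + m = 0) :
    (homologyFunctor C i).obj (((singleFunctor C 0).obj M)⟦m⟧) ≅ M :=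
  ((homologyFunctor C 0).shiftIso m i 0 (by omega)).app _ ≪≫
    (DerivedCategory.singleFunctorCompHomologyFunctorIso C 0).app M

/-- `M[0][-n] ≅ M[n]` (single in degree `n`). -/
noncomputable def singleShiftIso (M : C) (n : ℤ) :
    ((singleFunctor C 0).obj M)⟦-n⟧ ≅ (singleFunctor C n).obj M :=
  ((DerivedCategory.singleFunctors C).shiftIso (-n) n 0 (by omega)).app M

end Derived

end Groth.Agent.Lib.Helper60.SchDual
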