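import Groth.Agent.Lib.Helper6.CMChar
import Groth.Agent.Lib.Helper6.NormDual2
import Groth.Agent.Lib.Helper29.DepthCM2

/-!
# The range of nonvanishing of localized `Ext^t(M, ω)` (helper60, on top of helper6's libs)

For a dualizing complex `ω` over a Noetherian ring `A`, a prime `p` with `δ(p) = d`, and a finite
module `M` with `M_p ≠ 0`, `depth M_p = k`, `dim M_p = n`:

* `loc_ext_range` : `(Ext^t(M, ω))_p ≠ 0` implies `-d - n ≤ t ≤ -d - k`;
* `loc_ext_nontrivial_depth`, `loc_ext_nontrivial_dim` : both ends are attained.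
-/

set_option autoImplicit false
set_option linter.unusedSectionVars false
universe u
open CategoryTheory CategoryTheory.Limits DerivedCategory Pretriangulated
attribute [local instance] HasDerivedCategory.standard

namespace Groth.Agent.Lib.Helper60.SkDual

open Groth.Agent.Lib.Helper6 Groth.Agent.Lib.Helper6.LocDual

variable {A : Type u} [CommRing A] [IsNoetherianRing A]
  (ω : Dual.D A) (hω : Dual.IsDualizing A ω) (p : Ideal A) [p.IsPrime] (d : ℤ)
  (hd : ∀ i : ℤ, Nontrivial (LocalizedModule p.primeCompl (Dual.inD A (A ⧸ p) ⟶ ω⟦i⟧)) ↔ i = -d)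
  (M : Type u) [AddCommGroup M] [Module A M] [Module.Finite A M]

include hω hd

/-- if `M_p = 0` then all localized Ext vanish. -/
theorem loc_ext_subsingleton_of_subsingleton [Subsingleton (LocalizedModule p.primeCompl M)]
    (t : ℤ) : Subsingleton (LocalizedModule p.primeCompl (Dual.inD A M ⟶ ω⟦t⟧)) := by
  obtain ⟨e⟩ := DualShift.nonempty_locHomEquiv_shift ω hω p d M t (t + d) rfl
  have := NormDual.subsingleton_hom_of_subsingleton (A := Localization.AtPrime p)
    (LocalizedModule p.primeCompl M) (((Gat p ω)⟦-d⟧)⟦t + d⟧)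
  exact e.subsingleton

theorem loc_ext_subsingleton_of_lt [Nontrivial (LocalizedModule p.primeCompl M)] (n : ℕ)
    (hn : Module.supportDim (Localization.AtPrime p) (LocalizedModule p.primeCompl M) = n)
    (t : ℤ) (ht : t < -d - n) :
    Subsingleton (LocalizedModule p.primeCompl (Dual.inD A M ⟶ ω⟦t⟧)) := by
  have hNB : IsNoetherianRing (Localization.AtPrime p) :=
    IsLocalization.isNoetherianRing p.primeCompl (Localization.AtPrime p) inferInstance
  obtain ⟨e⟩ := DualShift.nonempty_locHomEquiv_shift ω hω p d M t (t + d) rfl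
  have hlt : Module.supportDim (Localization.AtPrime p) (LocalizedModule p.primeCompl M) <
      ((n + 1 : ℕ) : WithBot ℕ∞) := by
    rw [hn]
    exact_mod_cast Nat.lt_succ_self n
  have := NormDual.vanishing_below_dim ((Gat p ω)⟦-d⟧)
    (DualShift.isDualizing_Gat_shift ω hω p d hd) (DualShift.isNormalized_Gat_shift ω hω p d hd)
    (n + 1) (LocalizedModule p.primeCompl M) hlt (t + d) (by push_cast; omega)
  exact e.subsingleton

theorem loc_ext_nontrivial_dim [Nontrivial (LocalizedModule p.primeCompl M)] (n : ℕ)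
    (hn : Module.supportDim (Localization.AtPrime p) (LocalizedModule p.primeCompl M) = n) :
    Nontrivial (LocalizedModule p.primeCompl (Dual.inD A M ⟶ ω⟦-d - (n : ℤ)⟧)) := by
  have hNB : IsNoetherianRing (Localization.AtPrime p) :=
    IsLocalization.isNoetherianRing p.primeCompl (Localization.AtPrime p) inferInstance
  obtain ⟨e⟩ := DualShift.nonempty_locHomEquiv_shift ω hω p d M (-d - (n : ℤ)) (-(n : ℤ)) (by omega)
  have hnt : Nontrivial (Dual.inD (Localization.AtPrime p) (LocalizedModule p.primeCompl M) ⟶
      ((Gat p ω)⟦-d⟧)⟦-(n : ℤ)⟧) :=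
    CMChar.nontrivial_hom_supportDim ((Gat p ω)⟦-d⟧)
      (DualShift.isDualizing_Gat_shift ω hω p d hd) (DualShift.isNormalized_Gat_shift ω hω p d hd)
      (LocalizedModule p.primeCompl M) n hn
  exact e.nontrivial

theorem loc_ext_nontrivial_depth [Nontrivial (LocalizedModule p.primeCompl M)] (k : ℕ)
    (hk : LocCoh.depth (Localization.AtPrime p) (LocalizedModule p.primeCompl M) = k) :
    Nontrivial (LocalizedModule p.primeCompl (Dual.inD A M ⟶ ω⟦-d - (k : ℤ)⟧)) :=
  ((DualShift.depth_localization_eq_iff ω hω p d hd M k).1 hk).2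

/-- the range of nonvanishing. -/
theorem loc_ext_range [Nontrivial (LocalizedModule p.primeCompl M)] (n k : ℕ)
    (hn : Module.supportDim (Localization.AtPrime p) (LocalizedModule p.primeCompl M) = n)
    (hk : LocCoh.depth (Localization.AtPrime p) (LocalizedModule p.primeCompl M) = k)
    (t : ℤ) (ht : Nontrivial (LocalizedModule p.primeCompl (Dual.inD A M ⟶ ω⟦t⟧))) :
    -d - n ≤ t ∧ t ≤ -d - k := by
  constructor
  · by_contra hcon
    have := loc_ext_subsingleton_of_lt ω hω p d hd M n hn t (by omega)
    exact not_subsingleton _ this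
  · by_contra hcon
    rw [not_le] at hcon
    by_cases hgt : -d < t
    · have := DualShift.subsingleton_loc_hom_of_gt ω hω p d hd M t hgt
      exact not_subsingleton _ this
    · rw [not_lt] at hgt
      obtain ⟨j, hj⟩ : ∃ j : ℕ, t = -d - (j : ℤ) := ⟨(-d - t).toNat, by omega⟩
      have hjk : j < k := by omega
      have := ((DualShift.depth_localization_eq_iff ω hω p d hd M k).1 hk).1 j hjk
      rw [← hj] at this
      exact not_subsingleton _ this

end Groth.Agent.Lib.Helper60.SkDual
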