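import Groth.Agent.Lib.Helper60.SkDual1
import Groth.Agent.Lib.Helper29.SuppDim
import Groth.Prelude.Def_EGA4b

/-!
# Equidimensional modules and the dimension function of a normalized dualizing complex (helper60)

* `supportDim_le_of_forall` : `dim Supp E ≤ m` as soon as `dim A/p ≤ m` for all `p ∈ Supp E`;
* `dim_add_eq` : over a local ring with normalized dualizing complex, an equidimensional finite module
  `M` of dimension `δ` has `dim A/p + dim M_p = δ` for all `p ∈ Supp M`.
-/

set_option autoImplicit false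
set_option linter.unusedSectionVars false
universe u v
open CategoryTheory CategoryTheory.Limits DerivedCategory Pretriangulated
attribute [local instance] HasDerivedCategory.standard

namespace Groth.Agent.Lib.Helper60.SkDual

open Groth.Agent.Lib.Helper6 Groth.Agent.Lib.Helper6.LocDual

theorem supportDim_le_of_forall {A : Type u} [CommRing A] {E : Type v} [AddCommGroup E]
    [Module A E] (m : WithBot ℕ∞)
    (h : ∀ p ∈ Module.support A E, ringKrullDim (A ⧸ p.asIdeal) ≤ m) :
    Module.supportDim A E ≤ m := by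
  refine iSup_le_iff.mpr (fun c => ?_)
  let c' : LTSeries (PrimeSpectrum A) :=
    { length := c.length
      toFun := fun i => (c i).1
      step := fun i => c.step i }
  have h1 : ((c.length : ℕ∞) : WithBot ℕ∞) ≤ ringKrullDim (A ⧸ c.head.1.asIdeal) :=
    Groth.Agent.Lib.Helper29.length_le_ringKrullDim_quotient c.head.1 c' le_rfl
  exact h1.trans (h c.head.1 c.head.2)

variable {A : Type u} [CommRing A] [IsNoetherianRing A] [IsLocalRing A]
  (ω : Dual.D A) (hω : Dual.IsDualizing A ω) (hn : Dual.IsNormalized A ω)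
  (M : Type u) [AddCommGroup M] [Module A M] [Module.Finite A M]

include hω hn

theorem dim_add_eq (hM : EGA4.IsEquidimModule A M) (δ : ℕ) (hδ : Module.supportDim A M = δ)
    (p : PrimeSpectrum A) (hp : p ∈ Module.support A M) (d n : ℕ)
    (hd : ringKrullDim (A ⧸ p.asIdeal) = d)
    (hn' : Module.supportDim (Localization.AtPrime p.asIdeal)
      (LocalizedModule p.asIdeal.primeCompl M) = n) : d + n = δ := by
  have hnt : Nontrivial (LocalizedModule p.asIdeal.primeCompl M) := Module.mem_support_iff.1 hp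
  obtain ⟨d', hd', hdfun⟩ := CMChar.exists_dimFun_local ω hω hn p
  have hdd : d' = d := by
    have : ((d' : ℕ) : WithBot ℕ∞) = (d : WithBot ℕ∞) := hd'.symm.trans hd
    exact_mod_cast this
  subst hdd
  apply le_antisymm
  · -- `E^{-d-n}_p ≠ 0`, so `E^{-d-n} ≠ 0`, so `-d-n ≥ -δ`.
    have h1 := loc_ext_nontrivial_dim ω hω p.asIdeal d' hdfun M n hn'
    by_contra hcon
    rw [not_le] at hcon
    have hlt : Module.supportDim A M < ((δ + 1 : ℕ) : WithBot ℕ∞) := by
      rw [hδ]
      exact_mod_cast Nat.lt_succ_self δ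
    have h2 := NormDual.vanishing_below_dim ω hω hn (δ + 1) M hlt (-(d' : ℤ) - (n : ℤ))
      (by push_cast; omega)
    have h3 := CMChar.subsingleton_localizedModule_of_subsingleton p.asIdeal.primeCompl
      (Dual.inD A M ⟶ ω⟦-(d' : ℤ) - (n : ℤ)⟧)
    exact not_subsingleton _ h3
  · -- a minimal prime `q ≤ p` of the support has `E^{-δ}_q ≠ 0`, hence `E^{-δ}_p ≠ 0`.
    have hann : Module.annihilator A M ≤ p.asIdeal := by
      rw [Module.support_eq_zeroLocus, PrimeSpectrum.mem_zeroLocus, SetLike.coe_subset_coe] at hp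
      exact hp
    obtain ⟨q, hqmin, hqle⟩ := Ideal.exists_minimalPrimes_le hann
    have hqprime : q.IsPrime := hqmin.1.1
    have hqdim : ringKrullDim (A ⧸ q) = δ := (hM q hqmin).trans hδ
    obtain ⟨e, he, hefun⟩ := CMChar.exists_dimFun_local ω hω hn ⟨q, hqprime⟩
    have hed : e = δ := by
      have : ((e : ℕ) : WithBot ℕ∞) = (δ : WithBot ℕ∞) := he.symm.trans hqdim
      exact_mod_cast this
    subst hed
    have hqsupp : (⟨q, hqprime⟩ : PrimeSpectrum A) ∈ Module.support A M := by
      rw [Module.support_eq_zeroLocus, PrimeSpectrum.mem_zeroLocus, SetLike.coe_subset_coe]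
      exact hqmin.1.2
    have hntq : Nontrivial (LocalizedModule q.primeCompl M) := Module.mem_support_iff.1 hqsupp
    have h0 := CMChar.depth_localization_eq_zero_of_minimal M q hqmin
    have h1 := loc_ext_nontrivial_depth ω hω q e hefun M 0 (by rw [h0]; rfl)
    have h2 : (⟨q, hqprime⟩ : PrimeSpectrum A) ∈
        Module.support A (Dual.inD A M ⟶ ω⟦-(e : ℤ) - ((0 : ℕ) : ℤ)⟧) :=
      Module.mem_support_iff.2 h1
    have h3 : p ∈ Module.support A (Dual.inD A M ⟶ ω⟦-(e : ℤ) - ((0 : ℕ) : ℤ)⟧) :=
      Module.mem_support_mono (show (⟨q, hqprime⟩ : PrimeSpectrum A) ≤ p from hqle) h2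
    rw [Module.mem_support_iff] at h3
    by_contra hcon
    rw [not_le] at hcon
    have h4 := loc_ext_subsingleton_of_lt ω hω p.asIdeal d' hdfun M n hn'
      (-(e : ℤ) - ((0 : ℕ) : ℤ)) (by push_cast; omega)
    exact not_subsingleton _ h4

end Groth.Agent.Lib.Helper60.SkDual

namespace Groth.Agent.Lib.Helper60.SkDual

open Groth.Agent.Lib.Helper6 Groth.Agent.Lib.Helper6.LocDual

variable {A : Type u} [CommRing A] [IsNoetherianRing A] [IsLocalRing A]
  (ω : Dual.D A) (hω : Dual.IsDualizing A ω) (hn : Dual.IsNormalized A ω)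
  (M : Type u) [AddCommGroup M] [Module A M] [Module.Finite A M]

include hω hn

/-- all the numerical data at a prime of the support of an equidimensional module. -/
theorem exists_data (hM : EGA4.IsEquidimModule A M) (δ : ℕ) (hδ : Module.supportDim A M = δ)
    (p : PrimeSpectrum A) [hnt : Nontrivial (LocalizedModule p.asIdeal.primeCompl M)] :
    ∃ d n k₀ : ℕ, ringKrullDim (A ⧸ p.asIdeal) = d ∧
      Module.supportDim (Localization.AtPrime p.asIdeal)
        (LocalizedModule p.asIdeal.primeCompl M) = n ∧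
      LocCoh.depth (Localization.AtPrime p.asIdeal)
        (LocalizedModule p.asIdeal.primeCompl M) = k₀ ∧ k₀ ≤ n ∧ d + n = δ ∧
      ∀ i : ℤ, Nontrivial (LocalizedModule p.asIdeal.primeCompl
        (Dual.inD A (A ⧸ p.asIdeal) ⟶ ω⟦i⟧)) ↔ i = -(d : ℤ) := by
  have hNB : IsNoetherianRing (Localization.AtPrime p.asIdeal) :=
    IsLocalization.isNoetherianRing p.asIdeal.primeCompl (Localization.AtPrime p.asIdeal)
      inferInstance
  obtain ⟨d, hd, hdfun⟩ := CMChar.exists_dimFun_local ω hω hn p
  obtain ⟨n, hn'⟩ := Groth.Agent.Lib.Helper29.exists_nat_supportDim_eq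
    (Localization.AtPrime p.asIdeal) (LocalizedModule p.asIdeal.primeCompl M)
  have hne := Groth.Agent.Lib.Helper29.depth_ne_top
    (Localization.AtPrime p.asIdeal) (LocalizedModule p.asIdeal.primeCompl M)
  have hle := Groth.Agent.Lib.Helper29.depth_le_supportDim
    (Localization.AtPrime p.asIdeal) (LocalizedModule p.asIdeal.primeCompl M)
  obtain ⟨k₀, hk₀⟩ : ∃ k₀ : ℕ, LocCoh.depth (Localization.AtPrime p.asIdeal)
      (LocalizedModule p.asIdeal.primeCompl M) = k₀ := by
    lift LocCoh.depth (Localization.AtPrime p.asIdeal)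
      (LocalizedModule p.asIdeal.primeCompl M) to ℕ using hne with k₀ hk₀
    exact ⟨k₀, rfl⟩
  rw [hn', hk₀] at hle
  have hle' : k₀ ≤ n := by exact_mod_cast hle
  exact ⟨d, n, k₀, hd, hn', hk₀, hle',
    dim_add_eq ω hω hn M hM δ hδ p (Module.mem_support_iff.2 hnt) d n hd hn', hdfun⟩

end Groth.Agent.Lib.Helper60.SkDual
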