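import Groth.Agent.Lib.Helper60.SkDual1
import Groth.Agent.Lib.Helper29.SkOpen
import Groth.Agent.Lib.Helper6.InjDimMax3
import Mathlib.RingTheory.Spectrum.Prime.Module

/-!
# Openness of the codepth loci in the presence of a dualizing complex (helper60)

`isOpen_codepth` : `{P | dim M_P ≤ depth M_P + j}` is open: its complement is the finite union of the
closed sets `Supp E^t ∩ Supp E^{t'}` with `t' - t > j`, `E^t = Ext^t(M, ω)`.
-/

set_option autoImplicit false
set_option linter.unusedSectionVars false
universe u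
open CategoryTheory CategoryTheory.Limits DerivedCategory Pretriangulated
attribute [local instance] HasDerivedCategory.standard

namespace Groth.Agent.Lib.Helper60.SkDual

open Groth.Agent.Lib.Helper6 Groth.Agent.Lib.Helper6.LocDual

variable {A : Type u} [CommRing A] [IsNoetherianRing A]
  (ω : Dual.D A) (hω : Dual.IsDualizing A ω)
  (M : Type u) [AddCommGroup M] [Module A M] [Module.Finite A M]

include hω

theorem isOpen_codepth (j : ℕ) : IsOpen {P : PrimeSpectrum A |
      Module.supportDim (Localization.AtPrime P.asIdeal)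
          (LocalizedModule P.asIdeal.primeCompl M) ≤
        ((LocCoh.depth (Localization.AtPrime P.asIdeal)
          (LocalizedModule P.asIdeal.primeCompl M) : ℕ∞) : WithBot ℕ∞) + j} := by
  classical
  obtain ⟨δ, hδ1, -⟩ := Groth.Agent.S1722.result A ω hω
  obtain ⟨a, b, hge, hle, hab⟩ := HomBC.isDualizing_bounds hω
  have hfin : ∀ t : ℤ, Module.Finite A (Dual.inD A M ⟶ ω⟦t⟧) := fun t =>
    InjDimMax.finite_hom_inD_of_bounded M ω a b hω.finite_cohomology t
  have hmemIcc : ∀ (t : ℤ) (P : PrimeSpectrum A),
      Nontrivial (LocalizedModule P.asIdeal.primeCompl (Dual.inD A M ⟶ ω⟦t⟧)) →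
      t ∈ Finset.Icc a b := by
    intro t P hP
    rw [Finset.mem_Icc]
    by_contra hcon
    have h1 : t < a ∨ b < t := by omega
    have h2 := hab M t h1
    have h3 := CMChar.subsingleton_localizedModule_of_subsingleton P.asIdeal.primeCompl
      (Dual.inD A M ⟶ ω⟦t⟧)
    exact not_subsingleton _ h3
  rw [← isClosed_compl_iff]
  have hset : {P : PrimeSpectrum A |
      Module.supportDim (Localization.AtPrime P.asIdeal)
          (LocalizedModule P.asIdeal.primeCompl M) ≤
        ((LocCoh.depth (Localization.AtPrime P.asIdeal)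
          (LocalizedModule P.asIdeal.primeCompl M) : ℕ∞) : WithBot ℕ∞) + j}ᶜ =
      ⋃ x ∈ ((Finset.Icc a b ×ˢ Finset.Icc a b).filter (fun x : ℤ × ℤ => (j : ℤ) < x.2 - x.1)),
        (Module.support A (Dual.inD A M ⟶ ω⟦x.1⟧) ∩
          Module.support A (Dual.inD A M ⟶ ω⟦x.2⟧)) := by
    ext P
    have hNB : IsNoetherianRing (Localization.AtPrime P.asIdeal) :=
      IsLocalization.isNoetherianRing P.asIdeal.primeCompl (Localization.AtPrime P.asIdeal)
        inferInstance
    simp only [Set.mem_compl_iff, Set.mem_ofPred_eq, Set.mem_iUnion, Set.mem_inter_iff,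
      Finset.mem_filter, Finset.mem_product, exists_prop]
    constructor
    · intro hP
      have hnt : Nontrivial (LocalizedModule P.asIdeal.primeCompl M) := by
        by_contra hcon
        rw [not_nontrivial_iff_subsingleton] at hcon
        apply hP
        rw [Module.supportDim_eq_bot_of_subsingleton]
        exact bot_le
      obtain ⟨n, hn⟩ := Groth.Agent.Lib.Helper29.exists_nat_supportDim_eq
        (Localization.AtPrime P.asIdeal) (LocalizedModule P.asIdeal.primeCompl M)
      have hne := Groth.Agent.Lib.Helper29.depth_ne_top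
        (Localization.AtPrime P.asIdeal) (LocalizedModule P.asIdeal.primeCompl M)
      obtain ⟨k₀, hk₀⟩ : ∃ k₀ : ℕ, LocCoh.depth (Localization.AtPrime P.asIdeal)
          (LocalizedModule P.asIdeal.primeCompl M) = k₀ := by
        lift LocCoh.depth (Localization.AtPrime P.asIdeal)
          (LocalizedModule P.asIdeal.primeCompl M) to ℕ using hne with k₀ hk₀
        exact ⟨k₀, rfl⟩
      rw [hn, hk₀] at hP
      have hP' : ¬ n ≤ k₀ + j := by
        intro h
        apply hP
        exact_mod_cast h
      have h1 := loc_ext_nontrivial_dim ω hω P.asIdeal (δ P) (hδ1 P) M n hn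
      have h2 := loc_ext_nontrivial_depth ω hω P.asIdeal (δ P) (hδ1 P) M k₀ hk₀
      refine ⟨(-(δ P) - (n : ℤ), -(δ P) - (k₀ : ℤ)),
        ⟨⟨hmemIcc _ P h1, hmemIcc _ P h2⟩, ?_⟩,
        Module.mem_support_iff.2 h1, Module.mem_support_iff.2 h2⟩
      show (j : ℤ) < (-(δ P) - (k₀ : ℤ)) - (-(δ P) - (n : ℤ))
      omega
    · rintro ⟨⟨t, t'⟩, ⟨-, hjt⟩, ht, ht'⟩ hP
      rw [Module.mem_support_iff] at ht ht'
      have hnt : Nontrivial (LocalizedModule P.asIdeal.primeCompl M) := by
        by_contra hcon
        rw [not_nontrivial_iff_subsingleton] at hcon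
        have := loc_ext_subsingleton_of_subsingleton ω hω P.asIdeal (δ P) (hδ1 P) M t
        exact not_subsingleton _ this
      obtain ⟨n, hn⟩ := Groth.Agent.Lib.Helper29.exists_nat_supportDim_eq
        (Localization.AtPrime P.asIdeal) (LocalizedModule P.asIdeal.primeCompl M)
      have hne := Groth.Agent.Lib.Helper29.depth_ne_top
        (Localization.AtPrime P.asIdeal) (LocalizedModule P.asIdeal.primeCompl M)
      obtain ⟨k₀, hk₀⟩ : ∃ k₀ : ℕ, LocCoh.depth (Localization.AtPrime P.asIdeal)
          (LocalizedModule P.asIdeal.primeCompl M) = k₀ := by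
        lift LocCoh.depth (Localization.AtPrime P.asIdeal)
          (LocalizedModule P.asIdeal.primeCompl M) to ℕ using hne with k₀ hk₀
        exact ⟨k₀, rfl⟩
      rw [hn, hk₀] at hP
      have hP' : n ≤ k₀ + j := by exact_mod_cast hP
      have h1 := loc_ext_range ω hω P.asIdeal (δ P) (hδ1 P) M n k₀ hn hk₀ t ht
      have h2 := loc_ext_range ω hω P.asIdeal (δ P) (hδ1 P) M n k₀ hn hk₀ t' ht'
      simp only at hjt
      omega
  rw [hset]
  refine isClosed_biUnion_finset (fun x _ => ?_)
  have := hfin x.1
  have := hfin x.2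
  exact (Module.isClosed_support).inter (Module.isClosed_support)

/-- **Openness of the `(S_k)` locus** for a finite module over a Noetherian ring with a dualizing
complex. -/
theorem isOpen_setOf_hasSkAt (k : ℕ) :
    IsOpen {p : PrimeSpectrum A | EGA4.HasSkAt k A M p.asIdeal} :=
  Groth.Agent.Lib.Helper29.isOpen_setOf_hasSkAt_of_isOpen_codepth A M
    (fun j => isOpen_codepth ω hω M j) k

end Groth.Agent.Lib.Helper60.SkDual
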