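import Groth.Agent.Lib.Helper60.SkDual2

/-!
# Global dimension function of a dualizing complex normalized at all maximal ideals (helper60)

* `eq_coheight_of_isMax` : a dimension function vanishing at the maximal elements is the coheight;
* `exists_dimFun_global` : `δ(p) = dim A/p` if `ω` is normalized at every maximal ideal and `dim A < ∞`;
* `dim_add_eq_global`, `exists_data_global` : for an equidimensional finite module;
* `core` lemmas: abstract form of the `(S_k)` criterion (both directions), given the numerical data.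
-/

set_option autoImplicit false
set_option linter.unusedSectionVars false
universe u v
open CategoryTheory CategoryTheory.Limits DerivedCategory Pretriangulated
attribute [local instance] HasDerivedCategory.standard

namespace Groth.Agent.Lib.Helper60.SkDual

open Groth.Agent.Lib.Helper6 Groth.Agent.Lib.Helper6.LocDual

theorem eq_coheight_of_isMax {α : Type*} [PartialOrder α] (δ : α → ℤ)
    (hδ : ∀ p q : α, p ⋖ q → δ p = δ q + 1) (hmax : ∀ m : α, IsMax m → δ m = 0) :
    ∀ (n : ℕ) (p : α), Order.coheight p = n → δ p = n := by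
  intro n
  induction n with
  | zero =>
    intro p hp
    have h0 : Order.coheight p = 0 := by simpa using hp
    rw [Order.coheight_eq_zero] at h0
    rw [hmax p h0]
    simp
  | succ n ih =>
    intro p hp
    have hp' : Order.coheight p = (n : ℕ∞) + 1 := by simpa using hp
    rw [Order.coheight_eq_coe_add_one_iff] at hp'
    obtain ⟨-, ⟨y, hy, hyn⟩, hall⟩ := hp'
    have hcov : p ⋖ y := by
      refine ⟨hy, fun r hpr hry => ?_⟩
      have h1 := hall r hpr
      have h2 := Order.coheight_add_one_le hry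
      rw [hyn] at h2
      have h3 : ((n : ℕ∞) + 1) ≤ n := h2.trans h1
      have h4 : ((n + 1 : ℕ) : ℕ∞) ≤ (n : ℕ∞) := by exact_mod_cast h3
      have h5 : n + 1 ≤ n := by exact_mod_cast h4
      omega
    rw [hδ p y hcov, ih y hyn]
    push_cast
    ring

section global

variable {A : Type u} [CommRing A] [IsNoetherianRing A]
  (ω : Dual.D A) (hω : Dual.IsDualizing A ω)
  (hnorm : ∀ (m : Ideal A) (_ : m.IsMaximal) (i : ℤ), i ≠ 0 →
    Subsingleton (Dual.inD A (A ⧸ m) ⟶ ω⟦i⟧))
  (N : ℕ) (hN : ringKrullDim A ≤ N)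
  (M : Type u) [AddCommGroup M] [Module A M] [Module.Finite A M]

include hω hnorm hN

theorem exists_dimFun_global (p : PrimeSpectrum A) :
    ∃ d : ℕ, ringKrullDim (A ⧸ p.asIdeal) = d ∧ ∀ i : ℤ,
      Nontrivial (LocalizedModule p.asIdeal.primeCompl
        (Dual.inD A (A ⧸ p.asIdeal) ⟶ ω⟦i⟧)) ↔ i = -(d : ℤ) := by
  classical
  obtain ⟨δ, hδ1, hδ2⟩ := Groth.Agent.S1722.result A ω hω
  have hmax : ∀ m : PrimeSpectrum A, IsMax m → δ m = 0 := by
    intro m hm
    have hmm : m.asIdeal.IsMaximal := (PrimeSpectrum.isMax_iff).1 hm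
    by_contra hne
    have hnt := (hδ1 m (-δ m)).2 rfl
    have hs : Subsingleton (Dual.inD A (A ⧸ m.asIdeal) ⟶ ω⟦-δ m⟧) :=
      hnorm m.asIdeal hmm (-δ m) (by omega)
    have hs' := CMChar.subsingleton_localizedModule_of_subsingleton m.asIdeal.primeCompl
      (Dual.inD A (A ⧸ m.asIdeal) ⟶ ω⟦-δ m⟧)
    exact not_subsingleton _ hs'
  have hfin : Order.coheight p ≠ ⊤ := by
    intro htop
    have h1 : ((Order.coheight p : ℕ∞) : WithBot ℕ∞) ≤ ringKrullDim A :=
      Order.coheight_le_krullDim p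
    rw [htop] at h1
    have h2 := h1.trans hN
    have h3 : ((⊤ : ℕ∞) : WithBot ℕ∞) ≤ ((N : ℕ∞) : WithBot ℕ∞) := h2
    rw [WithBot.coe_le_coe] at h3
    exact absurd h3 (by simp)
  obtain ⟨d, hd⟩ := ENat.ne_top_iff_exists.1 hfin
  have hδp : δ p = d := eq_coheight_of_isMax δ hδ2 hmax d p hd.symm
  refine ⟨d, ?_, fun i => by rw [hδ1 p i, hδp]⟩
  rw [DimFun.ringKrullDim_quotient_eq_coheight, ← hd]
  rfl

theorem dim_add_eq_global (hM : EGA4.IsEquidimModule A M) (δ : ℕ)
    (hδ : Module.supportDim A M = δ)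
    (p : PrimeSpectrum A) (hp : p ∈ Module.support A M) (d n : ℕ)
    (hd : ringKrullDim (A ⧸ p.asIdeal) = d)
    (hn' : Module.supportDim (Localization.AtPrime p.asIdeal)
      (LocalizedModule p.asIdeal.primeCompl M) = n) : d + n = δ := by
  have hnt : Nontrivial (LocalizedModule p.asIdeal.primeCompl M) := Module.mem_support_iff.1 hp
  obtain ⟨d', hd', hdfun⟩ := exists_dimFun_global ω hω hnorm N hN p
  have hdd : d' = d := by
    have : ((d' : ℕ) : WithBot ℕ∞) = (d : WithBot ℕ∞) := hd'.symm.trans hd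
    exact_mod_cast this
  subst hdd
  apply le_antisymm
  · have h1 := Groth.Agent.Lib.Helper29.supportDim_localizedModule_add_supportDim_quotient_le A M
      p.asIdeal
    rw [Groth.Agent.Lib.Helper29.supportDim_quotient_smul_top_eq_ringKrullDim_quotient M p hp,
      hn', hd, hδ] at h1
    have h2 : n + d' ≤ δ := by exact_mod_cast h1
    omega
  · have hann : Module.annihilator A M ≤ p.asIdeal := by
      rw [Module.support_eq_zeroLocus, PrimeSpectrum.mem_zeroLocus, SetLike.coe_subset_coe] at hp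
      exact hp
    obtain ⟨q, hqmin, hqle⟩ := Ideal.exists_minimalPrimes_le hann
    have hqprime : q.IsPrime := hqmin.1.1
    have hqdim : ringKrullDim (A ⧸ q) = δ := (hM q hqmin).trans hδ
    obtain ⟨e, he, hefun⟩ := exists_dimFun_global ω hω hnorm N hN ⟨q, hqprime⟩
    have hed : e = δ := by
      have : ((e : ℕ) : WithBot ℕ∞) = (δ : WithBot ℕ∞) := he.symm.trans hqdim
      exact_mod_cast this
    subst hed
    have hqsupp : (⟨q, hqprime⟩ : PrimeSpectrum A) ∈ Module.support A M := by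
      rw [Module.support_eq_zeroLocus, PrimeSpectrum.mem_zeroLocus, SetLike.coe_subset_coe]
      exact hqmin.1.2
    have hntq : Nontrivial (LocalizedModule q.primeCompl M) := Module.mem_support_iff.1 hqsupp
    have h0 := CMChar.depth_localization_eq_zero_of_minimal M q hqmin
    have h1 := loc_ext_nontrivial_depth ω hω q e hefun M 0 (by rw [h0]; rfl)
    have h2 : (⟨q, hqprime⟩ : PrimeSpectrum A) ∈
        Module.support A (Dual.inD A M ⟶ ω⟦-(e : ℤ) - ((0 : ℕ) : ℤ)⟧) :=
      Module.mem_support_iff.2 h1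
    have h3 : p ∈ Module.support A (Dual.inD A M ⟶ ω⟦-(e : ℤ) - ((0 : ℕ) : ℤ)⟧) :=
      Module.mem_support_mono (show (⟨q, hqprime⟩ : PrimeSpectrum A) ≤ p from hqle) h2
    rw [Module.mem_support_iff] at h3
    by_contra hcon
    rw [not_le] at hcon
    have h4 := loc_ext_subsingleton_of_lt ω hω p.asIdeal d' hdfun M n hn'
      (-(e : ℤ) - ((0 : ℕ) : ℤ)) (by push_cast; omega)
    exact not_subsingleton _ h4

theorem exists_data_global (hM : EGA4.IsEquidimModule A M) (δ : ℕ)
    (hδ : Module.supportDim A M = δ)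
    (p : PrimeSpectrum A) (hnt : Nontrivial (LocalizedModule p.asIdeal.primeCompl M)) :
    ∃ d n k₀ : ℕ, ringKrullDim (A ⧸ p.asIdeal) = d ∧
      Module.supportDim (Localization.AtPrime p.asIdeal)
        (LocalizedModule p.asIdeal.primeCompl M) = n ∧
      LocCoh.depth (Localization.AtPrime p.asIdeal)
        (LocalizedModule p.asIdeal.primeCompl M) = k₀ ∧ k₀ ≤ n ∧ d + n = δ ∧
      ∀ i : ℤ, Nontrivial (LocalizedModule p.asIdeal.primeCompl
        (Dual.inD A (A ⧸ p.asIdeal) ⟶ ω⟦i⟧)) ↔ i = -(d : ℤ) := by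
  have hNB : IsNoetherianRing (Localization.AtPrime p.asIdeal) :=
    IsLocalization.isNoetherianRing p.asIdeal.primeCompl (Localization.AtPrime p.asIdeal)
      inferInstance
  obtain ⟨d, hd, hdfun⟩ := exists_dimFun_global ω hω hnorm N hN p
  obtain ⟨n, hn'⟩ := Groth.Agent.Lib.Helper29.exists_nat_supportDim_eq
    (Localization.AtPrime p.asIdeal) (LocalizedModule p.asIdeal.primeCompl M)
  have hne := Groth.Agent.Lib.Helper29.depth_ne_top
    (Localization.AtPrime p.asIdeal) (LocalizedModule p.asIdeal.primeCompl M)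
  have hle := Groth.Agent.Lib.Helper29.depth_le_supportDim
    (Localization.AtPrime p.asIdeal) (LocalizedModule p.asIdeal.primeCompl M)
  obtain ⟨k₀, hk₀⟩ : ∃ k₀ : ℕ, LocCoh.depth (Localization.AtPrime p.asIdeal)
      (LocalizedModule p.asIdeal.primeCompl M) = k₀ := by
    lift LocCoh.depth (Localization.AtPrime p.asIdeal)
      (LocalizedModule p.asIdeal.primeCompl M) to ℕ using hne with k₀ hk₀
    exact ⟨k₀, rfl⟩
  rw [hn', hk₀] at hle
  have hle' : k₀ ≤ n := by exact_mod_cast hle
  exact ⟨d, n, k₀, hd, hn', hk₀, hle',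
    dim_add_eq_global ω hω hnorm N hN M hM δ hδ p (Module.mem_support_iff.2 hnt) d n hd hn',
    hdfun⟩

end global

section core

variable {A : Type u} [CommRing A] [IsNoetherianRing A]
  (ω : Dual.D A) (hω : Dual.IsDualizing A ω)
  (M : Type u) [AddCommGroup M] [Module A M] [Module.Finite A M] (δ k : ℕ)
  (hdata : ∀ p : PrimeSpectrum A, Nontrivial (LocalizedModule p.asIdeal.primeCompl M) →
    ∃ d n k₀ : ℕ, ringKrullDim (A ⧸ p.asIdeal) = d ∧
      Module.supportDim (Localization.AtPrime p.asIdeal)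
        (LocalizedModule p.asIdeal.primeCompl M) = n ∧
      LocCoh.depth (Localization.AtPrime p.asIdeal)
        (LocalizedModule p.asIdeal.primeCompl M) = k₀ ∧ k₀ ≤ n ∧ d + n = δ ∧
      ∀ i : ℤ, Nontrivial (LocalizedModule p.asIdeal.primeCompl
        (Dual.inD A (A ⧸ p.asIdeal) ⟶ ω⟦i⟧)) ↔ i = -(d : ℤ))

include hω hdata

theorem nontrivial_of_mem_support (j : ℤ) (p : PrimeSpectrum A)
    (hp : p ∈ Module.support A (Dual.inD A M ⟶ ω⟦j⟧)) :
    Nontrivial (LocalizedModule p.asIdeal.primeCompl M) := by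
  rw [Module.mem_support_iff] at hp
  by_contra hcon
  rw [not_nontrivial_iff_subsingleton] at hcon
  obtain ⟨δ', hδ1, -⟩ := Groth.Agent.S1722.result A ω hω
  have := loc_ext_subsingleton_of_subsingleton ω hω p.asIdeal (δ' p) (hδ1 p) M j
  exact not_subsingleton _ this

/-- `Ext^j(M, ω) = 0` for `j < -δ`. -/
theorem le_of_mem_support (j : ℤ) (p : PrimeSpectrum A)
    (hp : p ∈ Module.support A (Dual.inD A M ⟶ ω⟦j⟧)) : -(δ : ℤ) ≤ j := by
  have hnt := nontrivial_of_mem_support ω hω M δ hdata j p hp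
  rw [Module.mem_support_iff] at hp
  obtain ⟨d, n, k₀, hd, hn', hk₀, hle, hdn, hdfun⟩ := hdata p hnt
  have h1 := loc_ext_range ω hω p.asIdeal d hdfun M n k₀ hn' hk₀ j hp
  have hδ' : (δ : ℤ) = d + n := by exact_mod_cast hdn.symm
  omega

theorem claim_of_hasSk (hSk : LocCoh.HasSk k A M) (j : ℤ) (hj : j ≠ -(δ : ℤ))
    (p : PrimeSpectrum A) (hp : p ∈ Module.support A (Dual.inD A M ⟶ ω⟦j⟧)) :
    ∃ d : ℕ, ringKrullDim (A ⧸ p.asIdeal) = d ∧ (d : ℤ) ≤ -j - (k : ℤ) := by
  have hnt := nontrivial_of_mem_support ω hω M δ hdata j p hp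
  rw [Module.mem_support_iff] at hp
  obtain ⟨d, n, k₀, hd, hn', hk₀, hle, hdn, hdfun⟩ := hdata p hnt
  have h1 := loc_ext_range ω hω p.asIdeal d hdfun M n k₀ hn' hk₀ j hp
  have h3 := hSk p.asIdeal
  rw [hn', hk₀] at h3
  have h4 : min k n ≤ k₀ := by
    rcases min_le_iff.1 h3 with h | h
    · exact min_le_iff.2 (Or.inl (by exact_mod_cast h))
    · exact min_le_iff.2 (Or.inr (by exact_mod_cast h))
  refine ⟨d, hd, ?_⟩
  have hδ' : (δ : ℤ) = d + n := by exact_mod_cast hdn.symm
  omega

theorem hasSk_of_claim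
    (H : ∀ j : ℤ, j ≤ 0 → j ≠ -(δ : ℤ) → ∀ p : PrimeSpectrum A,
      p ∈ Module.support A (Dual.inD A M ⟶ ω⟦j⟧) →
      0 ≤ -j - (k : ℤ) ∧
        ringKrullDim (A ⧸ p.asIdeal) ≤ ((-j - (k : ℤ)).toNat : WithBot ℕ∞)) :
    LocCoh.HasSk k A M := by
  intro p hp
  have hNB : IsNoetherianRing (Localization.AtPrime p) :=
    IsLocalization.isNoetherianRing p.primeCompl (Localization.AtPrime p) inferInstance
  by_cases hnt : Nontrivial (LocalizedModule p.primeCompl M)
  · obtain ⟨d, n, k₀, hd, hn', hk₀, hle, hdn, hdfun⟩ := hdata ⟨p, hp⟩ hnt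
    have hn'' : Module.supportDim (Localization.AtPrime p) (LocalizedModule p.primeCompl M) = n :=
      hn'
    have hk₀' : LocCoh.depth (Localization.AtPrime p) (LocalizedModule p.primeCompl M) = k₀ :=
      hk₀
    rw [hn'', hk₀']
    have hgoal : min k n ≤ k₀ := by
      rcases hle.eq_or_lt with heq | hlt
      · rw [heq]; exact min_le_right _ _
      · have hi := loc_ext_nontrivial_depth ω hω p d hdfun M k₀ hk₀'
        have hδ' : (δ : ℤ) = d + n := by exact_mod_cast hdn.symm
        have hj : -(d : ℤ) - (k₀ : ℤ) ≠ -(δ : ℤ) := by omega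
        have hmem : (⟨p, hp⟩ : PrimeSpectrum A) ∈
            Module.support A (Dual.inD A M ⟶ ω⟦-(d : ℤ) - (k₀ : ℤ)⟧) :=
          Module.mem_support_iff.2 hi
        obtain ⟨H1, H2⟩ := H (-(d : ℤ) - (k₀ : ℤ)) (by omega) hj ⟨p, hp⟩ hmem
        have h5' : ringKrullDim (A ⧸ p) = d := hd
        have H2' : ringKrullDim (A ⧸ p) ≤
            ((-(-(d : ℤ) - (k₀ : ℤ)) - (k : ℤ)).toNat : WithBot ℕ∞) := H2
        rw [h5'] at H2'
        have h6 : d ≤ (-(-(d : ℤ) - (k₀ : ℤ)) - (k : ℤ)).toNat := by exact_mod_cast H2'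
        have : k ≤ k₀ := by omega
        exact (min_le_left _ _).trans this
    rcases min_le_iff.1 hgoal with h | h
    · exact min_le_iff.2 (Or.inl (by exact_mod_cast h))
    · exact min_le_iff.2 (Or.inr (by exact_mod_cast h))
  · rw [not_nontrivial_iff_subsingleton] at hnt
    rw [Module.supportDim_eq_bot_of_subsingleton, min_bot_right]
    exact bot_le

end core

end Groth.Agent.Lib.Helper60.SkDual
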