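import Groth.Agent.Lib.Helper60.SkDual5

/-!
# Dévissage for `Hom(Y, Z)` along the cohomology of a bounded `Y` (helper60)

* `isIso_homology_map_truncGEπ_of_le` : `H^i(Y) → H^i(τ_{≥a}Y)` is an isomorphism for `i ≥ a`;
* `hom_eq_zero_of_homology` : if `Y` is bounded and `Hom(H^i(Y)[-i], Z) = 0` for all `i` then
  `Hom(Y, Z) = 0`.
-/

set_option autoImplicit false
set_option linter.unusedSectionVars false
universe u v
open CategoryTheory CategoryTheory.Limits DerivedCategory Pretriangulated
attribute [local instance] HasDerivedCategory.standard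

namespace Groth.Agent.Lib.Helper60.SkDual

section tri

variable {C : Type u} [Category.{v} C] [Abelian C] [HasDerivedCategory.{max u v} C]

theorem isIso_homology_map_truncGEπ_of_le (Y : DerivedCategory C) (a i : ℤ) (hi : a ≤ i) :
    IsIso ((homologyFunctor C i).map ((TStructure.t.truncGEπ a).app Y)) := by
  have hT := TStructure.t.triangleLTGE_distinguished a Y
  have h1 : TStructure.t.IsLE ((TStructure.t.triangleLTGE a).obj Y).obj₁ (a - 1) := inferInstance
  have hz0 : IsZero ((homologyFunctor C i).obj ((TStructure.t.triangleLTGE a).obj Y).obj₁) :=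
    isZero_of_isLE _ (a - 1) i (by omega)
  have hz1 : IsZero ((homologyFunctor C (i + 1)).obj ((TStructure.t.triangleLTGE a).obj Y).obj₁) :=
    isZero_of_isLE _ (a - 1) (i + 1) (by omega)
  have hmono : Mono ((homologyFunctor C i).map ((TStructure.t.triangleLTGE a).obj Y).mor₂) :=
    (HomologySequence.mono_homologyMap_mor₂_iff _ hT i).mpr (hz0.eq_of_src _ _)
  have hepi : Epi ((homologyFunctor C i).map ((TStructure.t.triangleLTGE a).obj Y).mor₂) :=
    (HomologySequence.epi_homologyMap_mor₂_iff _ hT i (i + 1) rfl).mpr (hz1.eq_of_tgt _ _)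
  exact isIso_of_mono_of_epi ((homologyFunctor C i).map ((TStructure.t.triangleLTGE a).obj Y).mor₂)

/-- Dévissage: a bounded `Y` has no nonzero maps to `Z` as soon as all its cohomology objects
(placed in their degrees) have none. -/
theorem hom_eq_zero_of_homology (Z : DerivedCategory C) :
    ∀ (N : ℕ) (Y : DerivedCategory C) (a b : ℤ), b - a + 1 ≤ (N : ℤ) → Y.IsGE a → Y.IsLE b →
      (∀ (i : ℤ) (H : C), (H ≅ (homologyFunctor C i).obj Y) →
        ∀ f : (singleFunctor C i).obj H ⟶ Z, f = 0) →
      ∀ f : Y ⟶ Z, f = 0 := by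
  intro N
  induction N with
  | zero =>
    intro Y a b hN hGE hLE _ f
    have hzero : IsZero Y := TStructure.t.isZero Y b a (by omega)
    exact hzero.eq_of_src _ _
  | succ N ih =>
    intro Y a b hN hGE hLE hD f
    have hT := TStructure.t.triangleLTGE_distinguished (a + 1) Y
    -- the lowest piece
    have h1LE : TStructure.t.IsLE ((TStructure.t.truncLT (a + 1)).obj Y) a := inferInstance
    have h1GE : TStructure.t.IsGE ((TStructure.t.truncLT (a + 1)).obj Y) a := inferInstance
    obtain ⟨H, ⟨e⟩⟩ := exists_iso_singleFunctor_obj_of_isGE_of_isLE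
      ((TStructure.t.truncLT (a + 1)).obj Y) a
    -- `H ≅ H^a(Y)`
    have hiso1 : IsIso ((homologyFunctor C a).map ((TStructure.t.truncLTι (a + 1)).app Y)) := by
      have h3 : TStructure.t.IsGE ((TStructure.t.triangleLTGE (a + 1)).obj Y).obj₃ (a + 1) :=
        inferInstance
      have hz0 : IsZero ((homologyFunctor C a).obj
          ((TStructure.t.triangleLTGE (a + 1)).obj Y).obj₃) :=
        isZero_of_isGE _ (a + 1) a (by omega)
      have hz1 : IsZero ((homologyFunctor C (a - 1)).obj
          ((TStructure.t.triangleLTGE (a + 1)).obj Y).obj₃) :=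
        isZero_of_isGE _ (a + 1) (a - 1) (by omega)
      have hmono : Mono ((homologyFunctor C a).map
          ((TStructure.t.triangleLTGE (a + 1)).obj Y).mor₁) :=
        (HomologySequence.mono_homologyMap_mor₁_iff _ hT (a - 1) a (by omega)).mpr
          (hz1.eq_of_src _ _)
      have hepi : Epi ((homologyFunctor C a).map
          ((TStructure.t.triangleLTGE (a + 1)).obj Y).mor₁) :=
        (HomologySequence.epi_homologyMap_mor₁_iff _ hT a).mpr (hz0.eq_of_tgt _ _)
      exact isIso_of_mono_of_epi
        ((homologyFunctor C a).map ((TStructure.t.triangleLTGE (a + 1)).obj Y).mor₁)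
    let iH : H ≅ (homologyFunctor C a).obj Y :=
      ((singleFunctorCompHomologyFunctorIso C a).app H).symm ≪≫
      (homologyFunctor C a).mapIso e.symm ≪≫
      asIso ((homologyFunctor C a).map ((TStructure.t.truncLTι (a + 1)).app Y))
    have hlow : (TStructure.t.truncLTι (a + 1)).app Y ≫ f = 0 := by
      have h4 := hD a H iH (e.inv ≫ (TStructure.t.truncLTι (a + 1)).app Y ≫ f)
      rw [← cancel_epi e.inv, h4, comp_zero]
    -- the upper piece
    obtain ⟨g, hg⟩ := Triangle.yoneda_exact₂ _ hT f hlow
    have h2GE : TStructure.t.IsGE ((TStructure.t.truncGE (a + 1)).obj Y) (a + 1) := inferInstance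
    have h2LE : TStructure.t.IsLE ((TStructure.t.truncGE (a + 1)).obj Y) b := inferInstance
    have hg0 : g = 0 := by
      refine ih ((TStructure.t.truncGE (a + 1)).obj Y) (a + 1) b (by push_cast at hN ⊢; omega)
        h2GE h2LE ?_ g
      intro i H' eH' f'
      by_cases hi : a + 1 ≤ i
      · have := isIso_homology_map_truncGEπ_of_le Y (a + 1) i hi
        exact hD i H' (eH' ≪≫ (asIso ((homologyFunctor C i).map
          ((TStructure.t.truncGEπ (a + 1)).app Y))).symm) f'
      · have hz : IsZero ((homologyFunctor C i).obj ((TStructure.t.truncGE (a + 1)).obj Y)) :=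
          isZero_of_isGE _ (a + 1) i (by omega)
        have hH' : IsZero H' := hz.of_iso eH'
        have hs : IsZero ((singleFunctor C i).obj H') :=
          Functor.map_isZero (singleFunctor C i) hH'
        exact hs.eq_of_src _ _
    rw [hg, hg0]
    exact comp_zero

/-- maps out of a module placed in degree `i` into `W[s]` are maps out of the module in degree `0`
into `W[s+i]`. -/
theorem hom_single_eq_zero_of_subsingleton (N : C) (W : DerivedCategory C) (i s σ : ℤ)
    (hσ : s + i = σ)
    (hvan : Subsingleton ((singleFunctor C 0).obj N ⟶ W⟦σ⟧))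
    (f : (singleFunctor C i).obj N ⟶ W⟦s⟧) : f = 0 := by
  let κ : ((singleFunctor C 0).obj N)⟦-i⟧ ≅ (singleFunctor C i).obj N :=
    ((singleFunctors C).shiftIso (-i) i 0 (by omega)).app N
  have h3 : (shiftFunctorCompIsoId (DerivedCategory C) (-i) i (by omega)).inv.app
      ((singleFunctor C 0).obj N) ≫ (κ.hom ≫ f)⟦i⟧' ≫
      (shiftFunctorAdd' (DerivedCategory C) s i σ hσ).inv.app W = 0 :=
    @Subsingleton.elim _ hvan _ _
  have h2 : (κ.hom ≫ f)⟦i⟧' = 0 := by
    have h4 := congrArg (fun g => (shiftFunctorCompIsoId (DerivedCategory C) (-i) i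
      (by omega)).hom.app ((singleFunctor C 0).obj N) ≫ g ≫
      (shiftFunctorAdd' (DerivedCategory C) s i σ hσ).hom.app W) h3
    simpa using h4
  have h1 : κ.hom ≫ f = 0 := by
    apply (shiftFunctor (DerivedCategory C) i).map_injective
    rw [h2, Functor.map_zero]
  rw [← cancel_epi κ.hom, h1, comp_zero]

end tri

end Groth.Agent.Lib.Helper60.SkDual
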