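import Groth.Agent.Lib.Helper60.SkDual6
import Groth.Agent.Lib.Helper29.CatenaryEquidim
import Groth.Agent.Lib.Helper29.DimFunCatenary
import Groth.Agent.Lib.Helper35.TriYoga
import Groth.Agent.S18717

/-!
# `A → End(ω_A)` for `(S_2)` rings with a dualizing complex (helper60)

* `isEquidim_of_hasSk_two` : a Noetherian local ring with a dualizing complex satisfying `(S_2)` is
  equidimensional (Hartshorne's connectedness via helper29);
* `hom_truncGE_eq_zero` : for `A` equidimensional `(S_c)`, `Hom(τ_{>0}(ω[-n]), ω[-n][t]) = 0`, `t ≤ c-1`;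
* `toEnd_bijective`, `subsingleton_ext_one`.
-/

set_option autoImplicit false
set_option linter.unusedSectionVars false
universe u
open CategoryTheory CategoryTheory.Limits DerivedCategory Pretriangulated
attribute [local instance] HasDerivedCategory.standard

namespace Groth.Agent.Lib.Helper60.SkDual

open Groth.Agent.Lib.Helper6 Groth.Agent.Lib.Helper35

variable {A : Type u} [CommRing A] [IsNoetherianRing A] [IsLocalRing A]
  (ω : Dual.D A) (hω : Dual.IsDualizing A ω)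

omit [IsLocalRing A] in
theorem le_depth_self_of_hasSk (k : ℕ) (hSk : LocCoh.HasSk k A A) (q : Ideal A) [q.IsPrime]
    (hq : (k : ℕ∞) ≤ q.height) :
    (k : ℕ∞) ≤ LocCoh.depth (Localization.AtPrime q) (Localization.AtPrime q) := by
  have h1 := hSk q
  rw [Groth.Agent.Lib.Helper29.supportDim_localizedModule_self,
    Groth.Agent.Lib.Helper29.depth_localizedModule_self] at h1
  have h3 : min (k : WithBot ℕ∞) ((q.height : ℕ∞) : WithBot ℕ∞) = (k : WithBot ℕ∞) := by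
    apply min_eq_left
    exact_mod_cast hq
  rw [h3] at h1
  exact_mod_cast h1

include hω in
theorem isEquidim_of_hasSk_two (hS2 : LocCoh.HasSk 2 A A) : EGA4.IsEquidim A := by
  obtain ⟨δ, -, hδ⟩ := Groth.Agent.S1722.result A ω hω
  have hc := Groth.Agent.Lib.Helper29.isCatenary_of_dimFun A δ hδ
  intro p hp
  refine Groth.Agent.Lib.Helper29.ringKrullDim_quotient_eq_of_isCatenary_of_depth A hc
    (fun q _ hq => ?_) p hp
  have := le_depth_self_of_hasSk 2 hS2 q hq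
  exact_mod_cast this

variable (hn : Dual.IsNormalized A ω) (n : ℕ) (hd : ringKrullDim A = n)
  (hEq : EGA4.IsEquidim A) (c : ℕ) (hc : 1 ≤ c) (hSc : LocCoh.HasSk c A A)

include hω hn hd hEq hc hSc

/-- `Ext^σ(H^j(ω), ω) = 0` for `j ≠ -n` and `σ ≤ j + c - 1`. -/
theorem hom_HD_eq_zero (j : ℤ) (hj : j ≠ -(n : ℤ)) (N : ModuleCat.{u} A)
    (eN : N ≅ (homologyFunctor (ModuleCat.{u} A) j).obj ω) (σ : ℤ) (hσ : σ ≤ j + c - 1) :
    Subsingleton (Dual.inD A N ⟶ ω⟦σ⟧) := by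
  have hM : EGA4.IsEquidimModule A A := by
    intro p hp
    rw [Module.supportDim_self_eq_ringKrullDim]
    have hann : Module.annihilator A A = ⊥ := Module.annihilator_eq_bot.2 inferInstance
    rw [hann] at hp
    exact hEq p hp
  have hδ : Module.supportDim A A = n := by rw [Module.supportDim_self_eq_ringKrullDim, hd]
  obtain ⟨H1, H2⟩ := (Groth.Agent.S18717.result A ω hω hn A hM n hδ c hc).1 hSc j hj
  obtain ⟨e'⟩ := HomSingle.nonempty_homSingleEquiv ω j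
  let eN' : N ≃ₗ[A] (Dual.inD A A ⟶ ω⟦j⟧) := eN.toLinearEquiv.trans e'.symm
  have hfinN : Module.Finite A N := by
    have := hω.finite_cohomology j
    exact Module.Finite.equiv eN.toLinearEquiv.symm
  by_cases hlt : -j - (c : ℤ) < 0
  · have h1 := H1 hlt
    have h2 : Subsingleton N := eN'.toEquiv.subsingleton
    exact NormDual.subsingleton_hom_of_subsingleton N (ω⟦σ⟧)
  · rw [not_lt] at hlt
    have h1 := H2 hlt
    rw [← Module.supportDim_eq_of_equiv eN'] at h1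
    have h2 : Module.supportDim A N < (((-j - (c : ℤ)).toNat + 1 : ℕ) : WithBot ℕ∞) := by
      refine lt_of_le_of_lt h1 ?_
      exact_mod_cast Nat.lt_succ_self _
    exact NormDual.vanishing_below_dim ω hω hn ((-j - (c : ℤ)).toNat + 1) N h2 σ
      (by push_cast; omega)

/-- `Hom(τ_{≥1}(ω[-n]), ω[-n][t]) = 0` for `t ≤ c - 1`. -/
theorem hom_truncGE_eq_zero (t : ℤ) (ht : t ≤ c - 1) (W : Dual.D A)
    (eW : W ≅ (ω⟦-(n : ℤ)⟧)⟦t⟧)
    (f : (TStructure.t.truncGE 1).obj (ω⟦-(n : ℤ)⟧) ⟶ W) : f = 0 := by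
  obtain ⟨a, b, hge, hle, -⟩ := HomBC.isDualizing_bounds hω
  have hXle : (ω⟦-(n : ℤ)⟧).IsLE (b + n) :=
    TStructure.t.isLE_shift ω b (-(n : ℤ)) (b + n) (by omega)
  have hGge : TStructure.t.IsGE ((TStructure.t.truncGE 1).obj (ω⟦-(n : ℤ)⟧)) 1 := inferInstance
  have hGle : TStructure.t.IsLE ((TStructure.t.truncGE 1).obj (ω⟦-(n : ℤ)⟧)) (b + n) :=
    inferInstance
  refine hom_eq_zero_of_homology W (b + n).toNat
    ((TStructure.t.truncGE 1).obj (ω⟦-(n : ℤ)⟧)) 1 (b + n) (by omega) hGge hGle ?_ f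
  intro i H eH g
  by_cases hi : 1 ≤ i
  · have hiso := isIso_homology_map_truncGEπ_of_le (ω⟦-(n : ℤ)⟧) 1 i hi
    let eH' : H ≅ (homologyFunctor (ModuleCat.{u} A) (i - n)).obj ω :=
      eH ≪≫ (asIso ((homologyFunctor (ModuleCat.{u} A) i).map
        ((TStructure.t.truncGEπ 1).app (ω⟦-(n : ℤ)⟧)))).symm ≪≫
      ((homologyFunctor (ModuleCat.{u} A) 0).shiftIso (-(n : ℤ)) i (i - n) (by omega)).app ω
    have hsub := hom_HD_eq_zero ω hω hn n hd hEq c hc hSc (i - n) (by omega) H eH'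
      ((t - n) + i) (by omega)
    let ε : W ≅ ω⟦t - (n : ℤ)⟧ :=
      eW ≪≫ ((shiftFunctorAdd' (Dual.D A) (-(n : ℤ)) t (t - n) (by omega)).app ω).symm
    have h0 := hom_single_eq_zero_of_subsingleton H ω i (t - n) ((t - n) + i) rfl hsub
      (g ≫ ε.hom)
    rw [← cancel_mono ε.hom, h0, zero_comp]
  · have hz : IsZero ((homologyFunctor (ModuleCat.{u} A) i).obj
        ((TStructure.t.truncGE 1).obj (ω⟦-(n : ℤ)⟧))) :=
      isZero_of_isGE _ 1 i (by omega)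
    have hH : IsZero H := hz.of_iso eH
    have hs : IsZero ((singleFunctor (ModuleCat.{u} A) i).obj H) :=
      Functor.map_isZero (singleFunctor (ModuleCat.{u} A) i) hH
    exact hs.eq_of_src _ _

/-- common setup: `τ_{≤0}(ω[-n]) ≅ H[0]` with `H ≅ H^{-n}(ω)`. -/
theorem exists_setup :
    (ω⟦-(n : ℤ)⟧).IsGE 0 ∧ ∃ (H : ModuleCat.{u} A)
      (_ : (TStructure.t.truncLT 1).obj (ω⟦-(n : ℤ)⟧) ≅ (singleFunctor (ModuleCat.{u} A) 0).obj H),
      Nonempty (H ≃ₗ[A] Dual.HD A ω (-(n : ℤ))) := by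
  have hdimA : Module.supportDim A A = n := by
    rw [Module.supportDim_self_eq_ringKrullDim, hd]
  have hge : ω.IsGE (-(n : ℤ)) := by
    rw [DerivedCategory.isGE_iff]
    intro i hi
    obtain ⟨e'⟩ := HomSingle.nonempty_homSingleEquiv ω i
    have hlt : Module.supportDim A A < ((n + 1 : ℕ) : WithBot ℕ∞) := by
      rw [hdimA]
      exact_mod_cast Nat.lt_succ_self n
    have := NormDual.vanishing_below_dim ω hω hn (n + 1) A hlt i (by push_cast; omega)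
    have h3 : Subsingleton (Dual.HD A ω i) := e'.symm.toEquiv.subsingleton
    exact ModuleCat.isZero_of_subsingleton _
  have hXge : (ω⟦-(n : ℤ)⟧).IsGE 0 :=
    TStructure.t.isGE_shift ω (-(n : ℤ)) (-(n : ℤ)) 0 (by omega)
  refine ⟨hXge, ?_⟩
  have hGE : TStructure.t.IsGE ((TStructure.t.truncLT 1).obj (ω⟦-(n : ℤ)⟧)) 0 := inferInstance
  have hLE : TStructure.t.IsLE ((TStructure.t.truncLT 1).obj (ω⟦-(n : ℤ)⟧)) 0 :=
    TStructure.t.isLE_truncLT_obj _ 1 0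
  obtain ⟨H, ⟨e⟩⟩ := exists_iso_singleFunctor_obj_of_isGE_of_isLE
    ((TStructure.t.truncLT 1).obj (ω⟦-(n : ℤ)⟧)) 0
  have hib := KL.isIso_homology_map_truncLTι (ω⟦-(n : ℤ)⟧)
  let i6 : H ≅ (homologyFunctor (ModuleCat.{u} A) (-(n : ℤ))).obj ω :=
    ((singleFunctorCompHomologyFunctorIso (ModuleCat.{u} A) 0).app H).symm ≪≫
    (homologyFunctor (ModuleCat.{u} A) 0).mapIso e.symm ≪≫
    asIso ((homologyFunctor (ModuleCat.{u} A) 0).map
      ((TStructure.t.truncLTι 1).app (ω⟦-(n : ℤ)⟧))) ≪≫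
    ((homologyFunctor (ModuleCat.{u} A) 0).shiftIso (-(n : ℤ)) 0 (-(n : ℤ)) (by omega)).app ω
  exact ⟨H, e, ⟨i6.toLinearEquiv⟩⟩

/-- precomposition with `τ_{≤0}X → X` is bijective on `Hom(-, X)` and gives `Hom(T, X[1]) = 0`-type
statements; here: every `h : T → X[s]` factors through `X` when `s + 1 ≤ c - 1`. -/
theorem exists_factor (s : ℤ) (hs : s + 1 ≤ c - 1) (Z : Dual.D A) (eZ : Z ≅ (ω⟦-(n : ℤ)⟧)⟦s⟧)
    (h : (TStructure.t.truncLT 1).obj (ω⟦-(n : ℤ)⟧) ⟶ Z) :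
    ∃ φ : ω⟦-(n : ℤ)⟧ ⟶ Z, h = (TStructure.t.truncLTι 1).app (ω⟦-(n : ℤ)⟧) ≫ φ := by
  have hT := TStructure.t.triangleLTGE_distinguished 1 (ω⟦-(n : ℤ)⟧)
  refine KL.exists_of_mor₃_comp_shift_eq_zero _ hT h ?_
  exact hom_truncGE_eq_zero ω hω hn n hd hEq c hc hSc (s + 1) hs (Z⟦(1 : ℤ)⟧)
    ((shiftFunctor (Dual.D A) (1 : ℤ)).mapIso eZ ≪≫
      ((shiftFunctorAdd' (Dual.D A) s 1 (s + 1) rfl).app (ω⟦-(n : ℤ)⟧)).symm) _

/-- `r ↦ r • 𝟙` is bijective `A → End(τ_{≤0}(ω[-n]))` when `A` is `(S_2)`. -/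
theorem smul_id_trunc_bijective (hc2 : 2 ≤ c) :
    Function.Bijective
      (fun r : A => r • 𝟙 ((TStructure.t.truncLT 1).obj (ω⟦-(n : ℤ)⟧))) := by
  have hX : Dual.IsDualizing A (ω⟦-(n : ℤ)⟧) := DualShift.isDualizing_shift ω hω _
  have hT := TStructure.t.triangleLTGE_distinguished 1 (ω⟦-(n : ℤ)⟧)
  have hTle : TStructure.t.IsLE ((TStructure.t.truncLT 1).obj (ω⟦-(n : ℤ)⟧)) 0 :=
    TStructure.t.isLE_truncLT_obj _ 1 0
  have φ1 : Function.Bijective (fun a : A => a • 𝟙 (ω⟦-(n : ℤ)⟧)) := hX.toEnd_bijective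
  have φ2 : Function.Bijective (fun f : ω⟦-(n : ℤ)⟧ ⟶ ω⟦-(n : ℤ)⟧ =>
      (TStructure.t.truncLTι 1).app (ω⟦-(n : ℤ)⟧) ≫ f) := by
    constructor
    · intro f g hfg
      have h0 : (TStructure.t.truncLTι 1).app (ω⟦-(n : ℤ)⟧) ≫ (f - g) = 0 := by
        rw [Preadditive.comp_sub]
        exact sub_eq_zero.mpr hfg
      obtain ⟨k, hk⟩ := Triangle.yoneda_exact₂ _ hT (f - g) h0
      have hk0 : k = 0 := hom_truncGE_eq_zero ω hω hn n hd hEq c hc hSc 0 (by omega)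
        (ω⟦-(n : ℤ)⟧) ((shiftFunctorZero (Dual.D A) ℤ).app (ω⟦-(n : ℤ)⟧)).symm k
      rw [hk0] at hk
      have hk' : f - g = 0 := hk.trans comp_zero
      exact sub_eq_zero.mp hk'
    · intro h
      obtain ⟨φ, hφ⟩ := exists_factor ω hω hn n hd hEq c hc hSc 0 (by omega) (ω⟦-(n : ℤ)⟧)
        ((shiftFunctorZero (Dual.D A) ℤ).app (ω⟦-(n : ℤ)⟧)).symm h
      exact ⟨φ, hφ.symm⟩
  have φ3 : Function.Bijective (fun g : (TStructure.t.truncLT 1).obj (ω⟦-(n : ℤ)⟧) ⟶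
      (TStructure.t.truncLT 1).obj (ω⟦-(n : ℤ)⟧) =>
      g ≫ (TStructure.t.truncLTι 1).app (ω⟦-(n : ℤ)⟧)) :=
    KL.postcomp_truncLTι_bijective _ (ω⟦-(n : ℤ)⟧)
  have hcomm : (fun g : (TStructure.t.truncLT 1).obj (ω⟦-(n : ℤ)⟧) ⟶
      (TStructure.t.truncLT 1).obj (ω⟦-(n : ℤ)⟧) =>
      g ≫ (TStructure.t.truncLTι 1).app (ω⟦-(n : ℤ)⟧)) ∘
      (fun r : A => r • 𝟙 ((TStructure.t.truncLT 1).obj (ω⟦-(n : ℤ)⟧))) =
      (fun f : ω⟦-(n : ℤ)⟧ ⟶ ω⟦-(n : ℤ)⟧ =>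
        (TStructure.t.truncLTι 1).app (ω⟦-(n : ℤ)⟧) ≫ f) ∘
      (fun a : A => a • 𝟙 (ω⟦-(n : ℤ)⟧)) := by
    funext r
    simp only [Function.comp_apply]
    rw [Linear.smul_comp, Category.id_comp, Linear.comp_smul]
    congr 1
    exact (Category.comp_id _).symm
  refine (Function.Bijective.of_comp_iff' φ3 _).1 ?_
  rw [hcomm]
  exact φ2.comp φ1

/-- **`A → End_A(ω_A)` is bijective** for `(S_2)` rings. -/
theorem toEnd_bijective (hc2 : 2 ≤ c) :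
    Function.Bijective (fun r : A => r • (LinearMap.id :
      Dual.HD A ω (-(n : ℤ)) →ₗ[A] Dual.HD A ω (-(n : ℤ)))) := by
  obtain ⟨-, H, e, ⟨eH⟩⟩ := exists_setup ω hω hn n hd hEq c hc hSc
  have key := smul_id_trunc_bijective ω hω hn n hd hEq c hc hSc hc2
  have hsmul : ∀ r : A, r • 𝟙 ((TStructure.t.truncLT 1).obj (ω⟦-(n : ℤ)⟧)) =
      e.hom ≫ (singleFunctor (ModuleCat.{u} A) 0).map (r • 𝟙 H) ≫ e.inv := by
    intro r
    rw [Functor.map_smul, CategoryTheory.Functor.map_id, Linear.smul_comp, Linear.comp_smul,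
      Category.id_comp, e.hom_inv_id]
  constructor
  · intro r s hrs
    apply key.1
    show r • 𝟙 _ = s • 𝟙 _
    rw [hsmul r, hsmul s]
    have h1 : r • 𝟙 H = s • 𝟙 H := by
      ext x
      apply eH.injective
      have := LinearMap.congr_fun hrs (eH x)
      simp only [LinearMap.smul_apply, LinearMap.id_coe, id_eq] at this
      simp only [ModuleCat.hom_smul, ModuleCat.hom_id, LinearMap.smul_apply, LinearMap.id_coe,
        id_eq, map_smul]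
      exact this
    rw [h1]
  · intro f
    let fH : H ⟶ H := ModuleCat.ofHom (eH.symm.toLinearMap ∘ₗ f ∘ₗ eH.toLinearMap)
    obtain ⟨r, hr⟩ := key.2 (e.hom ≫ (singleFunctor (ModuleCat.{u} A) 0).map fH ≫ e.inv)
    have hr' : r • 𝟙 ((TStructure.t.truncLT 1).obj (ω⟦-(n : ℤ)⟧)) =
        e.hom ≫ (singleFunctor (ModuleCat.{u} A) 0).map fH ≫ e.inv := hr
    rw [hsmul r] at hr'
    have h2 : (singleFunctor (ModuleCat.{u} A) 0).map (r • 𝟙 H) =
        (singleFunctor (ModuleCat.{u} A) 0).map fH := by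
      have h3 := congrArg (fun g => e.inv ≫ g ≫ e.hom) hr'
      simpa using h3
    have h4 : r • 𝟙 H = fH := (singleFunctor (ModuleCat.{u} A) 0).map_injective h2
    refine ⟨r, ?_⟩
    ext y
    obtain ⟨x, rfl⟩ := eH.surjective y
    have h5 := congrArg (fun g : H ⟶ H => g.hom x) h4
    simp only [ModuleCat.hom_smul, ModuleCat.hom_id, LinearMap.smul_apply, LinearMap.id_coe,
      id_eq, fH, ModuleCat.hom_ofHom, LinearMap.coe_comp, LinearEquiv.coe_coe,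
      Function.comp_apply] at h5
    simp only [LinearMap.smul_apply, LinearMap.id_coe, id_eq]
    rw [← map_smul, h5, LinearEquiv.apply_symm_apply]

/-- **`Ext¹_A(ω_A, ω_A) = 0`** for `(S_3)` rings. -/
theorem subsingleton_ext_one (hc3 : 3 ≤ c) :
    Subsingleton (Dual.inD A (Dual.HD A ω (-(n : ℤ))) ⟶
      (Dual.inD A (Dual.HD A ω (-(n : ℤ))))⟦(1 : ℤ)⟧) := by
  obtain ⟨-, H, e, ⟨eH⟩⟩ := exists_setup ω hω hn n hd hEq c hc hSc
  have hX : Dual.IsDualizing A (ω⟦-(n : ℤ)⟧) := DualShift.isDualizing_shift ω hω _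
  have hTle : TStructure.t.IsLE ((TStructure.t.truncLT 1).obj (ω⟦-(n : ℤ)⟧)) 0 :=
    TStructure.t.isLE_truncLT_obj _ 1 0
  have hz : ∀ f : (TStructure.t.truncLT 1).obj (ω⟦-(n : ℤ)⟧) ⟶
      ((TStructure.t.truncLT 1).obj (ω⟦-(n : ℤ)⟧))⟦(1 : ℤ)⟧, f = 0 := by
    intro f
    apply eq_zero_of_comp_truncLTι_shift _ (ω⟦-(n : ℤ)⟧) 1 le_rfl
    obtain ⟨φ, hφ⟩ := exists_factor ω hω hn n hd hEq c hc hSc 1 (by omega)
      ((ω⟦-(n : ℤ)⟧)⟦(1 : ℤ)⟧) (Iso.refl _)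
      (f ≫ ((TStructure.t.truncLTι 1).app (ω⟦-(n : ℤ)⟧))⟦(1 : ℤ)⟧')
    have hφ0 : φ = 0 := by
      have := hX.ext_self_subsingleton 1 one_ne_zero
      exact Subsingleton.elim _ _
    rw [hφ, hφ0, comp_zero]
  let θ : Dual.inD A (Dual.HD A ω (-(n : ℤ))) ≅ (TStructure.t.truncLT 1).obj (ω⟦-(n : ℤ)⟧) :=
    (singleFunctor (ModuleCat.{u} A) 0).mapIso eH.symm.toModuleIso ≪≫ e.symm
  refine ⟨fun f g => ?_⟩
  have hf : ∀ f : Dual.inD A (Dual.HD A ω (-(n : ℤ))) ⟶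
      (Dual.inD A (Dual.HD A ω (-(n : ℤ))))⟦(1 : ℤ)⟧, f = 0 := by
    intro f
    have h1 := hz (θ.inv ≫ f ≫ (θ.hom)⟦(1 : ℤ)⟧')
    have h2 : f = θ.hom ≫ (θ.inv ≫ f ≫ (θ.hom)⟦(1 : ℤ)⟧') ≫ (θ.inv)⟦(1 : ℤ)⟧' := by
      simp only [Category.assoc, Iso.hom_inv_id_assoc]
      rw [← Functor.map_comp, θ.hom_inv_id, CategoryTheory.Functor.map_id, Category.comp_id]
    rw [h2, h1, zero_comp, comp_zero]
  rw [hf f, hf g]

end Groth.Agent.Lib.Helper60.SkDual
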