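import Mathlib
import Groth.Agent.Lib.Helper30.FlatRestrict2
import Groth.Agent.Lib.Helper30.TildeTAmp
import Groth.Agent.Lib.Helper32.OpenKInj
import Groth.Agent.Lib.Helper35.FlatBC
import Groth.Agent.Lib.Helper60.SchDual12

/-!
# Stalkwise dualizing complexes, part 1 (helper60)

* `subsingleton_single_hom_shift`: no maps `S[0] ⟶ J[i]` in the derived category when `J` is
  K-injective with `J^i = 0`;
* `injective_restrict_of_isOpenImmersion`: restriction along any open immersion preserves injectives;
* `isDualizing_of_ringEquiv`: transport of dualizing complexes along a ring isomorphism;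
* `extLxIso`: extension of scalars to the local ring of `Spec R` at `x` is `M ↦ (M~)_x`;
* `stalkRestrictLinearEquiv`: stalks of a restriction to an open subscheme, linearly over the local
  ring of the ambient scheme.
-/

set_option autoImplicit false
set_option linter.style.haveILetI false
set_option linter.unusedSectionVars false
universe v u
open CategoryTheory CategoryTheory.Limits AlgebraicGeometry TensorProduct
attribute [local instance] HasDerivedCategory.standard

namespace Groth.Agent.Lib.Helper60.StalkDual

open Groth.Agent.Lib.Helper6 Groth.Agent.Lib.Helper35 Groth.Agent.Lib.Helper60.SchDual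
open Groth.Agent.Lib.Helper30.TildeStalk
open Groth.Agent.Lib.Helper49 Groth.Agent.Lib.Helper30.FlatRestrict

section KInj
variable {C : Type u} [Category.{v} C] [Abelian C]

open DerivedCategory in
lemma subsingleton_single_hom_shift (S : C) (J : CochainComplex C ℤ) [J.IsKInjective] (i : ℤ)
    (hJ : IsZero (J.X i)) :
    Subsingleton ((DerivedCategory.singleFunctor C 0).obj S ⟶ (DerivedCategory.Q.obj J)⟦i⟧) := by
  let F : CochainComplex C ℤ := (CochainComplex.singleFunctor C 0).obj S
  let L : CochainComplex C ℤ := J⟦i⟧
  have hL : IsZero (L.X 0) := by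
    have : L.X 0 = J.X (0 + i) := rfl
    rw [this, zero_add]; exact hJ
  have key : Subsingleton (Q.obj F ⟶ Q.obj L) := by
    refine ⟨fun a b => ?_⟩
    have hz : ∀ a : Q.obj F ⟶ Q.obj L, a = 0 := by
      intro a
      let a' : Qh.obj ((HomotopyCategory.quotient _ _).obj F) ⟶
          Qh.obj ((HomotopyCategory.quotient _ _).obj L) :=
        (quotientCompQhIso C).hom.app F ≫ a ≫ (quotientCompQhIso C).inv.app L
      obtain ⟨g, hg⟩ := (CochainComplex.IsKInjective.Qh_map_bijective
        ((HomotopyCategory.quotient _ _).obj F) L).surjective a'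
      obtain ⟨f, rfl⟩ := (HomotopyCategory.quotient _ _).map_surjective g
      have hf : f = 0 := by
        ext n
        by_cases hn : n = 0
        · subst hn
          exact hL.eq_of_tgt _ _
        · exact (HomologicalComplex.isZero_single_obj_X (ComplexShape.up ℤ) 0 S n hn).eq_of_src _ _
      have ha' : a' = 0 := by rw [← hg, hf]; simp
      have : a = (quotientCompQhIso C).inv.app F ≫ a' ≫ (quotientCompQhIso C).hom.app L := by
        simp [a']
      rw [this, ha']; simp
    rw [hz a, hz b]
  let e1 : (DerivedCategory.singleFunctor C 0).obj S ≅ Q.obj F :=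
    (DerivedCategory.singleFunctorIsoCompQ C 0).app S
  let e2 : (Q.obj J)⟦i⟧ ≅ Q.obj L := ((Q.commShiftIso i).app J).symm
  exact (Iso.homCongr e1 e2).subsingleton


end KInj

section Restrict
variable {X Y : Scheme.{u}}

/-- restriction along an isomorphism is an equivalence -/
noncomputable def restrictEquivOfIso {V : Scheme.{u}} (e : Y ≅ V) : V.Modules ≌ Y.Modules :=
  CategoryTheory.Equivalence.mk (Scheme.Modules.restrictFunctor e.hom)
    (Scheme.Modules.restrictFunctor e.inv)
    (Scheme.Modules.restrictFunctorId.symm ≪≫
      Scheme.Modules.restrictFunctorCongr (e.inv_hom_id).symm ≪≫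
      Scheme.Modules.restrictFunctorComp e.inv e.hom)
    ((Scheme.Modules.restrictFunctorComp e.hom e.inv).symm ≪≫
      Scheme.Modules.restrictFunctorCongr (e.hom_inv_id) ≪≫
      Scheme.Modules.restrictFunctorId)

theorem injective_restrict_of_isOpenImmersion (j : Y ⟶ X) [IsOpenImmersion j] (J : X.Modules)
    [Injective J] : Injective ((Scheme.Modules.restrictFunctor j).obj J) := by
  let V : X.Opens := j.opensRange
  let e : Y ≅ V := j.isoOpensRange
  have hj : e.hom ≫ V.ι = j := j.isoOpensRange_hom_ι
  have h1 : Injective ((Scheme.Modules.restrictFunctor V.ι).obj J) := by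
    have := Groth.Agent.Lib.Helper32.OpenKInj.preservesFiniteLimits_extZero V
    have hinj : (Scheme.Modules.restrictFunctor V.ι).PreservesInjectiveObjects :=
      Functor.preservesInjectiveObjects_of_adjunction_of_preservesMonomorphisms
        (CxOX.extZeroAdj V.ι)
    exact (Scheme.Modules.restrictFunctor V.ι).injective_obj J
  have h2 : (Scheme.Modules.restrictFunctor e.hom).PreservesInjectiveObjects :=
    Functor.preservesInjectiveObjects_of_adjunction_of_preservesMonomorphisms
      (restrictEquivOfIso e).symm.toAdjunction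
  have h3 : Injective ((Scheme.Modules.restrictFunctor e.hom).obj
      ((Scheme.Modules.restrictFunctor V.ι).obj J)) :=
    (Scheme.Modules.restrictFunctor e.hom).injective_obj _
  have iso : (Scheme.Modules.restrictFunctor j).obj J ≅
      (Scheme.Modules.restrictFunctor e.hom).obj ((Scheme.Modules.restrictFunctor V.ι).obj J) :=
    ((Scheme.Modules.restrictFunctorCongr hj.symm).app J) ≪≫
      (Scheme.Modules.restrictFunctorComp e.hom V.ι).app J
  exact Injective.of_iso iso.symm h3


end Restrict

section RingEquiv

theorem isDualizing_of_ringEquiv {S T : Type u} [CommRing S] [CommRing T] (e : S ≃+* T)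
    (N : DRing.Cx T)
    (h : Dual.IsDualizing S (DRing.toD (((ModuleCat.restrictScalars e.toRingHom).mapHomologicalComplex
      (ComplexShape.up ℤ)).obj N))) :
    Dual.IsDualizing T (DRing.toD N) := by
  letI : Algebra S T := e.toRingHom.toAlgebra
  have hbij : Function.Bijective (algebraMap S T) := e.bijective
  haveI hloc : IsLocalization (⊥ : Submonoid S) T :=
    IsLocalization.of_le_isUnit_of_bijective (by
      rintro _ ⟨x, hx, rfl⟩
      have hx' : x = 1 := Submonoid.mem_bot.mp hx
      subst hx'
      simp) hbij
  haveI : Module.Flat S T := IsLocalization.flat T (⊥ : Submonoid S)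
  haveI hS : IsNoetherianRing S := h.isNoetherianRing
  haveI : IsNoetherianRing T := isNoetherianRing_of_ringEquiv S e
  have h' := HomBC.isDualizing_G (B := T) (hcyc_of_isLocalization (⊥ : Submonoid S)) _ h
  refine HomBC.isDualizing_of_iso ?_ h'
  let rN := ((ModuleCat.restrictScalars e.toRingHom).mapHomologicalComplex (ComplexShape.up ℤ)).obj N
  let adj := ModuleCat.extendRestrictScalarsAdj.{u, u, u} (algebraMap S T)
  haveI : (ModuleCat.restrictScalars.{u} (algebraMap S T)).IsEquivalence :=
    ModuleCat.restrictScalars_isEquivalence_of_ringEquiv e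
  haveI hc : IsIso adj.counit := inferInstance
  have hcn : ∀ n, IsIso (adj.counit.app (N.X n)) := fun n => NatIso.isIso_app_of_isIso adj.counit _
  let c : (FlatBC.extCx S T).obj rN ≅ N :=
    HomologicalComplex.Hom.isoOfComponents (fun n => @asIso _ _ _ _ (adj.counit.app (N.X n)) (hcn n))
      (by
        intro i j _
        exact (adj.counit.naturality (N.d i j)).symm)
  exact FlatBC.GQIso T rN ≪≫ DerivedCategory.Q.mapIso c


end RingEquiv

section Lx
variable {R : CommRingCat.{u}}

lemma toStalk_eq_germ (M : ModuleCat.{u} R) (x : Spec R) (m : M) :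
    (tilde.toStalk M x).hom m =
      (tilde M).presheaf.germ ⊤ x trivial ((tilde.toOpen M ⊤).hom m) := rfl

lemma toStalk_naturality {M N : ModuleCat.{u} R} (f : M ⟶ N) (x : Spec R) (m : M) :
    ((DerSch.stalkFunctor (Spec R) x).map ((tilde.functor R).map f)).hom ((tilde.toStalk M x).hom m) =
      (tilde.toStalk N x).hom (f.hom m) := by
  rw [toStalk_eq_germ, toStalk_eq_germ]
  erw [DerSch.stalkFunctor_map_germ]
  congr 1
  have := tilde.toOpen_map_app f ⊤
  exact congrArg (fun g => g.hom m) this


variable (R)

/-- the component of `extLxIso` -/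
noncomputable def extLxEquiv (x : Spec R) (M : ModuleCat.{u} R) :
    ((FlatBC.ext R ((Spec R).presheaf.stalk x)).obj M) ≃ₗ[(Spec R).presheaf.stalk x]
      ((Lx R x).obj M) :=
  (FlatBC.extLinearEquiv ((Spec R).presheaf.stalk x) M) ≪≫ₗ (isBaseChange_toStalk M x).equiv

lemma extLxEquiv_tmul (x : Spec R) (M : ModuleCat.{u} R) (b : (Spec R).presheaf.stalk x) (m : M) :
    extLxEquiv R x M ((b : FlatBC.B' R ((Spec R).presheaf.stalk x)) ⊗ₜ[R] m) =
      b • (tilde.toStalk M x).hom m := by
  change (isBaseChange_toStalk M x).equiv (b ⊗ₜ[R] m) = _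
  exact IsBaseChange.equiv_tmul _ _ _

/-- extension of scalars to the local ring is the stalk of `M~`. -/
noncomputable def extLxIso (x : Spec R) :
    FlatBC.ext R ((Spec R).presheaf.stalk x) ≅ Lx R x :=
  NatIso.ofComponents (fun M => (extLxEquiv R x M).toModuleIso) (by
    intro M N f
    let L1 : ((FlatBC.ext R ((Spec R).presheaf.stalk x)).obj M) →ₗ[(Spec R).presheaf.stalk x]
        ((Lx R x).obj N) :=
      (extLxEquiv R x N).toLinearMap ∘ₗ ((FlatBC.ext R ((Spec R).presheaf.stalk x)).map f).hom
    let L2 : ((FlatBC.ext R ((Spec R).presheaf.stalk x)).obj M) →ₗ[(Spec R).presheaf.stalk x]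
        ((Lx R x).obj N) :=
      ((Lx R x).map f).hom ∘ₗ (extLxEquiv R x M).toLinearMap
    have key : L1 = L2 := by
      refine LinearMap.ext fun z => ?_
      induction z using TensorProduct.induction_on with
      | zero => exact (map_zero L1).trans (map_zero L2).symm
      | tmul b m =>
        change extLxEquiv R x N (((FlatBC.ext R ((Spec R).presheaf.stalk x)).map f).hom (b ⊗ₜ[R] m)) =
          ((Lx R x).map f).hom (extLxEquiv R x M (b ⊗ₜ[R] m))
        rw [extLxEquiv_tmul]
        erw [ModuleCat.ExtendScalars.map_tmul]
        erw [extLxEquiv_tmul]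
        have h := map_smul ((Lx R x).map f).hom (show (Spec R).presheaf.stalk x from b)
          ((tilde.toStalk M x).hom m)
        refine Eq.trans ?_ h.symm
        congr 1
        exact (toStalk_naturality f x m).symm
      | add z w hz hw =>
        exact (map_add L1 z w).trans ((congrArg₂ (· + ·) hz hw).trans (map_add L2 z w).symm)
    exact ModuleCat.hom_ext key)


end Lx

section StalkRestrict
variable {X U : Scheme.{u}} (j : U ⟶ X) [IsOpenImmersion j] (y : U)

/-- the ring isomorphism of local rings induced by an open immersion -/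
noncomputable def stalkRingEquiv : X.presheaf.stalk ((𝟙 X : X ⟶ X) (j y)) ≃+* U.presheaf.stalk y :=
  RingEquiv.ofBijective (j.stalkMap y).hom
    ((ConcreteCategory.isIso_iff_bijective (j.stalkMap y)).mp inferInstance)

/-- stalks of the restriction, linearly over the local ring of `X`. -/
noncomputable def stalkRestrictLinearMap (M : X.Modules) :
    ((ModuleCat.restrictScalars (stalkRingEquiv j y).toRingHom).obj
      ((DerSch.stalkFunctor U y).obj ((Scheme.Modules.restrictFunctor j).obj M))) →ₗ[X.presheaf.stalk ((𝟙 X : X ⟶ X) (j y))]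
      ((DerSch.stalkOver (𝟙 X) (j y)).obj M) where
  toFun := fun a => (restrictStalkIso j M y).hom.hom a
  map_add' := fun a b => map_add (restrictStalkIso j M y).hom.hom a b
  map_smul' := fun r a => by
    have h1 := restrictStalk_semilinear j M y r a
    refine h1.trans ?_
    have h2 : ((𝟙 X : X ⟶ X).stalkMap (j y)).hom r = r := by
      rw [Scheme.Hom.stalkMap_id]; rfl
    have h3 : ∀ (m : M.presheaf.stalk (j y)),
        (r • (show ↑((DerSch.stalkOver (𝟙 X) (j y)).obj M) from m)) =
          (((𝟙 X : X ⟶ X).stalkMap (j y)).hom r • m : M.presheaf.stalk (j y)) := fun m => rfl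
    rw [RingHom.id_apply]
    erw [h3, h2]

lemma stalkRestrictLinearMap_apply (M : X.Modules) (a) :
    stalkRestrictLinearMap j y M a = (restrictStalkIso j M y).hom.hom a := rfl

/-- stalks of the restriction, linearly over the local ring of `X`. -/
noncomputable def stalkRestrictLinearEquiv (M : X.Modules) :
    ((ModuleCat.restrictScalars (stalkRingEquiv j y).toRingHom).obj
      ((DerSch.stalkFunctor U y).obj ((Scheme.Modules.restrictFunctor j).obj M))) ≃ₗ[X.presheaf.stalk ((𝟙 X : X ⟶ X) (j y))]
      ((DerSch.stalkOver (𝟙 X) (j y)).obj M) :=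
  LinearEquiv.ofBijective (stalkRestrictLinearMap j y M) (restrictStalkIso_hom_bijective j M y)


end StalkRestrict

end Groth.Agent.Lib.Helper60.StalkDual
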