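import Groth.Agent.Lib.Helper60.StalkDual1

/-!
# Stalkwise dualizing complexes, part 2 (helper60)

* `isDualizing_stalk_restrict`: the stalk hypothesis on `X` gives dualizing complexes of stalks of
  the restriction to an open subscheme;
* `GStalkIso`: the base change of `ω` to a local ring of `Spec R` is the complex of stalks;
* `subsingleton_hom_of_tildeD_iso`: `Ext` vanishing from a K-injective model of `ω~`;
* `isDualizing_of_stalks`: the local-to-global statement on an affine chart.
-/

set_option autoImplicit false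
set_option linter.style.haveILetI false
set_option linter.unusedSectionVars false
universe u
open CategoryTheory CategoryTheory.Limits AlgebraicGeometry TensorProduct
attribute [local instance] HasDerivedCategory.standard

namespace Groth.Agent.Lib.Helper60.StalkDual

open Groth.Agent.Lib.Helper6 Groth.Agent.Lib.Helper35 Groth.Agent.Lib.Helper60.SchDual
open Groth.Agent.Lib.Helper30.TildeStalk Groth.Agent.Lib.Helper30.TildeTAmp
open Groth.Agent.Lib.Helper30.PerfRestrict
open Groth.Agent.Lib.Helper49 Groth.Agent.Lib.Helper30.FlatRestrict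

section StalkRestrictCx
variable {X U : Scheme.{u}} (j : U ⟶ X) [IsOpenImmersion j] (y : U)

/-- the complex of stalks at `y` of the restriction of `I` to `U`. -/
noncomputable abbrev stalkRestrictCx (I : CochainComplex X.Modules ℤ) : DRing.Cx (U.presheaf.stalk y) :=
  ((DerSch.stalkFunctor U y).mapHomologicalComplex (ComplexShape.up ℤ)).obj ((rC j).obj I)

/-- the complex of stalks of the restriction is the complex of stalks, over the local ring of `X`. -/
noncomputable def stalkRestrictCxIso (I : CochainComplex X.Modules ℤ) :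
    ((ModuleCat.restrictScalars (stalkRingEquiv j y).toRingHom).mapHomologicalComplex
      (ComplexShape.up ℤ)).obj (stalkRestrictCx j y I) ≅ (DerSch.stalkCxOver (𝟙 X) (j y)).obj I :=
  HomologicalComplex.Hom.isoOfComponents
    (fun n => (stalkRestrictLinearEquiv j y (I.X n)).toModuleIso) (by
      intro n m _
      refine ModuleCat.hom_ext (LinearMap.ext fun a => ?_)
      exact (stalkMap_restrict_apply j (I.d n m) y a).symm)

theorem isDualizing_stalk_restrict (I : CochainComplex X.Modules ℤ)
    (h : Dual.IsDualizing (X.presheaf.stalk ((𝟙 X : X ⟶ X) (j y)))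
      (DRing.toD ((DerSch.stalkCxOver (𝟙 X) (j y)).obj I))) :
    Dual.IsDualizing (U.presheaf.stalk y) (DRing.toD (stalkRestrictCx j y I)) :=
  isDualizing_of_ringEquiv (stalkRingEquiv j y) _
    (HomBC.isDualizing_of_iso (DerivedCategory.Q.mapIso (stalkRestrictCxIso j y I)).symm h)

end StalkRestrictCx

section Chain
variable {X : Scheme.{u}} (R : CommRingCat.{u}) (j : Spec R ⟶ X) [IsOpenImmersion j]
  [PreservesFiniteLimits (Scheme.Modules.restrictFunctor j)]
  [PreservesFiniteLimits (tilde.functor R)]

/-- the base change of `ω` to the local ring at `y` is the complex of stalks of `I|_{Spec R}` when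
`ω~ ≅ I|_{Spec R}`. -/
noncomputable def GStalkIso (I : CochainComplex X.Modules ℤ) (ω : Dual.D R)
    (e : (DCoh.tildeD R).obj ω ≅ (DCoh.restrictD j).obj (DCoh.toD X I)) (y : Spec R) :
    (FlatBC.G R ((Spec R).presheaf.stalk y)).obj ω ≅ DRing.toD (stalkRestrictCx j y I) :=
  (mapDerivedCategoryIso (extLxIso R y)).app ω ≪≫
    (mapDerivedCategoryComp (tilde.functor R) (DerSch.stalkFunctor (Spec R) y)).app ω ≪≫
    (stalkD R y).mapIso e ≪≫
    (stalkD R y).mapIso ((rDQ j).app I) ≪≫
    stalkDQIso R y ((rC j).obj I)

/-- vanishing of `Hom(M, ω[i])` from a K-injective model of `ω~` whose `i`-th term vanishes. -/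
theorem subsingleton_hom_of_tildeD_iso (ω : Dual.D R) (J : CochainComplex (Spec R).Modules ℤ)
    [J.IsKInjective] (e : (DCoh.tildeD R).obj ω ≅ DerivedCategory.Q.obj J)
    (M : ModuleCat.{u} R) (i : ℤ) (hJ : IsZero (J.X i)) :
    Subsingleton ((DerivedCategory.singleFunctor (ModuleCat.{u} R) 0).obj M ⟶ ω⟦i⟧) := by
  obtain ⟨-, hfaith, -⟩ := Groth.Agent.Lib.Helper30.DQC.TildeFF.main R
  have h1 : Subsingleton ((DerivedCategory.singleFunctor (Spec R).Modules 0).obj
      ((tilde.functor R).obj M) ⟶ (DerivedCategory.Q.obj J)⟦i⟧) :=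
    subsingleton_single_hom_shift _ J i hJ
  have h2 : Subsingleton ((DCoh.tildeD R).obj ((DerivedCategory.singleFunctor (ModuleCat.{u} R) 0).obj M) ⟶
      (DCoh.tildeD R).obj (ω⟦i⟧)) :=
    @Equiv.subsingleton _ _ (Iso.homCongr (((tilde.functor R).mapDerivedCategorySingleFunctor 0).app M)
      (((DCoh.tildeD R).commShiftIso i).app ω ≪≫ (shiftFunctor _ i).mapIso e)) h1
  exact ⟨fun a b => (DCoh.tildeD R).map_injective (Subsingleton.elim _ _)⟩

end Chain

section Main
variable {X : Scheme.{u}} [IsLocallyNoetherian X]
  [∀ (U : Scheme.{u}) (j : U ⟶ X) [IsOpenImmersion j],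
    PreservesFiniteLimits (Scheme.Modules.restrictFunctor j)]
  [∀ (R : CommRingCat.{u}), PreservesFiniteLimits (tilde.functor R)]

/-- **a bounded complex of injectives with coherent cohomology and dualizing stalks restricts to
a dualizing complex on every affine chart.** -/
theorem isDualizing_of_stalks (R : CommRingCat.{u}) (j : Spec R ⟶ X) [IsOpenImmersion j]
    (I : CochainComplex X.Modules ℤ) (hIinj : ∀ i : ℤ, Injective (I.X i))
    (hIbdd : ∃ a b : ℤ, ∀ i : ℤ, (i < a ∨ b < i) → IsZero (I.X i))
    (hcoh : ∀ i : ℤ, Coh.IsCoh (DCoh.HD (DCoh.toD X I) i))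
    (hst : ∀ x : X, Dual.IsDualizing (X.presheaf.stalk ((𝟙 X : X ⟶ X) x))
      (DRing.toD ((DerSch.stalkCxOver (𝟙 X) x).obj I)))
    (ω : Dual.D R) (e : (DCoh.tildeD R).obj ω ≅ (DCoh.restrictD j).obj (DCoh.toD X I)) :
    Dual.IsDualizing R ω := by
  classical
  haveI : IsLocallyNoetherian (Spec R) := isLocallyNoetherian_of_isOpenImmersion j
  haveI hN : IsNoetherianRing R := isLocallyNoetherian_Spec.mp inferInstance
  obtain ⟨a, b, hab⟩ := hIbdd
  -- the restricted complex
  let J : CochainComplex (Spec R).Modules ℤ := (rC j).obj I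
  have hJinj : ∀ n : ℤ, Injective (J.X n) := fun n =>
    injective_restrict_of_isOpenImmersion j (I.X n)
  have hJzero : ∀ n : ℤ, (n < a ∨ b < n) → IsZero (J.X n) := fun n hn =>
    (Scheme.Modules.restrictFunctor j).map_isZero (hab n hn)
  haveI hJge : J.IsStrictlyGE a := by
    rw [CochainComplex.isStrictlyGE_iff]
    intro n hn
    exact hJzero n (Or.inl hn)
  haveI hJK : J.IsKInjective := CochainComplex.isKInjective_of_injective J a
  let eJ : (DCoh.tildeD R).obj ω ≅ DerivedCategory.Q.obj J := e ≪≫ (rDQ j).app I
  refine HomBC.isDualizing_of_family (A := R) (fun y : Spec R => ((Spec R).presheaf.stalk y : Type u))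
    ?_ ω ?_ ?_ ?_
  · -- joint faithfulness of the local rings
    intro M _ _ hM
    refine Module.subsingleton_of_localization_maximal (R := R)
      (fun P _ => LocalizedModule P.primeCompl M)
      (fun P _ => LocalizedModule.mkLinearMap P.primeCompl M) ?_
    intro P hP
    let y : Spec R := ⟨P, hP.isPrime⟩
    have hy := hM y
    haveI : IsLocalization P.primeCompl ((Spec R).presheaf.stalk y) := locStalk R y
    haveI := IsLocalization.tensorProduct_isLocalizedModule (S := P.primeCompl)
      (A := (Spec R).presheaf.stalk y) (M := M) (R := R)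
    exact (IsLocalizedModule.linearEquiv P.primeCompl (LocalizedModule.mkLinearMap P.primeCompl M)
      (TensorProduct.mk R ((Spec R).presheaf.stalk y) M 1)).toEquiv.subsingleton
  · -- finiteness of the cohomology
    intro i
    have h1 := (hcoh i).2
    have h2 := isFiniteType_restrict (DCoh.HD (DCoh.toD X I) i) j h1
    have h3 := isFiniteType_of_iso (restrictHDIsoTilde R j (DCoh.toD X I) ω e.symm i) h2
    exact finite_of_isFiniteType_tilde R (ModuleCat.of R (Dual.HD R ω i)) h3
  · -- finite injective dimension
    refine ⟨a, b, fun M _ _ i hi => ?_⟩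
    exact subsingleton_hom_of_tildeD_iso R ω J eJ (ModuleCat.of R M) i (hJzero i hi)
  · -- the stalks
    intro y
    exact HomBC.isDualizing_of_iso (GStalkIso R j I ω e y).symm
      (isDualizing_stalk_restrict j y I (hst (j y)))

end Main

end Groth.Agent.Lib.Helper60.StalkDual
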