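/-
Copyright (c) 2026. Released under Apache 2.0 license.
# A universal Ext class (helper60)

* `exists_universal_ext` : for every module `X` and `k` there are `Y` and `Ξ ∈ Ext^k(X, Y)` such that
  every class in `Ext^{k+j}(X, N)` is `Ξ` composed with a class in `Ext^j(Y, N)`.
* `quotPowMap_comp`, `lcRes_eq_zero_of_le`.
-/
import Groth.Agent.Lib.Helper60.LocalCoh
import Mathlib.Algebra.Category.ModuleCat.Ext.DimensionShifting

set_option autoImplicit false
universe u
open CategoryTheory Abelian Limits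

namespace Groth.Agent.Lib.Helper60

variable {R : Type u} [CommRing R]

lemma exists_projective_ses (X : ModuleCat.{u} R) : ∃ (Ω P : ModuleCat.{u} R) (f : Ω ⟶ P)
    (g : P ⟶ X) (w : f ≫ g = 0), (ShortComplex.mk f g w).ShortExact ∧ Projective P := by
  refine ⟨kernel (Projective.π X), Projective.over X, kernel.ι _, Projective.π X,
    kernel.condition _, ?_, inferInstance⟩
  exact { exact := ShortComplex.exact_of_f_is_kernel _ (kernelIsKernel _)
          mono_f := by dsimp; infer_instance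
          epi_g := by dsimp; infer_instance }

/-- a "universal" class in `Ext^k(X, Y)` (with `Y` a `k`-th syzygy of `X`): every class in
`Ext^{k+j}(X, N)` is obtained from it by composition. -/
theorem exists_universal_ext (k : ℕ) : ∀ X : ModuleCat.{u} R, ∃ (Y : ModuleCat.{u} R)
    (Ξ : Ext X Y k), ∀ (N : ModuleCat.{u} R) (j c : ℕ) (h : k + j = c) (α : Ext X N c),
      ∃ β : Ext Y N j, Ξ.comp β h = α := by
  induction k with
  | zero =>
    intro X
    refine ⟨X, Ext.mk₀ (𝟙 X), fun N j c h α => ?_⟩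
    obtain rfl : j = c := by omega
    exact ⟨α, Ext.mk₀_id_comp α⟩
  | succ k ih =>
    intro X
    obtain ⟨Ω, P, f, g, w, hS, hproj⟩ := exists_projective_ses X
    obtain ⟨Y, Ξ', hΞ'⟩ := ih Ω
    have hP : Projective (ShortComplex.mk f g w).X₂ := hproj
    have hcls : ∃ ξ : Ext X Ω 1, ξ = hS.extClass := ⟨_, rfl⟩
    obtain ⟨ξ, hξ⟩ := hcls
    refine ⟨Y, ξ.comp Ξ' (add_comm 1 k), ?_⟩
    intro N j c h α
    obtain rfl : c = (k + j) + 1 := by omega
    have hex : ∃ x₁ : Ext Ω N (k + j), ξ.comp x₁ (show 1 + (k + j) = k + j + 1 by omega) = α := by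
      rw [hξ]
      exact Ext.contravariant_sequence_exact₃ hS N α (Ext.eq_zero_of_projective _)
        (show 1 + (k + j) = k + j + 1 by omega)
    obtain ⟨x₁, hx₁⟩ := hex
    obtain ⟨β, hβ⟩ := hΞ' N j (k + j) rfl x₁
    refine ⟨β, ?_⟩
    rw [Ext.comp_assoc _ _ _ (add_comm 1 k) rfl (show 1 + k + j = k + j + 1 by omega), hβ, hx₁]

lemma quotPowMap_comp (J : Ideal R) {n k m : ℕ} (h₁ : n ≤ k) (h₂ : k ≤ m) :
    quotPowMap J h₂ ≫ quotPowMap J h₁ = quotPowMap J (h₁.trans h₂) := by
  apply ModuleCat.hom_ext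
  apply LinearMap.ext
  intro x
  obtain ⟨x, rfl⟩ := Submodule.Quotient.mk_surjective _ x
  rfl

/-- a class dying at stage `k` dies at every later stage. -/
lemma lcRes_eq_zero_of_le (J : Ideal R) {i : ℕ} {M : ModuleCat.{u} R} {n k m : ℕ} (h₁ : n ≤ k)
    (h₂ : k ≤ m) (x : Ext (quotPow J n) M i) (hx : lcRes J h₁ x = 0) :
    lcRes J (h₁.trans h₂) x = 0 := by
  unfold lcRes at hx ⊢
  rw [← quotPowMap_comp J h₁ h₂, ← Ext.mk₀_comp_mk₀_assoc, hx, Ext.comp_zero]

end Groth.Agent.Lib.Helper60
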